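import Mathlib

set_option autoImplicit false
open Pointwise

namespace Cfsg.Agent.Lead

open Subgroup

variable {G : Type*} [Group G]

/-- conjugating a subgroup by `g` as a `map`. -/
theorem conj_smul_eq_map (g : G) (H : Subgroup G) :
    MulAut.conj g • H = H.map (MulAut.conj g).toMonoidHom := rfl

theorem mem_conj_smul_iff (g x : G) (H : Subgroup G) :
    x ∈ MulAut.conj g • H ↔ g⁻¹ * x * g ∈ H := by
  rw [Subgroup.mem_pointwise_smul_iff_inv_smul_mem]
  simp [MulAut.smul_def]

theorem card_conj_smul (g : G) (H : Subgroup G) :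
    Nat.card (MulAut.conj g • H : Subgroup G) = Nat.card H := by
  rw [conj_smul_eq_map]
  exact Nat.card_congr
    ((H.equivMapOfInjective _ (MulAut.conj g).injective).symm.toEquiv)

theorem disjoint_subgroupOf_of_disjoint {A B : Subgroup G} (U : Subgroup G) (h : Disjoint A B) :
    Disjoint (A.subgroupOf U) (B.subgroupOf U) := by
  rw [disjoint_iff, eq_bot_iff]
  intro x hx
  rw [mem_inf, mem_subgroupOf, mem_subgroupOf] at hx
  have : (x : G) ∈ A ⊓ B := hx
  rw [h.eq_bot, mem_bot] at this
  rw [mem_bot]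
  exact Subtype.ext this

/-- Restriction of a complement pair to a subgroup `U` containing one of the factors. -/
theorem isComplement'_subgroupOf_of_right_le {N H U : Subgroup G}
    (h : IsComplement' N H) (hHU : H ≤ U) :
    IsComplement' (N.subgroupOf U) (H.subgroupOf U) := by
  apply isComplement'_of_disjoint_and_mul_eq_univ
  · exact disjoint_subgroupOf_of_disjoint U h.disjoint
  · ext u
    simp only [Set.mem_univ, iff_true]
    obtain ⟨⟨⟨n, hn⟩, ⟨k, hk⟩⟩, hnk, -⟩ := h.existsUnique (u : G)
    simp only at hnk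
    have hkU : k ∈ U := hHU hk
    have hnU : n ∈ U := by
      have : n = (u : G) * k⁻¹ := by rw [← hnk]; group
      rw [this]; exact U.mul_mem u.2 (U.inv_mem hkU)
    refine ⟨⟨n, hnU⟩, ?_, ⟨k, hkU⟩, ?_, ?_⟩
    · exact hn
    · exact hk
    · exact Subtype.ext hnk

theorem isComplement'_subgroupOf_of_left_le {N H U : Subgroup G}
    (h : IsComplement' N H) (hNU : N ≤ U) :
    IsComplement' (N.subgroupOf U) (H.subgroupOf U) := by
  apply isComplement'_of_disjoint_and_mul_eq_univ
  · exact disjoint_subgroupOf_of_disjoint U h.disjoint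
  · ext u
    simp only [Set.mem_univ, iff_true]
    obtain ⟨⟨⟨n, hn⟩, ⟨k, hk⟩⟩, hnk, -⟩ := h.existsUnique (u : G)
    simp only at hnk
    have hnU : n ∈ U := hNU hn
    have hkU : k ∈ U := by
      have : k = n⁻¹ * (u : G) := by rw [← hnk]; group
      rw [this]; exact U.mul_mem (U.inv_mem hnU) u.2
    refine ⟨⟨n, hnU⟩, ?_, ⟨k, hkU⟩, ?_, ?_⟩
    · exact hn
    · exact hk
    · exact Subtype.ext hnk

/-- If `D` is normal with `D ⊓ K = ⊥` then `D` and `K` are complements inside `D ⊔ K`. -/
theorem isComplement'_subgroupOf_sup {D K U : Subgroup G} [D.Normal]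
    (hd : D ⊓ K = ⊥) (hU : D ⊔ K = U) :
    IsComplement' (D.subgroupOf U) (K.subgroupOf U) := by
  apply isComplement'_of_disjoint_and_mul_eq_univ
  · exact disjoint_subgroupOf_of_disjoint U (disjoint_iff.mpr hd)
  · ext u
    simp only [Set.mem_univ, iff_true]
    have hu : (u : G) ∈ ((D ⊔ K : Subgroup G) : Set G) := by rw [hU]; exact u.2
    rw [normal_mul] at hu
    obtain ⟨d, hd', k, hk, hdk⟩ := hu
    have hdU : d ∈ U := by rw [← hU]; exact (le_sup_left : D ≤ D ⊔ K) hd'
    have hkU : k ∈ U := by rw [← hU]; exact (le_sup_right : K ≤ D ⊔ K) hk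
    exact ⟨⟨d, hdU⟩, hd', ⟨k, hkU⟩, hk, Subtype.ext hdk⟩

/-- A conjugate of a complement of a normal subgroup is a complement. -/
theorem isComplement'_conj_smul {N H : Subgroup G} [N.Normal] (h : IsComplement' N H) (g : G) :
    IsComplement' N (MulAut.conj g • H) := by
  apply isComplement'_of_disjoint_and_mul_eq_univ
  · rw [disjoint_iff, eq_bot_iff]
    intro x hx
    rw [mem_inf, mem_conj_smul_iff] at hx
    have h1 : g⁻¹ * x * g ∈ N := by
      have := (inferInstance : N.Normal).conj_mem x hx.1 g⁻¹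
      simpa using this
    have h2 : g⁻¹ * x * g ∈ N ⊓ H := ⟨h1, hx.2⟩
    rw [h.disjoint.eq_bot, mem_bot] at h2
    rw [mem_bot]
    have : x = g * (g⁻¹ * x * g) * g⁻¹ := by group
    rw [this, h2]; group
  · ext x
    simp only [Set.mem_univ, iff_true]
    obtain ⟨⟨⟨n, hn⟩, ⟨k, hk⟩⟩, hnk, -⟩ := h.existsUnique (g⁻¹ * x * g)
    simp only at hnk
    refine ⟨g * n * g⁻¹, (inferInstance : N.Normal).conj_mem n hn g, g * k * g⁻¹, ?_, ?_⟩
    · rw [SetLike.mem_coe, mem_conj_smul_iff]
      have : g⁻¹ * (g * k * g⁻¹) * g = k := by group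
      rw [this]; exact hk
    · have : g * n * g⁻¹ * (g * k * g⁻¹) = g * (n * k) * g⁻¹ := by group
      simp only [this, hnk]; group

/-- Images of a coprime complement pair under a surjective homomorphism. -/
theorem isComplement'_map_of_coprime {G' : Type*} [Group G'] [Finite G] {N H : Subgroup G}
    (h : IsComplement' N H) (hc : (Nat.card N).Coprime (Nat.card H))
    (f : G →* G') (hf : Function.Surjective f) :
    IsComplement' (N.map f) (H.map f) := by
  have hc' : (Nat.card (N.map f)).Coprime (Nat.card (H.map f)) :=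
    Nat.Coprime.of_dvd (card_map_dvd N f) (card_map_dvd H f) hc
  apply isComplement'_of_disjoint_and_mul_eq_univ
  · exact disjoint_of_coprime_natCard hc'
  · ext y
    simp only [Set.mem_univ, iff_true]
    obtain ⟨x, rfl⟩ := hf y
    obtain ⟨⟨⟨n, hn⟩, ⟨k, hk⟩⟩, hnk, -⟩ := h.existsUnique x
    simp only at hnk
    refine ⟨f n, mem_map_of_mem f hn, f k, mem_map_of_mem f hk, ?_⟩
    change f n * f k = f x
    rw [← map_mul, hnk]

/-- conjugation commutes with `map`. -/
theorem map_conj_smul {G' : Type*} [Group G'] (f : G →* G') (g : G) (H : Subgroup G) :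
    (MulAut.conj g • H).map f = MulAut.conj (f g) • H.map f := by
  ext y
  constructor
  · rintro ⟨x, hx, rfl⟩
    rw [SetLike.mem_coe, mem_conj_smul_iff] at hx
    rw [mem_conj_smul_iff]
    refine ⟨g⁻¹ * x * g, hx, ?_⟩
    simp
  · intro hy
    rw [mem_conj_smul_iff] at hy
    obtain ⟨x, hx, hxy⟩ := hy
    refine ⟨g * x * g⁻¹, ?_, ?_⟩
    · rw [SetLike.mem_coe, mem_conj_smul_iff]
      have : g⁻¹ * (g * x * g⁻¹) * g = x := by group
      rw [this]; exact hx
    · simp only [map_mul, map_inv, hxy]; group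

/-- Solvability of `U ⧸ N.subgroupOf U` from that of `G ⧸ N`. -/
theorem isSolvable_quotient_subgroupOf (N U : Subgroup G) [N.Normal]
    [hs : Group.IsSolvable (G ⧸ N)] : Group.IsSolvable (↥U ⧸ N.subgroupOf U) := by
  let φ : ↥U ⧸ N.subgroupOf U →* G ⧸ N :=
    QuotientGroup.map (N.subgroupOf U) N U.subtype (fun x hx => hx)
  have hφ : Function.Injective φ := by
    rw [injective_iff_map_eq_one]
    intro x
    induction x using QuotientGroup.induction_on with
    | H u =>
      intro hu
      change ((u : G) : G ⧸ N) = 1 at hu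
      rw [QuotientGroup.eq_one_iff] at hu ⊢
      exact hu
  exact Group.isSolvable_of_isSolvable_injective hφ

/-- Solvability of `(G ⧸ D) ⧸ N.map _` from that of `G ⧸ N`. -/
theorem isSolvable_quotient_map (N D : Subgroup G) [N.Normal] [D.Normal]
    [hs : Group.IsSolvable (G ⧸ N)]
    [hn : (N.map (QuotientGroup.mk' D)).Normal] :
    Group.IsSolvable ((G ⧸ D) ⧸ N.map (QuotientGroup.mk' D)) := by
  let φ : G ⧸ N →* (G ⧸ D) ⧸ N.map (QuotientGroup.mk' D) :=
    QuotientGroup.map N (N.map (QuotientGroup.mk' D)) (QuotientGroup.mk' D) (le_comap_map _ _)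
  have hφ : Function.Surjective φ := by
    intro y
    induction y using QuotientGroup.induction_on with
    | H y =>
      induction y using QuotientGroup.induction_on with
      | H g => exact ⟨(g : G ⧸ N), rfl⟩
  exact Group.isSolvable_of_surjective hφ

/-- transfer of conjugacy from a subgroup `U` to `G`. -/
theorem conj_of_subgroupOf {U H K : Subgroup G} (u : U)
    (h : MulAut.conj u • H.subgroupOf U = K.subgroupOf U) :
    MulAut.conj (u : G) • (H ⊓ U) = K ⊓ U := by
  rw [← subgroupOf_map_subtype H U, ← subgroupOf_map_subtype K U, ← h]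
  have := map_conj_smul U.subtype u (H.subgroupOf U)
  rw [this]; rfl

end Cfsg.Agent.Lead
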