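import Mathlib

set_option autoImplicit false
open Pointwise

namespace Cfsg.Agent.Lead

open Subgroup MulAction MulOpposite

/-- A complement `K` of the abelian normal Hall subgroup `A` is the stabilizer of the class of
the transversal `K`. -/
theorem complement_eq_stabilizer {G : Type*} [Group G] [Finite G] (A : Subgroup G) [A.Normal]
    [IsMulCommutative A] (hA : (Nat.card A).Coprime A.index)
    (K : Subgroup G) (hK : Subgroup.IsComplement' A K) :
    ∃ α : A.QuotientDiff, MulAction.stabilizer G α = K := by
  classical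
  let T : A.LeftTransversal := ⟨(K : Set G), hK.symm⟩
  let α : A.QuotientDiff := Quotient.mk'' T
  refine ⟨α, ?_⟩
  have hle : K ≤ MulAction.stabilizer G α := by
    intro k hk
    rw [MulAction.mem_stabilizer_iff]
    change Quotient.mk'' (op k⁻¹ • T) = Quotient.mk'' T
    congr 1
    apply Subtype.ext
    change (op k⁻¹ • (T : Set G)) = (T : Set G)
    ext x
    simp only [Set.mem_smul_set_iff_inv_smul_mem]
    change x * (k⁻¹)⁻¹ ∈ (K : Set G) ↔ x ∈ (K : Set G)
    rw [inv_inv]
    exact K.mul_mem_cancel_right hk
  have hc : Subgroup.IsComplement' A (MulAction.stabilizer G α) :=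
    Subgroup.isComplement'_stabilizer_of_coprime hA
  have h1 := hc.card_mul_card
  have h2 := hK.card_mul_card
  have hApos : 0 < Nat.card A := Nat.card_pos
  have hcard : Nat.card K = Nat.card (MulAction.stabilizer G α) := by
    apply Nat.eq_of_mul_eq_mul_left hApos
    rw [h1, h2]
  symm
  exact Subgroup.eq_of_le_of_card_ge hle (le_of_eq hcard.symm)

theorem sz_conj_abelian {G : Type*} [Group G] [Finite G] (A : Subgroup G) [A.Normal]
    [IsMulCommutative A] (hA : (Nat.card A).Coprime A.index)
    (H K : Subgroup G) (hH : Subgroup.IsComplement' A H) (hK : Subgroup.IsComplement' A K) :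
    ∃ a ∈ A, MulAut.conj a • H = K := by
  obtain ⟨α, rfl⟩ := complement_eq_stabilizer A hA H hH
  obtain ⟨β, rfl⟩ := complement_eq_stabilizer A hA K hK
  obtain ⟨a, ha⟩ := Subgroup.exists_smul_eq hA α β
  refine ⟨a, a.2, ?_⟩
  rw [← ha]
  change MulAut.conj (a : G) • stabilizer G α = stabilizer G ((a : G) • α)
  rw [MulAction.stabilizer_smul_eq_stabilizer_map_conj]
  rfl

end Cfsg.Agent.Lead
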