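import Mathlib
import Cfsg.Agent.Lead.SZ
import Cfsg.Agent.Lead.Compl

set_option autoImplicit false
open Pointwise

namespace Cfsg.Agent.Lead

open Subgroup

universe u

/-- Schur–Zassenhaus conjugacy when the normal Hall subgroup is solvable. -/
theorem sz_conj_of_isSolvable_left_aux (n : ℕ) :
    ∀ {G : Type u} [Group G] [Finite G], Nat.card G = n →
    ∀ (N : Subgroup G) [N.Normal], (Nat.card N).Coprime N.index → Group.IsSolvable N →
    ∀ (H K : Subgroup G), IsComplement' N H → IsComplement' N K →
    ∃ g : G, MulAut.conj g • H = K := by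
  induction n using Nat.strong_induction_on with
  | _ n ih =>
  intro G _ _ hn N _ hcop hsolv H K hH hK
  by_cases hN : N = ⊥
  · subst hN
    rw [isComplement'_bot_left] at hH hK
    subst hH; subst hK
    exact ⟨1, by simp⟩
  -- the derived subgroup of N
  have hHcard : Nat.card H = N.index := (hH.symm.index_eq_card).symm
  have hKcard : Nat.card K = N.index := (hK.symm.index_eq_card).symm
  set D : Subgroup G := ⁅N, N⁆ with hD
  have hDN : D ≤ N := commutator_le_left N N
  have hDne : D ≠ N := by
    intro hDeq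
    have : Nontrivial N := by
      rw [Subgroup.nontrivial_iff_ne_bot]; exact hN
    have hlt := Group.IsSolvable.commutator_lt_top_of_nontrivial N
    have h2 : (_root_.commutator N).map N.subtype = ⁅N, N⁆ := map_subtype_commutator N
    rw [← hD, hDeq] at h2
    have h3 : _root_.commutator N = ⊤ := by
      apply map_injective N.subtype_injective
      rw [h2, ← MonoidHom.range_eq_map, range_subtype]
    exact hlt.ne h3
  -- the quotient by D
  let π := QuotientGroup.mk' D
  have hπ : Function.Surjective π := QuotientGroup.mk'_surjective D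
  have hNbar_comm : IsMulCommutative (N.map π) := by
    rw [← le_centralizer_iff_isMulCommutative, ← commutator_eq_bot_iff_le_centralizer,
      ← map_commutator]
    exact QuotientGroup.map_mk'_self D
  have hNbar_normal : (N.map π).Normal := Normal.map inferInstance π hπ
  have hcopNH : (Nat.card N).Coprime (Nat.card H) := by rw [hHcard]; exact hcop
  have hcopNK : (Nat.card N).Coprime (Nat.card K) := by rw [hKcard]; exact hcop
  have hHbar := isComplement'_map_of_coprime hH hcopNH π hπ
  have hKbar := isComplement'_map_of_coprime hK hcopNK π hπ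
  have hcopbar : (Nat.card (N.map π)).Coprime (N.map π).index := by
    rw [hHbar.symm.index_eq_card]
    exact Nat.Coprime.of_dvd (card_map_dvd N π) (card_map_dvd H π) hcopNH
  obtain ⟨abar, habar, hconj⟩ :=
    sz_conj_abelian (N.map π) hcopbar (H.map π) (K.map π) hHbar hKbar
  obtain ⟨a, haN, rfl⟩ := habar
  -- replace H by its conjugate H₁
  set H₁ : Subgroup G := MulAut.conj a • H with hH₁
  have hH₁c : IsComplement' N H₁ := isComplement'_conj_smul hH a
  have hmap : H₁.map π = K.map π := by rw [hH₁, map_conj_smul]; exact hconj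
  have hsup : H₁ ⊔ D = K ⊔ D := by
    have h1 := comap_map_eq π H₁
    have h2 := comap_map_eq π K
    rw [hmap, h2] at h1
    simpa [π, QuotientGroup.ker_mk'] using h1.symm
  by_cases hDbot : D = ⊥
  · refine ⟨a, ?_⟩
    rw [hDbot, sup_bot_eq, sup_bot_eq] at hsup
    exact hsup
  -- work in U = K ⊔ D
  set U : Subgroup G := D ⊔ K with hU
  have hDK : D ⊓ K = ⊥ := by
    rw [eq_bot_iff, ← hK.disjoint.eq_bot]
    exact inf_le_inf_right K hDN
  have hDH₁ : D ⊓ H₁ = ⊥ := by
    rw [eq_bot_iff, ← hH₁c.disjoint.eq_bot]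
    exact inf_le_inf_right H₁ hDN
  have hU' : D ⊔ H₁ = U := by rw [hU, sup_comm, hsup, sup_comm]
  have hcK := isComplement'_subgroupOf_sup hDK hU.symm
  have hcH := isComplement'_subgroupOf_sup hDH₁ hU'
  have hDU : D ≤ U := le_sup_left
  have hKU : K ≤ U := le_sup_right
  have hH₁U : H₁ ≤ U := by rw [← hU']; exact le_sup_right
  have hcardD : Nat.card (D.subgroupOf U) = Nat.card D :=
    Nat.card_congr (subgroupOfEquivOfLe hDU).toEquiv
  have hcardK : Nat.card (K.subgroupOf U) = Nat.card K :=
    Nat.card_congr (subgroupOfEquivOfLe hKU).toEquiv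
  have hDcard_dvd : Nat.card D ∣ Nat.card N := card_dvd_of_le hDN
  have hUlt : Nat.card U < n := by
    have h1 := hcK.card_mul_card
    rw [hcardD, hcardK] at h1
    have h2 := hK.card_mul_card
    rw [hn] at h2
    have hDlt : Nat.card D < Nat.card N := by
      apply lt_of_le_of_ne (Nat.le_of_dvd Nat.card_pos hDcard_dvd)
      intro heq
      exact hDne (eq_of_le_of_card_ge hDN (le_of_eq heq.symm))
    have hKpos : 0 < Nat.card K := Nat.card_pos
    rw [← h1, ← h2]
    exact Nat.mul_lt_mul_of_pos_right hDlt hKpos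
  have hcopU : (Nat.card (D.subgroupOf U)).Coprime (D.subgroupOf U).index := by
    rw [hcK.symm.index_eq_card, hcardD, hcardK, hKcard]
    exact Nat.Coprime.coprime_dvd_left hDcard_dvd hcop
  have hsolvD : Group.IsSolvable (D.subgroupOf U) := by
    let φ : D.subgroupOf U →* N :=
      MonoidHom.codRestrict ((U.subtype).comp (D.subgroupOf U).subtype) N
        (fun x => hDN x.2)
    have hφ : Function.Injective φ := by
      intro x y hxy
      have : ((x : U) : G) = ((y : U) : G) := congrArg (fun z : N => (z : G)) hxy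
      exact Subtype.ext (Subtype.ext this)
    exact Group.isSolvable_of_isSolvable_injective hφ
  obtain ⟨u, hu⟩ := ih (Nat.card U) hUlt rfl (D.subgroupOf U) hcopU hsolvD
    (H₁.subgroupOf U) (K.subgroupOf U) hcH hcK
  have hfin := conj_of_subgroupOf u hu
  rw [inf_eq_left.mpr hH₁U, inf_eq_left.mpr hKU] at hfin
  refine ⟨(u : G) * a, ?_⟩
  rw [← hfin, hH₁, map_mul, mul_smul]

end Cfsg.Agent.Lead

namespace Cfsg.Agent.Lead

open Subgroup

universe u

theorem le_normalizer_inf_of_normal {G : Type*} [Group G] (K M : Subgroup G) [hM : M.Normal] :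
    K ≤ normalizer ((K ⊓ M : Subgroup G) : Set G) := by
  intro k hk
  rw [mem_normalizer_iff]
  intro x
  simp only [mem_inf]
  constructor
  · rintro ⟨hxK, hxM⟩
    exact ⟨K.mul_mem (K.mul_mem hk hxK) (K.inv_mem hk), hM.conj_mem x hxM k⟩
  · rintro ⟨hxK, hxM⟩
    refine ⟨?_, ?_⟩
    · have : x = k⁻¹ * (k * x * k⁻¹) * k := by group
      rw [this]; exact K.mul_mem (K.mul_mem (K.inv_mem hk) hxK) hk
    · have := hM.conj_mem _ hxM k⁻¹
      have h2 : k⁻¹ * (k * x * k⁻¹) * k⁻¹⁻¹ = x := by group
      rw [h2] at this; exact this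

theorem card_lt_of_ne_top {G : Type*} [Group G] [Finite G] {U : Subgroup G} (h : U ≠ ⊤) :
    Nat.card U < Nat.card G :=
  lt_of_le_of_ne (card_le_card_group U) (fun heq => h ((card_eq_iff_eq_top U).mp heq))

theorem card_subgroupOf_eq_card_inf {G : Type*} [Group G] (H U : Subgroup G) :
    Nat.card (H.subgroupOf U) = Nat.card (H ⊓ U : Subgroup G) := by
  rw [← inf_subgroupOf_right H U]
  exact Nat.card_congr (subgroupOfEquivOfLe (inf_le_right : H ⊓ U ≤ U)).toEquiv

/-- Schur–Zassenhaus conjugacy when the quotient by the normal Hall subgroup is solvable. -/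
theorem sz_conj_of_isSolvable_quotient_aux (n : ℕ) :
    ∀ {G : Type u} [Group G] [Finite G], Nat.card G = n →
    ∀ (N : Subgroup G) [N.Normal], (Nat.card N).Coprime N.index → Group.IsSolvable (G ⧸ N) →
    ∀ (H K : Subgroup G), IsComplement' N H → IsComplement' N K →
    ∃ g : G, MulAut.conj g • H = K := by
  induction n using Nat.strong_induction_on with
  | _ n ih =>
  intro G _ _ hn N _ hcop hsolv H K hH hK
  have hHcard : Nat.card H = N.index := (hH.symm.index_eq_card).symm
  have hKcard : Nat.card K = N.index := (hK.symm.index_eq_card).symm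
  have hcopNH : (Nat.card N).Coprime (Nat.card H) := by rw [hHcard]; exact hcop
  have hcopNK : (Nat.card N).Coprime (Nat.card K) := by rw [hKcard]; exact hcop
  by_cases hsimple : IsSimpleGroup (G ⧸ N)
  · -- G ⧸ N has prime order
    have hcomm : ∀ a b : G ⧸ N, a * b = b * a := IsSimpleGroup.comm_iff_isSolvable.mpr hsolv
    have hp : (Nat.card (G ⧸ N)).Prime := by
      let _ : CommGroup (G ⧸ N) := { (inferInstance : Group (G ⧸ N)) with mul_comm := hcomm }
      exact IsSimpleGroup.prime_card
    rw [← index_eq_card] at hp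
    have : Fact N.index.Prime := ⟨hp⟩
    have hndvd : ¬ N.index ∣ Nat.card N := by
      intro hdvd
      have := Nat.Coprime.eq_one_of_dvd hcop.symm hdvd
      exact hp.one_lt.ne' this
    have hfac : (Nat.card G).factorization N.index = 1 := by
      rw [← N.card_mul_index, Nat.factorization_mul Nat.card_pos.ne' hp.pos.ne']
      simp [Nat.factorization_eq_zero_of_not_dvd hndvd, hp.factorization_self]
    let P : Sylow N.index G := Sylow.ofCard H (by rw [hHcard, hfac, pow_one])
    let Q : Sylow N.index G := Sylow.ofCard K (by rw [hKcard, hfac, pow_one])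
    obtain ⟨g, hg⟩ := MulAction.exists_smul_eq G P Q
    refine ⟨g, ?_⟩
    have h1 : ((g • P : Sylow N.index G) : Subgroup G) = (Q : Subgroup G) := by rw [hg]
    rw [Sylow.coe_subgroup_smul] at h1
    exact h1
  by_cases hNtop : N = ⊤
  · subst hNtop
    rw [isComplement'_top_left] at hH hK
    subst hH; subst hK
    exact ⟨1, by simp⟩
  have hnt : Nontrivial (G ⧸ N) := by
    rw [← Finite.one_lt_card_iff_nontrivial, ← index_eq_card]
    have h0 : N.index ≠ 0 := index_ne_zero_of_finite
    have h1 : N.index ≠ 1 := fun h => hNtop (index_eq_one.mp h)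
    omega
  obtain ⟨Mbar, hMn, hMbot, hMtop⟩ : ∃ M : Subgroup (G ⧸ N), M.Normal ∧ M ≠ ⊥ ∧ M ≠ ⊤ := by
    by_contra hcon
    push Not at hcon
    apply hsimple
    refine ⟨fun M hM => ?_⟩
    by_cases h : M = ⊥
    · left; exact h
    · right; exact hcon M hM h
  let π := QuotientGroup.mk' N
  have hπ : Function.Surjective π := QuotientGroup.mk'_surjective N
  set M : Subgroup G := Mbar.comap π with hMdef
  have hMnormal : M.Normal := hMn.comap π
  have hNM : N ≤ M := by
    have := ker_le_comap π Mbar
    rwa [QuotientGroup.ker_mk'] at this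
  have hMtop' : M ≠ ⊤ := by
    intro h
    apply hMtop
    rw [← map_comap_eq_self_of_surjective hπ Mbar, ← hMdef, h, ← MonoidHom.range_eq_map,
      MonoidHom.range_eq_top.mpr hπ]
  have hMN : M ≠ N := by
    intro h
    apply hMbot
    rw [← map_comap_eq_self_of_surjective hπ Mbar, ← hMdef, h]
    exact QuotientGroup.map_mk'_self N
  -- work inside M
  have hcH_M := isComplement'_subgroupOf_of_left_le hH hNM
  have hcK_M := isComplement'_subgroupOf_of_left_le hK hNM
  have hcardN_M : Nat.card (N.subgroupOf M) = Nat.card N :=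
    Nat.card_congr (subgroupOfEquivOfLe hNM).toEquiv
  have hcop_M : (Nat.card (N.subgroupOf M)).Coprime (N.subgroupOf M).index := by
    rw [hcH_M.symm.index_eq_card, hcardN_M, card_subgroupOf_eq_card_inf]
    exact Nat.Coprime.coprime_dvd_right (card_dvd_of_le inf_le_left) hcopNH
  have hMlt : Nat.card M < n := by rw [← hn]; exact card_lt_of_ne_top hMtop'
  have hsolv_M : Group.IsSolvable (↥M ⧸ N.subgroupOf M) := isSolvable_quotient_subgroupOf N M
  obtain ⟨m, hm⟩ := ih (Nat.card M) hMlt rfl (N.subgroupOf M) hcop_M hsolv_M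
    (H.subgroupOf M) (K.subgroupOf M) hcH_M hcK_M
  have hm' := conj_of_subgroupOf m hm
  set H₁ : Subgroup G := MulAut.conj (m : G) • H with hH₁
  have hH₁c : IsComplement' N H₁ := isComplement'_conj_smul hH (m : G)
  have hH₁card : Nat.card H₁ = N.index := (hH₁c.symm.index_eq_card).symm
  have hcopNH₁ : (Nat.card N).Coprime (Nat.card H₁) := by rw [hH₁card]; exact hcop
  set D : Subgroup G := K ⊓ M with hD
  have hH₁M : H₁ ⊓ M = D := by
    rw [← hm', smul_inf, Normal.conj_smul_eq_self (m : G) M]
  have hDK : D ≤ K := inf_le_left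
  have hDH₁ : D ≤ H₁ := by rw [← hH₁M]; exact inf_le_left
  have hDbot : D ≠ ⊥ := by
    intro h
    have h1 := hcK_M.card_mul_card
    rw [hcardN_M, card_subgroupOf_eq_card_inf, ← hD, h, card_bot, mul_one] at h1
    exact hMN (eq_of_le_of_card_ge hNM (le_of_eq h1.symm)).symm
  have hKL : K ≤ normalizer (D : Set G) := le_normalizer_inf_of_normal K M
  have hH₁L : H₁ ≤ normalizer (D : Set G) := by
    rw [← hH₁M]; exact le_normalizer_inf_of_normal H₁ M
  by_cases hL : normalizer (D : Set G) = ⊤
  · -- D is normal in G; pass to G ⧸ D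
    have hDnormal : D.Normal := normalizer_eq_top_iff.mp hL
    let ρ := QuotientGroup.mk' D
    have hρ : Function.Surjective ρ := QuotientGroup.mk'_surjective D
    have hQlt : Nat.card (G ⧸ D) < n := by
      rw [← hn, card_eq_card_quotient_mul_card_subgroup D]
      have h1 : 1 < Nat.card D := D.one_lt_card_iff_ne_bot.mpr hDbot
      have h2 : 0 < Nat.card (G ⧸ D) := Nat.card_pos
      exact lt_mul_of_one_lt_right h2 h1
    have hNbar_normal : (N.map ρ).Normal := Normal.map inferInstance ρ hρ
    have hHbar := isComplement'_map_of_coprime hH₁c hcopNH₁ ρ hρ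
    have hKbar := isComplement'_map_of_coprime hK hcopNK ρ hρ
    have hcopbar : (Nat.card (N.map ρ)).Coprime (N.map ρ).index := by
      rw [hKbar.symm.index_eq_card]
      exact Nat.Coprime.of_dvd (card_map_dvd N ρ) (card_map_dvd K ρ) hcopNK
    have hsolvbar : Group.IsSolvable ((G ⧸ D) ⧸ N.map ρ) := isSolvable_quotient_map N D
    obtain ⟨q, hq⟩ := ih (Nat.card (G ⧸ D)) hQlt rfl (N.map ρ) hcopbar hsolvbar
      (H₁.map ρ) (K.map ρ) hHbar hKbar
    obtain ⟨g, rfl⟩ := hρ q
    rw [← map_conj_smul] at hq
    have h1 := comap_map_eq ρ (MulAut.conj g • H₁)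
    rw [hq, comap_map_eq] at h1
    simp only [ρ, QuotientGroup.ker_mk'] at h1
    have hD1 : D ≤ MulAut.conj g • H₁ := by
      rw [← Normal.conj_smul_eq_self g D]
      exact pointwise_smul_le_pointwise_smul_iff.mpr hDH₁
    rw [sup_eq_left.mpr hDK, sup_eq_left.mpr hD1] at h1
    refine ⟨g * (m : G), ?_⟩
    rw [map_mul, mul_smul, ← hH₁, ← h1]
  · -- work inside L = N_G(D)
    set L : Subgroup G := normalizer (D : Set G) with hLdef
    have hLlt : Nat.card L < n := by rw [← hn]; exact card_lt_of_ne_top hL
    have hcH_L := isComplement'_subgroupOf_of_right_le hH₁c hH₁L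
    have hcK_L := isComplement'_subgroupOf_of_right_le hK hKL
    have hcop_L : (Nat.card (N.subgroupOf L)).Coprime (N.subgroupOf L).index := by
      rw [hcK_L.symm.index_eq_card, card_subgroupOf_eq_card_inf, card_subgroupOf_eq_card_inf]
      exact Nat.Coprime.of_dvd (card_dvd_of_le inf_le_left) (card_dvd_of_le inf_le_left) hcopNK
    have hsolv_L : Group.IsSolvable (↥L ⧸ N.subgroupOf L) := isSolvable_quotient_subgroupOf N L
    obtain ⟨l, hl⟩ := ih (Nat.card L) hLlt rfl (N.subgroupOf L) hcop_L hsolv_L
      (H₁.subgroupOf L) (K.subgroupOf L) hcH_L hcK_L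
    have hl' := conj_of_subgroupOf l hl
    rw [inf_eq_left.mpr hH₁L, inf_eq_left.mpr hKL] at hl'
    refine ⟨(l : G) * (m : G), ?_⟩
    rw [map_mul, mul_smul, ← hH₁, hl']

/-- **Schur–Zassenhaus, conjugacy part.** -/
theorem sz_conj {G : Type u} [Group G] [Finite G] (N : Subgroup G) [N.Normal]
    (hN : (Nat.card N).Coprime N.index)
    (hsolv : Group.IsSolvable N ∨ Group.IsSolvable (G ⧸ N))
    (H K : Subgroup G) (hH : Subgroup.IsComplement' N H) (hK : Subgroup.IsComplement' N K) :
    ∃ g : G, MulAut.conj g • H = K := by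
  rcases hsolv with h | h
  · exact sz_conj_of_isSolvable_left_aux _ rfl N hN h H K hH hK
  · exact sz_conj_of_isSolvable_quotient_aux _ rfl N hN h H K hH hK

end Cfsg.Agent.Lead
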