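import Mathlib
import Cfsg.Agent.Lead.SZConj

set_option autoImplicit false
open Pointwise

namespace Cfsg.Agent.Lead

open Subgroup

variable {G : Type*} [Group G]

/-- If `A` normalizes `K` and `K ⊓ A = ⊥` then `K` and `A` are complements inside `K ⊔ A`. -/
theorem isComplement'_subgroupOf_sup_of_le_normalizer {K A U : Subgroup G}
    (hA : A ≤ normalizer (K : Set G)) (hd : K ⊓ A = ⊥) (hU : K ⊔ A = U) :
    IsComplement' (K.subgroupOf U) (A.subgroupOf U) := by
  apply isComplement'_of_disjoint_and_mul_eq_univ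
  · exact disjoint_subgroupOf_of_disjoint U (disjoint_iff.mpr hd)
  · ext u
    simp only [Set.mem_univ, iff_true]
    have hu : (u : G) ∈ ((K ⊔ A : Subgroup G) : Set G) := by rw [hU]; exact u.2
    rw [coe_mul_of_right_le_normalizer_left K A hA] at hu
    obtain ⟨d, hd', k, hk, hdk⟩ := hu
    have hdU : d ∈ U := by rw [← hU]; exact (le_sup_left : K ≤ K ⊔ A) hd'
    have hkU : k ∈ U := by rw [← hU]; exact (le_sup_right : A ≤ K ⊔ A) hk
    exact ⟨⟨d, hdU⟩, hd', ⟨k, hkU⟩, hk, Subtype.ext hdk⟩

theorem normal_subgroupOf_sup_of_le_normalizer' {K A : Subgroup G}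
    (hA : A ≤ normalizer (K : Set G)) : (K.subgroupOf (K ⊔ A)).Normal := by
  have := normal_subgroupOf_sup_of_le_normalizer hA
  rwa [sup_comm] at this

/-- An element of `K` normalizing `A`, where `A` normalizes `K` and `K ⊓ A = ⊥`, centralizes `A`. -/
theorem mem_centralizer_of_mem_normalizer {K A : Subgroup G}
    (hA : A ≤ normalizer (K : Set G)) (hd : K ⊓ A = ⊥) {x : G} (hxK : x ∈ K)
    (hxA : x ∈ normalizer (A : Set G)) : x ∈ centralizer (A : Set G) := by
  rw [mem_centralizer_iff]
  intro a ha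
  have ha' : a ∈ A := ha
  -- the commutator a * x * a⁻¹ * x⁻¹ lies in K ⊓ A
  have h1 : a * x * a⁻¹ * x⁻¹ ∈ K := by
    have : a * x * a⁻¹ ∈ K := (mem_normalizer_iff.mp (hA ha') x).mp hxK
    exact K.mul_mem this (K.inv_mem hxK)
  have h2 : a * x * a⁻¹ * x⁻¹ ∈ A := by
    have : x * a⁻¹ * x⁻¹ ∈ A := (mem_normalizer_iff.mp hxA a⁻¹).mp (A.inv_mem ha')
    have h3 : a * x * a⁻¹ * x⁻¹ = a * (x * a⁻¹ * x⁻¹) := by group
    rw [h3]; exact A.mul_mem ha' this
  have h3 : a * x * a⁻¹ * x⁻¹ ∈ K ⊓ A := ⟨h1, h2⟩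
  rw [hd, mem_bot] at h3
  have : a * x = (a * x * a⁻¹ * x⁻¹) * (x * a) := by group
  rw [this, h3, one_mul]

/-- **Relative Schur–Zassenhaus conjugacy**: if `A` normalizes `K`, with coprime orders and `A` or `K`
solvable, then every subgroup `B ≤ K ⊔ A` of the same order as `A` is conjugate to `A` by an
element of `K`. -/
theorem sz_conj_rel [Finite G] {K A B : Subgroup G} (hA : A ≤ normalizer (K : Set G))
    (hcop : (Nat.card A).Coprime (Nat.card K))
    (hsolv : Group.IsSolvable A ∨ Group.IsSolvable K)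
    (hB : B ≤ K ⊔ A) (hBcard : Nat.card B = Nat.card A) :
    ∃ k ∈ K, MulAut.conj k • A = B := by
  have hdA : K ⊓ A = ⊥ := (disjoint_of_coprime_natCard hcop.symm).eq_bot
  have hdB : K ⊓ B = ⊥ := by
    have : (Nat.card K).Coprime (Nat.card B) := by rw [hBcard]; exact hcop.symm
    exact (disjoint_of_coprime_natCard this).eq_bot
  set U : Subgroup G := K ⊔ A with hU
  have hKU : K ≤ U := le_sup_left
  have hAU : A ≤ U := le_sup_right
  have hnorm : (K.subgroupOf U).Normal := normal_subgroupOf_sup_of_le_normalizer' hA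
  have hcA : IsComplement' (K.subgroupOf U) (A.subgroupOf U) :=
    isComplement'_subgroupOf_sup_of_le_normalizer hA hdA rfl
  have hcardK : Nat.card (K.subgroupOf U) = Nat.card K :=
    Nat.card_congr (subgroupOfEquivOfLe hKU).toEquiv
  have hcardA : Nat.card (A.subgroupOf U) = Nat.card A :=
    Nat.card_congr (subgroupOfEquivOfLe hAU).toEquiv
  have hcardB : Nat.card (B.subgroupOf U) = Nat.card B :=
    Nat.card_congr (subgroupOfEquivOfLe hB).toEquiv
  have hcB : IsComplement' (K.subgroupOf U) (B.subgroupOf U) := by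
    apply isComplement'_of_coprime
    · rw [hcardB, hBcard, ← hcardA]; exact hcA.card_mul_card
    · rw [hcardK, hcardB, hBcard]; exact hcop.symm
  have hcopU : (Nat.card (K.subgroupOf U)).Coprime (K.subgroupOf U).index := by
    rw [hcA.symm.index_eq_card, hcardK, hcardA]; exact hcop.symm
  have hsolvU : Group.IsSolvable (K.subgroupOf U) ∨ Group.IsSolvable (↥U ⧸ K.subgroupOf U) := by
    rcases hsolv with h | h
    · right
      let φ : A →* ↥U ⧸ K.subgroupOf U :=
        (QuotientGroup.mk' (K.subgroupOf U)).comp (Subgroup.inclusion hAU)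
      have hφ : Function.Surjective φ := by
        intro y
        induction y using QuotientGroup.induction_on with
        | H u =>
          obtain ⟨⟨⟨k, hk⟩, ⟨a, ha⟩⟩, hka, -⟩ := hcA.existsUnique u
          simp only at hka
          refine ⟨⟨(a : G), ha⟩, ?_⟩
          change ((Subgroup.inclusion hAU ⟨(a : G), ha⟩ : U) : ↥U ⧸ K.subgroupOf U) = (u : ↥U ⧸ K.subgroupOf U)
          rw [QuotientGroup.eq]
          have : (Subgroup.inclusion hAU ⟨(a : G), ha⟩ : U) = a := rfl
          rw [this, ← hka]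
          have h2 : a⁻¹ * (k * a) = a⁻¹ * k * a := by group
          rw [h2]
          have := hnorm.conj_mem k hk a⁻¹
          simpa using this
      exact Group.isSolvable_of_surjective hφ
    · left
      exact Group.isSolvable_of_isSolvable_injective
        (f := (subgroupOfEquivOfLe hKU).toMonoidHom) (subgroupOfEquivOfLe hKU).injective
  obtain ⟨g, hg⟩ := sz_conj (K.subgroupOf U) hcopU hsolvU (A.subgroupOf U) (B.subgroupOf U) hcA hcB
  have hg' := conj_of_subgroupOf g hg
  rw [inf_eq_left.mpr hAU, inf_eq_left.mpr hB] at hg'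
  have hgU : (g : G) ∈ ((K ⊔ A : Subgroup G) : Set G) := g.2
  rw [coe_mul_of_right_le_normalizer_left K A hA] at hgU
  obtain ⟨k, hk, a, ha, hka⟩ := hgU
  refine ⟨k, hk, ?_⟩
  rw [← hg', ← hka]
  change MulAut.conj k • A = MulAut.conj (k * a) • A
  rw [map_mul, mul_smul]
  congr 1
  symm
  ext x
  rw [mem_conj_smul_iff]
  constructor
  · intro h
    have : x = a * (a⁻¹ * x * a) * a⁻¹ := by group
    rw [this]; exact A.mul_mem (A.mul_mem ha h) (A.inv_mem ha)
  · intro h
    exact A.mul_mem (A.mul_mem (A.inv_mem ha) h) ha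

end Cfsg.Agent.Lead
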