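import Mathlib
import Cfsg.Agent.Lead.Coprime

set_option autoImplicit false
open Pointwise

namespace Cfsg.Agent.Lead

open Subgroup

variable {G : Type*} [Group G]

/-- Coprime action, fixed points of quotients: if `[a,k] ∈ N` for all `a ∈ A` then `k ∈ C_K(A) N`. -/
theorem coprime_fixed_points_quotient [Finite G] (A K : Subgroup G)
    (hAK : A ≤ Subgroup.normalizer (K : Set G))
    (hcop : (Nat.card A).Coprime (Nat.card K)) (hsolv : Group.IsSolvable A ∨ Group.IsSolvable K)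
    (N : Subgroup G) (hNK : N ≤ K) (hNnormal : K ≤ Subgroup.normalizer (N : Set G))
    (hNA : A ≤ Subgroup.normalizer (N : Set G))
    (k : G) (hk : k ∈ K) (hfix : ∀ a ∈ A, a * k * a⁻¹ * k⁻¹ ∈ N) :
    ∃ c ∈ K ⊓ Subgroup.centralizer (A : Set G), k⁻¹ * c ∈ N := by
  have hcopN : (Nat.card A).Coprime (Nat.card N) :=
    Nat.Coprime.coprime_dvd_right (card_dvd_of_le hNK) hcop
  have hsolvN : Group.IsSolvable A ∨ Group.IsSolvable N := by
    rcases hsolv with h | h
    · exact Or.inl h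
    · right
      exact Group.isSolvable_of_isSolvable_injective
        (f := Subgroup.inclusion hNK) (Subgroup.inclusion_injective hNK)
  set B : Subgroup G := MulAut.conj k • A with hB
  have hBle : B ≤ N ⊔ A := by
    intro x hx
    rw [hB, mem_conj_smul_iff] at hx
    -- x = k * a * k⁻¹ where a = k⁻¹ x k ∈ A
    set a := k⁻¹ * x * k with ha
    have hx' : x = ((a * k * a⁻¹ * k⁻¹)⁻¹ * a) := by rw [ha]; group
    rw [hx']
    apply (N ⊔ A).mul_mem
    · apply (N ⊔ A).inv_mem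
      exact (le_sup_left : N ≤ N ⊔ A) (hfix a hx)
    · exact (le_sup_right : A ≤ N ⊔ A) hx
  have hBcard : Nat.card B = Nat.card A := card_conj_smul k A
  obtain ⟨n, hn, hnA⟩ := sz_conj_rel hNA hcopN hsolvN hBle hBcard
  -- x := n⁻¹ * k normalizes A
  have hdKA : K ⊓ A = ⊥ := (disjoint_of_coprime_natCard hcop.symm).eq_bot
  have hxK : n⁻¹ * k ∈ K := K.mul_mem (K.inv_mem (hNK hn)) hk
  have hxnorm : n⁻¹ * k ∈ normalizer (A : Set G) := by
    rw [mem_normalizer_iff]
    intro a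
    have h1 : ∀ y, y ∈ MulAut.conj n • A ↔ y ∈ MulAut.conj k • A := fun y => by rw [hnA]
    have h2 := h1 (k * a * k⁻¹)
    rw [mem_conj_smul_iff, mem_conj_smul_iff] at h2
    have e1 : n⁻¹ * (k * a * k⁻¹) * n = n⁻¹ * k * a * (n⁻¹ * k)⁻¹ := by group
    have e2 : k⁻¹ * (k * a * k⁻¹) * k = a := by group
    rw [e1, e2] at h2
    exact h2.symm
  have hxC := mem_centralizer_of_mem_normalizer hAK hdKA hxK hxnorm
  refine ⟨n⁻¹ * k, ⟨hxK, hxC⟩, ?_⟩
  have : k⁻¹ * (n⁻¹ * k) = k⁻¹ * n⁻¹ * k⁻¹⁻¹ := by group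
  rw [this]
  exact (mem_normalizer_iff.mp (hNnormal (K.inv_mem hk)) n⁻¹).mp (N.inv_mem hn)

end Cfsg.Agent.Lead
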