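import Mathlib
import Cfsg.Agent.Lead.Coprime2

set_option autoImplicit false
open Pointwise

namespace Cfsg.Agent.Lead

open Subgroup
open scoped commutatorElement

variable {G : Type*} [Group G]

/-- `K` normalizes `⁅K, A⁆` (no hypotheses). -/
theorem le_normalizer_commutator_left (K A : Subgroup G) :
    K ≤ normalizer ((⁅K, A⁆ : Subgroup G) : Set G) := by
  have key : ∀ k' ∈ K, ∀ x ∈ ⁅K, A⁆, k' * x * k'⁻¹ ∈ ⁅K, A⁆ := by
    intro k' hk'
    have : ⁅K, A⁆ ≤ (⁅K, A⁆).comap (MulAut.conj k').toMonoidHom := by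
      rw [commutator_le]
      intro k hk a ha
      rw [mem_comap]
      change k' * ⁅k, a⁆ * k'⁻¹ ∈ ⁅K, A⁆
      have e : k' * ⁅k, a⁆ * k'⁻¹ = ⁅k' * k, a⁆ * ⁅k', a⁆⁻¹ := by
        simp only [commutatorElement_def]; group
      rw [e]
      exact (⁅K, A⁆).mul_mem (commutator_mem_commutator (K.mul_mem hk' hk) ha)
        ((⁅K, A⁆).inv_mem (commutator_mem_commutator hk' ha))
    intro x hx
    exact this hx
  intro k' hk'
  rw [mem_normalizer_iff]
  intro x
  constructor
  · exact key k' hk' x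
  · intro hx
    have := key k'⁻¹ (K.inv_mem hk') _ hx
    have e : k'⁻¹ * (k' * x * k'⁻¹) * k'⁻¹⁻¹ = x := by group
    rw [e] at this; exact this

theorem le_normalizer_commutator_right (K A : Subgroup G) :
    A ≤ normalizer ((⁅K, A⁆ : Subgroup G) : Set G) := by
  rw [commutator_comm]; exact le_normalizer_commutator_left A K

theorem commutator_le_of_le_normalizer {K A : Subgroup G} (hAK : A ≤ normalizer (K : Set G)) :
    ⁅K, A⁆ ≤ K := by
  rw [commutator_le]
  intro k hk a ha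
  rw [commutatorElement_def]
  have : a * k⁻¹ * a⁻¹ ∈ K := (mem_normalizer_iff.mp (hAK ha) k⁻¹).mp (K.inv_mem hk)
  have e : k * a * k⁻¹ * a⁻¹ = k * (a * k⁻¹ * a⁻¹) := by group
  rw [e]; exact K.mul_mem hk this

/-- Coprime action: `K = [K,A] C_K(A)`. -/
theorem coprime_commutator_sup_centralizer [Finite G] (A K : Subgroup G)
    (hAK : A ≤ Subgroup.normalizer (K : Set G))
    (hcop : (Nat.card A).Coprime (Nat.card K)) (hsolv : Group.IsSolvable A ∨ Group.IsSolvable K) :
    ⁅K, A⁆ ⊔ (K ⊓ Subgroup.centralizer (A : Set G)) = K := by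
  apply le_antisymm
  · exact sup_le (commutator_le_of_le_normalizer hAK) inf_le_left
  · intro k hk
    obtain ⟨c, hc, hkc⟩ := coprime_fixed_points_quotient A K hAK hcop hsolv ⁅K, A⁆
      (commutator_le_of_le_normalizer hAK) (le_normalizer_commutator_left K A)
      (le_normalizer_commutator_right K A) k hk (fun a ha => by
        have := commutator_mem_commutator ha hk
        rw [commutator_comm, commutatorElement_def] at this
        exact this)
    have e : k = c * (k⁻¹ * c)⁻¹ := by group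
    rw [e]
    exact (⁅K, A⁆ ⊔ (K ⊓ centralizer (A : Set G))).mul_mem
      ((le_sup_right : K ⊓ centralizer (A : Set G) ≤ _) hc)
      ((⁅K, A⁆ ⊔ (K ⊓ centralizer (A : Set G))).inv_mem
        ((le_sup_left : ⁅K, A⁆ ≤ _) hkc))

/-- Coprime action: `[K,A,A] = [K,A]`. -/
theorem coprime_commutator_commutator [Finite G] (A K : Subgroup G)
    (hAK : A ≤ Subgroup.normalizer (K : Set G))
    (hcop : (Nat.card A).Coprime (Nat.card K)) (hsolv : Group.IsSolvable A ∨ Group.IsSolvable K) :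
    ⁅⁅K, A⁆, A⁆ = ⁅K, A⁆ := by
  apply le_antisymm
  · exact commutator_mono (commutator_le_of_le_normalizer hAK) le_rfl
  · rw [commutator_le]
    intro k hk a ha
    obtain ⟨c, hc, hkc⟩ := coprime_fixed_points_quotient A K hAK hcop hsolv ⁅K, A⁆
      (commutator_le_of_le_normalizer hAK) (le_normalizer_commutator_left K A)
      (le_normalizer_commutator_right K A) k⁻¹ (K.inv_mem hk) (fun a ha => by
        have := commutator_mem_commutator ha (K.inv_mem hk)
        rw [commutator_comm, commutatorElement_def] at this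
        exact this)
    rw [inv_inv] at hkc
    -- k = (k * c) * c⁻¹ with k * c ∈ [K,A] and c centralizing A
    have hca : a * c = c * a := (mem_centralizer_iff.mp hc.2) a ha
    have e : ⁅k, a⁆ = ⁅k * c, a⁆ := by
      simp only [commutatorElement_def]
      have h1 : k * c * a * (k * c)⁻¹ * a⁻¹ = k * (c * a) * c⁻¹ * k⁻¹ * a⁻¹ := by group
      rw [h1, ← hca]; group
    rw [e]
    exact commutator_mem_commutator hkc ha

/-- Coprime action: an `A`-invariant right coset `N k` contains a fixed point. -/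
theorem coprime_invariant_coset_fixed [Finite G] (A N : Subgroup G)
    (hNA : A ≤ Subgroup.normalizer (N : Set G))
    (hcop : (Nat.card A).Coprime (Nat.card N)) (hsolv : Group.IsSolvable A ∨ Group.IsSolvable N)
    (k : G) (hfix : ∀ a ∈ A, a * k * a⁻¹ * k⁻¹ ∈ N) :
    ∃ c ∈ Subgroup.centralizer (A : Set G), c * k⁻¹ ∈ N := by
  set B : Subgroup G := MulAut.conj k • A with hB
  have hBle : B ≤ N ⊔ A := by
    intro x hx
    rw [hB, mem_conj_smul_iff] at hx
    set a := k⁻¹ * x * k with ha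
    have hx' : x = ((a * k * a⁻¹ * k⁻¹)⁻¹ * a) := by rw [ha]; group
    rw [hx']
    apply (N ⊔ A).mul_mem
    · apply (N ⊔ A).inv_mem
      exact (le_sup_left : N ≤ N ⊔ A) (hfix a hx)
    · exact (le_sup_right : A ≤ N ⊔ A) hx
  have hBcard : Nat.card B = Nat.card A := card_conj_smul k A
  obtain ⟨n, hn, hnA⟩ := sz_conj_rel hNA hcop hsolv hBle hBcard
  have hdNA : N ⊓ A = ⊥ := (disjoint_of_coprime_natCard hcop.symm).eq_bot
  have hxnorm : n⁻¹ * k ∈ normalizer (A : Set G) := by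
    rw [mem_normalizer_iff]
    intro a
    have h1 : ∀ y, y ∈ MulAut.conj n • A ↔ y ∈ MulAut.conj k • A := fun y => by rw [hnA]
    have h2 := h1 (k * a * k⁻¹)
    rw [mem_conj_smul_iff, mem_conj_smul_iff] at h2
    have e1 : n⁻¹ * (k * a * k⁻¹) * n = n⁻¹ * k * a * (n⁻¹ * k)⁻¹ := by group
    have e2 : k⁻¹ * (k * a * k⁻¹) * k = a := by group
    rw [e1, e2] at h2
    exact h2.symm
  refine ⟨n⁻¹ * k, ?_, ?_⟩
  · rw [mem_centralizer_iff]
    intro a ha
    have ha' : a ∈ A := ha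
    set x := n⁻¹ * k with hx
    have h1 : a * x * a⁻¹ * x⁻¹ ∈ A := by
      have : x * a⁻¹ * x⁻¹ ∈ A := (mem_normalizer_iff.mp hxnorm a⁻¹).mp (A.inv_mem ha')
      have h3 : a * x * a⁻¹ * x⁻¹ = a * (x * a⁻¹ * x⁻¹) := by group
      rw [h3]; exact A.mul_mem ha' this
    have h2 : a * x * a⁻¹ * x⁻¹ ∈ N := by
      have e : a * x * a⁻¹ * x⁻¹ = (a * n⁻¹ * a⁻¹) * (a * k * a⁻¹ * k⁻¹) * n := by
        rw [hx]; group
      rw [e]
      exact N.mul_mem (N.mul_mem ((mem_normalizer_iff.mp (hNA ha') n⁻¹).mp (N.inv_mem hn))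
        (hfix a ha')) hn
    have h3 : a * x * a⁻¹ * x⁻¹ ∈ N ⊓ A := ⟨h2, h1⟩
    rw [hdNA, mem_bot] at h3
    have : a * x = (a * x * a⁻¹ * x⁻¹) * (x * a) := by group
    rw [this, h3, one_mul]
  · have : n⁻¹ * k * k⁻¹ = n⁻¹ := by group
    rw [this]; exact N.inv_mem hn

/-- Coprime action: if `K = XY` with `X`, `Y` `A`-invariant then `C_K(A) = C_X(A) C_Y(A)`. -/
theorem coprime_centralizer_product [Finite G] (A K : Subgroup G)
    (hcop : (Nat.card A).Coprime (Nat.card K)) (hsolv : Group.IsSolvable A ∨ Group.IsSolvable K)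
    (X Y : Subgroup G) (hX : X ≤ K) (hXA : A ≤ Subgroup.normalizer (X : Set G))
    (hYA : A ≤ Subgroup.normalizer (Y : Set G))
    (hXY : ∀ k ∈ K, ∃ x ∈ X, ∃ y ∈ Y, k = x * y) (k : G)
    (hk : k ∈ K ⊓ Subgroup.centralizer (A : Set G)) :
    ∃ x ∈ X ⊓ Subgroup.centralizer (A : Set G), ∃ y ∈ Y ⊓ Subgroup.centralizer (A : Set G),
      k = x * y := by
  obtain ⟨x, hx, y, hy, hkxy⟩ := hXY k hk.1
  set D : Subgroup G := X ⊓ Y with hD
  have hDK : D ≤ K := inf_le_left.trans hX
  have hDA : A ≤ normalizer (D : Set G) := by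
    intro a ha
    rw [mem_normalizer_iff]
    intro d
    simp only [hD, mem_inf]
    rw [← mem_normalizer_iff.mp (hXA ha) d, ← mem_normalizer_iff.mp (hYA ha) d]
  have hcopD : (Nat.card A).Coprime (Nat.card D) :=
    Nat.Coprime.coprime_dvd_right (card_dvd_of_le hDK) hcop
  have hsolvD : Group.IsSolvable A ∨ Group.IsSolvable D := by
    rcases hsolv with h | h
    · exact Or.inl h
    · right
      exact Group.isSolvable_of_isSolvable_injective
        (f := Subgroup.inclusion hDK) (Subgroup.inclusion_injective hDK)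
  have hfix : ∀ a ∈ A, a * x⁻¹ * a⁻¹ * x⁻¹⁻¹ ∈ D := by
    intro a ha
    have hka : a * k = k * a := (mem_centralizer_iff.mp hk.2) a ha
    have hxa : a * x⁻¹ * a⁻¹ ∈ X := (mem_normalizer_iff.mp (hXA ha) x⁻¹).mp (X.inv_mem hx)
    have hya : a * y * a⁻¹ ∈ Y := (mem_normalizer_iff.mp (hYA ha) y).mp hy
    constructor
    · rw [inv_inv]; exact X.mul_mem hxa hx
    · -- a x⁻¹ a⁻¹ x = (a y a⁻¹) y⁻¹
      have e : a * x⁻¹ * a⁻¹ * x⁻¹⁻¹ = (a * y * a⁻¹) * y⁻¹ := by
        have h1 : a * (x * y) * a⁻¹ = x * y := by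
          rw [← hkxy, hka]; group
        have h2 : a * y * a⁻¹ = (a * x⁻¹ * a⁻¹) * (a * (x * y) * a⁻¹) := by group
        rw [h2, h1]; group
      rw [e]; exact Y.mul_mem hya (Y.inv_mem hy)
  obtain ⟨c, hc, hcx⟩ := coprime_invariant_coset_fixed A D hDA hcopD hsolvD x⁻¹ hfix
  rw [inv_inv] at hcx
  -- x' = c⁻¹ = x * (c * x)⁻¹
  have hc' : c⁻¹ ∈ centralizer (A : Set G) := (centralizer (A : Set G)).inv_mem hc
  refine ⟨c⁻¹, ⟨?_, hc'⟩, c * k, ⟨?_, (centralizer (A : Set G)).mul_mem hc hk.2⟩, by group⟩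
  · have e : c⁻¹ = x * (c * x)⁻¹ := by group
    rw [e]; exact X.mul_mem hx (X.inv_mem hcx.1)
  · have e : c * k = (c * x) * y := by rw [hkxy]; group
    rw [e]; exact Y.mul_mem hcx.2 hy

end Cfsg.Agent.Lead
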