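import Mathlib
import Cfsg.Agent.Lead.Coprime

set_option autoImplicit false
open Pointwise

namespace Cfsg.Agent.Lead

open Subgroup

universe u v

/-- **Glauberman's lemma**, existence of a fixed point (type-level form with an invariant subset). -/
theorem glauberman_exists_fixed {T : Type u} [Group T] [Finite T] {X : Type v} [MulAction T X]
    (K A : Subgroup T) [K.Normal] (hc : IsComplement' K A)
    (hcop : (Nat.card K).Coprime K.index)
    (hsolv : Group.IsSolvable K ∨ Group.IsSolvable (T ⧸ K))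
    (Ω : Set X) (hΩne : Ω.Nonempty) (hΩinv : ∀ g : T, ∀ x ∈ Ω, g • x ∈ Ω)
    (htrans : ∀ x ∈ Ω, ∀ y ∈ Ω, ∃ k ∈ K, k • x = y) :
    ∃ x ∈ Ω, ∀ a ∈ A, a • x = x := by
  obtain ⟨x₀, hx₀⟩ := hΩne
  set S : Subgroup T := MulAction.stabilizer T x₀ with hS
  have hKS : S ⊔ K = ⊤ := by
    rw [eq_top_iff]
    intro g _
    obtain ⟨k, hk, hkx⟩ := htrans x₀ hx₀ (g • x₀) (hΩinv g x₀ hx₀)
    have : k⁻¹ * g ∈ S := by
      rw [hS, MulAction.mem_stabilizer_iff, mul_smul, ← hkx, inv_smul_smul]
    have h2 : g = (k * (k⁻¹ * g)) := by group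
    rw [h2]
    exact (S ⊔ K).mul_mem ((le_sup_right : K ≤ S ⊔ K) hk) ((le_sup_left : S ≤ S ⊔ K) this)
  -- the normal Hall subgroup of S
  have hidx : (K.subgroupOf S).index = K.index := by
    change K.relIndex S = K.index
    rw [← relIndex_sup_right S K, hKS, relIndex_top_right]
  have hcardN : Nat.card (K.subgroupOf S) ∣ Nat.card K := by
    rw [card_subgroupOf_eq_card_inf]; exact card_dvd_of_le inf_le_left
  have hcopS : (Nat.card (K.subgroupOf S)).Coprime (K.subgroupOf S).index := by
    rw [hidx]; exact Nat.Coprime.coprime_dvd_left hcardN hcop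
  obtain ⟨B', hB'⟩ := exists_right_complement'_of_coprime hcopS
  set B : Subgroup T := B'.map S.subtype with hB
  have hBS : B ≤ S := map_subtype_le B'
  have hBcard : Nat.card B = K.index := by
    rw [← hidx, hB'.symm.index_eq_card]
    exact Nat.card_congr (B'.equivMapOfInjective _ S.subtype_injective).symm.toEquiv
  have hcB : IsComplement' K B := by
    apply isComplement'_of_coprime
    · rw [hBcard]; exact K.card_mul_index
    · rw [hBcard]; exact hcop
  obtain ⟨g, hg⟩ := sz_conj K hcop hsolv B A hcB hc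
  refine ⟨g • x₀, hΩinv g x₀ hx₀, ?_⟩
  intro a ha
  rw [← hg, mem_conj_smul_iff] at ha
  have h1 : g⁻¹ * a * g ∈ S := hBS ha
  rw [hS, MulAction.mem_stabilizer_iff] at h1
  have h2 : a • g • x₀ = g • ((g⁻¹ * a * g) • x₀) := by
    simp only [← mul_smul]; congr 1; group
  rw [h2, h1]

/-- **Glauberman's lemma**, transitivity of `C_K(A)` on the fixed points. -/
theorem glauberman_fixed_trans {T : Type u} [Group T] [Finite T] {X : Type v} [MulAction T X]
    (K A : Subgroup T) [hKn : K.Normal] (hc : IsComplement' K A)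
    (hcop : (Nat.card K).Coprime K.index)
    (hsolv : Group.IsSolvable K ∨ Group.IsSolvable (T ⧸ K))
    (Ω : Set X)
    (htrans : ∀ x ∈ Ω, ∀ y ∈ Ω, ∃ k ∈ K, k • x = y)
    (x y : X) (hx : x ∈ Ω) (hy : y ∈ Ω) (hxA : ∀ a ∈ A, a • x = x) (hyA : ∀ a ∈ A, a • y = y) :
    ∃ c ∈ K ⊓ centralizer (A : Set T), c • x = y := by
  obtain ⟨k, hk, hkx⟩ := htrans x hx y hy
  set S : Subgroup T := MulAction.stabilizer T x with hS
  have hAS : A ≤ S := fun a ha => by rw [hS, MulAction.mem_stabilizer_iff]; exact hxA a ha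
  set A' : Subgroup T := MulAut.conj k⁻¹ • A with hA'
  have hA'S : A' ≤ S := by
    intro a ha
    rw [hA', mem_conj_smul_iff, inv_inv] at ha
    rw [hS, MulAction.mem_stabilizer_iff]
    have h1 := hyA _ ha
    rw [← hkx] at h1
    have h2 : a • x = k⁻¹ • ((k * a * k⁻¹) • k • x) := by
      simp only [← mul_smul]; congr 1; group
    rw [h2, h1, inv_smul_smul]
  have hc' : IsComplement' K A' := isComplement'_conj_smul hc k⁻¹
  have hcA := isComplement'_subgroupOf_of_right_le hc hAS
  have hcA' := isComplement'_subgroupOf_of_right_le hc' hA'S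
  have hAcard : Nat.card A = K.index := (hc.symm.index_eq_card).symm
  have hcardN : Nat.card (K.subgroupOf S) ∣ Nat.card K := by
    rw [card_subgroupOf_eq_card_inf]; exact card_dvd_of_le inf_le_left
  have hcopS : (Nat.card (K.subgroupOf S)).Coprime (K.subgroupOf S).index := by
    have hAS' : Nat.card (A.subgroupOf S) = Nat.card A := by
      rw [card_subgroupOf_eq_card_inf, inf_eq_left.mpr hAS]
    rw [hcA.symm.index_eq_card, hAS', hAcard]
    exact Nat.Coprime.coprime_dvd_left hcardN hcop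
  have hsolvS : Group.IsSolvable (K.subgroupOf S) ∨ Group.IsSolvable (↥S ⧸ K.subgroupOf S) := by
    rcases hsolv with h | h
    · left
      let φ : K.subgroupOf S →* K :=
        MonoidHom.codRestrict ((S.subtype).comp (K.subgroupOf S).subtype) K (fun x => x.2)
      have hφ : Function.Injective φ := by
        intro a b hab
        have : ((a : S) : T) = ((b : S) : T) := congrArg (fun z : K => (z : T)) hab
        exact Subtype.ext (Subtype.ext this)
      exact Group.isSolvable_of_isSolvable_injective hφ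
    · right; exact isSolvable_quotient_subgroupOf K S
  obtain ⟨s, hs⟩ := sz_conj (K.subgroupOf S) hcopS hsolvS (A.subgroupOf S) (A'.subgroupOf S) hcA hcA'
  have hs' := conj_of_subgroupOf s hs
  rw [inf_eq_left.mpr hAS, inf_eq_left.mpr hA'S] at hs'
  -- c₀ = k * s normalizes A
  have hnorm : k * (s : T) ∈ normalizer (A : Set T) := by
    rw [mem_normalizer_iff]
    intro a
    have h1 : ∀ z, z ∈ MulAut.conj (s : T) • A ↔ z ∈ A' := fun z => by rw [hs']
    have h2 := h1 (k⁻¹ * a * k)
    rw [hA', mem_conj_smul_iff, mem_conj_smul_iff, inv_inv] at h2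
    have e1 : k * (k⁻¹ * a * k) * k⁻¹ = a := by group
    rw [e1] at h2
    -- h2 : s⁻¹ * (k⁻¹ * a * k) * s ∈ A ↔ a ∈ A
    constructor
    · intro ha
      have h3 := h1 ((s : T) * a * (s : T)⁻¹)
      rw [hA', mem_conj_smul_iff, mem_conj_smul_iff, inv_inv] at h3
      have e2 : (s : T)⁻¹ * ((s : T) * a * (s : T)⁻¹) * (s : T) = a := by group
      rw [e2] at h3
      have e3 : k * ((s : T) * a * (s : T)⁻¹) * k⁻¹ = k * (s : T) * a * (k * (s : T))⁻¹ := by group
      rw [e3] at h3
      exact h3.mp ha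
    · intro ha
      have h3 := h1 ((s : T) * a * (s : T)⁻¹)
      rw [hA', mem_conj_smul_iff, mem_conj_smul_iff, inv_inv] at h3
      have e2 : (s : T)⁻¹ * ((s : T) * a * (s : T)⁻¹) * (s : T) = a := by group
      rw [e2] at h3
      have e3 : k * ((s : T) * a * (s : T)⁻¹) * k⁻¹ = k * (s : T) * a * (k * (s : T))⁻¹ := by group
      rw [e3] at h3
      exact h3.mpr ha
  -- decompose c₀ = c * a
  obtain ⟨⟨⟨c, hcK⟩, ⟨a, haA⟩⟩, hca, -⟩ := hc.existsUnique (k * (s : T))
  simp only at hca
  have hcnorm : c ∈ normalizer (A : Set T) := by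
    have : c = k * (s : T) * a⁻¹ := by rw [← hca]; group
    rw [this]
    exact (normalizer (A : Set T)).mul_mem hnorm
      ((normalizer (A : Set T)).inv_mem (le_normalizer haA))
  have hAK : A ≤ normalizer (K : Set T) := by
    rw [normalizer_eq_top_iff.mpr hKn]; exact le_top
  have hd : K ⊓ A = ⊥ := hc.disjoint.eq_bot
  have hcC := mem_centralizer_of_mem_normalizer hAK hd hcK hcnorm
  refine ⟨c, ⟨hcK, hcC⟩, ?_⟩
  have e : c = k * (s : T) * a⁻¹ := by rw [← hca]; group
  rw [e, mul_smul, mul_smul]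
  have h1 : a⁻¹ • x = x := by
    have := hxA a haA
    rw [inv_smul_eq_iff, this]
  have h2 : (s : T) • x = x := MulAction.mem_stabilizer_iff.mp s.2
  rw [h1, h2, hkx]

end Cfsg.Agent.Lead
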