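import Mathlib
import Cfsg.Agent.Lead.Glauberman

set_option autoImplicit false
open Pointwise

namespace Cfsg.Agent.Lead

open Subgroup

variable {G : Type*} [Group G]

/-- Setup for transferring to the group `K ⊔ A` when `A` normalizes `K` with coprime orders. -/
theorem rel_setup [Finite G] {K A : Subgroup G} (hA : A ≤ normalizer (K : Set G))
    (hcop : (Nat.card A).Coprime (Nat.card K))
    (hsolv : Group.IsSolvable A ∨ Group.IsSolvable K) :
    ∃ _ : (K.subgroupOf (K ⊔ A)).Normal,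
      IsComplement' (K.subgroupOf (K ⊔ A)) (A.subgroupOf (K ⊔ A)) ∧
      (Nat.card (K.subgroupOf (K ⊔ A))).Coprime (K.subgroupOf (K ⊔ A)).index ∧
      (Group.IsSolvable (K.subgroupOf (K ⊔ A)) ∨
        Group.IsSolvable (↥(K ⊔ A) ⧸ K.subgroupOf (K ⊔ A))) := by
  have hdA : K ⊓ A = ⊥ := (disjoint_of_coprime_natCard hcop.symm).eq_bot
  set U : Subgroup G := K ⊔ A with hU
  have hKU : K ≤ U := le_sup_left
  have hAU : A ≤ U := le_sup_right
  have hnorm : (K.subgroupOf U).Normal := normal_subgroupOf_sup_of_le_normalizer' hA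
  have hcA : IsComplement' (K.subgroupOf U) (A.subgroupOf U) :=
    isComplement'_subgroupOf_sup_of_le_normalizer hA hdA rfl
  have hcardK : Nat.card (K.subgroupOf U) = Nat.card K :=
    Nat.card_congr (subgroupOfEquivOfLe hKU).toEquiv
  have hcardA : Nat.card (A.subgroupOf U) = Nat.card A :=
    Nat.card_congr (subgroupOfEquivOfLe hAU).toEquiv
  have hcopU : (Nat.card (K.subgroupOf U)).Coprime (K.subgroupOf U).index := by
    rw [hcA.symm.index_eq_card, hcardK, hcardA]; exact hcop.symm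
  refine ⟨hnorm, hcA, hcopU, ?_⟩
  rcases hsolv with h | h
  · right
    let φ : A →* ↥U ⧸ K.subgroupOf U :=
      (QuotientGroup.mk' (K.subgroupOf U)).comp (Subgroup.inclusion hAU)
    have hφ : Function.Surjective φ := by
      intro y
      induction y using QuotientGroup.induction_on with
      | H u =>
        obtain ⟨⟨⟨k, hk⟩, ⟨a, ha⟩⟩, hka, -⟩ := hcA.existsUnique u
        simp only at hka
        refine ⟨⟨(a : G), ha⟩, ?_⟩
        change ((Subgroup.inclusion hAU ⟨(a : G), ha⟩ : U) : ↥U ⧸ K.subgroupOf U) =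
          (u : ↥U ⧸ K.subgroupOf U)
        rw [QuotientGroup.eq]
        have : (Subgroup.inclusion hAU ⟨(a : G), ha⟩ : U) = a := rfl
        rw [this, ← hka]
        have h2 : a⁻¹ * (k * a) = a⁻¹ * k * a := by group
        rw [h2]
        have := hnorm.conj_mem k hk a⁻¹
        simpa using this
    exact Group.isSolvable_of_surjective hφ
  · left
    exact Group.isSolvable_of_isSolvable_injective
      (f := (subgroupOfEquivOfLe hKU).toMonoidHom) (subgroupOfEquivOfLe hKU).injective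

/-- **Glauberman's lemma, relative form**: `A` normalizes `K` inside `G` with coprime orders, `A` or `K`
solvable; `Ω` is a `K ⊔ A`-invariant set on which `K` acts transitively. -/
theorem glauberman_rel [Finite G] {X : Type*} [MulAction G X] (K A : Subgroup G)
    (hA : A ≤ normalizer (K : Set G))
    (hcop : (Nat.card A).Coprime (Nat.card K))
    (hsolv : Group.IsSolvable A ∨ Group.IsSolvable K)
    (Ω : Set X) (hΩinv : ∀ g ∈ K ⊔ A, ∀ x ∈ Ω, g • x ∈ Ω)
    (htrans : ∀ x ∈ Ω, ∀ y ∈ Ω, ∃ k ∈ K, k • x = y) :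
    (Ω.Nonempty → ∃ x ∈ Ω, ∀ a ∈ A, a • x = x) ∧
    (∀ x ∈ Ω, ∀ y ∈ Ω, (∀ a ∈ A, a • x = x) → (∀ a ∈ A, a • y = y) →
      ∃ c ∈ K ⊓ centralizer (A : Set G), c • x = y) := by
  obtain ⟨hnorm, hcA, hcopU, hsolvU⟩ := rel_setup hA hcop hsolv
  set U : Subgroup G := K ⊔ A with hU
  have hKU : K ≤ U := le_sup_left
  have hAU : A ≤ U := le_sup_right
  have hinv' : ∀ g : U, ∀ x ∈ Ω, g • x ∈ Ω := fun g x hx => hΩinv (g : G) g.2 x hx
  have htrans' : ∀ x ∈ Ω, ∀ y ∈ Ω, ∃ k ∈ K.subgroupOf U, k • x = y := by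
    intro x hx y hy
    obtain ⟨k, hk, hkx⟩ := htrans x hx y hy
    exact ⟨⟨k, hKU hk⟩, hk, hkx⟩
  constructor
  · intro hne
    obtain ⟨x, hx, hxA⟩ := glauberman_exists_fixed (K.subgroupOf U) (A.subgroupOf U) hcA hcopU hsolvU
      Ω hne hinv' htrans'
    refine ⟨x, hx, fun a ha => ?_⟩
    exact hxA ⟨a, hAU ha⟩ ha
  · intro x hx y hy hxA hyA
    obtain ⟨c, hc, hcx⟩ := glauberman_fixed_trans (K.subgroupOf U) (A.subgroupOf U) hcA hcopU hsolvU
      Ω htrans' x y hx hy (fun a ha => hxA (a : G) ha) (fun a ha => hyA (a : G) ha)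
    have hcC : (c : G) ∈ centralizer (A : Set G) := ?_
    · exact ⟨(c : G), ⟨hc.1, hcC⟩, hcx⟩
    rw [mem_centralizer_iff]
    intro a ha
    have h1 : c ∈ centralizer ((A.subgroupOf U : Subgroup U) : Set U) := hc.2
    rw [mem_centralizer_iff] at h1
    have h2 := h1 ⟨a, hAU ha⟩ ha
    exact congrArg Subtype.val h2

end Cfsg.Agent.Lead
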