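import Mathlib
import Cfsg.Agent.Lead.GlaubermanRel

set_option autoImplicit false
open Pointwise

namespace Cfsg.Agent.Lead

open Subgroup

variable {G : Type*} [Group G]

theorem conj_smul_eq_self_iff_mem_normalizer (g : G) (H : Subgroup G) :
    MulAut.conj g • H = H ↔ g ∈ normalizer (H : Set G) := by
  rw [mem_normalizer_iff]
  constructor
  · intro h x
    constructor
    · intro hx
      rw [← h, mem_conj_smul_iff]
      have : g⁻¹ * (g * x * g⁻¹) * g = x := by group
      rw [this]; exact hx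
    · intro hx
      rw [← h, mem_conj_smul_iff] at hx
      have : g⁻¹ * (g * x * g⁻¹) * g = x := by group
      rw [this] at hx; exact hx
  · intro h
    ext x
    rw [mem_conj_smul_iff]
    have := h (g⁻¹ * x * g)
    have e : g * (g⁻¹ * x * g) * g⁻¹ = x := by group
    rw [e] at this
    exact this

/-- The conjugation action of `G` on its subgroups. -/
@[reducible] def conjSubgroupAction (G : Type*) [Group G] : MulAction G (Subgroup G) :=
  MulAction.compHom (Subgroup G) (MulAut.conj : G →* MulAut G)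

/-- The set of Sylow `p`-subgroups of `K`, as subgroups of `G`. -/
def sylowSet (p : ℕ) (K : Subgroup G) : Set (Subgroup G) :=
  {Q | ∃ P : Sylow p K, Q = (P : Subgroup K).map K.subtype}

theorem sylowSet_conj_mem [Finite G] {p : ℕ} [Fact p.Prime] {K : Subgroup G} {g : G}
    (hg : g ∈ normalizer (K : Set G)) {Q : Subgroup G} (hQ : Q ∈ sylowSet p K) :
    MulAut.conj g • Q ∈ sylowSet p K := by
  obtain ⟨P, rfl⟩ := hQ
  set Q' : Subgroup G := MulAut.conj g • (P : Subgroup K).map K.subtype with hQ'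
  have hQ'K : Q' ≤ K := by
    intro x hx
    rw [hQ', mem_conj_smul_iff] at hx
    obtain ⟨y, -, hy⟩ := hx
    have hyK : g⁻¹ * x * g ∈ K := by rw [← hy]; exact y.2
    have := (mem_normalizer_iff.mp hg (g⁻¹ * x * g)).mp hyK
    have e : g * (g⁻¹ * x * g) * g⁻¹ = x := by group
    rw [e] at this; exact this
  have hcard : Nat.card (Q'.subgroupOf K) = p ^ (Nat.card K).factorization p := by
    rw [card_subgroupOf_eq_card_inf, inf_eq_left.mpr hQ'K, hQ', card_conj_smul]
    rw [← P.card_eq_multiplicity]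
    exact Nat.card_congr
      (((P : Subgroup K).equivMapOfInjective _ K.subtype_injective).symm.toEquiv)
  refine ⟨Sylow.ofCard (Q'.subgroupOf K) hcard, ?_⟩
  change Q' = (Q'.subgroupOf K).map K.subtype
  rw [map_subgroupOf_eq_of_le hQ'K]

theorem sylowSet_trans [Finite G] {p : ℕ} [Fact p.Prime] {K : Subgroup G}
    {Q Q' : Subgroup G} (hQ : Q ∈ sylowSet p K) (hQ' : Q' ∈ sylowSet p K) :
    ∃ k ∈ K, MulAut.conj k • Q = Q' := by
  obtain ⟨P, rfl⟩ := hQ
  obtain ⟨P', rfl⟩ := hQ'
  obtain ⟨k, hk⟩ := MulAction.exists_smul_eq K P P'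
  refine ⟨(k : G), k.2, ?_⟩
  have h1 : ((k • P : Sylow p K) : Subgroup K) = (P' : Subgroup K) := by rw [hk]
  rw [Sylow.coe_subgroup_smul] at h1
  rw [← h1, map_conj_smul]
  rfl

/-- Coprime action: existence of an `A`-invariant Sylow `p`-subgroup of `K`. -/
theorem coprime_exists_invariant_sylow [Finite G] (A K : Subgroup G)
    (hAK : A ≤ Subgroup.normalizer (K : Set G))
    (hcop : (Nat.card A).Coprime (Nat.card K)) (hsolv : Group.IsSolvable A ∨ Group.IsSolvable K)
    (p : ℕ) [Fact p.Prime] :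
    ∃ P : Sylow p K, A ≤ Subgroup.normalizer ((P : Subgroup K).map K.subtype : Set G) := by
  let _ := conjSubgroupAction G
  have hKA : K ⊔ A ≤ normalizer (K : Set G) := sup_le le_normalizer hAK
  have h := glauberman_rel K A hAK hcop hsolv (sylowSet p K)
    (fun g hg Q hQ => sylowSet_conj_mem (hKA hg) hQ)
    (fun Q hQ Q' hQ' => sylowSet_trans hQ hQ')
  have hne : (sylowSet p K).Nonempty := by
    obtain ⟨P⟩ : Nonempty (Sylow p K) := inferInstance
    exact ⟨_, P, rfl⟩
  obtain ⟨Q, ⟨P, rfl⟩, hfix⟩ := h.1 hne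
  refine ⟨P, fun a ha => ?_⟩
  rw [← conj_smul_eq_self_iff_mem_normalizer]
  exact hfix a ha

/-- Coprime action: two `A`-invariant Sylow `p`-subgroups of `K` are conjugate under `C_K(A)`. -/
theorem coprime_invariant_sylow_conj [Finite G] (A K : Subgroup G)
    (hAK : A ≤ Subgroup.normalizer (K : Set G))
    (hcop : (Nat.card A).Coprime (Nat.card K)) (hsolv : Group.IsSolvable A ∨ Group.IsSolvable K)
    (p : ℕ) [Fact p.Prime] (P Q : Sylow p K)
    (hP : A ≤ Subgroup.normalizer ((P : Subgroup K).map K.subtype : Set G))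
    (hQ : A ≤ Subgroup.normalizer ((Q : Subgroup K).map K.subtype : Set G)) :
    ∃ c : K, (c : G) ∈ Subgroup.centralizer (A : Set G) ∧ MulAut.conj c • P = Q := by
  let _ := conjSubgroupAction G
  have hKA : K ⊔ A ≤ normalizer (K : Set G) := sup_le le_normalizer hAK
  have h := glauberman_rel K A hAK hcop hsolv (sylowSet p K)
    (fun g hg Q hQ => sylowSet_conj_mem (hKA hg) hQ)
    (fun Q hQ Q' hQ' => sylowSet_trans hQ hQ')
  obtain ⟨c, ⟨hcK, hcC⟩, hc⟩ := h.2 _ ⟨P, rfl⟩ _ ⟨Q, rfl⟩
    (fun a ha => (conj_smul_eq_self_iff_mem_normalizer a _).mpr (hP ha))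
    (fun a ha => (conj_smul_eq_self_iff_mem_normalizer a _).mpr (hQ ha))
  refine ⟨⟨c, hcK⟩, hcC, ?_⟩
  apply Sylow.ext
  rw [Sylow.pointwise_smul_def]
  apply map_injective K.subtype_injective
  rw [map_conj_smul]
  exact hc

end Cfsg.Agent.Lead
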