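import Mathlib
import Cfsg.Agent.Lead.Coprime3
import Cfsg.Agent.Lead.CoprimeSylow

set_option autoImplicit false
open Pointwise

namespace Cfsg.Agent.Lead

open Subgroup

variable {G : Type*} [Group G]

/-- If the `p`-group `P` normalizes the nontrivial `p`-group `U`, then `[U,P] < U`. -/
theorem commutator_lt_of_isPGroup [Finite G] {p : ℕ} [Fact p.Prime] {U P : Subgroup G}
    (hU : IsPGroup p U) (hP : IsPGroup p P) (hPU : P ≤ normalizer (U : Set G)) (hne : U ≠ ⊥) :
    ⁅U, P⁆ < U := by
  have hle : ⁅U, P⁆ ≤ U := commutator_le_of_le_normalizer hPU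
  refine lt_of_le_of_ne hle (fun heq => hne ?_)
  set Γ : Subgroup G := P ⊔ U with hΓ
  have hΓp : IsPGroup p Γ := IsPGroup.to_sup_of_normal_right' hP hU hPU
  have hnil : Group.IsNilpotent Γ := hΓp.isNilpotent
  obtain ⟨n, hn⟩ := (isNilpotent_iff_lowerCentralSeries Γ).mp hnil
  have key : ∀ m, U ≤ Γ.lowerCentralSeries m := by
    intro m
    induction m with
    | zero => exact le_sup_right
    | succ m ih =>
      rw [Subgroup.lowerCentralSeries_succ]
      calc U = ⁅U, P⁆ := heq.symm
        _ ≤ ⁅Γ.lowerCentralSeries m, Γ⁆ := commutator_mono ih le_sup_left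
  have := key n
  rw [hn] at this
  exact le_bot_iff.mp this

theorem le_normalizer_commutator_of_centralizes {U P Q : Subgroup G}
    (hQU : Q ≤ normalizer (U : Set G)) (hQP : Q ≤ centralizer (P : Set G)) :
    Q ≤ normalizer ((⁅U, P⁆ : Subgroup G) : Set G) := by
  intro y hy
  rw [← conj_smul_eq_self_iff_mem_normalizer, conj_smul_eq_map, map_commutator]
  have h1 : U.map (MulAut.conj y).toMonoidHom = U :=
    (conj_smul_eq_self_iff_mem_normalizer y U).mpr (hQU hy)
  have h2 : P.map (MulAut.conj y).toMonoidHom = P := by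
    have : y ∈ normalizer (P : Set G) := by
      rw [mem_normalizer_iff]
      intro x
      have hc := mem_centralizer_iff.mp (hQP hy)
      constructor
      · intro hx
        have := hc x hx
        have e : y * x * y⁻¹ = x := by rw [← this]; group
        rw [e]; exact hx
      · intro hx
        have := hc _ hx
        -- (y x y⁻¹) y = y (y x y⁻¹)
        have e : x = y * x * y⁻¹ := by
          have h3 : y * x * y⁻¹ * y = y * (y * x * y⁻¹) := this
          have h4 : y * x = y * (y * x * y⁻¹) := by rw [← h3]; group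
          exact mul_left_cancel h4
        rw [e]; exact hx
    exact (conj_smul_eq_self_iff_mem_normalizer y P).mpr this
  rw [h1, h2]

/-- **Thompson's `P × Q` lemma**. -/
theorem thompson_PQ_aux [Finite G] (p : ℕ) [Fact p.Prime]
    (P Q : Subgroup G) (hP : IsPGroup p P) (hQ : (Nat.card Q).Coprime p)
    (hPQ : P ≤ Subgroup.centralizer (Q : Set G)) (n : ℕ) :
    ∀ U : Subgroup G, Nat.card U = n → IsPGroup p U →
    P ≤ Subgroup.normalizer (U : Set G) → Q ≤ Subgroup.normalizer (U : Set G) →
    U ⊓ Subgroup.centralizer (P : Set G) ≤ Subgroup.centralizer (Q : Set G) →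
    Q ≤ Subgroup.centralizer (U : Set G) := by
  induction n using Nat.strong_induction_on with
  | _ n ih =>
  intro U hn hU hPU hQU hC
  have hQP : Q ≤ centralizer (P : Set G) := le_centralizer_iff.mp hPQ
  have hcopQU : (Nat.card Q).Coprime (Nat.card U) := by
    obtain ⟨k, hk⟩ := hU.exists_card_eq
    rw [hk]; exact Nat.Coprime.pow_right k hQ
  have hsolvU : Group.IsSolvable Q ∨ Group.IsSolvable U := by
    right
    have : Group.IsNilpotent U := hU.isNilpotent
    infer_instance
  by_cases hUbot : U = ⊥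
  · rw [hUbot]
    intro q _
    rw [mem_centralizer_iff]
    intro h hh
    have : h = 1 := by simpa using hh
    rw [this]; simp
  set W : Subgroup G := ⁅U, Q⁆ with hW
  have hWU : W ≤ U := commutator_le_of_le_normalizer hQU
  by_cases hWeq : W = U
  · -- [U,Q] = U
    set V : Subgroup G := ⁅U, P⁆ with hV
    have hVlt : V < U := commutator_lt_of_isPGroup hU hP hPU hUbot
    have hVU : V ≤ U := hVlt.le
    have hVcard : Nat.card V < n := by
      rw [← hn]
      exact lt_of_le_of_ne (card_le_of_le hVU)
        (fun h => hVlt.ne (eq_of_le_of_card_ge hVU (le_of_eq h.symm)))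
    have hQV : Q ≤ centralizer (V : Set G) :=
      ih (Nat.card V) hVcard V rfl (hU.to_le hVU) (le_normalizer_commutator_right U P)
        (le_normalizer_commutator_of_centralizes hQU hQP)
        ((inf_le_inf_right _ hVU).trans hC)
    have h1 : ⁅⁅U, P⁆, Q⁆ = ⊥ := by
      rw [commutator_eq_bot_iff_le_centralizer]; exact le_centralizer_iff.mp hQV
    have h2 : ⁅⁅P, Q⁆, U⁆ = ⊥ := by
      have : ⁅P, Q⁆ = ⊥ := commutator_eq_bot_iff_le_centralizer.mpr hPQ
      rw [this, commutator_bot_left]
    have h3 : ⁅⁅Q, U⁆, P⁆ = ⊥ := commutator_commutator_eq_bot_of_rotate h1 h2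
    rw [commutator_comm Q U, ← hW, hWeq] at h3
    have h4 : U ≤ centralizer (P : Set G) := commutator_eq_bot_iff_le_centralizer.mp h3
    have h5 : U ≤ centralizer (Q : Set G) := (le_inf le_rfl h4).trans hC
    exact le_centralizer_iff.mp h5
  · -- [U,Q] < U
    have hWcard : Nat.card W < n := by
      rw [← hn]
      exact lt_of_le_of_ne (card_le_of_le hWU)
        (fun h => hWeq (eq_of_le_of_card_ge hWU (le_of_eq h.symm)))
    have hQW : Q ≤ centralizer (W : Set G) :=
      ih (Nat.card W) hWcard W rfl (hU.to_le hWU)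
        (le_normalizer_commutator_of_centralizes hPU hPQ)
        (le_normalizer_commutator_right U Q)
        ((inf_le_inf_right _ hWU).trans hC)
    have h1 : ⁅⁅U, Q⁆, Q⁆ = ⊥ := by
      rw [commutator_eq_bot_iff_le_centralizer]; exact le_centralizer_iff.mp hQW
    rw [coprime_commutator_commutator Q U hQU hcopQU hsolvU] at h1
    exact le_centralizer_iff.mp (commutator_eq_bot_iff_le_centralizer.mp h1)

theorem thompson_PQ [Finite G] (p : ℕ) [Fact p.Prime]
    (P Q U : Subgroup G) (hP : IsPGroup p P) (hQ : (Nat.card Q).Coprime p) (hU : IsPGroup p U)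
    (hPQ : P ≤ Subgroup.centralizer (Q : Set G))
    (hPU : P ≤ Subgroup.normalizer (U : Set G)) (hQU : Q ≤ Subgroup.normalizer (U : Set G))
    (hC : U ⊓ Subgroup.centralizer (P : Set G) ≤ Subgroup.centralizer (Q : Set G)) :
    Q ≤ Subgroup.centralizer (U : Set G) :=
  thompson_PQ_aux p P Q hP hQ hPQ _ U rfl hU hPU hQU hC

end Cfsg.Agent.Lead
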