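import Mathlib
import Cfsg.Agent.Lead.CoprimeSylow

set_option autoImplicit false
open Pointwise

namespace Cfsg.Agent.Lead

open Subgroup

variable {G : Type*} [Group G]

theorem le_sylow_of_normal_isPGroup {H : Type*} [Group H] {p : ℕ} [Fact p.Prime]
    [Finite (Sylow p H)] (P : Sylow p H) (N : Subgroup H) [hN : N.Normal] (hpN : IsPGroup p N) :
    N ≤ P := by
  obtain ⟨Q, hQ⟩ := hpN.exists_le_sylow
  obtain ⟨g, rfl⟩ := MulAction.exists_smul_eq H Q P
  intro x hx
  rw [Sylow.coe_subgroup_smul, Subgroup.mem_pointwise_smul_iff_inv_smul_mem]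
  apply hQ
  have := hN.conj_mem x hx g⁻¹
  simpa [MulAut.smul_def] using this

theorem le_normalizer_inf' {A X Y : Subgroup G} (hX : A ≤ normalizer (X : Set G))
    (hY : A ≤ normalizer (Y : Set G)) : A ≤ normalizer ((X ⊓ Y : Subgroup G) : Set G) := by
  intro a ha
  rw [mem_normalizer_iff]
  intro d
  simp only [mem_inf]
  rw [← mem_normalizer_iff.mp (hX ha) d, ← mem_normalizer_iff.mp (hY ha) d]

/-- Coprime action: an `A`-invariant `p`-subgroup of `K` lies in an `A`-invariant Sylow
`p`-subgroup of `K`. -/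
theorem coprime_invariant_pgroup_le_sylow [Finite G] (A K : Subgroup G)
    (hAK : A ≤ Subgroup.normalizer (K : Set G))
    (hcop : (Nat.card A).Coprime (Nat.card K)) (hsolv : Group.IsSolvable A ∨ Group.IsSolvable K)
    (p : ℕ) [Fact p.Prime] (U : Subgroup G) (hUK : U ≤ K) (hU : IsPGroup p U)
    (hUA : A ≤ Subgroup.normalizer (U : Set G)) :
    ∃ P : Sylow p K, U ≤ (P : Subgroup K).map K.subtype ∧
      A ≤ Subgroup.normalizer ((P : Subgroup K).map K.subtype : Set G) := by
  have hp : p.Prime := Fact.out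
  let 𝒮 : Set (Subgroup G) :=
    {W | U ≤ W ∧ W ≤ K ∧ IsPGroup p W ∧ A ≤ normalizer (W : Set G)}
  obtain ⟨W, ⟨hUW, hWK, hWp, hWA⟩, hmax⟩ :=
    Set.exists_max_image 𝒮 (fun W => Nat.card W) (Set.toFinite _) ⟨U, le_rfl, hUK, hU, hUA⟩
  set M : Subgroup G := K ⊓ normalizer (W : Set G) with hM
  have hWM : W ≤ M := le_inf hWK le_normalizer
  have hMK : M ≤ K := inf_le_left
  have hAM : A ≤ normalizer (M : Set G) :=
    le_normalizer_inf' hAK (hWA.trans le_normalizer)
  have hcopM : (Nat.card A).Coprime (Nat.card M) :=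
    Nat.Coprime.coprime_dvd_right (card_dvd_of_le hMK) hcop
  have hsolvM : Group.IsSolvable A ∨ Group.IsSolvable M := by
    rcases hsolv with h | h
    · exact Or.inl h
    · right
      exact Group.isSolvable_of_isSolvable_injective
        (f := Subgroup.inclusion hMK) (Subgroup.inclusion_injective hMK)
  obtain ⟨PM, hPM⟩ := coprime_exists_invariant_sylow A M hAM hcopM hsolvM p
  set S : Subgroup G := (PM : Subgroup M).map M.subtype with hS
  have hSM : S ≤ M := map_subtype_le _
  have hWnorm : (W.subgroupOf M).Normal :=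
    (normal_subgroupOf_iff_le_normalizer hWM).mpr inf_le_right
  have hWpM : IsPGroup p (W.subgroupOf M) :=
    hWp.of_injective (subgroupOfEquivOfLe hWM).toMonoidHom (subgroupOfEquivOfLe hWM).injective
  have hWS : W ≤ S := by
    have h1 : W.subgroupOf M ≤ PM := le_sylow_of_normal_isPGroup PM (W.subgroupOf M) hWpM
    have h2 := map_mono (f := M.subtype) h1
    rwa [map_subgroupOf_eq_of_le hWM] at h2
  have hSp : IsPGroup p S := PM.2.map M.subtype
  have hSmem : S ∈ 𝒮 := ⟨hUW.trans hWS, hSM.trans hMK, hSp, hPM⟩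
  have hSW : S = W := (eq_of_le_of_card_ge hWS (hmax S hSmem)).symm
  set n := (Nat.card M).factorization p with hn
  have hWcard : Nat.card W = p ^ n := by
    rw [← hSW, hS, hn, ← PM.card_eq_multiplicity]
    exact Nat.card_congr
      (((PM : Subgroup M).equivMapOfInjective _ M.subtype_injective).symm.toEquiv)
  have hWKcard : Nat.card (W.subgroupOf K) = p ^ n := by
    rw [card_subgroupOf_eq_card_inf, inf_eq_left.mpr hWK, hWcard]
  have hnot : ¬ p ^ (n + 1) ∣ Nat.card K := by
    intro hdvd
    have h1 := Sylow.prime_dvd_card_quotient_normalizer hdvd hWKcard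
    set H : Subgroup K := W.subgroupOf K with hH
    have h2 : Nat.card (normalizer (H : Set K)) =
        Nat.card (↥(normalizer (H : Set K)) ⧸ comap (normalizer (H : Set K)).subtype H) *
          Nat.card (comap (normalizer (H : Set K)).subtype H) :=
      card_eq_card_quotient_mul_card_subgroup _
    have h3 : Nat.card (comap (normalizer (H : Set K)).subtype H) = p ^ n := by
      rw [← hWKcard]
      exact Nat.card_congr (subgroupOfEquivOfLe (le_normalizer : H ≤ normalizer (H : Set K))).toEquiv
    have h4 : p ^ (n + 1) ∣ Nat.card (normalizer (H : Set K)) := by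
      rw [h2, h3, pow_succ, mul_comm]
      exact Nat.mul_dvd_mul_right h1 _
    have h5 : Nat.card (normalizer (H : Set K)) = Nat.card M := by
      rw [hH, ← subgroupOf_normalizer_eq hWK, card_subgroupOf_eq_card_inf, hM, inf_comm]
    rw [h5] at h4
    have h6 := (hp.pow_dvd_iff_le_factorization Nat.card_pos.ne').mp h4
    omega
  have hdvd : p ^ n ∣ Nat.card K := by rw [← hWcard]; exact card_dvd_of_le hWK
  have hfac : (Nat.card K).factorization p = n := by
    have h1 := (hp.pow_dvd_iff_le_factorization Nat.card_pos.ne').mp hdvd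
    have h2 : ¬ n + 1 ≤ (Nat.card K).factorization p := fun h =>
      hnot ((hp.pow_dvd_iff_le_factorization Nat.card_pos.ne').mpr h)
    omega
  refine ⟨Sylow.ofCard (W.subgroupOf K) (by rw [hWKcard, hfac]), ?_, ?_⟩
  · change U ≤ (W.subgroupOf K).map K.subtype
    rw [map_subgroupOf_eq_of_le hWK]; exact hUW
  · change A ≤ normalizer (((W.subgroupOf K).map K.subtype : Subgroup G) : Set G)
    rw [map_subgroupOf_eq_of_le hWK]; exact hWA

end Cfsg.Agent.Lead
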