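import Mathlib
import Cfsg.Agent.Lead.SZConj

set_option autoImplicit false
open Pointwise

namespace Cfsg.Agent.Lead

open Subgroup

variable {G : Type*} [Group G]

/-- In a commutative-as-a-subgroup normal subgroup `A`, the elements killed by `p` form a
normal subgroup of `G`. -/
def torsionBy (A : Subgroup G) (hA : ∀ x ∈ A, ∀ y ∈ A, x * y = y * x) (p : ℕ) : Subgroup G where
  carrier := {x | x ∈ A ∧ x ^ p = 1}
  one_mem' := ⟨A.one_mem, one_pow p⟩
  mul_mem' := by
    rintro x y ⟨hx, hxp⟩ ⟨hy, hyp⟩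
    refine ⟨A.mul_mem hx hy, ?_⟩
    have : Commute x y := hA x hx y hy
    rw [this.mul_pow, hxp, hyp, one_mul]
  inv_mem' := by
    rintro x ⟨hx, hxp⟩
    exact ⟨A.inv_mem hx, by rw [inv_pow, hxp, inv_one]⟩

theorem mem_torsionBy {A : Subgroup G} {hA : ∀ x ∈ A, ∀ y ∈ A, x * y = y * x} {p : ℕ} {x : G} :
    x ∈ torsionBy A hA p ↔ x ∈ A ∧ x ^ p = 1 := Iff.rfl

theorem torsionBy_normal (A : Subgroup G) [hAn : A.Normal]
    (hA : ∀ x ∈ A, ∀ y ∈ A, x * y = y * x) (p : ℕ) : (torsionBy A hA p).Normal := by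
  constructor
  rintro x ⟨hx, hxp⟩ g
  refine ⟨hAn.conj_mem x hx g, ?_⟩
  rw [conj_pow, hxp]; group

theorem torsionBy_isPGroup (A : Subgroup G) (hA : ∀ x ∈ A, ∀ y ∈ A, x * y = y * x)
    (p : ℕ) : IsPGroup p (torsionBy A hA p) := by
  intro x
  refine ⟨1, ?_⟩
  rw [pow_one]
  ext
  rw [Subgroup.coe_pow]
  exact x.2.2

/-- A nontrivial finite solvable group has a nontrivial normal `p`-subgroup for some prime `p`. -/
theorem exists_normal_pgroup_of_isSolvable [Finite G] [hs : Group.IsSolvable G] [Nontrivial G] :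
    ∃ p : ℕ, p.Prime ∧ ∃ P : Subgroup G, P.Normal ∧ IsPGroup p P ∧ P ≠ ⊥ := by
  classical
  obtain ⟨n, hn⟩ := hs.solvable
  -- take the least n with derivedSeries G n = ⊥
  have hex : ∃ n, derivedSeries G n = ⊥ := ⟨n, hn⟩
  set k := Nat.find hex with hk
  have hk0 : k ≠ 0 := by
    intro h0
    have := Nat.find_spec hex
    rw [← hk, h0, derivedSeries_zero] at this
    exact top_ne_bot this
  obtain ⟨j, hj⟩ := Nat.exists_eq_succ_of_ne_zero hk0
  set A := derivedSeries G j with hAdef
  have hAne : A ≠ ⊥ := by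
    have := Nat.find_min hex (m := j) (by rw [← hk, hj]; exact Nat.lt_succ_self j)
    exact this
  have hAcomm : ⁅A, A⁆ = ⊥ := by
    have := Nat.find_spec hex
    rw [← hk, hj, derivedSeries_succ] at this
    exact this
  have hAn : A.Normal := derivedSeries_normal G j
  have hA : ∀ x ∈ A, ∀ y ∈ A, x * y = y * x := by
    intro x hx y hy
    have h1 : A ≤ centralizer (A : Set G) := commutator_eq_bot_iff_le_centralizer.mp hAcomm
    exact ((mem_centralizer_iff.mp (h1 hx)) y hy).symm
  have hcard : Nat.card A ≠ 1 := fun h => hAne (A.card_eq_one.mp h)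
  obtain ⟨p, hp, hpdvd⟩ := Nat.exists_prime_and_dvd hcard
  have : Fact p.Prime := ⟨hp⟩
  obtain ⟨w, hw⟩ := exists_prime_orderOf_dvd_card' p hpdvd
  refine ⟨p, hp, torsionBy A hA p, torsionBy_normal A hA p, torsionBy_isPGroup A hA p, ?_⟩
  intro hbot
  have hmem : (w : G) ∈ torsionBy A hA p := by
    refine ⟨w.2, ?_⟩
    have : w ^ p = 1 := by rw [← hw]; exact pow_orderOf_eq_one w
    have := congrArg (fun z : A => (z : G)) this
    simpa using this
  rw [hbot, mem_bot] at hmem
  have : w = 1 := Subtype.ext hmem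
  rw [this, orderOf_one] at hw
  exact hp.one_lt.ne hw

/-- cardinality of a comap under a surjective hom to a quotient. -/
theorem card_comap_mk' [Finite G] (P : Subgroup G) [P.Normal] (H : Subgroup (G ⧸ P)) :
    Nat.card (H.comap (QuotientGroup.mk' P)) = Nat.card H * Nat.card P := by
  have h1 : (H.comap (QuotientGroup.mk' P)).index = H.index :=
    index_comap_of_surjective H (QuotientGroup.mk'_surjective P)
  have h2 := (H.comap (QuotientGroup.mk' P)).card_mul_index
  have h3 := H.card_mul_index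
  have h4 := card_eq_card_quotient_mul_card_subgroup P
  rw [h1] at h2
  have hpos : 0 < H.index := Nat.pos_of_ne_zero index_ne_zero_of_finite
  apply Nat.eq_of_mul_eq_mul_right hpos
  rw [h2, h4, ← h3]; ring

/-- cardinality of the image in `G ⧸ P` of a subgroup meeting `P` trivially. -/
theorem card_map_mk'_of_inf_eq_bot [Finite G] (P : Subgroup G) [P.Normal] (H : Subgroup G)
    (h : P ⊓ H = ⊥) : Nat.card (H.map (QuotientGroup.mk' P)) = Nat.card H := by
  have h1 := card_comap_mk' P (H.map (QuotientGroup.mk' P))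
  rw [comap_map_eq, QuotientGroup.ker_mk'] at h1
  have hc := isComplement'_subgroupOf_sup h (sup_comm P H)
  have h2 := hc.card_mul_card
  rw [Nat.card_congr (subgroupOfEquivOfLe (le_sup_right : P ≤ H ⊔ P)).toEquiv,
    Nat.card_congr (subgroupOfEquivOfLe (le_sup_left : H ≤ H ⊔ P)).toEquiv] at h2
  have hpos : 0 < Nat.card P := Nat.card_pos
  apply Nat.eq_of_mul_eq_mul_right hpos
  rw [← h1, ← h2]; ring

/-- cardinality of the image in `G ⧸ P` of a subgroup containing `P`. -/
theorem card_map_mk'_of_le [Finite G] (P : Subgroup G) [P.Normal] (H : Subgroup G)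
    (h : P ≤ H) : Nat.card (H.map (QuotientGroup.mk' P)) * Nat.card P = Nat.card H := by
  have h1 := card_comap_mk' P (H.map (QuotientGroup.mk' P))
  rw [comap_map_eq_self (by rw [QuotientGroup.ker_mk']; exact h)] at h1
  exact h1.symm

end Cfsg.Agent.Lead
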