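import Mathlib
import Cfsg.Agent.Lead.HallPrep
import Cfsg.Agent.Lead.CoprimeSylow2

set_option autoImplicit false
open Pointwise

namespace Cfsg.Agent.Lead

open Subgroup

universe u

theorem isSolvable_subgroup {G : Type*} [Group G] [Group.IsSolvable G] (L : Subgroup G) :
    Group.IsSolvable L :=
  Group.isSolvable_of_isSolvable_injective (f := L.subtype) L.subtype_injective

/-- **Hall's theorem**: existence and domination of Hall subgroups in finite solvable groups. -/
theorem hall_exists_ge_aux (n₀ : ℕ) :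
    ∀ {G : Type u} [Group G] [Finite G] [Group.IsSolvable G], Nat.card G = n₀ →
    ∀ (m n : ℕ), Nat.card G = m * n → m.Coprime n →
    ∀ K : Subgroup G, (Nat.card K).Coprime n → ∃ H : Subgroup G, Nat.card H = m ∧ K ≤ H := by
  induction n₀ using Nat.strong_induction_on with
  | _ n₀ ih =>
  intro G _ _ _ hn₀ m n hG hmn K hK
  have hmpos : 0 < m := by
    rcases Nat.eq_zero_or_pos m with h | h
    · rw [h, zero_mul] at hG; exact absurd hG Nat.card_pos.ne'
    · exact h
  have hnpos : 0 < n := by
    rcases Nat.eq_zero_or_pos n with h | h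
    · rw [h, mul_zero] at hG; exact absurd hG Nat.card_pos.ne'
    · exact h
  by_cases htriv : Subsingleton G
  · refine ⟨⊥, ?_, ?_⟩
    · rw [card_bot]
      have : Nat.card G = 1 := Nat.card_eq_one_iff_unique.mpr ⟨htriv, ⟨1⟩⟩
      rw [this] at hG
      exact (Nat.eq_one_of_mul_eq_one_right hG.symm).symm
    · intro x _; rw [mem_bot]; exact Subsingleton.elim _ _
  have hnt : Nontrivial G := not_subsingleton_iff_nontrivial.mp htriv
  obtain ⟨p, hp, P, hPn, hPp, hPne⟩ := exists_normal_pgroup_of_isSolvable (G := G)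
  have : Fact p.Prime := ⟨hp⟩
  obtain ⟨k, hk⟩ := hPp.exists_card_eq
  have hk0 : k ≠ 0 := by
    intro h0
    rw [h0, pow_zero] at hk
    exact hPne (P.card_eq_one.mp hk)
  let π := QuotientGroup.mk' P
  have hπ : Function.Surjective π := QuotientGroup.mk'_surjective P
  have hQcard : Nat.card (G ⧸ P) * p ^ k = m * n := by
    rw [← hG, ← hk]; exact (card_eq_card_quotient_mul_card_subgroup P).symm
  have hQlt : Nat.card (G ⧸ P) < n₀ := by
    rw [← hn₀, card_eq_card_quotient_mul_card_subgroup P]
    have h1 : 1 < Nat.card P := P.one_lt_card_iff_ne_bot.mpr hPne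
    exact lt_mul_of_one_lt_right Nat.card_pos h1
  have hQsolv : Group.IsSolvable (G ⧸ P) := Group.isSolvable_of_surjective hπ
  have hpk_dvd : p ^ k ∣ m * n := by rw [← hG, ← hk]; exact card_subgroup_dvd_card P
  have hKbar : (Nat.card (K.map π)).Coprime n :=
    Nat.Coprime.coprime_dvd_left (card_map_dvd K π) hK
  have hp_dvd : p ∣ m ∨ p ∣ n := by
    have : p ∣ m * n := dvd_trans (dvd_pow_self p hk0) hpk_dvd
    exact (hp.dvd_mul).mp this
  rcases hp_dvd with hpm | hpn
  · -- p divides m
    have hpn : ¬ p ∣ n := fun h => by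
      have := Nat.Coprime.eq_one_of_dvd (hmn.coprime_dvd_left hpm) h
      exact hp.one_lt.ne' this
    have hcop : (p ^ k).Coprime n := Nat.Coprime.pow_left k ((Nat.Prime.coprime_iff_not_dvd hp).mpr hpn)
    obtain ⟨m', hm'⟩ : p ^ k ∣ m := hcop.dvd_of_dvd_mul_right hpk_dvd
    have hQ : Nat.card (G ⧸ P) = m' * n := by
      have h1 : Nat.card (G ⧸ P) * p ^ k = (m' * n) * p ^ k := by rw [hQcard, hm']; ring
      exact Nat.eq_of_mul_eq_mul_right (pow_pos hp.pos k) h1
    have hm'n : m'.Coprime n := hmn.coprime_dvd_left ⟨p ^ k, by rw [hm']; ring⟩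
    obtain ⟨Hbar, hHbar, hKH⟩ := ih _ hQlt rfl m' n hQ hm'n (K.map π) hKbar
    refine ⟨Hbar.comap π, ?_, ?_⟩
    · rw [card_comap_mk', hHbar, hk, hm']; ring
    · exact (le_comap_map π K).trans (comap_mono hKH)
  · -- p divides n
    have hpm : ¬ p ∣ m := fun h => by
      have := Nat.Coprime.eq_one_of_dvd (hmn.symm.coprime_dvd_left hpn) h
      exact hp.one_lt.ne' this
    have hcop : (p ^ k).Coprime m := Nat.Coprime.pow_left k ((Nat.Prime.coprime_iff_not_dvd hp).mpr hpm)
    obtain ⟨n', hn'⟩ : p ^ k ∣ n := hcop.dvd_of_dvd_mul_left hpk_dvd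
    have hQ : Nat.card (G ⧸ P) = m * n' := by
      have h1 : Nat.card (G ⧸ P) * p ^ k = (m * n') * p ^ k := by rw [hQcard, hn']; ring
      exact Nat.eq_of_mul_eq_mul_right (pow_pos hp.pos k) h1
    have hmn' : m.Coprime n' := hmn.coprime_dvd_right ⟨p ^ k, by rw [hn']; ring⟩
    have hKbar' : (Nat.card (K.map π)).Coprime n' :=
      hKbar.coprime_dvd_right ⟨p ^ k, by rw [hn']; ring⟩
    obtain ⟨Hbar, hHbar, hKH⟩ := ih _ hQlt rfl m n' hQ hmn' (K.map π) hKbar'
    set L : Subgroup G := Hbar.comap π with hL
    have hLcard : Nat.card L = m * p ^ k := by rw [hL, card_comap_mk', hHbar, hk]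
    have hKL : K ≤ L := (le_comap_map π K).trans (comap_mono hKH)
    have hPL : P ≤ L := by
      have := ker_le_comap π Hbar
      rwa [QuotientGroup.ker_mk'] at this
    have hKpk : (Nat.card K).Coprime (p ^ k) := hK.coprime_dvd_right ⟨n', hn'⟩
    by_cases hLtop : L = ⊤
    · -- P is a normal Sylow subgroup with complement of order m
      have hn_eq : n = p ^ k := by
        have h1 : Nat.card G = m * p ^ k := by
          rw [← hLcard, hLtop]; exact (Nat.card_congr Subgroup.topEquiv.toEquiv).symm
        rw [hG] at h1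
        exact Nat.eq_of_mul_eq_mul_left hmpos h1
      have hPidx : P.index = m := by
        have h1 := P.card_mul_index
        rw [hk, hG, hn_eq, mul_comm] at h1
        exact Nat.eq_of_mul_eq_mul_right (pow_pos hp.pos k) h1
      have hPcop : (Nat.card P).Coprime P.index := by rw [hk, hPidx]; exact hcop
      obtain ⟨H₀, hH₀⟩ := exists_right_complement'_of_coprime hPcop
      have hH₀card : Nat.card H₀ = m := by rw [← hPidx]; exact (hH₀.symm.index_eq_card).symm
      -- work in U = P ⊔ K
      have hPK : P ⊓ K = ⊥ := by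
        have : (Nat.card P).Coprime (Nat.card K) := by rw [hk]; exact hKpk.symm
        exact (disjoint_of_coprime_natCard this).eq_bot
      set U : Subgroup G := P ⊔ K with hU
      have hPU : P ≤ U := le_sup_left
      have hKU : K ≤ U := le_sup_right
      have hcK := isComplement'_subgroupOf_sup hPK rfl
      have hcH := isComplement'_subgroupOf_of_left_le hH₀ hPU
      have hcardPU : Nat.card (P.subgroupOf U) = Nat.card P :=
        Nat.card_congr (subgroupOfEquivOfLe hPU).toEquiv
      have hcardKU : Nat.card (K.subgroupOf U) = Nat.card K :=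
        Nat.card_congr (subgroupOfEquivOfLe hKU).toEquiv
      have hcopU : (Nat.card (P.subgroupOf U)).Coprime (P.subgroupOf U).index := by
        rw [hcK.symm.index_eq_card, hcardPU, hcardKU, hk]; exact hKpk.symm
      have hsolvU : Group.IsSolvable (P.subgroupOf U) ∨
          Group.IsSolvable (↥U ⧸ P.subgroupOf U) := Or.inl (isSolvable_subgroup _)
      obtain ⟨u, hu⟩ := sz_conj (P.subgroupOf U) hcopU hsolvU (H₀.subgroupOf U)
        (K.subgroupOf U) hcH hcK
      have hu' := conj_of_subgroupOf u hu
      rw [inf_eq_left.mpr hKU] at hu'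
      refine ⟨MulAut.conj (u : G) • H₀, ?_, ?_⟩
      · rw [card_conj_smul, hH₀card]
      · rw [← hu']
        exact pointwise_smul_le_pointwise_smul_iff.mpr inf_le_left
    · -- induction inside L
      have hLlt : Nat.card L < n₀ := by rw [← hn₀]; exact card_lt_of_ne_top hLtop
      have hLsolv : Group.IsSolvable L := isSolvable_subgroup L
      have hKLcard : (Nat.card (K.subgroupOf L)).Coprime (p ^ k) := by
        rw [Nat.card_congr (subgroupOfEquivOfLe hKL).toEquiv]; exact hKpk
      obtain ⟨H', hH', hKH'⟩ := ih _ hLlt rfl m (p ^ k) hLcard hcop.symm (K.subgroupOf L) hKLcard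
      refine ⟨H'.map L.subtype, ?_, ?_⟩
      · rw [← hH']
        exact Nat.card_congr (H'.equivMapOfInjective _ L.subtype_injective).symm.toEquiv
      · have := map_mono (f := L.subtype) hKH'
        rwa [map_subgroupOf_eq_of_le hKL] at this

end Cfsg.Agent.Lead

namespace Cfsg.Agent.Lead

open Subgroup

universe u

/-- A normal `p`-subgroup is contained in every subgroup whose order carries the full `p`-part. -/
theorem normal_pgroup_le_of_full_ppart {G : Type*} [Group G] [Finite G] {p : ℕ} [Fact p.Prime]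
    (P : Subgroup G) [P.Normal] (hP : IsPGroup p P) (H : Subgroup G)
    (hH : (Nat.card H).factorization p = (Nat.card G).factorization p) : P ≤ H := by
  obtain ⟨S⟩ : Nonempty (Sylow p H) := inferInstance
  have hScard : Nat.card ((S : Subgroup H).map H.subtype) = p ^ (Nat.card G).factorization p := by
    rw [← hH, ← S.card_eq_multiplicity]
    exact Nat.card_congr ((S : Subgroup H).equivMapOfInjective _ H.subtype_injective).symm.toEquiv
  let S' : Sylow p G := Sylow.ofCard _ hScard
  have h1 : P ≤ S' := le_sylow_of_normal_isPGroup S' P hP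
  exact h1.trans (map_subtype_le _)

/-- **Hall's theorem**: conjugacy of Hall subgroups in finite solvable groups. -/
theorem hall_conj_aux (n₀ : ℕ) :
    ∀ {G : Type u} [Group G] [Finite G] [Group.IsSolvable G], Nat.card G = n₀ →
    ∀ (m n : ℕ), Nat.card G = m * n → m.Coprime n →
    ∀ H K : Subgroup G, Nat.card H = m → Nat.card K = m → ∃ g : G, MulAut.conj g • H = K := by
  induction n₀ using Nat.strong_induction_on with
  | _ n₀ ih =>
  intro G _ _ _ hn₀ m n hG hmn H K hH hK
  have hmpos : 0 < m := by
    rcases Nat.eq_zero_or_pos m with h | h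
    · rw [h, zero_mul] at hG; exact absurd hG Nat.card_pos.ne'
    · exact h
  have hnpos : 0 < n := by
    rcases Nat.eq_zero_or_pos n with h | h
    · rw [h, mul_zero] at hG; exact absurd hG Nat.card_pos.ne'
    · exact h
  by_cases htriv : Subsingleton G
  · refine ⟨1, ?_⟩
    ext x
    have h1 : x = 1 := Subsingleton.elim _ _
    rw [h1]
    simp [one_mem]
  have hnt : Nontrivial G := not_subsingleton_iff_nontrivial.mp htriv
  obtain ⟨p, hp, P, hPn, hPp, hPne⟩ := exists_normal_pgroup_of_isSolvable (G := G)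
  have : Fact p.Prime := ⟨hp⟩
  obtain ⟨k, hk⟩ := hPp.exists_card_eq
  have hk0 : k ≠ 0 := by
    intro h0
    rw [h0, pow_zero] at hk
    exact hPne (P.card_eq_one.mp hk)
  let π := QuotientGroup.mk' P
  have hπ : Function.Surjective π := QuotientGroup.mk'_surjective P
  have hQcard : Nat.card (G ⧸ P) * p ^ k = m * n := by
    rw [← hG, ← hk]; exact (card_eq_card_quotient_mul_card_subgroup P).symm
  have hQlt : Nat.card (G ⧸ P) < n₀ := by
    rw [← hn₀, card_eq_card_quotient_mul_card_subgroup P]
    have h1 : 1 < Nat.card P := P.one_lt_card_iff_ne_bot.mpr hPne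
    exact lt_mul_of_one_lt_right Nat.card_pos h1
  have hQsolv : Group.IsSolvable (G ⧸ P) := Group.isSolvable_of_surjective hπ
  have hpk_dvd : p ^ k ∣ m * n := by rw [← hG, ← hk]; exact card_subgroup_dvd_card P
  have hp_dvd : p ∣ m ∨ p ∣ n := by
    have : p ∣ m * n := dvd_trans (dvd_pow_self p hk0) hpk_dvd
    exact (hp.dvd_mul).mp this
  rcases hp_dvd with hpm | hpn
  · -- p divides m: P ≤ H and P ≤ K
    have hpn : ¬ p ∣ n := fun h => by
      have := Nat.Coprime.eq_one_of_dvd (hmn.coprime_dvd_left hpm) h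
      exact hp.one_lt.ne' this
    have hcop : (p ^ k).Coprime n := Nat.Coprime.pow_left k ((Nat.Prime.coprime_iff_not_dvd hp).mpr hpn)
    obtain ⟨m', hm'⟩ : p ^ k ∣ m := hcop.dvd_of_dvd_mul_right hpk_dvd
    have hQ : Nat.card (G ⧸ P) = m' * n := by
      have h1 : Nat.card (G ⧸ P) * p ^ k = (m' * n) * p ^ k := by rw [hQcard, hm']; ring
      exact Nat.eq_of_mul_eq_mul_right (pow_pos hp.pos k) h1
    have hm'n : m'.Coprime n := hmn.coprime_dvd_left ⟨p ^ k, by rw [hm']; ring⟩
    have hfac : (Nat.card G).factorization p = m.factorization p := by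
      rw [hG, Nat.factorization_mul hmpos.ne' hnpos.ne']
      simp [Nat.factorization_eq_zero_of_not_dvd hpn]
    have hPH : P ≤ H := normal_pgroup_le_of_full_ppart P hPp H (by rw [hH, hfac])
    have hPK : P ≤ K := normal_pgroup_le_of_full_ppart P hPp K (by rw [hK, hfac])
    have hHbar : Nat.card (H.map π) = m' := by
      have h1 := card_map_mk'_of_le P H hPH
      rw [hH, hk, hm', mul_comm (p ^ k) m'] at h1
      exact Nat.eq_of_mul_eq_mul_right (pow_pos hp.pos k) h1
    have hKbar : Nat.card (K.map π) = m' := by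
      have h1 := card_map_mk'_of_le P K hPK
      rw [hK, hk, hm', mul_comm (p ^ k) m'] at h1
      exact Nat.eq_of_mul_eq_mul_right (pow_pos hp.pos k) h1
    obtain ⟨q, hq⟩ := ih _ hQlt rfl m' n hQ hm'n (H.map π) (K.map π) hHbar hKbar
    obtain ⟨g, rfl⟩ := hπ q
    rw [← map_conj_smul] at hq
    have h1 := comap_map_eq π (MulAut.conj g • H)
    rw [hq, comap_map_eq] at h1
    simp only [π, QuotientGroup.ker_mk'] at h1
    have hP1 : P ≤ MulAut.conj g • H := by
      rw [← Normal.conj_smul_eq_self g P]
      exact pointwise_smul_le_pointwise_smul_iff.mpr hPH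
    rw [sup_eq_left.mpr hPK, sup_eq_left.mpr hP1] at h1
    exact ⟨g, h1.symm⟩
  · -- p divides n
    have hpm : ¬ p ∣ m := fun h => by
      have := Nat.Coprime.eq_one_of_dvd (hmn.symm.coprime_dvd_left hpn) h
      exact hp.one_lt.ne' this
    have hcop : (p ^ k).Coprime m := Nat.Coprime.pow_left k ((Nat.Prime.coprime_iff_not_dvd hp).mpr hpm)
    obtain ⟨n', hn'⟩ : p ^ k ∣ n := hcop.dvd_of_dvd_mul_left hpk_dvd
    have hQ : Nat.card (G ⧸ P) = m * n' := by
      have h1 : Nat.card (G ⧸ P) * p ^ k = (m * n') * p ^ k := by rw [hQcard, hn']; ring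
      exact Nat.eq_of_mul_eq_mul_right (pow_pos hp.pos k) h1
    have hmn' : m.Coprime n' := hmn.coprime_dvd_right ⟨p ^ k, by rw [hn']; ring⟩
    have hPH : P ⊓ H = ⊥ := by
      have : (Nat.card P).Coprime (Nat.card H) := by rw [hk, hH]; exact hcop
      exact (disjoint_of_coprime_natCard this).eq_bot
    have hPK : P ⊓ K = ⊥ := by
      have : (Nat.card P).Coprime (Nat.card K) := by rw [hk, hK]; exact hcop
      exact (disjoint_of_coprime_natCard this).eq_bot
    have hHbar : Nat.card (H.map π) = m := by rw [card_map_mk'_of_inf_eq_bot P H hPH, hH]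
    have hKbar : Nat.card (K.map π) = m := by rw [card_map_mk'_of_inf_eq_bot P K hPK, hK]
    obtain ⟨q, hq⟩ := ih _ hQlt rfl m n' hQ hmn' (H.map π) (K.map π) hHbar hKbar
    obtain ⟨g, rfl⟩ := hπ q
    rw [← map_conj_smul] at hq
    set H₁ : Subgroup G := MulAut.conj g • H with hH₁
    have hH₁card : Nat.card H₁ = m := by rw [hH₁, card_conj_smul, hH]
    have hPH₁ : P ⊓ H₁ = ⊥ := by
      have : (Nat.card P).Coprime (Nat.card H₁) := by rw [hk, hH₁card]; exact hcop
      exact (disjoint_of_coprime_natCard this).eq_bot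
    have hsup : P ⊔ H₁ = P ⊔ K := by
      have h1 := comap_map_eq π H₁
      rw [hq, comap_map_eq] at h1
      simp only [π, QuotientGroup.ker_mk'] at h1
      rw [sup_comm P H₁, sup_comm P K]; exact h1.symm
    set L : Subgroup G := P ⊔ K with hL
    have hcK := isComplement'_subgroupOf_sup hPK rfl
    have hcH := isComplement'_subgroupOf_sup hPH₁ hsup
    have hPL : P ≤ L := le_sup_left
    have hKL : K ≤ L := le_sup_right
    have hH₁L : H₁ ≤ L := by rw [← hsup]; exact le_sup_right
    have hcardPL : Nat.card (P.subgroupOf L) = Nat.card P :=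
      Nat.card_congr (subgroupOfEquivOfLe hPL).toEquiv
    have hcardKL : Nat.card (K.subgroupOf L) = Nat.card K :=
      Nat.card_congr (subgroupOfEquivOfLe hKL).toEquiv
    have hcardH₁L : Nat.card (H₁.subgroupOf L) = Nat.card H₁ :=
      Nat.card_congr (subgroupOfEquivOfLe hH₁L).toEquiv
    have hLcard : Nat.card L = m * p ^ k := by
      have := hcK.card_mul_card
      rw [hcardPL, hcardKL, hk, hK] at this
      rw [← this]; ring
    by_cases hLtop : L = ⊤
    · -- P is a normal Hall subgroup with complements H₁ and K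
      have hcardG : Nat.card G = p ^ k * m := by
        have : Nat.card L = Nat.card G := by
          rw [hLtop]; exact Nat.card_congr Subgroup.topEquiv.toEquiv
        rw [← this, hLcard]; ring
      have hc1 : IsComplement' P H₁ := by
        apply isComplement'_of_coprime
        · rw [hk, hH₁card, hcardG]
        · rw [hk, hH₁card]; exact hcop
      have hc2 : IsComplement' P K := by
        apply isComplement'_of_coprime
        · rw [hk, hK, hcardG]
        · rw [hk, hK]; exact hcop
      have hPcop : (Nat.card P).Coprime P.index := by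
        rw [hc2.symm.index_eq_card, hk, hK]; exact hcop
      have hPsolv : Group.IsSolvable P := isSolvable_subgroup P
      obtain ⟨x, hx⟩ := sz_conj P hPcop (Or.inl hPsolv) H₁ K hc1 hc2
      refine ⟨x * g, ?_⟩
      rw [map_mul, mul_smul, ← hH₁, hx]
    · have hLlt : Nat.card L < n₀ := by rw [← hn₀]; exact card_lt_of_ne_top hLtop
      have hLsolv : Group.IsSolvable L := isSolvable_subgroup L
      obtain ⟨l, hl⟩ := ih _ hLlt rfl m (p ^ k) hLcard hcop.symm (H₁.subgroupOf L)
        (K.subgroupOf L) (by rw [hcardH₁L, hH₁card]) (by rw [hcardKL, hK])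
      have hl' := conj_of_subgroupOf l hl
      rw [inf_eq_left.mpr hH₁L, inf_eq_left.mpr hKL] at hl'
      refine ⟨(l : G) * g, ?_⟩
      rw [map_mul, mul_smul, ← hH₁, hl']

end Cfsg.Agent.Lead
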