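import Mathlib
import Cfsg.Prelude.Def_OddOrderLocal
import Cfsg.Agent.Lead.Hall
import Cfsg.Agent.Lead.CoprimeSylow

set_option autoImplicit false
open Pointwise

/-! Hall `π`-subgroups in relative form (`Cfsg.IsPiHallOf π H G`, `H ≤ G ≤ X`). -/

namespace Cfsg.Agent.Lead

open Subgroup

/-- `n` is a `π`-number. -/
def IsPiNum (π : Set ℕ) (n : ℕ) : Prop := ∀ p : ℕ, p.Prime → p ∣ n → p ∈ π

theorem IsPiNum.mul {π : Set ℕ} {a b : ℕ} (ha : IsPiNum π a) (hb : IsPiNum π b) :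
    IsPiNum π (a * b) := by
  intro p hp hd
  rcases (hp.dvd_mul).mp hd with h | h
  · exact ha p hp h
  · exact hb p hp h

theorem IsPiNum.of_dvd {π : Set ℕ} {a b : ℕ} (hb : IsPiNum π b) (h : a ∣ b) : IsPiNum π a :=
  fun p hp hd => hb p hp (hd.trans h)

theorem isPiNum_one (π : Set ℕ) : IsPiNum π 1 := by
  intro p hp hd
  exact absurd (Nat.dvd_one.mp hd) hp.one_lt.ne'

theorem IsPiNum.coprime {π : Set ℕ} {a b : ℕ} (ha : IsPiNum π a) (hb : IsPiNum πᶜ b) :
    a.Coprime b :=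
  Nat.coprime_of_dvd fun p hp h1 h2 => hb p hp h2 (ha p hp h1)

theorem isPiNum_pow_of_mem {π : Set ℕ} {p : ℕ} (hp : p.Prime) (h : p ∈ π) (k : ℕ) :
    IsPiNum π (p ^ k) := by
  intro q hq hd
  have := (Nat.prime_dvd_prime_iff_eq hq hp).mp (hq.dvd_of_dvd_pow hd)
  rw [this]; exact h

/-- Every positive integer splits as a `π`-number times a `π'`-number. -/
theorem exists_pi_split (π : Set ℕ) (N : ℕ) (hN : N ≠ 0) :
    ∃ m n : ℕ, N = m * n ∧ IsPiNum π m ∧ IsPiNum πᶜ n := by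
  induction N using Nat.recOnMul with
  | zero => exact absurd rfl hN
  | one => exact ⟨1, 1, rfl, isPiNum_one _, isPiNum_one _⟩
  | prime p hp =>
    by_cases h : p ∈ π
    · exact ⟨p, 1, (mul_one p).symm, by simpa using isPiNum_pow_of_mem hp h 1, isPiNum_one _⟩
    · exact ⟨1, p, (one_mul p).symm, isPiNum_one _, by simpa using isPiNum_pow_of_mem hp (π := πᶜ) h 1⟩
  | mul a b iha ihb =>
    obtain ⟨m₁, n₁, h1, hm₁, hn₁⟩ := iha (fun h => hN (by rw [h, zero_mul]))
    obtain ⟨m₂, n₂, h2, hm₂, hn₂⟩ := ihb (fun h => hN (by rw [h, mul_zero]))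
    exact ⟨m₁ * m₂, n₁ * n₂, by rw [h1, h2]; ring, hm₁.mul hm₂, hn₁.mul hn₂⟩

/-- Uniqueness of the `π`-part. -/
theorem pi_split_unique {π : Set ℕ} {m n m' n' : ℕ} (h : m * n = m' * n')
    (hm : IsPiNum π m) (hn : IsPiNum πᶜ n) (hm' : IsPiNum π m') (hn' : IsPiNum πᶜ n') :
    m = m' := by
  apply Nat.dvd_antisymm
  · exact (hm.coprime hn').dvd_of_dvd_mul_right ⟨n, h.symm⟩
  · exact (hm'.coprime hn).dvd_of_dvd_mul_right ⟨n', h⟩

variable {X : Type*} [Group X]

theorem relIndex_mul_card' {H K : Subgroup X} (h : H ≤ K) :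
    H.relIndex K * Nat.card H = Nat.card K := by
  have := relIndex_mul_relIndex ⊥ H K bot_le h
  rw [relIndex_bot_left, relIndex_bot_left] at this
  rw [mul_comm]; exact this

theorem isPiHallOf_iff {π : Set ℕ} {H G : Subgroup X} :
    Cfsg.IsPiHallOf π H G ↔ H ≤ G ∧ IsPiNum π (Nat.card H) ∧ IsPiNum πᶜ (H.relIndex G) := by
  unfold Cfsg.IsPiHallOf IsPiNum
  constructor
  · rintro ⟨h1, h2, h3⟩
    exact ⟨h1, h2, fun p hp hd hpi => h3 p hp hpi hd⟩
  · rintro ⟨h1, h2, h3⟩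
    exact ⟨h1, h2, fun p hp hpi hd => h3 p hp hd hpi⟩

/-- Characterisation of Hall `π`-subgroups by their order. -/
theorem isPiHallOf_iff_card [Finite X] {π : Set ℕ} {H G : Subgroup X} {m n : ℕ}
    (hG : Nat.card G = m * n) (hm : IsPiNum π m) (hn : IsPiNum πᶜ n) :
    Cfsg.IsPiHallOf π H G ↔ H ≤ G ∧ Nat.card H = m := by
  rw [isPiHallOf_iff]
  constructor
  · rintro ⟨h1, h2, h3⟩
    refine ⟨h1, ?_⟩
    have := relIndex_mul_card' h1
    rw [hG, mul_comm] at this
    exact pi_split_unique this h2 h3 hm hn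
  · rintro ⟨h1, h2⟩
    refine ⟨h1, h2 ▸ hm, ?_⟩
    have := relIndex_mul_card' h1
    rw [hG, h2, mul_comm] at this
    have hm0 : 0 < m := by
      rcases Nat.eq_zero_or_pos m with h | h
      · rw [h, zero_mul] at hG; exact absurd hG Nat.card_pos.ne'
      · exact h
    rw [Nat.eq_of_mul_eq_mul_left hm0 this]
    exact hn


theorem conj_smul_eq_of_mem_normalizer {g : X} {G : Subgroup X}
    (hg : g ∈ normalizer (G : Set X)) : MulAut.conj g • G = G :=
  (conj_smul_eq_self_iff_mem_normalizer g G).mpr hg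

theorem isPiHallOf_conj {π : Set ℕ} {H G : Subgroup X} {g : X}
    (hg : g ∈ normalizer (G : Set X)) (h : Cfsg.IsPiHallOf π H G) :
    Cfsg.IsPiHallOf π (MulAut.conj g • H) G := by
  rw [isPiHallOf_iff] at h ⊢
  obtain ⟨h1, h2, h3⟩ := h
  have hG := conj_smul_eq_of_mem_normalizer hg
  refine ⟨?_, ?_, ?_⟩
  · rw [← hG]; exact pointwise_smul_le_pointwise_smul_iff.mpr h1
  · rw [card_conj_smul]; exact h2
  · have : (MulAut.conj g • H).relIndex G = H.relIndex G := by
      conv_lhs => rw [← hG]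
      exact relIndex_pointwise_smul _ _ _
    rw [this]; exact h3

/-- Hall: in a solvable subgroup `G`, every `π`-subgroup lies in a Hall `π`-subgroup of `G`. -/
theorem exists_isPiHallOf_ge [Finite X] {π : Set ℕ} {G : Subgroup X} (hsolv : Group.IsSolvable G)
    {U : Subgroup X} (hUG : U ≤ G) (hU : IsPiNum π (Nat.card U)) :
    ∃ H, Cfsg.IsPiHallOf π H G ∧ U ≤ H := by
  obtain ⟨m, n, hmn, hm, hn⟩ := exists_pi_split π (Nat.card G) Nat.card_pos.ne'
  have hcop : m.Coprime n := hm.coprime hn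
  have hUc : (Nat.card (U.subgroupOf G)).Coprime n := by
    rw [Nat.card_congr (subgroupOfEquivOfLe hUG).toEquiv]; exact hU.coprime hn
  obtain ⟨H, hH, hUH⟩ := hall_exists_ge_aux (Nat.card G) rfl m n hmn hcop (U.subgroupOf G) hUc
  refine ⟨H.map G.subtype, ?_, ?_⟩
  · rw [isPiHallOf_iff_card hmn hm hn]
    refine ⟨map_subtype_le H, ?_⟩
    rw [← hH]; exact Nat.card_congr (H.equivMapOfInjective _ G.subtype_injective).symm.toEquiv
  · have := map_mono (f := G.subtype) hUH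
    rwa [map_subgroupOf_eq_of_le hUG] at this

theorem exists_isPiHallOf [Finite X] (π : Set ℕ) {G : Subgroup X} (hsolv : Group.IsSolvable G) :
    ∃ H, Cfsg.IsPiHallOf π H G := by
  obtain ⟨H, hH, -⟩ := exists_isPiHallOf_ge (π := π) hsolv (bot_le : (⊥ : Subgroup X) ≤ G)
    (by rw [card_bot]; exact isPiNum_one π)
  exact ⟨H, hH⟩

/-- Hall: Hall `π`-subgroups of a solvable subgroup `G` are conjugate in `G`. -/
theorem isPiHallOf_trans [Finite X] {π : Set ℕ} {G : Subgroup X} (hsolv : Group.IsSolvable G)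
    {H₁ H₂ : Subgroup X} (h1 : Cfsg.IsPiHallOf π H₁ G) (h2 : Cfsg.IsPiHallOf π H₂ G) :
    ∃ g ∈ G, MulAut.conj g • H₁ = H₂ := by
  obtain ⟨m, n, hmn, hm, hn⟩ := exists_pi_split π (Nat.card G) Nat.card_pos.ne'
  rw [isPiHallOf_iff_card hmn hm hn] at h1 h2
  have hc1 : Nat.card (H₁.subgroupOf G) = m := by
    rw [Nat.card_congr (subgroupOfEquivOfLe h1.1).toEquiv]; exact h1.2
  have hc2 : Nat.card (H₂.subgroupOf G) = m := by
    rw [Nat.card_congr (subgroupOfEquivOfLe h2.1).toEquiv]; exact h2.2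
  obtain ⟨g, hg⟩ := hall_conj_aux (Nat.card G) rfl m n hmn (hm.coprime hn) _ _ hc1 hc2
  refine ⟨g, g.2, ?_⟩
  have := conj_of_subgroupOf g hg
  rwa [inf_eq_left.mpr h1.1, inf_eq_left.mpr h2.1] at this

/-- The set of Hall `π`-subgroups of `G`. -/
def hallSet (π : Set ℕ) (G : Subgroup X) : Set (Subgroup X) := {H | Cfsg.IsPiHallOf π H G}

/-- Coprime action on a solvable group: an `A`-invariant Hall `π`-subgroup exists. -/
theorem coprime_exists_invariant_hall [Finite X] (A G : Subgroup X)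
    (hAG : A ≤ normalizer (G : Set X)) (hcop : (Nat.card A).Coprime (Nat.card G))
    (hsolv : Group.IsSolvable G) (π : Set ℕ) :
    ∃ H, Cfsg.IsPiHallOf π H G ∧ A ≤ normalizer (H : Set X) := by
  let _ := conjSubgroupAction X
  have hGA : G ⊔ A ≤ normalizer (G : Set X) := sup_le le_normalizer hAG
  have h := glauberman_rel G A hAG hcop (Or.inr hsolv) (hallSet π G)
    (fun g hg H hH => isPiHallOf_conj (hGA hg) hH)
    (fun H hH H' hH' => isPiHallOf_trans hsolv hH hH')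
  obtain ⟨H, hH, hfix⟩ := h.1 (exists_isPiHallOf π hsolv)
  refine ⟨H, hH, fun a ha => ?_⟩
  rw [← conj_smul_eq_self_iff_mem_normalizer]
  exact hfix a ha

/-- Coprime action on a solvable group: `A`-invariant Hall `π`-subgroups are conjugate
under `C_G(A)`. -/
theorem coprime_invariant_hall_conj [Finite X] (A G : Subgroup X)
    (hAG : A ≤ normalizer (G : Set X)) (hcop : (Nat.card A).Coprime (Nat.card G))
    (hsolv : Group.IsSolvable G) (π : Set ℕ) {H₁ H₂ : Subgroup X}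
    (h1 : Cfsg.IsPiHallOf π H₁ G) (hA1 : A ≤ normalizer (H₁ : Set X))
    (h2 : Cfsg.IsPiHallOf π H₂ G) (hA2 : A ≤ normalizer (H₂ : Set X)) :
    ∃ c ∈ G ⊓ centralizer (A : Set X), MulAut.conj c • H₁ = H₂ := by
  let _ := conjSubgroupAction X
  have hGA : G ⊔ A ≤ normalizer (G : Set X) := sup_le le_normalizer hAG
  have h := glauberman_rel G A hAG hcop (Or.inr hsolv) (hallSet π G)
    (fun g hg H hH => isPiHallOf_conj (hGA hg) hH)
    (fun H hH H' hH' => isPiHallOf_trans hsolv hH hH')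
  exact h.2 H₁ h1 H₂ h2
    (fun a ha => (conj_smul_eq_self_iff_mem_normalizer a _).mpr (hA1 ha))
    (fun a ha => (conj_smul_eq_self_iff_mem_normalizer a _).mpr (hA2 ha))

end Cfsg.Agent.Lead
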