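import Mathlib
import Cfsg.Agent.Lead.PiHall

set_option autoImplicit false
open Pointwise

/-! Hall theory for classes of `π`-separable groups whose `π'`-factors are solvable
(e.g. solvable groups, `p`-solvable groups with `π = p'`). -/

namespace Cfsg.Agent.Lead

open Subgroup

universe u

/-- Schur–Zassenhaus with domination: a normal solvable Hall subgroup `P` has a complement
containing any given subgroup of order coprime to `|P|`. -/
theorem sz_exists_complement_ge {G : Type u} [Group G] [Finite G] (P : Subgroup G) [P.Normal]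
    (hP : (Nat.card P).Coprime P.index) (hsolv : Group.IsSolvable P)
    (K : Subgroup G) (hK : (Nat.card P).Coprime (Nat.card K)) :
    ∃ H : Subgroup G, IsComplement' P H ∧ K ≤ H := by
  obtain ⟨H₀, hH₀⟩ := exists_right_complement'_of_coprime hP
  have hPK : P ⊓ K = ⊥ := (disjoint_of_coprime_natCard hK).eq_bot
  set U : Subgroup G := P ⊔ K with hU
  have hPU : P ≤ U := le_sup_left
  have hKU : K ≤ U := le_sup_right
  have hcK := isComplement'_subgroupOf_sup hPK rfl
  have hcH := isComplement'_subgroupOf_of_left_le hH₀ hPU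
  have hcardPU : Nat.card (P.subgroupOf U) = Nat.card P :=
    Nat.card_congr (subgroupOfEquivOfLe hPU).toEquiv
  have hcardKU : Nat.card (K.subgroupOf U) = Nat.card K :=
    Nat.card_congr (subgroupOfEquivOfLe hKU).toEquiv
  have hcopU : (Nat.card (P.subgroupOf U)).Coprime (P.subgroupOf U).index := by
    rw [hcK.symm.index_eq_card, hcardPU, hcardKU]; exact hK
  have hsolvU : Group.IsSolvable (P.subgroupOf U) ∨
      Group.IsSolvable (↥U ⧸ P.subgroupOf U) :=
    Or.inl (Group.isSolvable_of_isSolvable_injective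
      (f := (subgroupOfEquivOfLe hPU).toMonoidHom) (subgroupOfEquivOfLe hPU).injective)
  obtain ⟨u, hu⟩ := sz_conj (P.subgroupOf U) hcopU hsolvU (H₀.subgroupOf U)
    (K.subgroupOf U) hcH hcK
  have hu' := conj_of_subgroupOf u hu
  rw [inf_eq_left.mpr hKU] at hu'
  refine ⟨MulAut.conj (u : G) • H₀, isComplement'_conj_smul hH₀ _, ?_⟩
  rw [← hu']
  exact pointwise_smul_le_pointwise_smul_iff.mpr inf_le_left

/-- A class of finite groups in which every nontrivial member has a nontrivial normal subgroup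
that is a `π`-group or a solvable `π'`-group, with quotient again in the class. -/
def PiSepClass (π : Set ℕ) (C : ∀ (G : Type u) [Group G], Prop) : Prop :=
  ∀ (G : Type u) [Group G] [Finite G] [Nontrivial G], C G →
    ∃ N : Subgroup G, ∃ _ : N.Normal, N ≠ ⊥ ∧ C (G ⧸ N) ∧
      (IsPiNum π (Nat.card N) ∨ (IsPiNum πᶜ (Nat.card N) ∧ Group.IsSolvable N))

theorem pos_of_card_eq_mul {G : Type*} [Group G] [Finite G] {m n : ℕ}
    (hG : Nat.card G = m * n) : 0 < m ∧ 0 < n := by
  constructor
  · rcases Nat.eq_zero_or_pos m with h | h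
    · rw [h, zero_mul] at hG; exact absurd hG Nat.card_pos.ne'
    · exact h
  · rcases Nat.eq_zero_or_pos n with h | h
    · rw [h, mul_zero] at hG; exact absurd hG Nat.card_pos.ne'
    · exact h

/-- Generic Hall theorem: existence and domination. -/
theorem hallGen_exists_ge {π : Set ℕ} {C : ∀ (G : Type u) [Group G], Prop}
    (hC : PiSepClass π C) (n₀ : ℕ) :
    ∀ {G : Type u} [Group G] [Finite G], C G → Nat.card G = n₀ →
    ∀ (m n : ℕ), Nat.card G = m * n → IsPiNum π m → IsPiNum πᶜ n →
    ∀ K : Subgroup G, IsPiNum π (Nat.card K) → ∃ H : Subgroup G, Nat.card H = m ∧ K ≤ H := by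
  induction n₀ using Nat.strong_induction_on with
  | _ n₀ ih =>
  intro G _ _ hCG hn₀ m n hG hm hn K hK
  obtain ⟨hmpos, hnpos⟩ := pos_of_card_eq_mul hG
  have hmn : m.Coprime n := hm.coprime hn
  by_cases htriv : Subsingleton G
  · refine ⟨⊥, ?_, ?_⟩
    · rw [card_bot]
      have : Nat.card G = 1 := Nat.card_eq_one_iff_unique.mpr ⟨htriv, ⟨1⟩⟩
      rw [this] at hG
      exact (Nat.eq_one_of_mul_eq_one_right hG.symm).symm
    · intro x _; rw [mem_bot]; exact Subsingleton.elim _ _
  have hnt : Nontrivial G := not_subsingleton_iff_nontrivial.mp htriv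
  obtain ⟨N, hNn, hNne, hCQ, hN⟩ := hC G hCG
  let φ := QuotientGroup.mk' N
  have hφ : Function.Surjective φ := QuotientGroup.mk'_surjective N
  have hQcard : Nat.card (G ⧸ N) * Nat.card N = m * n := by
    rw [← hG]; exact (card_eq_card_quotient_mul_card_subgroup N).symm
  have hQlt : Nat.card (G ⧸ N) < n₀ := by
    rw [← hn₀, card_eq_card_quotient_mul_card_subgroup N]
    have h1 : 1 < Nat.card N := N.one_lt_card_iff_ne_bot.mpr hNne
    exact lt_mul_of_one_lt_right Nat.card_pos h1
  have hN_dvd : Nat.card N ∣ m * n := by rw [← hG]; exact card_subgroup_dvd_card N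
  have hKbar : IsPiNum π (Nat.card (K.map φ)) := hK.of_dvd (card_map_dvd K φ)
  have hNpos : 0 < Nat.card N := Nat.card_pos
  rcases hN with hNπ | ⟨hNπ', hNsolv⟩
  · -- `N` is a `π`-group
    obtain ⟨m', hm'⟩ : Nat.card N ∣ m := (hNπ.coprime hn).dvd_of_dvd_mul_right hN_dvd
    have hQ : Nat.card (G ⧸ N) = m' * n := by
      have h1 : Nat.card (G ⧸ N) * Nat.card N = (m' * n) * Nat.card N := by
        rw [hQcard, hm']; ring
      exact Nat.eq_of_mul_eq_mul_right hNpos h1
    have hm'π : IsPiNum π m' := hm.of_dvd ⟨Nat.card N, by rw [hm']; ring⟩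
    obtain ⟨Hbar, hHbar, hKH⟩ := ih _ hQlt hCQ rfl m' n hQ hm'π hn (K.map φ) hKbar
    refine ⟨Hbar.comap φ, ?_, ?_⟩
    · rw [card_comap_mk', hHbar, hm']; ring
    · exact (le_comap_map φ K).trans (comap_mono hKH)
  · -- `N` is a solvable `π'`-group
    obtain ⟨n', hn'⟩ : Nat.card N ∣ n := (hm.coprime hNπ').symm.dvd_of_dvd_mul_left hN_dvd
    have hQ : Nat.card (G ⧸ N) = m * n' := by
      have h1 : Nat.card (G ⧸ N) * Nat.card N = (m * n') * Nat.card N := by
        rw [hQcard, hn']; ring
      exact Nat.eq_of_mul_eq_mul_right hNpos h1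
    have hn'π : IsPiNum πᶜ n' := hn.of_dvd ⟨Nat.card N, by rw [hn']; ring⟩
    obtain ⟨Hbar, hHbar, hKH⟩ := ih _ hQlt hCQ rfl m n' hQ hm hn'π (K.map φ) hKbar
    set L : Subgroup G := Hbar.comap φ with hL
    have hLcard : Nat.card L = m * Nat.card N := by rw [hL, card_comap_mk', hHbar]
    have hKL : K ≤ L := (le_comap_map φ K).trans (comap_mono hKH)
    have hNL : N ≤ L := by
      have := ker_le_comap φ Hbar
      rwa [QuotientGroup.ker_mk'] at this
    -- Schur–Zassenhaus inside `L`
    have hcardNL : Nat.card (N.subgroupOf L) = Nat.card N :=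
      Nat.card_congr (subgroupOfEquivOfLe hNL).toEquiv
    have hcardKL : Nat.card (K.subgroupOf L) = Nat.card K :=
      Nat.card_congr (subgroupOfEquivOfLe hKL).toEquiv
    have hidx : (N.subgroupOf L).index = m := by
      have h1 := (N.subgroupOf L).card_mul_index
      rw [hcardNL, hLcard, mul_comm] at h1
      exact Nat.eq_of_mul_eq_mul_right hNpos h1
    have hcopL : (Nat.card (N.subgroupOf L)).Coprime (N.subgroupOf L).index := by
      rw [hcardNL, hidx]; exact (hm.coprime hNπ').symm
    have hsolvL : Group.IsSolvable (N.subgroupOf L) :=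
      Group.isSolvable_of_isSolvable_injective
        (f := (subgroupOfEquivOfLe hNL).toMonoidHom) (subgroupOfEquivOfLe hNL).injective
    have hKcop : (Nat.card (N.subgroupOf L)).Coprime (Nat.card (K.subgroupOf L)) := by
      rw [hcardNL, hcardKL]; exact (hK.coprime hNπ').symm
    obtain ⟨H', hH', hKH'⟩ := sz_exists_complement_ge (N.subgroupOf L) hcopL hsolvL
      (K.subgroupOf L) hKcop
    refine ⟨H'.map L.subtype, ?_, ?_⟩
    · rw [Nat.card_congr (H'.equivMapOfInjective _ L.subtype_injective).symm.toEquiv,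
        ← hH'.symm.index_eq_card, hidx]
    · have := map_mono (f := L.subtype) hKH'
      rwa [map_subgroupOf_eq_of_le hKL] at this


/-- A normal `π`-subgroup lies in every Hall `π`-subgroup. -/
theorem normal_pi_le_hall {G : Type u} [Group G] [Finite G] {π : Set ℕ} {m n : ℕ}
    (hG : Nat.card G = m * n) (hm : IsPiNum π m) (hn : IsPiNum πᶜ n)
    (N : Subgroup G) [N.Normal] (hN : IsPiNum π (Nat.card N))
    (H : Subgroup G) (hH : Nat.card H = m) : N ≤ H := by
  let φ := QuotientGroup.mk' N
  have hNpos : 0 < Nat.card N := Nat.card_pos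
  have hN_dvd : Nat.card N ∣ m * n := by rw [← hG]; exact card_subgroup_dvd_card N
  obtain ⟨m', hm'⟩ : Nat.card N ∣ m := (hN.coprime hn).dvd_of_dvd_mul_right hN_dvd
  have hQ : Nat.card (G ⧸ N) = m' * n := by
    have h0 : Nat.card (G ⧸ N) * Nat.card N = m * n := by
      rw [← hG]; exact (card_eq_card_quotient_mul_card_subgroup N).symm
    have h1 : Nat.card (G ⧸ N) * Nat.card N = (m' * n) * Nat.card N := by
      rw [h0, hm']; ring
    exact Nat.eq_of_mul_eq_mul_right hNpos h1
  have h1 : Nat.card (H.map φ) ∣ m := hH ▸ card_map_dvd H φ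
  have h2 : Nat.card (H.map φ) ∣ m' * n := by rw [← hQ]; exact card_subgroup_dvd_card _
  have h3 : Nat.card (H.map φ) ∣ m' := ((hm.of_dvd h1).coprime hn).dvd_of_dvd_mul_right h2
  have h4 : Nat.card (H ⊔ N : Subgroup G) = Nat.card (H.map φ) * Nat.card N := by
    have := card_comap_mk' N (H.map φ)
    rwa [comap_map_eq, QuotientGroup.ker_mk'] at this
  have h5 : Nat.card (H ⊔ N : Subgroup G) ∣ m := by
    rw [h4, hm', mul_comm]; exact Nat.mul_dvd_mul_left _ h3
  have hmpos : 0 < m := (pos_of_card_eq_mul hG).1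
  have h6 : Nat.card (H ⊔ N : Subgroup G) ≤ Nat.card H := by
    rw [hH]; exact Nat.le_of_dvd hmpos h5
  have h7 : H = H ⊔ N := eq_of_le_of_card_ge le_sup_left h6
  rw [h7]; exact le_sup_right

/-- Generic Hall theorem: conjugacy. -/
theorem hallGen_conj {π : Set ℕ} {C : ∀ (G : Type u) [Group G], Prop}
    (hC : PiSepClass π C) (n₀ : ℕ) :
    ∀ {G : Type u} [Group G] [Finite G], C G → Nat.card G = n₀ →
    ∀ (m n : ℕ), Nat.card G = m * n → IsPiNum π m → IsPiNum πᶜ n →
    ∀ H K : Subgroup G, Nat.card H = m → Nat.card K = m → ∃ g : G, MulAut.conj g • H = K := by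
  induction n₀ using Nat.strong_induction_on with
  | _ n₀ ih =>
  intro G _ _ hCG hn₀ m n hG hm hn H K hH hK
  obtain ⟨hmpos, hnpos⟩ := pos_of_card_eq_mul hG
  have hmn : m.Coprime n := hm.coprime hn
  by_cases htriv : Subsingleton G
  · refine ⟨1, ?_⟩
    ext x
    have h1 : x = 1 := Subsingleton.elim _ _
    rw [h1]
    simp [one_mem]
  have hnt : Nontrivial G := not_subsingleton_iff_nontrivial.mp htriv
  obtain ⟨N, hNn, hNne, hCQ, hN⟩ := hC G hCG
  let φ := QuotientGroup.mk' N
  have hφ : Function.Surjective φ := QuotientGroup.mk'_surjective N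
  have hQcard : Nat.card (G ⧸ N) * Nat.card N = m * n := by
    rw [← hG]; exact (card_eq_card_quotient_mul_card_subgroup N).symm
  have hQlt : Nat.card (G ⧸ N) < n₀ := by
    rw [← hn₀, card_eq_card_quotient_mul_card_subgroup N]
    have h1 : 1 < Nat.card N := N.one_lt_card_iff_ne_bot.mpr hNne
    exact lt_mul_of_one_lt_right Nat.card_pos h1
  have hN_dvd : Nat.card N ∣ m * n := by rw [← hG]; exact card_subgroup_dvd_card N
  have hNpos : 0 < Nat.card N := Nat.card_pos
  rcases hN with hNπ | ⟨hNπ', hNsolv⟩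
  · -- `N` is a `π`-group: `N ≤ H`, `N ≤ K`
    obtain ⟨m', hm'⟩ : Nat.card N ∣ m := (hNπ.coprime hn).dvd_of_dvd_mul_right hN_dvd
    have hQ : Nat.card (G ⧸ N) = m' * n := by
      have h1 : Nat.card (G ⧸ N) * Nat.card N = (m' * n) * Nat.card N := by
        rw [hQcard, hm']; ring
      exact Nat.eq_of_mul_eq_mul_right hNpos h1
    have hm'π : IsPiNum π m' := hm.of_dvd ⟨Nat.card N, by rw [hm']; ring⟩
    have hNH : N ≤ H := normal_pi_le_hall hG hm hn N hNπ H hH
    have hNK : N ≤ K := normal_pi_le_hall hG hm hn N hNπ K hK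
    have hHbar : Nat.card (H.map φ) = m' := by
      have h1 := card_map_mk'_of_le N H hNH
      rw [hH, hm', mul_comm (Nat.card N) m'] at h1
      exact Nat.eq_of_mul_eq_mul_right hNpos h1
    have hKbar : Nat.card (K.map φ) = m' := by
      have h1 := card_map_mk'_of_le N K hNK
      rw [hK, hm', mul_comm (Nat.card N) m'] at h1
      exact Nat.eq_of_mul_eq_mul_right hNpos h1
    obtain ⟨q, hq⟩ := ih _ hQlt hCQ rfl m' n hQ hm'π hn (H.map φ) (K.map φ) hHbar hKbar
    obtain ⟨g, rfl⟩ := hφ q
    rw [← map_conj_smul] at hq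
    have h1 := comap_map_eq φ (MulAut.conj g • H)
    rw [hq, comap_map_eq] at h1
    simp only [φ, QuotientGroup.ker_mk'] at h1
    have hN1 : N ≤ MulAut.conj g • H := by
      rw [← Normal.conj_smul_eq_self g N]
      exact pointwise_smul_le_pointwise_smul_iff.mpr hNH
    rw [sup_eq_left.mpr hNK, sup_eq_left.mpr hN1] at h1
    exact ⟨g, h1.symm⟩
  · -- `N` is a solvable `π'`-group
    obtain ⟨n', hn'⟩ : Nat.card N ∣ n := (hm.coprime hNπ').symm.dvd_of_dvd_mul_left hN_dvd
    have hQ : Nat.card (G ⧸ N) = m * n' := by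
      have h1 : Nat.card (G ⧸ N) * Nat.card N = (m * n') * Nat.card N := by
        rw [hQcard, hn']; ring
      exact Nat.eq_of_mul_eq_mul_right hNpos h1
    have hn'π : IsPiNum πᶜ n' := hn.of_dvd ⟨Nat.card N, by rw [hn']; ring⟩
    have hcop : (Nat.card N).Coprime m := (hm.coprime hNπ').symm
    have hNH : N ⊓ H = ⊥ := by
      have : (Nat.card N).Coprime (Nat.card H) := by rw [hH]; exact hcop
      exact (disjoint_of_coprime_natCard this).eq_bot
    have hNK : N ⊓ K = ⊥ := by
      have : (Nat.card N).Coprime (Nat.card K) := by rw [hK]; exact hcop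
      exact (disjoint_of_coprime_natCard this).eq_bot
    have hHbar : Nat.card (H.map φ) = m := by rw [card_map_mk'_of_inf_eq_bot N H hNH, hH]
    have hKbar : Nat.card (K.map φ) = m := by rw [card_map_mk'_of_inf_eq_bot N K hNK, hK]
    obtain ⟨q, hq⟩ := ih _ hQlt hCQ rfl m n' hQ hm hn'π (H.map φ) (K.map φ) hHbar hKbar
    obtain ⟨g, rfl⟩ := hφ q
    rw [← map_conj_smul] at hq
    set H₁ : Subgroup G := MulAut.conj g • H with hH₁
    have hH₁card : Nat.card H₁ = m := by rw [hH₁, card_conj_smul, hH]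
    have hNH₁ : N ⊓ H₁ = ⊥ := by
      have : (Nat.card N).Coprime (Nat.card H₁) := by rw [hH₁card]; exact hcop
      exact (disjoint_of_coprime_natCard this).eq_bot
    have hsup : N ⊔ H₁ = N ⊔ K := by
      have h1 := comap_map_eq φ H₁
      rw [hq, comap_map_eq] at h1
      simp only [φ, QuotientGroup.ker_mk'] at h1
      rw [sup_comm N H₁, sup_comm N K]; exact h1.symm
    set L : Subgroup G := N ⊔ K with hL
    have hcK := isComplement'_subgroupOf_sup hNK rfl
    have hcH := isComplement'_subgroupOf_sup hNH₁ hsup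
    have hNL : N ≤ L := le_sup_left
    have hKL : K ≤ L := le_sup_right
    have hH₁L : H₁ ≤ L := by rw [← hsup]; exact le_sup_right
    have hcardNL : Nat.card (N.subgroupOf L) = Nat.card N :=
      Nat.card_congr (subgroupOfEquivOfLe hNL).toEquiv
    have hcardKL : Nat.card (K.subgroupOf L) = Nat.card K :=
      Nat.card_congr (subgroupOfEquivOfLe hKL).toEquiv
    have hcopL : (Nat.card (N.subgroupOf L)).Coprime (N.subgroupOf L).index := by
      rw [hcK.symm.index_eq_card, hcardNL, hcardKL, hK]; exact hcop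
    have hsolvL : Group.IsSolvable (N.subgroupOf L) ∨
        Group.IsSolvable (↥L ⧸ N.subgroupOf L) :=
      Or.inl (Group.isSolvable_of_isSolvable_injective
        (f := (subgroupOfEquivOfLe hNL).toMonoidHom) (subgroupOfEquivOfLe hNL).injective)
    obtain ⟨l, hl⟩ := sz_conj (N.subgroupOf L) hcopL hsolvL (H₁.subgroupOf L)
      (K.subgroupOf L) hcH hcK
    have hl' := conj_of_subgroupOf l hl
    rw [inf_eq_left.mpr hH₁L, inf_eq_left.mpr hKL] at hl'
    refine ⟨(l : G) * g, ?_⟩
    rw [map_mul, mul_smul, ← hH₁, hl']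

end Cfsg.Agent.Lead
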