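import Mathlib
import Cfsg.Prelude.Def_Local
import Cfsg.Agent.Lead.HallGen

set_option autoImplicit false
open Pointwise

/-! `p`-solvable groups (`Cfsg.IsPSolvable`): quotients, and Hall `p'`-subgroups. -/

namespace Cfsg.Agent.Lead

open Subgroup

universe u

theorem relIndex_map_mk'_dvd {G : Type*} [Group G] (N : Subgroup G) [N.Normal]
    {A B : Subgroup G} [A.Normal] (hAB : A ≤ B) :
    (A.map (QuotientGroup.mk' N)).relIndex (B.map (QuotientGroup.mk' N)) ∣ A.relIndex B := by
  rw [relIndex_map_map, QuotientGroup.ker_mk']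
  have h1 : B ⊔ N = B ⊔ (A ⊔ N) := by
    rw [← sup_assoc, sup_eq_left.mpr hAB]
  have h2 : (A ⊔ N).relIndex (B ⊔ N) = (A ⊔ N).relIndex B := by
    rw [h1]; exact relIndex_sup_right B (A ⊔ N)
  rw [h2]
  exact relIndex_dvd_of_le_left B le_sup_left

theorem isPSolvable_quotient {G : Type*} [Group G] {p : ℕ} [hp : Fact p.Prime]
    (hG : Cfsg.IsPSolvable p G) (N : Subgroup G) [N.Normal] : Cfsg.IsPSolvable p (G ⧸ N) := by
  obtain ⟨n, H, h0, hlast, hmono, hnorm, hfac⟩ := hG
  refine ⟨n, fun i => (H i).map (QuotientGroup.mk' N), ?_, ?_, ?_, ?_, ?_⟩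
  · simp only [h0, Subgroup.map_bot]
  · simp only [hlast]
    exact map_top_of_surjective _ (QuotientGroup.mk'_surjective N)
  · intro i j hij
    exact map_mono (hmono hij)
  · intro i
    exact (hnorm i).map _ (QuotientGroup.mk'_surjective N)
  · intro i
    have := hnorm i.castSucc
    have hdvd := relIndex_map_mk'_dvd N (hmono (Fin.castSucc_le_succ i))
    rcases hfac i with ⟨m, hm⟩ | hc
    · left
      rw [hm] at hdvd
      obtain ⟨k, -, hk⟩ := (Nat.dvd_prime_pow hp.out).mp hdvd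
      exact ⟨k, hk⟩
    · right
      exact Nat.Coprime.coprime_dvd_left hdvd hc

/-- A nontrivial `p`-solvable group has a nontrivial normal subgroup that is a `p`-group or
a `p'`-group. -/
theorem exists_normal_of_isPSolvable {G : Type*} [Group G] [Nontrivial G] {p : ℕ}
    (hG : Cfsg.IsPSolvable p G) :
    ∃ N : Subgroup G, N.Normal ∧ N ≠ ⊥ ∧
      ((∃ m : ℕ, Nat.card N = p ^ m) ∨ (Nat.card N).Coprime p) := by
  classical
  obtain ⟨n, H, h0, hlast, hmono, hnorm, hfac⟩ := hG
  have hex : ∃ k, ∃ h : k < n + 1, H ⟨k, h⟩ ≠ ⊥ := by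
    refine ⟨n, Nat.lt_succ_self n, ?_⟩
    have : (⟨n, Nat.lt_succ_self n⟩ : Fin (n + 1)) = Fin.last n := rfl
    rw [this, hlast]
    exact top_ne_bot
  set k := Nat.find hex with hk
  obtain ⟨hkn, hkne⟩ := Nat.find_spec hex
  have hk0 : k ≠ 0 := by
    intro h
    apply hkne
    have : (⟨Nat.find hex, hkn⟩ : Fin (n + 1)) = 0 := by
      apply Fin.ext
      change Nat.find hex = ((0 : Fin (n + 1)) : ℕ)
      rw [Fin.val_zero, ← hk, h]
    rw [this, h0]
  obtain ⟨j, hj⟩ := Nat.exists_eq_succ_of_ne_zero hk0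
  have hjn : j < n := by
    have : k < n + 1 := hkn
    omega
  let i : Fin n := ⟨j, hjn⟩
  have hprev : H i.castSucc = ⊥ := by
    by_contra hne
    have := Nat.find_min hex (m := j) (by rw [← hk, hj]; exact Nat.lt_succ_self j)
    exact this ⟨Nat.lt_succ_of_lt hjn, hne⟩
  have hcur : H i.succ ≠ ⊥ := by
    have : (⟨Nat.find hex, hkn⟩ : Fin (n + 1)) = i.succ := by
      apply Fin.ext
      change Nat.find hex = j + 1
      rw [← hk, hj]
    rw [← this]; exact hkne
  refine ⟨H i.succ, hnorm _, hcur, ?_⟩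
  have := hfac i
  rw [hprev, relIndex_bot_left] at this
  exact this

/-- The set of primes different from `p`. -/
def primeTo (p : ℕ) : Set ℕ := {q | q ≠ p}

theorem isPiNum_primeTo_iff {p : ℕ} (hp : p.Prime) {n : ℕ} :
    IsPiNum (primeTo p) n ↔ n.Coprime p := by
  constructor
  · intro h
    rw [Nat.coprime_comm, Nat.Prime.coprime_iff_not_dvd hp]
    intro hd
    exact h p hp hd rfl
  · intro h q hq hd heq
    rw [heq] at hd
    rw [Nat.coprime_comm, Nat.Prime.coprime_iff_not_dvd hp] at h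
    exact h hd

theorem isPiNum_primeTo_compl_pow {p : ℕ} (hp : p.Prime) (k : ℕ) :
    IsPiNum (primeTo p)ᶜ (p ^ k) :=
  isPiNum_pow_of_mem hp (by simp [primeTo]) k

theorem isPiNum_primeTo_compl_iff {p : ℕ} (hp : p.Prime) {n : ℕ} (hn : n ≠ 0) :
    IsPiNum (primeTo p)ᶜ n ↔ ∃ k : ℕ, n = p ^ k := by
  constructor
  · intro h
    refine ⟨_, Nat.eq_prime_pow_of_unique_prime_dvd hn ?_⟩
    intro d hd hdn
    have := h d hd hdn
    simpa [primeTo] using this
  · rintro ⟨k, rfl⟩
    exact isPiNum_primeTo_compl_pow hp k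

theorem pSolvable_piSepClass (p : ℕ) [hp : Fact p.Prime] :
    PiSepClass.{u} (primeTo p) (fun G _ => Cfsg.IsPSolvable p G) := by
  intro G _ _ _ hG
  obtain ⟨N, hNn, hNne, hN⟩ := exists_normal_of_isPSolvable hG
  refine ⟨N, hNn, hNne, isPSolvable_quotient hG N, ?_⟩
  rcases hN with ⟨m, hm⟩ | hc
  · right
    refine ⟨hm ▸ isPiNum_primeTo_compl_pow hp.out m, ?_⟩
    have hP : IsPGroup p N := IsPGroup.of_card hm
    have := hP.isNilpotent
    infer_instance
  · left
    exact (isPiNum_primeTo_iff hp.out).mpr hc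


/-- Hall `p'`-subgroups (`p`-complements) of a `p`-solvable group: with `|G| = m p^k`, `p ∤ m`,
every `p'`-subgroup lies in a subgroup of order `m`, and all subgroups of order `m` are conjugate. -/
theorem pSolvable_hall {G : Type u} [Group G] [Finite G] {p : ℕ} [hp : Fact p.Prime]
    (hG : Cfsg.IsPSolvable p G) :
    ∃ m k : ℕ, Nat.card G = m * p ^ k ∧ m.Coprime p ∧
      (∀ K : Subgroup G, (Nat.card K).Coprime p → ∃ H : Subgroup G, Nat.card H = m ∧ K ≤ H) ∧
      (∀ H K : Subgroup G, Nat.card H = m → Nat.card K = m → ∃ g : G, MulAut.conj g • H = K) := by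
  obtain ⟨m, n, hmn, hm, hn⟩ := exists_pi_split (primeTo p) (Nat.card G) Nat.card_pos.ne'
  have hnpos := (pos_of_card_eq_mul hmn).2
  obtain ⟨k, rfl⟩ := (isPiNum_primeTo_compl_iff hp.out hnpos.ne').mp hn
  refine ⟨m, k, hmn, (isPiNum_primeTo_iff hp.out).mp hm, ?_, ?_⟩
  · intro K hK
    exact hallGen_exists_ge (pSolvable_piSepClass p) _ hG rfl m _ hmn hm hn K
      ((isPiNum_primeTo_iff hp.out).mpr hK)
  · intro H K hH hK
    exact hallGen_conj (pSolvable_piSepClass p) _ hG rfl m _ hmn hm hn H K hH hK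

/-- A `p`-complement (order prime to `p`, index a power of `p`) has order the `p'`-part. -/
theorem card_eq_of_isPComplement {G : Type*} [Group G] [Finite G] {p : ℕ} [hp : Fact p.Prime]
    {m k : ℕ} (hG : Nat.card G = m * p ^ k) (hm : m.Coprime p) (H : Subgroup G) :
    ((Nat.card H).Coprime p ∧ ∃ n : ℕ, H.index = p ^ n) ↔ Nat.card H = m := by
  constructor
  · rintro ⟨h1, n, h2⟩
    have h3 := H.card_mul_index
    rw [h2, hG] at h3
    exact pi_split_unique h3 ((isPiNum_primeTo_iff hp.out).mpr h1)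
      (isPiNum_primeTo_compl_pow hp.out n) ((isPiNum_primeTo_iff hp.out).mpr hm)
      (isPiNum_primeTo_compl_pow hp.out k)
  · intro h
    refine ⟨h ▸ hm, k, ?_⟩
    have h3 := H.card_mul_index
    rw [h, hG] at h3
    have hmpos := (pos_of_card_eq_mul hG).1
    exact Nat.eq_of_mul_eq_mul_left hmpos h3

end Cfsg.Agent.Lead
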