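import Mathlib
import Cfsg.Agent.Lead.Coprime3

set_option autoImplicit false
open Pointwise

namespace Cfsg.Agent.Lead

open Subgroup
open scoped commutatorElement IsMulCommutative

variable {G : Type*} [Group G]

/-- conjugation by a normalizing element as an endomorphism of `V`. -/
def conjEnd (V : Subgroup G) (a : normalizer (V : Set G)) : V →* V where
  toFun v := ⟨(a : G) * v * (a : G)⁻¹, (mem_normalizer_iff.mp a.2 v).mp v.2⟩
  map_one' := by ext; simp
  map_mul' x y := by ext; simp

theorem conjEnd_apply (V : Subgroup G) (a : normalizer (V : Set G)) (v : V) :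
    ((conjEnd V a v : V) : G) = (a : G) * v * (a : G)⁻¹ := rfl

theorem conjEnd_mul (V : Subgroup G) (a b : normalizer (V : Set G)) (v : V) :
    conjEnd V (a * b) v = conjEnd V a (conjEnd V b v) := by
  ext; simp [conjEnd_apply]; group

/-- the trace (norm) map of a finite group `A ≤ N(V)` acting on the abelian group `V`. -/
noncomputable def traceMap (V A : Subgroup G) [IsMulCommutative V] [Finite A]
    (hAV : A ≤ normalizer (V : Set G)) : V →* V :=
  haveI := Fintype.ofFinite A
  ∏ a : A, conjEnd V (Subgroup.inclusion hAV a)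

theorem traceMap_apply (V A : Subgroup G) [IsMulCommutative V] [Fintype A]
    (hAV : A ≤ normalizer (V : Set G)) (v : V) :
    traceMap V A hAV v = ∏ a : A, conjEnd V (Subgroup.inclusion hAV a) v := by
  unfold traceMap
  rw [MonoidHom.finsetProd_apply]
  congr!

theorem traceMap_conj (V A : Subgroup G) [IsMulCommutative V] [Finite A]
    (hAV : A ≤ normalizer (V : Set G)) (b : A) (v : V) :
    traceMap V A hAV (conjEnd V (Subgroup.inclusion hAV b) v) = traceMap V A hAV v := by
  have := Fintype.ofFinite A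
  rw [traceMap_apply, traceMap_apply]
  refine Fintype.prod_equiv (Equiv.mulRight b) _ _ (fun a => ?_)
  simp only [Equiv.coe_mulRight]
  rw [map_mul, conjEnd_mul]

theorem traceMap_of_mem_centralizer (V A : Subgroup G) [IsMulCommutative V] [Finite A]
    (hAV : A ≤ normalizer (V : Set G)) (v : V) (hv : (v : G) ∈ centralizer (A : Set G)) :
    traceMap V A hAV v = v ^ Nat.card A := by
  have := Fintype.ofFinite A
  rw [traceMap_apply]
  have : ∀ a : A, conjEnd V (Subgroup.inclusion hAV a) v = v := by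
    intro a
    ext
    rw [conjEnd_apply]
    have := (mem_centralizer_iff.mp hv) (a : G) a.2
    change (a : G) * v * (a : G)⁻¹ = v
    rw [this]; group
  simp only [this, Finset.prod_const, Finset.card_univ, Nat.card_eq_fintype_card]

theorem commutator_le_ker_traceMap (V A : Subgroup G) [IsMulCommutative V] [Finite A]
    (hAV : A ≤ normalizer (V : Set G)) :
    ⁅V, A⁆ ≤ (traceMap V A hAV).ker.map V.subtype := by
  rw [commutator_le]
  intro v hv a ha
  refine ⟨⟨v, hv⟩ * (conjEnd V (Subgroup.inclusion hAV ⟨a, ha⟩) ⟨v, hv⟩)⁻¹, ?_, ?_⟩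
  · rw [SetLike.mem_coe, MonoidHom.mem_ker, map_mul, map_inv, traceMap_conj, mul_inv_cancel]
  · simp only [Subgroup.coe_subtype, Subgroup.coe_mul, Subgroup.coe_inv, conjEnd_apply,
      commutatorElement_def]
    change v * (a * v * a⁻¹)⁻¹ = v * a * v⁻¹ * a⁻¹
    group

/-- Coprime action on an abelian group: `C_V(A) ∩ [V,A] = 1`. -/
theorem coprime_abelian_inf [Finite G] (A V : Subgroup G) [IsMulCommutative V]
    (hAV : A ≤ Subgroup.normalizer (V : Set G)) (hcop : (Nat.card A).Coprime (Nat.card V)) :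
    (V ⊓ Subgroup.centralizer (A : Set G)) ⊓ ⁅V, A⁆ = ⊥ := by
  rw [eq_bot_iff]
  intro x hx
  rw [mem_bot]
  obtain ⟨⟨hxV, hxC⟩, hxcomm⟩ := hx
  obtain ⟨w, hw, hwx⟩ := commutator_le_ker_traceMap V A hAV hxcomm
  have hw' : w = ⟨x, hxV⟩ := Subtype.ext hwx
  subst hw'
  rw [SetLike.mem_coe, MonoidHom.mem_ker, traceMap_of_mem_centralizer V A hAV _ hxC] at hw
  have h1 : x ^ Nat.card A = 1 := by
    have := congrArg (fun z : V => (z : G)) hw
    simpa using this
  have h2 : x ^ Nat.card V = 1 := by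
    have h : (⟨x, hxV⟩ : V) ^ Nat.card V = 1 := pow_card_eq_one'
    have h' : ((⟨x, hxV⟩ : V) ^ Nat.card V : V).1 = (1 : V).1 := by rw [h]
    rw [Subgroup.coe_pow] at h'
    exact h'
  have h3 : orderOf x ∣ Nat.card A := orderOf_dvd_of_pow_eq_one h1
  have h4 : orderOf x ∣ Nat.card V := orderOf_dvd_of_pow_eq_one h2
  have h5 : orderOf x = 1 := Nat.eq_one_of_dvd_coprimes hcop h3 h4
  exact orderOf_eq_one_iff.mp h5

theorem isSolvable_of_isMulCommutative (V : Subgroup G) [IsMulCommutative V] :
    Group.IsSolvable V := Group.isSolvable_of_comm (fun a b => mul_comm' a b)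

/-- Coprime action on an abelian group: `V = C_V(A) × [V,A]`. -/
theorem coprime_abelian_decomp [Finite G] (A V : Subgroup G) [IsMulCommutative V]
    (hAV : A ≤ Subgroup.normalizer (V : Set G)) (hcop : (Nat.card A).Coprime (Nat.card V)) :
    (V ⊓ Subgroup.centralizer (A : Set G)) ⊓ ⁅V, A⁆ = ⊥ ∧
      (V ⊓ Subgroup.centralizer (A : Set G)) ⊔ ⁅V, A⁆ = V := by
  refine ⟨coprime_abelian_inf A V hAV hcop, ?_⟩
  rw [sup_comm]
  exact coprime_commutator_sup_centralizer A V hAV hcop (Or.inr (isSolvable_of_isMulCommutative V))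

end Cfsg.Agent.Lead

namespace Cfsg.Agent.Lead

open Subgroup

variable {G : Type*} [Group G]

/-- If `A` acts coprimely on the abelian group `V` and centralizes all elements of prime order,
then `A` centralizes `V`. -/
theorem coprime_abelian_centralizes_of_prime_order [Finite G] (A V : Subgroup G)
    [IsMulCommutative V]
    (hAV : A ≤ Subgroup.normalizer (V : Set G)) (hcop : (Nat.card A).Coprime (Nat.card V))
    (hΩ : ∀ v ∈ V, (orderOf v).Prime → ∀ a ∈ A, a * v = v * a) :
    A ≤ Subgroup.centralizer (V : Set G) := by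
  rw [← commutator_eq_bot_iff_le_centralizer, commutator_comm]
  by_contra hW
  have hWV : ⁅V, A⁆ ≤ V := commutator_le_of_le_normalizer hAV
  have hcard : Nat.card (⁅V, A⁆ : Subgroup G) ≠ 1 := by
    intro h
    exact hW ((⁅V, A⁆ : Subgroup G).card_eq_one.mp h) 
  obtain ⟨p, hp, hpdvd⟩ := Nat.exists_prime_and_dvd hcard
  have : Fact p.Prime := ⟨hp⟩
  obtain ⟨w, hw⟩ := exists_prime_orderOf_dvd_card' p hpdvd
  have hw' : orderOf (w : G) = p := by rw [Subgroup.orderOf_coe]; exact hw
  have hwC : (w : G) ∈ centralizer (A : Set G) := by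
    rw [mem_centralizer_iff]
    intro a ha
    exact hΩ (w : G) (hWV w.2) (hw' ▸ hp) a ha
  have hmem : (w : G) ∈ (V ⊓ centralizer (A : Set G)) ⊓ ⁅V, A⁆ := ⟨⟨hWV w.2, hwC⟩, w.2⟩
  rw [coprime_abelian_inf A V hAV hcop, mem_bot] at hmem
  rw [hmem, orderOf_one] at hw'
  exact hp.one_lt.ne hw'

end Cfsg.Agent.Lead
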