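import Mathlib
import Cfsg.Agent.Lead.CoprimeAbelian

set_option autoImplicit false
open Pointwise

namespace Cfsg.Agent.Lead

open Subgroup

variable {G : Type*} [Group G]

/-- conjugation by a normalizing element as an automorphism of `V`. -/
def conjEquiv (V : Subgroup G) (a : normalizer (V : Set G)) : V ≃* V where
  toFun := conjEnd V a
  invFun := conjEnd V a⁻¹
  left_inv v := by ext; simp [conjEnd_apply]; group
  right_inv v := by ext; simp [conjEnd_apply]; group
  map_mul' := (conjEnd V a).map_mul

theorem conjEquiv_apply (V : Subgroup G) (a : normalizer (V : Set G)) (v : V) :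
    ((conjEquiv V a v : V) : G) = (a : G) * v * (a : G)⁻¹ := rfl

/-- The image in `G` of a characteristic subgroup of `K` is normalized by `N_G(K)`. -/
theorem normalizer_le_normalizer_map_of_characteristic (K : Subgroup G) (C : Subgroup K)
    [hC : C.Characteristic] :
    normalizer (K : Set G) ≤ normalizer ((C.map K.subtype : Subgroup G) : Set G) := by
  have key : ∀ a ∈ normalizer (K : Set G), ∀ x ∈ C.map K.subtype,
      a * x * a⁻¹ ∈ C.map K.subtype := by
    intro a ha x hx
    obtain ⟨c, hc, rfl⟩ := hx
    have h1 := characteristic_iff_map_eq.mp hC (conjEquiv K ⟨a, ha⟩)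
    have h2 : conjEquiv K ⟨a, ha⟩ c ∈ C := by
      rw [← h1]; exact mem_map_of_mem _ hc
    exact ⟨_, h2, rfl⟩
  intro a ha
  rw [mem_normalizer_iff]
  intro x
  constructor
  · exact key a ha x
  · intro hx
    have := key a⁻¹ ((normalizer (K : Set G)).inv_mem ha) _ hx
    have e : a⁻¹ * (a * x * a⁻¹) * a⁻¹⁻¹ = x := by group
    rw [e] at this; exact this

/-- If `A` acts trivially on `K/Φ(K)` with `|A|` coprime to `|Φ(K)|`, then `A` centralizes `K`. -/
theorem centralizes_of_trivial_on_frattini_quotient [Finite G] (A K : Subgroup G)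
    (hAK : A ≤ Subgroup.normalizer (K : Set G))
    (hcop : (Nat.card A).Coprime (Nat.card (frattini K)))
    (htriv : ∀ a ∈ A, ∀ k ∈ K, a * k * a⁻¹ * k⁻¹ ∈ (frattini K).map K.subtype) :
    A ≤ Subgroup.centralizer (K : Set G) := by
  set N : Subgroup G := (frattini K).map K.subtype with hN
  have hNK : N ≤ K := map_subtype_le _
  have hNA : A ≤ normalizer (N : Set G) :=
    hAK.trans (normalizer_le_normalizer_map_of_characteristic K (frattini K))
  have hcardN : Nat.card N = Nat.card (frattini K) :=
    Nat.card_congr ((frattini K).equivMapOfInjective _ K.subtype_injective).symm.toEquiv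
  have hcopN : (Nat.card A).Coprime (Nat.card N) := by rw [hcardN]; exact hcop
  have hsolvN : Group.IsSolvable A ∨ Group.IsSolvable N := by
    right
    have h1 : Group.IsNilpotent (frattini K) := frattini_nilpotent
    have h2 : Group.IsSolvable (frattini K) := inferInstance
    exact Group.isSolvable_of_isSolvable_injective
      (f := ((frattini K).equivMapOfInjective _ K.subtype_injective).symm.toMonoidHom)
      ((frattini K).equivMapOfInjective _ K.subtype_injective).symm.injective
  -- the subgroup of fixed points of `K`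
  set C : Subgroup K := (centralizer (A : Set G)).subgroupOf K with hC
  have hsup : C ⊔ frattini K = ⊤ := by
    rw [eq_top_iff]
    intro k _
    obtain ⟨c, hc, hck⟩ := coprime_invariant_coset_fixed A N hNA hcopN hsolvN (k : G)
      (fun a ha => htriv a ha k k.2)
    -- c = (c k⁻¹) k ∈ K
    have hcK : c ∈ K := by
      have e : c = (c * (k : G)⁻¹) * k := by group
      rw [e]; exact K.mul_mem (hNK hck) k.2
    obtain ⟨f, hf, hfeq⟩ := hck
    have e : k = f⁻¹ * ⟨c, hcK⟩ := by
      ext
      simp only [Subgroup.coe_mul, Subgroup.coe_inv]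
      have : (f : G) = c * (k : G)⁻¹ := hfeq
      rw [this]; group
    rw [e]
    exact (C ⊔ frattini K).mul_mem
      ((le_sup_right : frattini K ≤ _) ((frattini K).inv_mem hf))
      ((le_sup_left : C ≤ _) (by rw [hC, mem_subgroupOf]; exact hc))
  have hCtop : C = ⊤ := frattini_nongenerating hsup
  intro a ha
  rw [mem_centralizer_iff]
  intro k hk
  have : (⟨k, hk⟩ : K) ∈ C := by rw [hCtop]; exact mem_top _
  rw [hC, mem_subgroupOf] at this
  exact ((mem_centralizer_iff.mp this) a ha).symm

end Cfsg.Agent.Lead
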