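import Mathlib
import Cfsg.Agent.Lead.HallPrep
import Cfsg.Agent.Lead.CoprimeFrattini

set_option autoImplicit false
open Pointwise

/-! Relative quotients: for a subgroup `N` of `X`, the quotient `N_X(N) / N`, with transfer of
subgroups of `X` (`bar`) and pull-back of subgroups of the quotient (`lift`). This lets one run
induction arguments on subgroups `G ≤ X` that pass to `G / N` without leaving the "ambient" setting. -/

namespace Cfsg.Agent.Lead

open Subgroup

variable {X : Type*} [Group X]

/-- The relative quotient `N_X(N) / N`. -/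
abbrev RelQ (N : Subgroup X) : Type _ :=
  ↥(normalizer (N : Set X)) ⧸ N.subgroupOf (normalizer (N : Set X))

/-- The quotient map `N_X(N) → N_X(N) / N`. -/
def relMk (N : Subgroup X) : ↥(normalizer (N : Set X)) →* RelQ N :=
  QuotientGroup.mk' (N.subgroupOf (normalizer (N : Set X)))

theorem relMk_surjective (N : Subgroup X) : Function.Surjective (relMk N) :=
  QuotientGroup.mk'_surjective _

theorem ker_relMk (N : Subgroup X) : (relMk N).ker = N.subgroupOf (normalizer (N : Set X)) :=
  QuotientGroup.ker_mk' _

/-- Image of a subgroup of `X` in the relative quotient. -/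
def bar (N S : Subgroup X) : Subgroup (RelQ N) :=
  (S.subgroupOf (normalizer (N : Set X))).map (relMk N)

/-- Full preimage in `X` of a subgroup of the relative quotient. -/
def lift (N : Subgroup X) (T : Subgroup (RelQ N)) : Subgroup X :=
  (T.comap (relMk N)).map (normalizer (N : Set X)).subtype

theorem bar_mono (N : Subgroup X) {S₁ S₂ : Subgroup X} (h : S₁ ≤ S₂) : bar N S₁ ≤ bar N S₂ :=
  map_mono (comap_mono h)

theorem lift_mono (N : Subgroup X) {T₁ T₂ : Subgroup (RelQ N)} (h : T₁ ≤ T₂) :
    lift N T₁ ≤ lift N T₂ :=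
  map_mono (comap_mono h)

theorem lift_le_normalizer (N : Subgroup X) (T : Subgroup (RelQ N)) :
    lift N T ≤ normalizer (N : Set X) := by
  rintro x ⟨y, -, rfl⟩
  exact y.2

theorem mem_lift_iff (N : Subgroup X) (T : Subgroup (RelQ N)) (x : X) :
    x ∈ lift N T ↔ ∃ h : x ∈ normalizer (N : Set X), relMk N ⟨x, h⟩ ∈ T := by
  constructor
  · rintro ⟨y, hy, rfl⟩
    exact ⟨y.2, hy⟩
  · rintro ⟨h, hx⟩
    exact ⟨⟨x, h⟩, hx, rfl⟩

theorem le_lift (N : Subgroup X) (T : Subgroup (RelQ N)) : N ≤ lift N T := by
  intro x hx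
  rw [mem_lift_iff]
  refine ⟨le_normalizer hx, ?_⟩
  have : (⟨x, le_normalizer hx⟩ : ↥(normalizer (N : Set X))) ∈ (relMk N).ker := by
    rw [ker_relMk]; exact hx
  rw [MonoidHom.mem_ker] at this
  rw [this]; exact T.one_mem

theorem le_lift_bar (N : Subgroup X) {S : Subgroup X} (hS : S ≤ normalizer (N : Set X)) :
    S ≤ lift N (bar N S) := by
  intro x hx
  rw [mem_lift_iff]
  exact ⟨hS hx, ⟨⟨x, hS hx⟩, hx, rfl⟩⟩

theorem lift_bar_eq (N : Subgroup X) {S : Subgroup X} (hS : S ≤ normalizer (N : Set X))
    (hNS : N ≤ S) : lift N (bar N S) = S := by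
  unfold lift bar
  have h1 : N.subgroupOf (normalizer (N : Set X)) ≤ S.subgroupOf (normalizer (N : Set X)) :=
    comap_mono hNS
  rw [comap_map_eq, ker_relMk, sup_eq_left.mpr h1, map_subgroupOf_eq_of_le hS]

theorem bar_lift_eq (N : Subgroup X) (T : Subgroup (RelQ N)) : bar N (lift N T) = T := by
  unfold lift bar
  have h1 : ((T.comap (relMk N)).map (normalizer (N : Set X)).subtype).subgroupOf
      (normalizer (N : Set X)) = T.comap (relMk N) :=
    comap_map_eq_self_of_injective (subtype_injective _) _
  rw [h1, map_comap_eq_self_of_surjective (relMk_surjective N)]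


theorem card_lift [Finite X] (N : Subgroup X) (T : Subgroup (RelQ N)) :
    Nat.card (lift N T) = Nat.card T * Nat.card N := by
  unfold lift
  rw [Nat.card_congr ((T.comap (relMk N)).equivMapOfInjective _
    (subtype_injective _)).symm.toEquiv]
  have := card_comap_mk' (N.subgroupOf (normalizer (N : Set X))) T
  rw [Nat.card_congr (subgroupOfEquivOfLe (le_normalizer (H := N))).toEquiv] at this
  exact this

theorem card_bar_mul [Finite X] (N : Subgroup X) {S : Subgroup X}
    (hS : S ≤ normalizer (N : Set X)) (hNS : N ≤ S) :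
    Nat.card (bar N S) * Nat.card N = Nat.card S := by
  rw [← card_lift, lift_bar_eq N hS hNS]

theorem card_bar_dvd [Finite X] (N S : Subgroup X) : Nat.card (bar N S) ∣ Nat.card S := by
  unfold bar
  refine (card_map_dvd _ _).trans ?_
  rw [card_subgroupOf_eq_card_inf]
  exact card_dvd_of_le inf_le_left

theorem relIndex_lift (N : Subgroup X) (T₁ T₂ : Subgroup (RelQ N)) :
    (lift N T₁).relIndex (lift N T₂) = T₁.relIndex T₂ := by
  unfold lift
  rw [relIndex_map_map_of_injective _ _ (subtype_injective _), relIndex_comap,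
    map_comap_eq_self_of_surjective (relMk_surjective N)]

theorem bar_le_normalizer_bar (N : Subgroup X) {A S : Subgroup X}
    (hA : A ≤ normalizer (S : Set X)) : bar N A ≤ normalizer (bar N S : Set (RelQ N)) := by
  unfold bar
  have h1 : A.subgroupOf (normalizer (N : Set X)) ≤
      normalizer ((S.subgroupOf (normalizer (N : Set X)) : Subgroup _) : Set _) :=
    (comap_mono hA).trans (le_normalizer_comap _)
  exact (map_mono h1).trans (le_normalizer_map _)

theorem le_normalizer_lift (N : Subgroup X) {A : Subgroup X} (hAN : A ≤ normalizer (N : Set X))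
    {T : Subgroup (RelQ N)} (hA : bar N A ≤ normalizer (T : Set (RelQ N))) :
    A ≤ normalizer (lift N T : Set X) := by
  intro a ha
  have h1 : relMk N ⟨a, hAN ha⟩ ∈ normalizer (T : Set (RelQ N)) :=
    hA ⟨⟨a, hAN ha⟩, ha, rfl⟩
  have h2 : (⟨a, hAN ha⟩ : ↥(normalizer (N : Set X))) ∈
      normalizer ((T.comap (relMk N) : Subgroup _) : Set _) :=
    le_normalizer_comap (relMk N) h1
  have h3 := le_normalizer_map (normalizer (N : Set X)).subtype (mem_map_of_mem _ h2)
  exact h3

theorem isSolvable_bar (N : Subgroup X) {S : Subgroup X} (hS : Group.IsSolvable S) :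
    Group.IsSolvable (bar N S) := by
  have h1 : Group.IsSolvable (S.subgroupOf (normalizer (N : Set X))) := by
    let f : ↥(S.subgroupOf (normalizer (N : Set X))) →* S :=
      ((normalizer (N : Set X)).subtype.comp
        (S.subgroupOf (normalizer (N : Set X))).subtype).codRestrict S (fun x => x.2)
    have hf : Function.Injective f := by
      intro x y hxy
      have := congrArg (fun z : S => (z : X)) hxy
      exact Subtype.ext (Subtype.ext this)
    exact Group.isSolvable_of_isSolvable_injective hf
  exact Group.isSolvable_of_surjective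
    ((relMk N).subgroupMap_surjective (S.subgroupOf (normalizer (N : Set X))))

theorem isSolvable_of_le {S T : Subgroup X} (h : S ≤ T) (hT : Group.IsSolvable T) :
    Group.IsSolvable S :=
  Group.isSolvable_of_isSolvable_injective (inclusion_injective h)


theorem torsionBy_characteristic {G : Type*} [Group G] (A : Subgroup G) [hAc : A.Characteristic]
    (hA : ∀ x ∈ A, ∀ y ∈ A, x * y = y * x) (p : ℕ) : (torsionBy A hA p).Characteristic := by
  rw [characteristic_iff_comap_le]
  intro ϕ x hx
  rw [mem_comap] at hx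
  obtain ⟨h1, h2⟩ := hx
  refine ⟨?_, ?_⟩
  · have := characteristic_iff_comap_eq.mp hAc ϕ
    rw [← this]; exact h1
  · apply ϕ.injective
    rw [map_pow, map_one]; exact h2

/-- A nontrivial finite solvable group has a nontrivial characteristic `p`-subgroup. -/
theorem exists_characteristic_pgroup_of_isSolvable {G : Type*} [Group G] [Finite G]
    [hs : Group.IsSolvable G] [Nontrivial G] :
    ∃ p : ℕ, p.Prime ∧ ∃ P : Subgroup G, P.Characteristic ∧ IsPGroup p P ∧ P ≠ ⊥ := by
  classical
  obtain ⟨n, hn⟩ := hs.solvable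
  have hex : ∃ n, derivedSeries G n = ⊥ := ⟨n, hn⟩
  set k := Nat.find hex with hk
  have hk0 : k ≠ 0 := by
    intro h0
    have := Nat.find_spec hex
    rw [← hk, h0, derivedSeries_zero] at this
    exact top_ne_bot this
  obtain ⟨j, hj⟩ := Nat.exists_eq_succ_of_ne_zero hk0
  set A := derivedSeries G j with hAdef
  have hAne : A ≠ ⊥ := by
    have := Nat.find_min hex (m := j) (by rw [← hk, hj]; exact Nat.lt_succ_self j)
    exact this
  have hAcomm : ⁅A, A⁆ = ⊥ := by
    have := Nat.find_spec hex
    rw [← hk, hj, derivedSeries_succ] at this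
    exact this
  have hAn : A.Characteristic := derivedSeries_characteristic G j
  have hA : ∀ x ∈ A, ∀ y ∈ A, x * y = y * x := by
    intro x hx y hy
    have h1 : A ≤ centralizer (A : Set G) := commutator_eq_bot_iff_le_centralizer.mp hAcomm
    exact ((mem_centralizer_iff.mp (h1 hx)) y hy).symm
  have hcard : Nat.card A ≠ 1 := fun h => hAne (A.card_eq_one.mp h)
  obtain ⟨p, hp, hpdvd⟩ := Nat.exists_prime_and_dvd hcard
  have : Fact p.Prime := ⟨hp⟩
  obtain ⟨w, hw⟩ := exists_prime_orderOf_dvd_card' p hpdvd
  refine ⟨p, hp, torsionBy A hA p, torsionBy_characteristic A hA p, torsionBy_isPGroup A hA p, ?_⟩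
  intro hbot
  have hmem : (w : G) ∈ torsionBy A hA p := by
    refine ⟨w.2, ?_⟩
    have : w ^ p = 1 := by rw [← hw]; exact pow_orderOf_eq_one w
    have := congrArg (fun z : A => (z : G)) this
    simpa using this
  rw [hbot, mem_bot] at hmem
  have : w = 1 := Subtype.ext hmem
  rw [this, orderOf_one] at hw
  exact hp.one_lt.ne hw

/-- Relative form: a nontrivial solvable subgroup `G ≤ X` contains a nontrivial `p`-subgroup `N`
normalized by `N_X(G)`. -/
theorem exists_pgroup_normalizer_le [Finite X] {G : Subgroup X} (hsolv : Group.IsSolvable G)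
    (hG : G ≠ ⊥) :
    ∃ p : ℕ, p.Prime ∧ ∃ N : Subgroup X, N ≤ G ∧ N ≠ ⊥ ∧ IsPGroup p N ∧
      normalizer (G : Set X) ≤ normalizer (N : Set X) := by
  have hnt : Nontrivial G := (G.nontrivial_iff_ne_bot).mpr hG
  obtain ⟨p, hp, P, hPc, hPp, hPne⟩ := exists_characteristic_pgroup_of_isSolvable (G := G)
  refine ⟨p, hp, P.map G.subtype, map_subtype_le P, ?_, ?_, ?_⟩
  · intro h
    apply hPne
    rw [eq_bot_iff]
    intro x hx
    have : (x : X) ∈ P.map G.subtype := mem_map_of_mem _ hx
    rw [h, mem_bot] at this
    rw [mem_bot]; exact Subtype.ext this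
  · exact hPp.map _
  · exact normalizer_le_normalizer_map_of_characteristic G P

end Cfsg.Agent.Lead
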