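import Mathlib

set_option autoImplicit false

/-! The trace identity for `Z_r × Z_r` acting on an abelian group. -/

namespace Cfsg.Agent.Lead

open Finset

section abstract

variable {N V : Type*} [Group N] [CommGroup V] [MulDistribMulAction N V]

/-- The trace of `v` under the cyclic group generated by `z` (of order dividing `r`). -/
def trc (r : ℕ) (z : N) (v : V) : V := ∏ i ∈ range r, (z ^ i) • v

theorem smul_trc {r : ℕ} {z : N} (hz : z ^ r = 1) (v : V) : z • trc r z v = trc r z v := by
  unfold trc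
  rw [Finset.smul_prod']
  simp_rw [← mul_smul, ← pow_succ']
  rcases r with _ | n
  · simp
  · rw [Finset.prod_range_succ, Finset.prod_range_succ' (fun i => z ^ i • v), hz, pow_zero]

theorem prod_pow_mul_smul {r : ℕ} (hr : r.Prime) {y : N} (hy : y ^ r = 1) {i : ℕ} (hi0 : 0 < i)
    (hir : i < r) (v : V) :
    ∏ j ∈ range r, (y ^ (j * i)) • v = ∏ k ∈ range r, (y ^ k) • v := by
  classical
  have hcop : Nat.gcd r i = 1 := by
    rw [← Nat.coprime_iff_gcd_eq_one]
    exact (Nat.Prime.coprime_iff_not_dvd hr).mpr (Nat.not_dvd_of_pos_of_lt hi0 hir)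
  set f : ℕ → ℕ := fun j => (j * i) % r with hf
  have hinj : Set.InjOn f (range r : Set ℕ) := by
    intro a ha b hb hab
    simp only [coe_range, Set.mem_Iio] at ha hb
    have h1 : i * a ≡ i * b [MOD r] := by
      unfold Nat.ModEq
      rw [mul_comm i a, mul_comm i b]; exact hab
    have h2 := Nat.ModEq.cancel_left_of_coprime hcop h1
    unfold Nat.ModEq at h2
    rwa [Nat.mod_eq_of_lt ha, Nat.mod_eq_of_lt hb] at h2
  have himg : (range r).image f = range r := by
    apply Finset.eq_of_subset_of_card_le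
    · intro k hk
      rw [Finset.mem_image] at hk
      obtain ⟨j, -, rfl⟩ := hk
      rw [Finset.mem_range]
      exact Nat.mod_lt _ hr.pos
    · rw [Finset.card_image_of_injOn hinj]
  calc ∏ j ∈ range r, (y ^ (j * i)) • v = ∏ j ∈ range r, (y ^ (f j)) • v := by
        apply Finset.prod_congr rfl
        intro j _
        rw [pow_eq_pow_mod (j * i) hy]
    _ = ∏ k ∈ (range r).image f, (y ^ k) • v :=
      (Finset.prod_image (f := fun k => (y ^ k) • v) hinj).symm
    _ = ∏ k ∈ range r, (y ^ k) • v := by rw [himg]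

/-- The norm of `v` under the group generated by `x` and `y`. -/
def nrm (r : ℕ) (x y : N) (v : V) : V := ∏ i ∈ range r, ∏ k ∈ range r, (x ^ i * y ^ k) • v

theorem nrm_eq (r : ℕ) (x y : N) (v : V) :
    nrm r x y v = ∏ i ∈ range r, (x ^ i) • trc r y v := by
  unfold nrm trc
  apply Finset.prod_congr rfl
  intro i _
  rw [Finset.smul_prod']
  simp_rw [mul_smul]

theorem nrm_eq_trc (r : ℕ) (x y : N) (v : V) : nrm r x y v = trc r x (trc r y v) := nrm_eq r x y v

/-- The trace identity: `∏_j T_{x y^j}(v) · T_y(v) = N(v) · v^r`. -/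
theorem trace_identity {r : ℕ} (hr : r.Prime) {x y : N} (hxy : Commute x y) (hy : y ^ r = 1)
    (v : V) :
    (∏ j ∈ range r, trc r (x * y ^ j) v) * trc r y v = nrm r x y v * v ^ r := by
  have h1 : ∏ j ∈ range r, trc r (x * y ^ j) v =
      ∏ i ∈ range r, (x ^ i) • ∏ j ∈ range r, (y ^ (j * i)) • v := by
    unfold trc
    rw [Finset.prod_comm]
    apply Finset.prod_congr rfl
    intro i _
    rw [Finset.smul_prod']
    apply Finset.prod_congr rfl
    intro j _
    rw [(hxy.pow_right j).mul_pow, ← pow_mul, mul_smul]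
  rw [h1, nrm_eq]
  obtain ⟨n, rfl⟩ : ∃ n, r = n + 1 := ⟨r - 1, (Nat.succ_pred_eq_of_pos hr.pos).symm⟩
  rw [Finset.prod_range_succ' (fun i => (x ^ i) • ∏ j ∈ range (n + 1), (y ^ (j * i)) • v),
    Finset.prod_range_succ' (fun i => (x ^ i) • trc (n + 1) y v)]
  have h2 : ∏ i ∈ range n, (x ^ (i + 1)) • ∏ j ∈ range (n + 1), (y ^ (j * (i + 1))) • v =
      ∏ i ∈ range n, (x ^ (i + 1)) • trc (n + 1) y v := by
    apply Finset.prod_congr rfl
    intro i hi
    rw [Finset.mem_range] at hi
    rw [prod_pow_mul_smul hr hy (Nat.succ_pos i) (Nat.succ_lt_succ hi)]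
    rfl
  rw [h2]
  have h3 : (x ^ 0) • ∏ j ∈ range (n + 1), (y ^ (j * 0)) • v = v ^ (n + 1) := by
    simp
  rw [h3, pow_zero, one_smul]
  rw [mul_assoc, mul_assoc, mul_comm (v ^ (n + 1))]

end abstract


section concrete

open Subgroup
open scoped IsMulCommutative

variable {G : Type*} [Group G]

theorem coe_normalizer_smul (V : Subgroup G) (g : normalizer (V : Set G)) (v : V) :
    ((g • v : V) : G) = (g : G) * v * (g : G)⁻¹ := rfl

theorem mem_centralizer_singleton_of_smul_eq (V : Subgroup G) (g : normalizer (V : Set G)) (v : V)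
    (h : g • v = v) : (v : G) ∈ V ⊓ centralizer {(g : G)} := by
  refine ⟨v.2, ?_⟩
  change (v : G) ∈ centralizer {(g : G)}
  rw [mem_centralizer_singleton_iff]
  have h1 := congrArg (fun w : V => (w : G)) h
  simp only [coe_normalizer_smul] at h1
  have : (v : G) * g = ((g : G) * v * (g : G)⁻¹) * g := by rw [h1]
  rw [this]; group

/-- If commuting elements `x, y` of order dividing the prime `r` normalize the abelian subgroup
`V` of order prime to `r`, then `V` is generated by the centralizers in `V` of `y` and of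
the `x y^j`. -/
theorem abelian_le_of_centralizers_le (V : Subgroup G) [IsMulCommutative V] [Finite V]
    {r : ℕ} (hr : r.Prime) {x y : G} (hxV : x ∈ normalizer (V : Set G))
    (hyV : y ∈ normalizer (V : Set G)) (hxy : x * y = y * x) (hx : x ^ r = 1) (hy : y ^ r = 1)
    (hcop : (Nat.card V).Coprime r) (J : Subgroup G)
    (hJy : V ⊓ centralizer {y} ≤ J) (hJxy : ∀ j < r, V ⊓ centralizer {x * y ^ j} ≤ J) :
    V ≤ J := by
  set x' : normalizer (V : Set G) := ⟨x, hxV⟩ with hx'
  set y' : normalizer (V : Set G) := ⟨y, hyV⟩ with hy'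
  have hxy' : Commute x' y' := Subtype.ext hxy
  have hx'r : x' ^ r = 1 := Subtype.ext hx
  have hy'r : y' ^ r = 1 := Subtype.ext hy
  intro g hg
  set v : V := ⟨g, hg⟩ with hv
  set J' : Subgroup V := J.subgroupOf V with hJ'
  -- the traces lie in `J'`
  have h1 : ∀ j < r, trc r (x' * y' ^ j) v ∈ J' := by
    intro j hj
    have hz : (x' * y' ^ j) ^ r = 1 := by
      rw [(hxy'.pow_right j).mul_pow, hx'r, ← pow_mul, mul_comm, pow_mul, hy'r, one_pow, one_mul]
    have := mem_centralizer_singleton_of_smul_eq V _ _ (smul_trc hz v)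
    exact hJxy j hj this
  have h2 : trc r y' v ∈ J' := by
    have := mem_centralizer_singleton_of_smul_eq V _ _ (smul_trc hy'r v)
    exact hJy this
  have h3 : nrm r x' y' v ∈ J' := by
    rw [nrm_eq_trc]
    have := mem_centralizer_singleton_of_smul_eq V _ _ (smul_trc hx'r (trc r y' v))
    have h0 := hJxy 0 hr.pos
    rw [pow_zero, mul_one] at h0
    exact h0 this
  have hid := trace_identity hr hxy' hy'r v
  have h4 : v ^ r ∈ J' := by
    have : v ^ r = (nrm r x' y' v)⁻¹ * ((∏ j ∈ range r, trc r (x' * y' ^ j) v) * trc r y' v) := by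
      rw [hid, inv_mul_cancel_left]
    rw [this]
    apply J'.mul_mem (J'.inv_mem h3) (J'.mul_mem _ h2)
    apply Subgroup.prod_mem
    intro j hj
    exact h1 j (Finset.mem_range.mp hj)
  have hcop' : r.Coprime (orderOf v) :=
    (hcop.coprime_dvd_left (orderOf_dvd_natCard v)).symm
  obtain ⟨m, hm⟩ := exists_pow_eq_self_of_coprime hcop'
  have h5 : v ∈ J' := by rw [← hm]; exact J'.pow_mem h4 m
  exact h5

end concrete

end Cfsg.Agent.Lead
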