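import Mathlib
import Cfsg.Agent.Lead.TraceId
import Cfsg.Agent.Lead.RelQuot
import Cfsg.Agent.Lead.Coprime2
import Cfsg.Agent.Lead.CoprimeSylow
import Cfsg.Agent.Lead.CoprimeAbelian
import Cfsg.Agent.Helper1.PGroup

set_option autoImplicit false
open Pointwise

/-! Generation by centralizers for coprime action of a noncyclic abelian group. -/

namespace Cfsg.Agent.Lead

open Subgroup
open scoped IsMulCommutative commutatorElement

/-- A finite noncyclic abelian group contains a copy of `C_r × C_r` for some prime `r`. -/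
theorem exists_rank_two_of_not_isCyclic {A : Type*} [Group A] [IsMulCommutative A] [Finite A]
    (hA : ¬ IsCyclic A) :
    ∃ r : ℕ, r.Prime ∧ ∃ x y : A, x ^ r = 1 ∧ y ^ r = 1 ∧ y ≠ 1 ∧ x ∉ zpowers y := by
  obtain ⟨g, hg⟩ := Monoid.exists_orderOf_eq_exponent (Monoid.ExponentExists.of_finite (G := A))
  have hex : ∃ a : A, a ∉ zpowers g := by
    by_contra h
    push Not at h
    exact hA ⟨g, h⟩
  obtain ⟨a, ha, hmin⟩ : ∃ a : A, a ∉ zpowers g ∧ ∀ b : A, b ∉ zpowers g → orderOf a ≤ orderOf b := by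
    obtain ⟨a₀, ha₀⟩ := hex
    have : Nonempty {a : A // a ∉ zpowers g} := ⟨⟨a₀, ha₀⟩⟩
    obtain ⟨a, hmin⟩ := Finite.exists_min (fun a : {a : A // a ∉ zpowers g} => orderOf (a : A))
    exact ⟨a.1, a.2, fun b hb => hmin ⟨b, hb⟩⟩
  have ha1 : a ≠ 1 := fun h => ha (h ▸ one_mem _)
  have hoa : orderOf a ≠ 1 := by rwa [Ne, orderOf_eq_one_iff]
  obtain ⟨r, hr, hra⟩ := Nat.exists_prime_and_dvd hoa
  have hoar : orderOf (a ^ r) < orderOf a := by
    rw [orderOf_pow_of_dvd hr.ne_zero hra]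
    exact Nat.div_lt_self (orderOf_pos a) hr.one_lt
  have har : a ^ r ∈ zpowers g := by
    by_contra h
    exact absurd (hmin _ h) (not_le.mpr hoar)
  rw [← mem_powers_iff_mem_zpowers, Submonoid.mem_powers_iff] at har
  obtain ⟨k, hk⟩ := har
  have hre : r ∣ Monoid.exponent A := hra.trans (Monoid.order_dvd_exponent a)
  obtain ⟨e', he'⟩ := hre
  have hepos : 0 < Monoid.exponent A := Monoid.ExponentExists.of_finite.exponent_pos
  have he'pos : 0 < e' := by
    rcases Nat.eq_zero_or_pos e' with h | h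
    · rw [h, mul_zero] at he'; omega
    · exact h
  have h1 : (g ^ k) ^ e' = 1 := by
    rw [hk, ← pow_mul, ← he', Monoid.pow_exponent_eq_one]
  have h2 : r ∣ k := by
    rw [← pow_mul] at h1
    have := orderOf_dvd_of_pow_eq_one h1
    rw [hg, he'] at this
    exact Nat.dvd_of_mul_dvd_mul_right he'pos this
  obtain ⟨m, hm⟩ := h2
  refine ⟨r, hr, a * (g ^ m)⁻¹, g ^ e', ?_, ?_, ?_, ?_⟩
  · rw [mul_pow, inv_pow, ← pow_mul, mul_comm m r, ← hm, hk, mul_inv_cancel]
  · rw [← pow_mul, mul_comm, ← he', Monoid.pow_exponent_eq_one]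
  · intro h
    have := orderOf_dvd_of_pow_eq_one h
    rw [hg] at this
    have h3 := Nat.le_of_dvd he'pos this
    have h4 : e' < r * e' := lt_mul_of_one_lt_left he'pos hr.one_lt
    omega
  · intro h
    have h3 : zpowers (g ^ e') ≤ zpowers g := zpowers_le.mpr (pow_mem (mem_zpowers g) _)
    have h4 : a * (g ^ m)⁻¹ * g ^ m ∈ zpowers g :=
      mul_mem (h3 h) (pow_mem (mem_zpowers g) _)
    rw [inv_mul_cancel_right] at h4
    exact ha h4

variable {G : Type*} [Group G]

theorem relMk_commute_iff (N : Subgroup G) (a b : normalizer (N : Set G)) :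
    relMk N a * relMk N b = relMk N b * relMk N a ↔
      (a : G) * b * (a : G)⁻¹ * (b : G)⁻¹ ∈ N := by
  rw [← map_mul, ← map_mul, ← mul_inv_eq_one, ← map_inv, ← map_mul, ← MonoidHom.mem_ker,
    ker_relMk, mem_subgroupOf]
  simp [mul_assoc]

/-- Generation by centralizers for a `q`-group acted on by `C_r × C_r`. -/
theorem pgroup_le_of_centralizers [Finite G] {q : ℕ} [Fact q.Prime] (Q : Subgroup G)
    (hQ : IsPGroup q Q) {r : ℕ} (hr : r.Prime) (hrq : (Nat.card Q).Coprime r) {x y : G}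
    (hxQ : x ∈ normalizer (Q : Set G)) (hyQ : y ∈ normalizer (Q : Set G))
    (hxy : x * y = y * x) (hx : x ^ r = 1) (hy : y ^ r = 1) (J : Subgroup G)
    (hJy : Q ⊓ centralizer {y} ≤ J) (hJxy : ∀ j < r, Q ⊓ centralizer {x * y ^ j} ≤ J) :
    Q ≤ J := by
  set N : Subgroup G := (commutator Q).map Q.subtype with hN
  have hNQ : N ≤ Q := map_subtype_le _
  have hQN : normalizer (Q : Set G) ≤ normalizer (N : Set G) :=
    normalizer_le_normalizer_map_of_characteristic Q (commutator Q)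
  have hQN' : Q ≤ normalizer (N : Set G) := le_normalizer.trans hQN
  set J₀ : Subgroup G := J ⊓ Q ⊔ N with hJ₀
  have hJ₀Q : J₀ ≤ Q := sup_le inf_le_right hNQ
  have hcomm : ∀ a ∈ Q, ∀ b ∈ Q, a * b * a⁻¹ * b⁻¹ ∈ N := by
    intro a ha b hb
    refine ⟨⁅(⟨a, ha⟩ : Q), ⟨b, hb⟩⁆, ?_, rfl⟩
    rw [commutator_def]
    exact commutator_mem_commutator (mem_top _) (mem_top _)
  have hVcomm : IsMulCommutative (bar N Q) := by
    refine ⟨⟨fun a b => ?_⟩⟩
    obtain ⟨a', ha', hae⟩ := a.2
    obtain ⟨b', hb', hbe⟩ := b.2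
    apply Subtype.ext
    change (a : RelQ N) * b = b * a
    rw [← hae, ← hbe, relMk_commute_iff]
    exact hcomm _ ha' _ hb'
  -- generic statement about an element `z` of order dividing `r` normalizing `Q`
  have hgen : ∀ z : G, ∀ hz : z ∈ normalizer (Q : Set G), z ^ r = 1 → Q ⊓ centralizer {z} ≤ J →
      bar N Q ⊓ centralizer {relMk N ⟨z, hQN hz⟩} ≤ bar N J₀ := by
    intro z hz hzr hJz
    rintro w ⟨hwV, hwc⟩
    obtain ⟨v, hv, rfl⟩ := hwV
    have hvQ : (v : G) ∈ Q := hv
    have hZQ : zpowers z ≤ normalizer (Q : Set G) := zpowers_le.mpr hz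
    -- all powers of z commute with v mod N
    have hfix : ∀ a ∈ zpowers z, a * (v : G) * a⁻¹ * (v : G)⁻¹ ∈ N := by
      intro a ha
      have haN : a ∈ normalizer (N : Set G) := hQN (hZQ ha)
      have h1 : relMk N ⟨a, haN⟩ ∈ zpowers (relMk N ⟨z, hQN hz⟩) := by
        rw [mem_zpowers_iff] at ha ⊢
        obtain ⟨k, hk⟩ := ha
        refine ⟨k, ?_⟩
        rw [← map_zpow]
        congr 1
        exact Subtype.ext hk
      have h2 : zpowers (relMk N ⟨z, hQN hz⟩) ≤ centralizer {relMk N v} := by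
        have hwc' : relMk N v ∈ centralizer {relMk N ⟨z, hQN hz⟩} := hwc
        rw [zpowers_le, mem_centralizer_singleton_iff]
        rw [mem_centralizer_singleton_iff] at hwc'
        exact hwc'.symm
      have h3 := h2 h1
      rw [mem_centralizer_singleton_iff] at h3
      exact (relMk_commute_iff N ⟨a, haN⟩ v).mp h3
    have hcopz : (Nat.card (zpowers z)).Coprime (Nat.card Q) := by
      rw [Nat.card_zpowers]
      exact (hrq.coprime_dvd_right (orderOf_dvd_of_pow_eq_one hzr)).symm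
    obtain ⟨c, hc, hcN⟩ := coprime_fixed_points_quotient (zpowers z) Q hZQ hcopz
      (Or.inl inferInstance) N hNQ hQN' (hZQ.trans hQN) v hvQ hfix
    have hcJ : c ∈ J ⊓ Q := by
      refine ⟨hJz ⟨hc.1, ?_⟩, hc.1⟩
      have h5 : c ∈ centralizer ((zpowers z : Subgroup G) : Set G) := hc.2
      rw [mem_centralizer_iff] at h5
      change c ∈ centralizer {z}
      rw [mem_centralizer_singleton_iff]
      exact (h5 z (mem_zpowers z)).symm
    have hvJ₀ : (v : G) ∈ J₀ := by
      have h1 : (v : G) = c * ((v : G)⁻¹ * c)⁻¹ := by group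
      rw [h1]
      exact mul_mem (mem_sup_left hcJ) (mem_sup_right (inv_mem hcN))
    exact ⟨v, hvJ₀, rfl⟩
  have hbarnorm : ∀ z : G, ∀ hz : z ∈ normalizer (Q : Set G),
      relMk N ⟨z, hQN hz⟩ ∈ normalizer (bar N Q : Set (RelQ N)) := by
    intro z hz
    have h1 := bar_le_normalizer_bar N (A := zpowers z) (S := Q) (zpowers_le.mpr hz)
    exact h1 ⟨⟨z, hQN hz⟩, mem_zpowers z, rfl⟩
  have hcopV : (Nat.card (bar N Q)).Coprime r :=
    hrq.coprime_dvd_left (card_bar_dvd N Q)
  have hmain : bar N Q ≤ bar N J₀ := by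
    refine abelian_le_of_centralizers_le (bar N Q) hr (hbarnorm x hxQ) (hbarnorm y hyQ) ?_ ?_ ?_
      hcopV (bar N J₀) (hgen y hyQ hy hJy) ?_
    · rw [← map_mul, ← map_mul]
      congr 1
      exact Subtype.ext hxy
    · rw [← map_pow]
      have : (⟨x, hQN hxQ⟩ : normalizer (N : Set G)) ^ r = 1 := Subtype.ext hx
      rw [this, map_one]
    · rw [← map_pow]
      have : (⟨y, hQN hyQ⟩ : normalizer (N : Set G)) ^ r = 1 := Subtype.ext hy
      rw [this, map_one]
    · intro j hj
      have hz : x * y ^ j ∈ normalizer (Q : Set G) := mul_mem hxQ (pow_mem hyQ j)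
      have hzr : (x * y ^ j) ^ r = 1 := by
        have hc : Commute x (y ^ j) := Commute.pow_right hxy j
        rw [hc.mul_pow, hx, ← pow_mul, mul_comm j r, pow_mul, hy, one_pow, one_mul]
      have := hgen (x * y ^ j) hz hzr (hJxy j hj)
      have he : relMk N ⟨x * y ^ j, hQN hz⟩ =
          relMk N ⟨x, hQN hxQ⟩ * relMk N ⟨y, hQN hyQ⟩ ^ j := by
        rw [← map_pow, ← map_mul]
        rfl
      rw [he] at this
      exact this
  have hQJ₀ : Q ≤ J₀ := by
    have h1 := (le_lift_bar N hQN').trans (lift_mono N hmain)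
    rwa [lift_bar_eq N (hJ₀Q.trans hQN') le_sup_right] at h1
  -- Frattini argument
  have h1 : (J ⊓ Q).subgroupOf Q ⊔ commutator Q = ⊤ := by
    have h2 : N.subgroupOf Q = commutator Q :=
      comap_map_eq_self_of_injective (subtype_injective _) _
    rw [← h2, ← subgroupOf_sup inf_le_right hNQ, subgroupOf_eq_top]
    exact hQJ₀
  have h2 : (J ⊓ Q).subgroupOf Q ⊔ frattini Q = ⊤ := by
    rw [eq_top_iff, ← h1]
    exact sup_le_sup_left (Cfsg.Agent.Helper1.IsPGroup.commutator_le_frattini hQ) _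
  have h3 := frattini_nongenerating h2
  rw [subgroupOf_eq_top] at h3
  exact h3.trans inf_le_left

/-- Generation by centralizers: a noncyclic abelian group `A` acting coprimely on `K`. -/
theorem generated_by_centralizers [Finite G] (A K : Subgroup G) [IsMulCommutative A]
    (hA : ¬ IsCyclic A) (hAK : A ≤ normalizer (K : Set G))
    (hcop : (Nat.card A).Coprime (Nat.card K)) :
    (⨆ a ∈ {a : G | a ∈ A ∧ a ≠ 1}, K ⊓ centralizer {a}) = K := by
  set J := ⨆ a ∈ {a : G | a ∈ A ∧ a ≠ 1}, K ⊓ centralizer {a} with hJ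
  have hJK : J ≤ K := iSup₂_le fun a _ => inf_le_left
  obtain ⟨r, hr, x, y, hx, hy, hy1, hxy⟩ := exists_rank_two_of_not_isCyclic hA
  have hrf : Fact r.Prime := ⟨hr⟩
  have hrA : r ∣ Nat.card A := by
    have : orderOf y = r := orderOf_eq_prime hy hy1
    rw [← this]
    exact orderOf_dvd_natCard y
  have hrK : (Nat.card K).Coprime r := (hcop.coprime_dvd_left hrA).symm
  have hle : ∀ a ∈ A, a ≠ 1 → K ⊓ centralizer {a} ≤ J :=
    fun a ha ha1 => le_iSup₂_of_le a ⟨ha, ha1⟩ le_rfl
  have hxyj : ∀ j < r, (x : G) * (y : G) ^ j ≠ 1 := by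
    intro j _ h
    apply hxy
    have h1 : x = (y ^ j)⁻¹ := by
      apply Subtype.ext
      push_cast
      exact eq_inv_of_mul_eq_one_left h
    rw [h1]
    exact inv_mem (pow_mem (mem_zpowers y) j)
  have key : ∀ q : ℕ, ∀ _ : Fact q.Prime, ∀ Q : Sylow q K,
      A ≤ normalizer (((Q : Subgroup K).map K.subtype : Subgroup G) : Set G) →
      (Q : Subgroup K).map K.subtype ≤ J := by
    intro q hq Q hAQ
    have hQK : (Q : Subgroup K).map K.subtype ≤ K := map_subtype_le _
    have hQp : IsPGroup q ((Q : Subgroup K).map K.subtype) := Q.2.map _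
    refine pgroup_le_of_centralizers _ hQp hr ?_ (hAQ x.2) (hAQ y.2) ?_ ?_ ?_ J ?_ ?_
    · exact hrK.coprime_dvd_left (card_dvd_of_le hQK)
    · exact congrArg Subtype.val (mul_comm x y)
    · exact congrArg Subtype.val hx
    · exact congrArg Subtype.val hy
    · exact (inf_le_inf_right _ hQK).trans (hle y y.2 (fun h => hy1 (Subtype.ext h)))
    · intro j hj
      exact (inf_le_inf_right _ hQK).trans
        (hle _ (mul_mem x.2 (pow_mem y.2 j)) (hxyj j hj))
  have hdvd : Nat.card K ∣ Nat.card J := by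
    rw [← Nat.factorization_prime_le_iff_dvd Nat.card_pos.ne' Nat.card_pos.ne']
    intro q hq
    have hqf : Fact q.Prime := ⟨hq⟩
    obtain ⟨Q, hQ⟩ := coprime_exists_invariant_sylow A K hAK hcop
      (Or.inl (isSolvable_of_isMulCommutative A)) q
    have h1 := card_dvd_of_le (key q hqf Q hQ)
    rw [card_map_of_injective (subtype_injective _), Sylow.card_eq_multiplicity] at h1
    exact (hq.pow_dvd_iff_le_factorization Nat.card_pos.ne').mp h1
  exact eq_of_le_of_card_ge hJK (Nat.le_of_dvd Nat.card_pos hdvd)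

end Cfsg.Agent.Lead
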