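import Mathlib
import Cfsg.Prelude.Def_OddOrderLocal

set_option autoImplicit false

/-! Hall `π`-subgroups (ambient form `Cfsg.IsPiHall`) and normal subgroups. -/

namespace Cfsg.Agent.Lead

open Subgroup

variable {G : Type*} [Group G]

theorem card_eq_relIndex_mul_card {H K : Subgroup G} (h : H ≤ K) :
    Nat.card K = H.relIndex K * Nat.card H := by
  have := relIndex_mul_relIndex ⊥ H K bot_le h
  rw [relIndex_bot_left, relIndex_bot_left] at this
  rw [mul_comm]; exact this.symm

/-- For `A` normal, `[HA : H] = [A : A ∩ H]`. -/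
theorem relIndex_sup_of_normal_right [Finite G] (H A : Subgroup G) [A.Normal] :
    H.relIndex (H ⊔ A) = H.relIndex A := by
  have h1 : Nat.card (H ⊔ A : Subgroup G) = A.relIndex H * Nat.card A := by
    rw [card_eq_relIndex_mul_card (le_sup_right : A ≤ H ⊔ A), relIndex_sup_right]
  have h2 : Nat.card H = A.relIndex H * Nat.card (H ⊓ A : Subgroup G) := by
    rw [card_eq_relIndex_mul_card (inf_le_left : H ⊓ A ≤ H), inf_relIndex_left]
  have h3 : Nat.card A = H.relIndex A * Nat.card (H ⊓ A : Subgroup G) := by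
    rw [card_eq_relIndex_mul_card (inf_le_right : H ⊓ A ≤ A), inf_relIndex_right]
  have h4 : Nat.card (H ⊔ A : Subgroup G) = H.relIndex (H ⊔ A) * Nat.card H :=
    card_eq_relIndex_mul_card le_sup_left
  have h5 : H.relIndex (H ⊔ A) * Nat.card H = H.relIndex A * Nat.card H := by
    rw [← h4, h1, h3]
    conv_rhs => rw [h2]
    ring
  exact Nat.eq_of_mul_eq_mul_right Nat.card_pos h5

/-- A Hall `π`-subgroup meets a normal subgroup in a Hall `π`-subgroup of it. -/
theorem isPiHall_inf_subgroupOf_normal [Finite G] (π : Set ℕ) (H A : Subgroup G) [A.Normal]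
    (hH : Cfsg.IsPiHall π H) : Cfsg.IsPiHall π ((H ⊓ A).subgroupOf A) := by
  obtain ⟨h1, h2⟩ := hH
  refine ⟨fun p hp hpd => ?_, fun p hp hpπ hpd => ?_⟩
  · apply h1 p hp
    rw [Nat.card_congr (subgroupOfEquivOfLe (inf_le_right : H ⊓ A ≤ A)).toEquiv] at hpd
    exact hpd.trans (card_dvd_of_le inf_le_left)
  · apply h2 p hp hpπ
    have h3 : ((H ⊓ A).subgroupOf A).index = H.relIndex A := inf_relIndex_right H A
    rw [h3, ← relIndex_sup_of_normal_right] at hpd
    exact hpd.trans (relIndex_dvd_index_of_le le_sup_left)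

/-- The image of a Hall `π`-subgroup in a quotient is a Hall `π`-subgroup. -/
theorem isPiHall_map_mk' [Finite G] (π : Set ℕ) (H A : Subgroup G) [A.Normal]
    (hH : Cfsg.IsPiHall π H) : Cfsg.IsPiHall π (H.map (QuotientGroup.mk' A)) := by
  obtain ⟨h1, h2⟩ := hH
  refine ⟨fun p hp hpd => ?_, fun p hp hpπ hpd => ?_⟩
  · exact h1 p hp (hpd.trans (card_map_dvd _ _))
  · apply h2 p hp hpπ
    exact hpd.trans (index_map_dvd H (QuotientGroup.mk'_surjective A))

end Cfsg.Agent.Lead
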