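import Mathlib

set_option autoImplicit false
set_option linter.style.haveILetI false
set_option linter.unusedSectionVars false

/-!
# Fixed-point-free automorphisms of prime order: basic facts
-/

namespace Cfsg.Agent.Lead.Fpf

open Subgroup

variable {G : Type*} [Group G]

/-- `φ` is a fixed-point-free automorphism with `φ^r = 1` -/
structure FpfAut (r : ℕ) (φ : G ≃* G) : Prop where
  fpf : ∀ g, φ g = g → g = 1
  pow : ∀ g, φ^[r] g = g

/-- the restriction of an automorphism to an invariant subgroup -/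
noncomputable def restrict (φ : G ≃* G) (H : Subgroup G) (hH : H.map φ.toMonoidHom = H) :
    H ≃* H :=
  (φ.subgroupMap H).trans (MulEquiv.subgroupCongr hH)

@[simp]
theorem coe_restrict (φ : G ≃* G) (H : Subgroup G) (hH : H.map φ.toMonoidHom = H) (x : H) :
    ((restrict φ H hH x : H) : G) = φ x := rfl

theorem coe_restrict_iterate (φ : G ≃* G) (H : Subgroup G) (hH : H.map φ.toMonoidHom = H)
    (n : ℕ) (x : H) : (((restrict φ H hH)^[n] x : H) : G) = φ^[n] x := by
  induction n with
  | zero => rfl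
  | succ n ih => rw [Function.iterate_succ_apply', Function.iterate_succ_apply', coe_restrict, ih]

theorem FpfAut.restrict {r : ℕ} {φ : G ≃* G} (h : FpfAut r φ) (H : Subgroup G)
    (hH : H.map φ.toMonoidHom = H) : FpfAut r (restrict φ H hH) := by
  refine ⟨fun x hx => ?_, fun x => ?_⟩
  · apply Subtype.ext
    apply h.fpf
    have := congrArg Subtype.val hx
    simpa using this
  · apply Subtype.ext
    rw [coe_restrict_iterate]
    exact h.pow x

/-- the automorphism induced on the quotient by an invariant normal subgroup -/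
noncomputable def quot (φ : G ≃* G) (N : Subgroup G) [N.Normal] (hN : N.map φ.toMonoidHom = N) :
    G ⧸ N ≃* G ⧸ N :=
  QuotientGroup.congr N N φ hN

theorem quot_mk (φ : G ≃* G) (N : Subgroup G) [N.Normal] (hN : N.map φ.toMonoidHom = N)
    (x : G) : quot φ N hN (QuotientGroup.mk x) = QuotientGroup.mk (φ x) := rfl

theorem quotient_iterate (φ : G ≃* G) (N : Subgroup G) [N.Normal] (hN : N.map φ.toMonoidHom = N)
    (n : ℕ) (x : G) :
    (quot φ N hN)^[n] (QuotientGroup.mk x) = QuotientGroup.mk (φ^[n] x) := by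
  induction n with
  | zero => rfl
  | succ n ih =>
    rw [Function.iterate_succ_apply', Function.iterate_succ_apply', ih, quot_mk]

/-- every element is of the form `g⁻¹ φ(g)` -/
theorem FpfAut.exists_inv_mul [Finite G] {r : ℕ} {φ : G ≃* G} (h : FpfAut r φ) (x : G) :
    ∃ g : G, g⁻¹ * φ g = x := by
  have hfpf : MonoidHom.FixedPointFree φ := h.fpf
  obtain ⟨g, hg⟩ := hfpf.commutatorMap_surjective x
  refine ⟨g⁻¹, ?_⟩
  rw [MonoidHom.commutatorMap_apply] at hg
  rw [inv_inv, map_inv, ← div_eq_mul_inv]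
  exact hg

theorem FpfAut.quotient [Finite G] {r : ℕ} {φ : G ≃* G} (h : FpfAut r φ) (N : Subgroup G)
    [N.Normal] (hN : N.map φ.toMonoidHom = N) : FpfAut r (quot φ N hN) := by
  refine ⟨fun y hy => ?_, fun y => ?_⟩
  · obtain ⟨g, rfl⟩ := QuotientGroup.mk_surjective y
    rw [quot_mk] at hy
    have h1 : g⁻¹ * φ g ∈ N := by
      rw [← QuotientGroup.eq]
      exact hy.symm
    -- write `g⁻¹ φ(g) = n⁻¹ φ(n)` with `n ∈ N`
    obtain ⟨n, hn⟩ := (h.restrict N hN).exists_inv_mul ⟨g⁻¹ * φ g, h1⟩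
    have hn' : (n : G)⁻¹ * φ n = g⁻¹ * φ g := by
      have := congrArg Subtype.val hn
      simpa using this
    have h2 : φ (g * (n : G)⁻¹) = g * (n : G)⁻¹ := by
      have h3 : φ g = g * ((n : G)⁻¹ * φ n) := by rw [hn']; group
      rw [map_mul, map_inv, h3]; group
    have h4 := h.fpf _ h2
    have h5 : g = n := by
      rw [mul_inv_eq_one] at h4; exact h4
    rw [h5]
    exact (QuotientGroup.eq_one_iff _).mpr n.2
  · obtain ⟨g, rfl⟩ := QuotientGroup.mk_surjective y
    rw [quotient_iterate, h.pow]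

/-- an invariant Sylow subgroup -/
theorem FpfAut.exists_invariant_sylow [Finite G] {r : ℕ} {φ : G ≃* G} (h : FpfAut r φ)
    (q : ℕ) [Fact q.Prime] : ∃ P : Sylow q G, (P : Subgroup G).map φ.toMonoidHom = P := by
  obtain ⟨P₀⟩ : Nonempty (Sylow q G) := inferInstance
  -- `φ • P₀` is a conjugate of `P₀`
  obtain ⟨x, hx⟩ := MulAction.exists_smul_eq G P₀ (φ • P₀)
  have hx' : (P₀ : Subgroup G).map (MulAut.conj x).toMonoidHom =
      (P₀ : Subgroup G).map φ.toMonoidHom := by
    have h1 : ((x • P₀ : Sylow q G) : Subgroup G) =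
        (P₀ : Subgroup G).map (MulAut.conj x).toMonoidHom := rfl
    have h2 : ((φ • P₀ : Sylow q G) : Subgroup G) = (P₀ : Subgroup G).map φ.toMonoidHom := rfl
    rw [← h1, ← h2, hx]
  -- choose `g` with `g⁻¹ φ(g) = x⁻¹`
  obtain ⟨g, hg⟩ := h.exists_inv_mul x⁻¹
  refine ⟨g • P₀, ?_⟩
  have h3 : ((g • P₀ : Sylow q G) : Subgroup G) =
      (P₀ : Subgroup G).map (MulAut.conj g).toMonoidHom := rfl
  rw [h3, Subgroup.map_map]
  have h4 : φ.toMonoidHom.comp (MulAut.conj g).toMonoidHom =
      ((MulAut.conj (φ g)).toMonoidHom).comp φ.toMonoidHom := by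
    ext y
    simp [MulAut.conj_apply]
  rw [h4, ← Subgroup.map_map, ← hx', Subgroup.map_map]
  congr 1
  ext y
  have h5 : φ g = g * x⁻¹ := by rw [← hg]; group
  simp only [MonoidHom.coe_comp, MulEquiv.coe_toMonoidHom, Function.comp_apply,
    MulAut.conj_apply, h5]
  group

end Cfsg.Agent.Lead.Fpf
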