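import Mathlib

set_option autoImplicit false
set_option linter.style.haveILetI false

/-!
# Quadratic action of an element of odd prime order

`Γ` acts on a commutative group `V` of exponent `p` (`p` odd).  If `a ∈ Γ` acts quadratically on
`V`, `a ^ p = 1`, and `a` normalizes a finite subgroup `R` of order prime to `p` on which it acts
without fixed points, then `R` acts trivially on `V`.
-/

namespace Cfsg.Agent.Lead.TNC

open Finset

variable {Γ V : Type*} [Group Γ] [CommGroup V] [MulDistribMulAction Γ V]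

/-- the "commutator" `[a, v]` of the action -/
def cc (a : Γ) (v : V) : V := (a • v) * v⁻¹

theorem pow_smul_eq (a : Γ) (hq : ∀ v : V, a • cc a v = cc a v) (v : V) (i : ℕ) :
    a ^ i • v = v * (cc a v) ^ i := by
  induction i with
  | zero => simp
  | succ n ih =>
    rw [pow_succ', mul_smul, ih, smul_mul', smul_pow', hq, pow_succ]
    unfold cc
    rw [mul_comm ((a • v * v⁻¹) ^ n) (a • v * v⁻¹), ← mul_assoc, ← mul_assoc, mul_comm v (a • v),
      mul_inv_cancel_right]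

theorem prod_pow_smul_eq_one {p : ℕ} (hp : Odd p) (hV : ∀ v : V, v ^ p = 1) (a : Γ)
    (hq : ∀ v : V, a • cc a v = cc a v) (v : V) : ∏ i ∈ range p, a ^ i • v = 1 := by
  have h1 : ∀ i ∈ range p, a ^ i • v = v * (cc a v) ^ i := fun i _ => pow_smul_eq a hq v i
  rw [prod_congr rfl h1, prod_mul_distrib, prod_const, card_range, hV, one_mul,
    prod_pow_eq_pow_sum]
  obtain ⟨k, hk⟩ := hp
  have h2 : (∑ i ∈ range p, i) = p * k := by
    have h3 := Finset.sum_range_id_mul_two p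
    have h4 : p - 1 = 2 * k := by omega
    rw [h4] at h3
    have : (∑ i ∈ range p, i) * 2 = (p * k) * 2 := by rw [h3]; ring
    exact Nat.eq_of_mul_eq_mul_right (by norm_num) this
  rw [h2, pow_mul, hV, one_pow]

/-- the norm map of a finite subgroup -/
noncomputable def nrm (R : Subgroup Γ) [Fintype R] : V →* V :=
  ∏ s : R, MulDistribMulAction.toMonoidHom V (s : Γ)

theorem nrm_apply (R : Subgroup Γ) [Fintype R] (v : V) : nrm R v = ∏ s : R, (s : Γ) • v := by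
  unfold nrm
  rw [MonoidHom.finsetProd_apply]
  rfl

theorem smul_nrm (R : Subgroup Γ) [Fintype R] (s : Γ) (hs : s ∈ R) (v : V) :
    s • nrm R v = nrm R v := by
  rw [nrm_apply, Finset.smul_prod']
  have := Equiv.prod_comp (Equiv.mulLeft (⟨s, hs⟩ : R)) (fun r : R => (r : Γ) • v)
  rw [← this]
  apply Finset.prod_congr rfl
  intro r _
  rw [Equiv.coe_mulLeft, Subgroup.coe_mul, mul_smul]

theorem eq_of_pow_eq {p n : ℕ} (hp : p.Prime) (hV : ∀ v : V, v ^ p = 1) (hn : n.Coprime p)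
    {x y : V} (h : x ^ n = y ^ n) : x = y := by
  obtain ⟨m, -, hm⟩ := Nat.exists_mul_mod_eq_one_of_coprime hn hp.one_lt
  have hx : x ^ (n * m) = x := by rw [pow_eq_pow_mod _ (hV x), hm, pow_one]
  have hy : y ^ (n * m) = y := by rw [pow_eq_pow_mod _ (hV y), hm, pow_one]
  rw [← hx, ← hy, pow_mul, pow_mul, h]


/-- if `a ^ p = 1` and `0 < i < p` then `a` is a power of `a ^ i` -/
theorem exists_pow_pow_eq {p : ℕ} (hp : p.Prime) (a : Γ) (hap : a ^ p = 1) {i : ℕ} (hi0 : 0 < i)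
    (hip : i < p) : ∃ j : ℕ, (a ^ i) ^ j = a := by
  have hc : i.Coprime p := (Nat.coprime_of_lt_prime hi0.ne' hip hp).symm
  obtain ⟨m, -, hm⟩ := Nat.exists_mul_mod_eq_one_of_coprime hc hp.one_lt
  exact ⟨m, by rw [← pow_mul, pow_eq_pow_mod _ hap, hm, pow_one]⟩

/-- **Lemma Q.** -/
theorem quad_trivial {p : ℕ} (hp : p.Prime) (hodd : p ≠ 2) (hV : ∀ v : V, v ^ p = 1)
    (a : Γ) (hap : a ^ p = 1) (hq : ∀ v : V, a • cc a v = cc a v)
    (R : Subgroup Γ) [Finite R] (hR : (Nat.card R).Coprime p)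
    (hnorm : a ∈ Subgroup.normalizer (R : Set Γ)) (hfpf : ∀ r ∈ R, a * r = r * a → r = 1)
    (r : Γ) (hr : r ∈ R) (v : V) : r • v = v := by
  classical
  haveI : Fintype R := Fintype.ofFinite R
  have hoddp : Odd p := hp.odd_of_ne_two hodd
  -- conjugates of the trace
  have hT : ∀ (s : Γ) (w : V), ∏ i ∈ range p, (s * a ^ i * s⁻¹) • w = 1 := by
    intro s w
    have h1 : ∀ i ∈ range p, (s * a ^ i * s⁻¹) • w = s • (a ^ i • (s⁻¹ • w)) := by
      intro i _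
      rw [mul_smul, mul_smul]
    rw [prod_congr rfl h1, ← Finset.smul_prod', prod_pow_smul_eq_one hoddp hV a hq, smul_one]
  -- the map `s ↦ s a^i s⁻¹ a^{-i}` is a bijection of `R`
  have hbij : ∀ i : ℕ, 0 < i → i < p → ∀ w : V,
      ∏ s : R, ((s : Γ) * a ^ i * (s : Γ)⁻¹) • w = nrm R (a ^ i • w) := by
    intro i hi0 hip w
    have hmem : ∀ s : R, (s : Γ) * a ^ i * (s : Γ)⁻¹ * (a ^ i)⁻¹ ∈ R := by
      intro s
      have h1 : a ^ i ∈ Subgroup.normalizer (R : Set Γ) := pow_mem hnorm i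
      have h2 : a ^ i * (s : Γ)⁻¹ * (a ^ i)⁻¹ ∈ R :=
        (Subgroup.mem_normalizer_iff.mp h1 _).mp (inv_mem s.2)
      have h3 : (s : Γ) * a ^ i * (s : Γ)⁻¹ * (a ^ i)⁻¹ = (s : Γ) * (a ^ i * (s : Γ)⁻¹ * (a ^ i)⁻¹) := by
        group
      rw [h3]
      exact mul_mem s.2 h2
    let φ : R → R := fun s => ⟨(s : Γ) * a ^ i * (s : Γ)⁻¹ * (a ^ i)⁻¹, hmem s⟩
    have hinj : Function.Injective φ := by
      intro s t hst
      have h1 : (s : Γ) * a ^ i * (s : Γ)⁻¹ * (a ^ i)⁻¹ = (t : Γ) * a ^ i * (t : Γ)⁻¹ * (a ^ i)⁻¹ :=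
        congrArg Subtype.val hst
      have h2 : a ^ i * ((t : Γ)⁻¹ * s) = ((t : Γ)⁻¹ * s) * a ^ i := by
        have h3 : (s : Γ) * a ^ i * (s : Γ)⁻¹ = (t : Γ) * a ^ i * (t : Γ)⁻¹ := mul_right_cancel h1
        calc a ^ i * ((t : Γ)⁻¹ * s) = (t : Γ)⁻¹ * ((t : Γ) * a ^ i * (t : Γ)⁻¹) * s := by group
          _ = (t : Γ)⁻¹ * ((s : Γ) * a ^ i * (s : Γ)⁻¹) * s := by rw [h3]
          _ = ((t : Γ)⁻¹ * s) * a ^ i := by group
      obtain ⟨j, hj⟩ := exists_pow_pow_eq hp a hap hi0 hip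
      have h4 : a * ((t : Γ)⁻¹ * s) = ((t : Γ)⁻¹ * s) * a := by
        have : Commute (a ^ i) ((t : Γ)⁻¹ * s) := h2
        have h5 := this.pow_left j
        rw [hj] at h5
        exact h5
      have h6 := hfpf _ (mul_mem (inv_mem t.2) s.2) h4
      apply Subtype.ext
      have : (s : Γ) = (t : Γ) := by
        have h7 : (t : Γ) * ((t : Γ)⁻¹ * s) = (t : Γ) * 1 := by rw [h6]
        rw [mul_inv_cancel_left, mul_one] at h7
        exact h7
      exact this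
    have hbij : Function.Bijective φ := Finite.injective_iff_bijective.mp hinj
    rw [nrm_apply]
    rw [← Function.Bijective.prod_comp hbij (fun s : R => (s : Γ) • (a ^ i • w))]
    apply Finset.prod_congr rfl
    intro s _
    show _ = ((s : Γ) * a ^ i * (s : Γ)⁻¹ * (a ^ i)⁻¹) • (a ^ i • w)
    rw [← mul_smul, inv_mul_cancel_right]
  -- main computation
  obtain ⟨n, hn⟩ : ∃ n, p = n + 1 := ⟨p - 1, by have := hp.pos; omega⟩
  have key1 : (1 : V) = ∏ i ∈ range p, ∏ s : R, ((s : Γ) * a ^ i * (s : Γ)⁻¹) • v := by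
    rw [Finset.prod_comm]
    symm
    apply Finset.prod_eq_one
    intro s _
    exact hT s v
  have key2 : (1 : V) = ∏ i ∈ range p, nrm R (a ^ i • v) := by
    rw [← map_prod, prod_pow_smul_eq_one hoddp hV a hq, map_one]
  rw [hn, Finset.prod_range_succ'] at key1 key2
  have hrest : ∏ i ∈ range n, ∏ s : R, ((s : Γ) * a ^ (i + 1) * (s : Γ)⁻¹) • v
      = ∏ i ∈ range n, nrm R (a ^ (i + 1) • v) := by
    apply Finset.prod_congr rfl
    intro i hi
    rw [Finset.mem_range] at hi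
    exact hbij (i + 1) (Nat.succ_pos i) (by omega) v
  rw [hrest] at key1
  have h0 : ∏ s : R, ((s : Γ) * a ^ 0 * (s : Γ)⁻¹) • v = v ^ Nat.card R := by
    have : ∀ s ∈ (Finset.univ : Finset R), ((s : Γ) * a ^ 0 * (s : Γ)⁻¹) • v = v := by
      intro s _
      rw [pow_zero, mul_one, mul_inv_cancel, one_smul]
    rw [Finset.prod_congr rfl this, Finset.prod_const, Finset.card_univ, Nat.card_eq_fintype_card]
  rw [h0] at key1
  rw [pow_zero, one_smul] at key2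
  have hN : nrm R v = v ^ Nat.card R := by
    have := key1.symm.trans key2
    exact (mul_left_cancel this).symm
  -- conclusion
  apply eq_of_pow_eq hp hV hR
  rw [← smul_pow', ← hN]
  exact smul_nrm R r hr v


/-- the subgroup `[a, Λ]` of an abelian subgroup `Λ` normalized by `a` -/
def commSub (a : Γ) (Λ : Subgroup Γ) (hcomm : ∀ x ∈ Λ, ∀ y ∈ Λ, x * y = y * x)
    (hnorm : a ∈ Subgroup.normalizer (Λ : Set Γ)) : Subgroup Γ where
  carrier := {y | ∃ x ∈ Λ, y = a * x * a⁻¹ * x⁻¹}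
  one_mem' := ⟨1, one_mem _, by group⟩
  mul_mem' := by
    rintro y1 y2 ⟨x1, hx1, rfl⟩ ⟨x2, hx2, rfl⟩
    refine ⟨x1 * x2, mul_mem hx1 hx2, ?_⟩
    have hc2 : a * x2 * a⁻¹ ∈ Λ := (Subgroup.mem_normalizer_iff.mp hnorm _).mp hx2
    have e1 : x1⁻¹ * (a * x2 * a⁻¹ * x2⁻¹) = (a * x2 * a⁻¹ * x2⁻¹) * x1⁻¹ :=
      hcomm _ (inv_mem hx1) _ (mul_mem hc2 (inv_mem hx2))
    calc a * x1 * a⁻¹ * x1⁻¹ * (a * x2 * a⁻¹ * x2⁻¹)
        = a * x1 * a⁻¹ * (x1⁻¹ * (a * x2 * a⁻¹ * x2⁻¹)) := by group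
      _ = a * x1 * a⁻¹ * ((a * x2 * a⁻¹ * x2⁻¹) * x1⁻¹) := by rw [e1]
      _ = a * (x1 * x2) * a⁻¹ * (x1 * x2)⁻¹ := by group
  inv_mem' := by
    rintro y ⟨x, hx, rfl⟩
    refine ⟨x⁻¹, inv_mem hx, ?_⟩
    have hc : a * x * a⁻¹ ∈ Λ := (Subgroup.mem_normalizer_iff.mp hnorm _).mp hx
    have e1 : x * (a * x * a⁻¹)⁻¹ = (a * x * a⁻¹)⁻¹ * x := hcomm _ hx _ (inv_mem hc)
    calc (a * x * a⁻¹ * x⁻¹)⁻¹ = x * (a * x * a⁻¹)⁻¹ := by group
      _ = (a * x * a⁻¹)⁻¹ * x := e1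
      _ = a * x⁻¹ * a⁻¹ * x⁻¹⁻¹ := by group

theorem mem_commSub {a : Γ} {Λ : Subgroup Γ} {hcomm : ∀ x ∈ Λ, ∀ y ∈ Λ, x * y = y * x}
    {hnorm : a ∈ Subgroup.normalizer (Λ : Set Γ)} {y : Γ} :
    y ∈ commSub a Λ hcomm hnorm ↔ ∃ x ∈ Λ, y = a * x * a⁻¹ * x⁻¹ := Iff.rfl

theorem commSub_le (a : Γ) (Λ : Subgroup Γ) (hcomm : ∀ x ∈ Λ, ∀ y ∈ Λ, x * y = y * x)
    (hnorm : a ∈ Subgroup.normalizer (Λ : Set Γ)) : commSub a Λ hcomm hnorm ≤ Λ := by
  rintro y ⟨x, hx, rfl⟩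
  exact mul_mem ((Subgroup.mem_normalizer_iff.mp hnorm _).mp hx) (inv_mem hx)

/-- **Lemma Q2.** -/
theorem quad_comm_trivial {p : ℕ} (hp : p.Prime) (hodd : p ≠ 2) (hV : ∀ v : V, v ^ p = 1)
    (a : Γ) (hap : a ^ p = 1) (hq : ∀ v : V, a • cc a v = cc a v)
    (Λ : Subgroup Γ) [Finite Λ] (hΛ : (Nat.card Λ).Coprime p)
    (hcomm : ∀ x ∈ Λ, ∀ y ∈ Λ, x * y = y * x)
    (hnorm : a ∈ Subgroup.normalizer (Λ : Set Γ)) (x : Γ) (hx : x ∈ Λ) (v : V) :
    (a * x * a⁻¹ * x⁻¹) • v = v := by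
  set R := commSub a Λ hcomm hnorm with hR
  have hRΛ : R ≤ Λ := commSub_le a Λ hcomm hnorm
  haveI : Finite R := Finite.of_injective _ (Subgroup.inclusion_injective hRΛ)
  have hRc : (Nat.card R).Coprime p := Nat.Coprime.coprime_dvd_left (Subgroup.card_dvd_of_le hRΛ) hΛ
  have hinvmem : ∀ z ∈ Λ, a⁻¹ * z * a ∈ Λ := by
    intro z hz
    have h1 : a⁻¹ ∈ Subgroup.normalizer (Λ : Set Γ) := inv_mem hnorm
    have := (Subgroup.mem_normalizer_iff.mp h1 _).mp hz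
    rwa [inv_inv] at this
  have hRn : a ∈ Subgroup.normalizer (R : Set Γ) := by
    rw [Subgroup.mem_normalizer_iff]
    intro y
    constructor
    · rintro ⟨z, hz, rfl⟩
      refine ⟨a * z * a⁻¹, (Subgroup.mem_normalizer_iff.mp hnorm _).mp hz, ?_⟩
      group
    · rintro ⟨z, hz, hzy⟩
      refine ⟨a⁻¹ * z * a, hinvmem z hz, ?_⟩
      have : y = a⁻¹ * (a * y * a⁻¹) * a := by group
      rw [this, hzy]
      group
  have hfpf : ∀ r ∈ R, a * r = r * a → r = 1 := by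
    rintro y ⟨z, hz, rfl⟩ hy
    set y := a * z * a⁻¹ * z⁻¹ with hy_def
    have hyΛ : y ∈ Λ := hRΛ ⟨z, hz, rfl⟩
    have h1 : a * y * a⁻¹ = y := by rw [hy]; group
    have h2 : a * z * a⁻¹ = y * z := by rw [hy_def]; group
    have h3 : ∀ i : ℕ, a ^ i * z * (a ^ i)⁻¹ = y ^ i * z := by
      intro i
      induction i with
      | zero => simp
      | succ n ih =>
        calc a ^ (n + 1) * z * (a ^ (n + 1))⁻¹ = a * (a ^ n * z * (a ^ n)⁻¹) * a⁻¹ := by
              rw [pow_succ']; group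
          _ = a * (y ^ n * z) * a⁻¹ := by rw [ih]
          _ = (a * y * a⁻¹) ^ n * (a * z * a⁻¹) := by
              rw [conj_pow]; group
          _ = y ^ (n + 1) * z := by rw [h1, h2, pow_succ, ← mul_assoc]
    have h4 : y ^ p = 1 := by
      have := h3 p
      rw [hap, one_mul, inv_one, mul_one] at this
      exact (mul_eq_right.mp this.symm)
    have h5 : orderOf y ∣ p := orderOf_dvd_of_pow_eq_one h4
    have h6 : orderOf y ∣ Nat.card Λ := by
      have := orderOf_dvd_natCard (⟨y, hyΛ⟩ : Λ)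
      rwa [Subgroup.orderOf_mk] at this
    have h7 : orderOf y ∣ 1 := by
      have := Nat.dvd_gcd h6 h5
      rwa [Nat.Coprime.gcd_eq_one hΛ] at this
    exact orderOf_eq_one_iff.mp (Nat.dvd_one.mp h7)
  exact quad_trivial hp hodd hV a hap hq R hRc hRn hfpf _ ⟨x, hx, rfl⟩ v

end Cfsg.Agent.Lead.TNC
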