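import Mathlib
import Cfsg.Prelude.Def_Transfer
import Cfsg.Prelude.Def_Solvable
import Cfsg.Agent.Helper9.NPC
import Cfsg.Agent.Helper9.NPCSub
import Cfsg.Agent.Helper21.NPCSections
import Cfsg.Agent.Helper23.PSeries
import Cfsg.Agent.Helper11.SylowInter
import Cfsg.Agent.S0072

set_option autoImplicit false
set_option linter.style.haveILetI false
set_option linter.unusedSectionVars false

/-!
# Normal `p`-complement theorems: the abstract reduction, part 1

Transfer lemmas for `HasNormalPComplement`, the notion of a *control hypothesis* and the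
first steps in the analysis of a minimal counterexample.
-/

namespace Cfsg.Agent.Lead.TNC

open Subgroup

universe u

section npc

variable {p : ℕ} [Fact p.Prime]

theorem npc_of_mulEquiv {A B : Type*} [Group A] [Group B] [Finite A] (e : A ≃* B)
    (h : Cfsg.HasNormalPComplement p A) : Cfsg.HasNormalPComplement p B :=
  Cfsg.Agent.Helper21.NPCSections.npc_of_surjective e.toMonoidHom e.surjective h

theorem npc_of_injective {A B : Type*} [Group A] [Group B] [Finite B] (f : A →* B)
    (hf : Function.Injective f) (h : Cfsg.HasNormalPComplement p B) :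
    Cfsg.HasNormalPComplement p A := by
  have h1 := Cfsg.Agent.Helper9.hasNormalPComplement_subgroup h f.range
  exact npc_of_mulEquiv (MonoidHom.ofInjective hf).symm h1

theorem npc_of_eq {G : Type*} [Group G] {K K' : Subgroup G} (h : K = K')
    (hK : Cfsg.HasNormalPComplement p K) : Cfsg.HasNormalPComplement p K' := by
  subst h; exact hK

theorem npc_of_top {G : Type*} [Group G] [Finite G]
    (h : Cfsg.HasNormalPComplement p (⊤ : Subgroup G)) : Cfsg.HasNormalPComplement p G :=
  npc_of_mulEquiv Subgroup.topEquiv h

theorem npc_of_le {G : Type*} [Group G] [Finite G] {K K' : Subgroup G} (h : K ≤ K')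
    (hK : Cfsg.HasNormalPComplement p K') : Cfsg.HasNormalPComplement p K :=
  npc_of_injective (Subgroup.inclusion h) (Subgroup.inclusion_injective h) hK

theorem npc_of_sylow_eq_bot {G : Type*} [Group G] (P : Sylow p G) (h : (P : Subgroup G) = ⊥) :
    Cfsg.HasNormalPComplement p G :=
  ⟨P, ⊤, inferInstance, by rw [h]; exact isComplement'_top_bot⟩

/-- lifting a normal `p`-complement through a normal `p'`-subgroup -/
theorem npc_of_quotient {G : Type*} [Group G] [Finite G] (K : Subgroup G) [K.Normal]
    (hK : (Nat.card K).Coprime p) (h : Cfsg.HasNormalPComplement p (G ⧸ K)) :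
    Cfsg.HasNormalPComplement p G := by
  have hp : p.Prime := Fact.out
  obtain ⟨P, M, hMn, hc⟩ := h
  have hM'n : (M.comap (QuotientGroup.mk' K)).Normal := hMn.comap _
  have hcard := Cfsg.Agent.Helper23.card_comap_mk' K M
  have hMc : (Nat.card M).Coprime p := by
    have h1 : (P : Subgroup (G ⧸ K)).index = Nat.card M := hc.index_eq_card
    rw [← h1]
    exact ((Nat.Prime.coprime_iff_not_dvd hp).mpr P.not_dvd_index).symm
  obtain ⟨n, hn⟩ := IsPGroup.iff_card.mp P.2
  have hidx : (M.comap (QuotientGroup.mk' K)).index = p ^ n := by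
    rw [Subgroup.index_comap_of_surjective _ (QuotientGroup.mk'_surjective _), ← hn]
    exact hc.symm.index_eq_card
  exact Cfsg.Agent.Helper21.NPCSections.npc_of_normal_coprime _ hM'n
    (by rw [hcard]; exact Nat.Coprime.mul_left hK hMc) n hidx

/-- the normalizer of a subgroup of a subgroup embeds in the normalizer of its image -/
theorem npc_normalizer_of_map {G : Type*} [Group G] [Finite G] (N : Subgroup G) (X : Subgroup N)
    (h : Cfsg.HasNormalPComplement p (normalizer ((X.map N.subtype : Subgroup G) : Set G))) :
    Cfsg.HasNormalPComplement p (normalizer (X : Set N)) := by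
  have hmem : ∀ x : normalizer (X : Set N),
      (N.subtype.comp (normalizer (X : Set N)).subtype) x ∈
        normalizer ((X.map N.subtype : Subgroup G) : Set G) := by
    intro x
    apply Subgroup.le_normalizer_map N.subtype
    exact ⟨x.1, x.2, rfl⟩
  refine npc_of_injective ((N.subtype.comp (normalizer (X : Set N)).subtype).codRestrict _ hmem)
    ?_ h
  intro x y hxy
  have h1 : ((x : N) : G) = ((y : N) : G) :=
    congrArg (fun z : normalizer ((X.map N.subtype : Subgroup G) : Set G) => (z : G)) hxy
  exact Subtype.ext (Subtype.ext h1)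

/-- images of normalizers under surjections -/
theorem npc_normalizer_of_comap {G H : Type*} [Group G] [Group H] [Finite G] (f : G →* H)
    (hf : Function.Surjective f) (X : Subgroup H)
    (h : Cfsg.HasNormalPComplement p (normalizer ((X.comap f : Subgroup G) : Set G))) :
    Cfsg.HasNormalPComplement p (normalizer (X : Set H)) := by
  have h1 : (normalizer ((X.comap f : Subgroup G) : Set G)).map f = normalizer (X : Set H) := by
    rw [← Subgroup.comap_normalizer_eq_of_surjective _ hf, Subgroup.map_comap_eq_self_of_surjective hf]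
  have h2 := Cfsg.Agent.Helper21.NPCSections.npc_of_surjective
    (f.subgroupMap (normalizer ((X.comap f : Subgroup G) : Set G)))
    (f.subgroupMap_surjective _) h
  exact npc_of_eq h1 h2

end npc


section control

variable (p : ℕ) [Fact p.Prime]

/-- `X ≤ P` and in every overgroup the normalizer of `P` normalizes `X` -/
def StronglyChar {G : Type u} [Group G] (P X : Subgroup G) : Prop :=
  X ≤ P ∧ ∀ (G' : Type u) [Group G'] (f : G →* G'), Function.Injective f →
    normalizer ((P.map f : Subgroup G') : Set G') ≤ normalizer ((X.map f : Subgroup G') : Set G')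

/-- A hypothesis on (group, Sylow subgroup) which is inherited by the relevant sections and
follows from the `p`-local condition. -/
structure ControlHyp where
  /-- the hypothesis -/
  Hyp : ∀ (G : Type u) [Group G] [Finite G], Sylow p G → Prop
  iso : ∀ {G H : Type u} [Group G] [Group H] [Finite G] [Finite H] (e : G ≃* H) (P : Sylow p G)
    (Q : Sylow p H), (P : Subgroup G).map e.toMonoidHom = Q → Hyp G P → Hyp H Q
  sub : ∀ {G : Type u} [Group G] [Finite G] (P : Sylow p G) (M : Subgroup G) (PM : Sylow p M),
    (PM : Subgroup M).map M.subtype = P → Hyp G P → Hyp M PM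
  quot : ∀ {G : Type u} [Group G] [Finite G] (P : Sylow p G) (K : Subgroup G) [K.Normal],
    (Nat.card K).Coprime p → ∀ PK : Sylow p (G ⧸ K),
      (P : Subgroup G).map (QuotientGroup.mk' K) = PK → Hyp G P → Hyp (G ⧸ K) PK
  loc : ∀ {G : Type u} [Group G] [Finite G] (P : Sylow p G), (P : Subgroup G) ≠ ⊥ →
    (∀ X : Subgroup G, StronglyChar (P : Subgroup G) X → X ≠ ⊥ →
      Cfsg.HasNormalPComplement p (normalizer (X : Set G))) → Hyp G P

variable {p}

/-- a minimal counterexample -/
structure MinCE (C : ControlHyp.{u} p) (G : Type u) [Group G] [Finite G] (P : Sylow p G) :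
    Prop where
  hyp : C.Hyp G P
  ih : ∀ (G' : Type u) [Group G'] [Finite G'] (P' : Sylow p G'), Nat.card G' < Nat.card G →
    C.Hyp G' P' → Cfsg.HasNormalPComplement p G'
  not_npc : ¬ Cfsg.HasNormalPComplement p G

variable {C : ControlHyp.{u} p} {G : Type u} [Group G] [Finite G] {P : Sylow p G}

theorem MinCE.hyp_all (h : MinCE C G P) (P' : Sylow p G) : C.Hyp G P' := by
  obtain ⟨g, rfl⟩ := MulAction.exists_smul_eq G P P'
  refine C.iso (MulAut.conj g) P (g • P) ?_ h.hyp
  rw [Sylow.coe_subgroup_smul]
  rfl

theorem MinCE.conj (h : MinCE C G P) (P' : Sylow p G) : MinCE C G P' :=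
  ⟨h.hyp_all P', h.ih, h.not_npc⟩

theorem card_lt_of_ne_top {M : Subgroup G} (hM : M ≠ ⊤) : Nat.card M < Nat.card G := by
  refine lt_of_le_of_ne (Subgroup.card_le_card_group M) ?_
  intro h
  exact hM (Subgroup.eq_top_of_card_eq M h)

/-- proper subgroups containing a Sylow subgroup have normal `p`-complements -/
theorem MinCE.npc_of_sylow_le (h : MinCE C G P) (M : Subgroup G) (hM : M ≠ ⊤) (P' : Sylow p G)
    (hP'M : (P' : Subgroup G) ≤ M) : Cfsg.HasNormalPComplement p M := by
  refine h.ih M (P'.subtype hP'M) (card_lt_of_ne_top hM) ?_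
  refine C.sub P' M (P'.subtype hP'M) ?_ (h.hyp_all P')
  rw [Sylow.coe_subtype]
  exact map_subgroupOf_eq_of_le hP'M

end control

end Cfsg.Agent.Lead.TNC
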