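import Mathlib
import Cfsg.Agent.Lead.TNC2
import Cfsg.Agent.Helper14.PCore
import Cfsg.Agent.Helper7.PPrimeCore

set_option autoImplicit false
set_option linter.style.haveILetI false
set_option linter.unusedSectionVars false

/-!
# Normal `p`-complement theorems: the abstract reduction, part 2

The choice of a "bad" `p`-subgroup in a minimal counterexample and its normality.
-/

namespace Cfsg.Agent.Lead.TNC

open Subgroup

universe u

variable {p : ℕ} [Fact p.Prime]
variable {C : ControlHyp.{u} p} {G : Type u} [Group G] [Finite G] {P : Sylow p G}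

/-- the `p`-adic valuation of the order of the normalizer -/
noncomputable def nu (p : ℕ) (K : Subgroup G) : ℕ :=
  (Nat.card (normalizer (K : Set G))).factorization p

/-- nontrivial `p`-subgroups whose normalizer has no normal `p`-complement -/
def badSet (p : ℕ) (G : Type u) [Group G] : Set (Subgroup G) :=
  {K | IsPGroup p K ∧ K ≠ ⊥ ∧ ¬ Cfsg.HasNormalPComplement p (normalizer (K : Set G))}

theorem MinCE.exists_bad (h : MinCE C G P) : ∃ H ∈ badSet p G,
    (∀ K ∈ badSet p G, nu p K ≤ nu p H) ∧
    (∀ K ∈ badSet p G, nu p K = nu p H → Nat.card K ≤ Nat.card H) := by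
  have hne : (badSet p G).Nonempty := by
    have h1 := (Cfsg.Agent.S0072.result (G := G) p).not.mp h.not_npc
    push Not at h1
    obtain ⟨Q, hQ, hQne, hQn⟩ := h1
    exact ⟨Q, hQ, hQne, hQn⟩
  obtain ⟨H0, hH0, hH0max⟩ := Set.exists_max_image (badSet p G) (nu p) (Set.toFinite _) hne
  have hne2 : {K ∈ badSet p G | nu p K = nu p H0}.Nonempty := ⟨H0, hH0, rfl⟩
  obtain ⟨H, hH, hHmax⟩ := Set.exists_max_image {K ∈ badSet p G | nu p K = nu p H0}
    (fun K => Nat.card K) (Set.toFinite _) hne2
  refine ⟨H, hH.1, ?_, ?_⟩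
  · intro K hK
    rw [hH.2]
    exact hH0max K hK
  · intro K hK hKH
    exact hHmax K ⟨hK, hKH.trans hH.2⟩

theorem card_lt_card_of_lt {A B : Subgroup G} (h : A < B) : Nat.card A < Nat.card B := by
  by_contra hc
  push Not at hc
  exact h.ne (Subgroup.eq_of_le_of_card_ge h.le hc)

theorem pow_nu_dvd {T K : Subgroup G} (_hT : IsPGroup p T) (hTK : T ≤ normalizer (K : Set G))
    {t : ℕ} (ht : Nat.card T = p ^ t) : t ≤ nu p K := by
  have hp : p.Prime := Fact.out
  have h1 : p ^ t ∣ Nat.card (normalizer (K : Set G)) := by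
    rw [← ht]
    exact Subgroup.card_dvd_of_le hTK
  exact (hp.pow_dvd_iff_le_factorization Nat.card_pos.ne').mp h1

/-- **Claim 1**: a bad subgroup with `nu` maximal is normal -/
theorem MinCE.normalizer_eq_top (h : MinCE C G P) {H : Subgroup G} (hH : H ∈ badSet p G)
    (hmax : ∀ K ∈ badSet p G, nu p K ≤ nu p H) : normalizer (H : Set G) = ⊤ := by
  have hp : p.Prime := Fact.out
  by_contra hN
  set N := normalizer (H : Set G) with hN_def
  obtain ⟨S⟩ : Nonempty (Sylow p N) := inferInstance
  set S' : Subgroup G := (S : Subgroup N).map N.subtype with hS'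
  have hS'p : IsPGroup p S' := S.2.map _
  have hS'N : S' ≤ N := Subgroup.map_subtype_le _
  have hS'card : Nat.card S' = p ^ nu p H := by
    rw [hS', Subgroup.card_map_of_injective N.subtype_injective, S.card_eq_multiplicity]
    rfl
  obtain ⟨P', hSP'⟩ := hS'p.exists_le_sylow
  by_cases hEq : S' = P'
  · exact hH.2.2 (h.npc_of_sylow_le N hN P' (hEq ▸ hS'N))
  · have hlt : S' < (P' : Subgroup G) := lt_of_le_of_ne hSP' hEq
    have hT := Cfsg.Agent.Helper11.lt_inf_normalizer (P' : Subgroup G) S' P'.2 hlt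
    set T := (P' : Subgroup G) ⊓ normalizer (S' : Set G) with hT_def
    have hTp : IsPGroup p T := P'.2.to_le inf_le_left
    obtain ⟨t, ht⟩ := IsPGroup.iff_card.mp hTp
    have htlt : nu p H < t := by
      have h1 : Nat.card S' < Nat.card T := card_lt_card_of_lt hT
      rw [hS'card, ht] at h1
      exact (Nat.pow_lt_pow_iff_right hp.one_lt).mp h1
    -- the Sylow subgroup of `N` is nontrivial
    have hSne : (S : Subgroup N) ≠ ⊥ := by
      intro hS
      have h1 : Nat.card S' = 1 := by
        rw [hS', hS, Subgroup.map_bot]; exact Subgroup.card_bot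
      have h2 : nu p H = 0 := by
        rw [hS'card] at h1
        exact (Nat.pow_eq_one.mp h1).resolve_left hp.one_lt.ne'
      have h3 : H ≤ normalizer (H : Set G) := le_normalizer
      obtain ⟨a, ha⟩ := IsPGroup.iff_card.mp hH.1
      have h4 : a ≤ nu p H := pow_nu_dvd hH.1 h3 ha
      have h5 : a = 0 := by omega
      rw [h5, pow_zero] at ha
      exact hH.2.1 (Subgroup.card_eq_one.mp ha)
    have hHypN : C.Hyp N S := by
      apply C.loc S hSne
      intro X hX hXne
      set X2 : Subgroup G := X.map N.subtype with hX2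
      have hX2S : X2 ≤ S' := Subgroup.map_mono hX.1
      have hX2p : IsPGroup p X2 := hS'p.to_le hX2S
      have hX2ne : X2 ≠ ⊥ := by
        intro h0
        apply hXne
        rw [hX2, Subgroup.map_eq_bot_iff_of_injective _ N.subtype_injective] at h0
        exact h0
      have hTX : T ≤ normalizer (X2 : Set G) :=
        inf_le_right.trans (hX.2 G N.subtype N.subtype_injective)
      have h1 : t ≤ nu p X2 := pow_nu_dvd hTp hTX ht
      have h2 : X2 ∉ badSet p G := by
        intro hbad
        have := hmax X2 hbad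
        omega
      have h3 : Cfsg.HasNormalPComplement p (normalizer (X2 : Set G)) := by
        by_contra hc
        exact h2 ⟨hX2p, hX2ne, hc⟩
      exact npc_normalizer_of_map N X h3
    exact hH.2.2 (h.ih N S (card_lt_of_ne_top hN) hHypN)


/-- **Claim 2**: `O_p(G) ≠ 1` and normalizers of larger `p`-subgroups normalized by `P` have
normal `p`-complements -/
theorem MinCE.pCore_facts (h : MinCE C G P) : Cfsg.pCore p G ≠ ⊥ ∧
    ∀ H1 : Subgroup G, IsPGroup p H1 → Cfsg.pCore p G < H1 →
      (P : Subgroup G) ≤ normalizer (H1 : Set G) →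
      Cfsg.HasNormalPComplement p (normalizer (H1 : Set G)) := by
  obtain ⟨H, hH, hA, hB⟩ := h.exists_bad
  have hHtop := h.normalizer_eq_top hH hA
  have hHn : H.Normal := Subgroup.normalizer_eq_top_iff.mp hHtop
  have hHU : H ≤ Cfsg.pCore p G := Cfsg.Agent.Helper14.le_pCore p hHn hH.1
  refine ⟨fun h0 => hH.2.1 (le_bot_iff.mp (h0 ▸ hHU)), ?_⟩
  intro H1 hH1p hlt hPH1
  by_contra hc
  have hH1ne : H1 ≠ ⊥ := by
    intro h0
    rw [h0] at hlt
    exact not_lt_bot hlt
  have hbad : H1 ∈ badSet p G := ⟨hH1p, hH1ne, hc⟩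
  have h1 : nu p H1 ≤ nu p H := hA H1 hbad
  have h2 : nu p H ≤ nu p H1 := by
    apply pow_nu_dvd P.2 hPH1
    rw [P.card_eq_multiplicity]
    unfold nu
    rw [hHtop, Subgroup.card_top]
  have h3 := hB H1 hbad (le_antisymm h1 h2)
  have h4 : Nat.card H ≤ Nat.card (Cfsg.pCore p G) := Subgroup.card_le_of_le hHU
  have h5 := card_lt_card_of_lt hlt
  omega

/-- **Claim 3**: `G / O_p(G)` has a normal `p`-complement -/
theorem MinCE.npc_quotient_pCore (h : MinCE C G P) :
    Cfsg.HasNormalPComplement p (G ⧸ Cfsg.pCore p G) := by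
  obtain ⟨hUne, hbig⟩ := h.pCore_facts
  set U := Cfsg.pCore p G with hU
  have hUp : IsPGroup p U := Cfsg.Agent.Helper14.pCore_isPGroup p
  have hsurj := QuotientGroup.mk'_surjective U
  set Pb : Sylow p (G ⧸ U) := P.mapSurjective hsurj with hPb
  have hPbc : (Pb : Subgroup (G ⧸ U)) = (P : Subgroup G).map (QuotientGroup.mk' U) :=
    Sylow.coe_mapSurjective hsurj P
  by_cases hPb0 : (Pb : Subgroup (G ⧸ U)) = ⊥
  · exact npc_of_sylow_eq_bot Pb hPb0
  have hcard : Nat.card (G ⧸ U) < Nat.card G := by
    have h1 : Nat.card (G ⧸ U) * Nat.card U = Nat.card G := by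
      exact (Subgroup.card_eq_card_quotient_mul_card_subgroup U).symm
    have h2 : 1 < Nat.card U := by
      rw [Subgroup.one_lt_card_iff_ne_bot]; exact hUne
    have h3 : 0 < Nat.card (G ⧸ U) := Nat.card_pos
    nlinarith
  apply h.ih (G ⧸ U) Pb hcard
  apply C.loc Pb hPb0
  intro X hX hXne
  have hPX : (Pb : Subgroup (G ⧸ U)) ≤ normalizer (X : Set (G ⧸ U)) := by
    have h1 := hX.2 (G ⧸ U) (MonoidHom.id _) (fun _ _ h => h)
    rw [Subgroup.map_id, Subgroup.map_id] at h1
    exact le_normalizer.trans h1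
  set H1 : Subgroup G := X.comap (QuotientGroup.mk' U) with hH1
  have hXp : IsPGroup p X := Pb.2.to_le hX.1
  have hH1p : IsPGroup p H1 := by
    apply hXp.comap_of_ker_isPGroup
    rw [QuotientGroup.ker_mk']
    exact hUp
  have hUH1 : U < H1 := by
    have hle : U ≤ H1 := by
      intro x hx
      rw [hH1, Subgroup.mem_comap, QuotientGroup.mk'_apply, (QuotientGroup.eq_one_iff x).mpr hx]
      exact one_mem _
    refine lt_of_le_of_ne hle ?_
    intro heq
    apply hXne
    have h1 : H1.map (QuotientGroup.mk' U) = X := Subgroup.map_comap_eq_self_of_surjective hsurj X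
    rw [← h1, ← heq]
    rw [Subgroup.map_eq_bot_iff, QuotientGroup.ker_mk']
  have hPH1 : (P : Subgroup G) ≤ normalizer (H1 : Set G) := by
    rw [hH1, ← Subgroup.comap_normalizer_eq_of_surjective _ hsurj]
    intro x hx
    rw [Subgroup.mem_comap]
    apply hPX
    rw [hPbc]
    exact Subgroup.mem_map_of_mem _ hx
  exact npc_normalizer_of_comap (QuotientGroup.mk' U) hsurj X (hbig H1 hH1p hUH1 hPH1)

/-- `O_{p'}(G) = 1` in a minimal counterexample -/
theorem MinCE.pPrimeCore_eq_bot (h : MinCE C G P) : Cfsg.pPrimeCore p G = ⊥ := by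
  by_contra hK
  set K := Cfsg.pPrimeCore p G with hK_def
  have hKc : (Nat.card K).Coprime p := Cfsg.Agent.Helper23.pPrimeCore_card_coprime p G
  have hsurj := QuotientGroup.mk'_surjective K
  have hcard : Nat.card (G ⧸ K) < Nat.card G := by
    have h1 : Nat.card (G ⧸ K) * Nat.card K = Nat.card G := by
      exact (Subgroup.card_eq_card_quotient_mul_card_subgroup K).symm
    have h2 : 1 < Nat.card K := by
      rw [Subgroup.one_lt_card_iff_ne_bot]; exact hK
    have h3 : 0 < Nat.card (G ⧸ K) := Nat.card_pos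
    nlinarith
  have h1 : C.Hyp (G ⧸ K) (P.mapSurjective hsurj) :=
    C.quot P K hKc _ (Sylow.coe_mapSurjective hsurj P).symm h.hyp
  exact h.not_npc (npc_of_quotient K hKc (h.ih _ _ hcard h1))

end Cfsg.Agent.Lead.TNC
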