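import Mathlib
import Cfsg.Prelude.Def_Local
import Cfsg.Agent.Lead.TNC3
import Cfsg.Agent.Lead.CoprimeSylow
import Cfsg.Agent.Lead.PiHallNormal
import Cfsg.Agent.Helper17.Basic
import Cfsg.Agent.Helper23.HallHigman

set_option autoImplicit false
set_option linter.style.haveILetI false
set_option linter.unusedSectionVars false

/-!
# Normal `p`-complement theorems: the abstract reduction, part 3

The structure of a minimal counterexample.
-/

namespace Cfsg.Agent.Lead.TNC

open Subgroup

universe u

variable {p : ℕ} [Fact p.Prime]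

/-- a `p`-solvable group from a chain `1 ≤ U ≤ L ≤ G` -/
theorem isPSolvable_of_chain3 {G : Type*} [Group G] (U L : Subgroup G) (hUn : U.Normal)
    (hLn : L.Normal) (hUL : U ≤ L) (hU : ∃ a : ℕ, Nat.card U = p ^ a)
    (hL : (U.relIndex L).Coprime p) (hG : ∃ k : ℕ, L.index = p ^ k) : Cfsg.IsPSolvable p G := by
  refine ⟨3, ![⊥, U, L, ⊤], rfl, rfl, ?_, ?_, ?_⟩
  · apply Fin.monotone_iff_le_succ.mpr
    intro i
    fin_cases i
    · exact bot_le
    · exact hUL
    · exact le_top
  · intro i
    fin_cases i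
    · exact (inferInstance : (⊥ : Subgroup G).Normal)
    · exact hUn
    · exact hLn
    · exact (inferInstance : (⊤ : Subgroup G).Normal)
  · intro i
    fin_cases i
    · left
      obtain ⟨a, ha⟩ := hU
      exact ⟨a, by simpa [Subgroup.relIndex_bot_left] using ha⟩
    · right
      simpa using hL
    · left
      obtain ⟨k, hk⟩ := hG
      exact ⟨k, by simpa [Subgroup.relIndex_top_right] using hk⟩


/-- In a group `G = L ⋊ P` (`P` Sylow, `L` a normal `p`-complement) in which the only
subgroups containing `P` are `P` and `G`, the complement `L` is abelian. -/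
theorem commutator_eq_bot_of_max {G : Type*} [Group G] [Finite G] (P : Sylow p G)
    (L : Subgroup G) [hLn : L.Normal] (hc : IsComplement' L (P : Subgroup G))
    (hmax : ∀ X : Subgroup G, (P : Subgroup G) ≤ X → X = P ∨ X = ⊤) : ⁅L, L⁆ = ⊥ := by
  have hp : p.Prime := Fact.out
  by_cases hL : L = ⊥
  · rw [hL]; exact Subgroup.commutator_bot_left _
  have hcard : Nat.card L * Nat.card P = Nat.card G := hc.card_mul_card
  have hdisj : L ⊓ (P : Subgroup G) = ⊥ := hc.disjoint.eq_bot
  have hLcop : (Nat.card L).Coprime p := by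
    have h1 : (P : Subgroup G).index = Nat.card L := hc.index_eq_card
    rw [← h1]
    exact ((Nat.Prime.coprime_iff_not_dvd hp).mpr P.not_dvd_index).symm
  have hPpos : 0 < Nat.card P := Nat.card_pos
  -- a general consequence of `hmax`
  have key : ∀ D : Subgroup G, D ≤ L → (P : Subgroup G) ≤ normalizer (D : Set G) →
      D = ⊥ ∨ D = L := by
    intro D hDL hPD
    have h1 := Cfsg.Agent.Helper17.card_sup_mul_card_inf D (P : Subgroup G) hPD
    have h2 : D ⊓ (P : Subgroup G) = ⊥ := le_bot_iff.mp (hdisj ▸ inf_le_inf_right _ hDL)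
    rw [h2, Subgroup.card_bot, mul_one] at h1
    rcases hmax (D ⊔ P) le_sup_right with h3 | h3
    · left
      have h4 : D ≤ (P : Subgroup G) := h3 ▸ le_sup_left
      exact le_bot_iff.mp (hdisj ▸ le_inf hDL h4)
    · right
      rw [h3, Subgroup.card_top, ← hcard] at h1
      have h4 : Nat.card L = Nat.card D := Nat.eq_of_mul_eq_mul_right hPpos h1
      exact Subgroup.eq_of_le_of_card_ge hDL h4.le
  -- `L` is a `q`-group
  have hL1 : Nat.card L ≠ 1 := fun h => hL (Subgroup.card_eq_one.mp h)
  obtain ⟨q, hq, hqL⟩ := Nat.exists_prime_and_dvd hL1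
  haveI : Fact q.Prime := ⟨hq⟩
  have hPnL : (P : Subgroup G) ≤ normalizer (L : Set G) := by
    rw [Subgroup.normalizer_eq_top_iff.mpr hLn]; exact le_top
  haveI : Group.IsNilpotent (P : Subgroup G) := P.2.isNilpotent
  obtain ⟨Q, hQ⟩ := Cfsg.Agent.Lead.coprime_exists_invariant_sylow (P : Subgroup G) L hPnL
    (by
      obtain ⟨n, hn⟩ := IsPGroup.iff_card.mp P.2
      rw [hn]
      exact (Nat.Coprime.pow_right n hLcop).symm)
    (Or.inl inferInstance) q
  have hQL : (Q : Subgroup L).map L.subtype ≤ L := Subgroup.map_subtype_le _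
  have hQne : (Q : Subgroup L) ≠ ⊥ := Q.ne_bot_of_dvd_card hqL
  have hQtop : (Q : Subgroup L).map L.subtype = L := by
    rcases key _ hQL hQ with h1 | h1
    · exfalso
      apply hQne
      rwa [Subgroup.map_eq_bot_iff_of_injective _ L.subtype_injective] at h1
    · exact h1
  have hLq : IsPGroup q L := by
    have h1 : (Q : Subgroup L) = ⊤ := by
      apply Subgroup.map_injective L.subtype_injective
      rw [hQtop, ← MonoidHom.range_eq_map, Subgroup.range_subtype]
    have h2 : IsPGroup q (Q : Subgroup L) := Q.2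
    rw [h1] at h2
    exact IsPGroup.of_equiv h2 Subgroup.topEquiv
  -- `L` is solvable, so `[L, L] < L`
  haveI : Group.IsNilpotent L := hLq.isNilpotent
  haveI : Nontrivial L := (Subgroup.nontrivial_iff_ne_bot L).mpr hL
  have hder := Group.IsSolvable.commutator_lt_top_of_nontrivial L
  have hmap : Subgroup.map L.subtype ⁅(⊤ : Subgroup L), (⊤ : Subgroup L)⁆ = ⁅L, L⁆ := by
    rw [Subgroup.map_commutator, ← MonoidHom.range_eq_map, Subgroup.range_subtype]
  have hDL : ⁅L, L⁆ ≤ L := Subgroup.commutator_le_right L L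
  have hDn : (⁅L, L⁆ : Subgroup G).Normal := inferInstance
  rcases key ⁅L, L⁆ hDL (by rw [Subgroup.normalizer_eq_top_iff.mpr hDn]; exact le_top) with h1 | h1
  · exact h1
  · exfalso
    apply hder.ne
    apply Subgroup.map_injective L.subtype_injective
    rw [commutator_def, hmap, h1, ← MonoidHom.range_eq_map, Subgroup.range_subtype]


/-- the structure of a minimal counterexample to a normal `p`-complement theorem -/
structure MinStructure (p : ℕ) [Fact p.Prime] (G : Type u) [Group G] [Finite G]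
    (P : Sylow p G) : Prop where
  not_npc : ¬ Cfsg.HasNormalPComplement p G
  pCore_ne_bot : Cfsg.pCore p G ≠ ⊥
  pPrimeCore_eq_bot : Cfsg.pPrimeCore p G = ⊥
  centralizer_le : centralizer (Cfsg.pCore p G : Set G) ≤ Cfsg.pCore p G
  max : ∀ M : Subgroup G, (P : Subgroup G) ≤ M → M = P ∨ M = ⊤
  exL : ∃ L : Subgroup G, L.Normal ∧ Cfsg.pCore p G ≤ L ∧ L ⊔ P = ⊤ ∧
    ((Cfsg.pCore p G).relIndex L).Coprime p ∧ ⁅L, L⁆ ≤ Cfsg.pCore p G

variable {C : ControlHyp.{u} p} {G : Type u} [Group G] [Finite G] {P : Sylow p G}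

theorem MinCE.minStructure (h : MinCE C G P) : MinStructure p G P := by
  have hp : p.Prime := Fact.out
  obtain ⟨hUne, -⟩ := h.pCore_facts
  have hO := h.pPrimeCore_eq_bot
  have hQ := h.npc_quotient_pCore
  set U := Cfsg.pCore p G with hU
  have hUn : U.Normal := inferInstance
  have hUp : IsPGroup p U := Cfsg.Agent.Helper14.pCore_isPGroup p
  have hUP : U ≤ (P : Subgroup G) := Cfsg.Agent.Helper14.pCore_le_sylow p P
  have hsurj := QuotientGroup.mk'_surjective U
  set Pb : Sylow p (G ⧸ U) := P.mapSurjective hsurj with hPb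
  have hPbc : (Pb : Subgroup (G ⧸ U)) = (P : Subgroup G).map (QuotientGroup.mk' U) :=
    Sylow.coe_mapSurjective hsurj P
  obtain ⟨Lb, hLbn, hLbc⟩ := (Cfsg.Agent.Helper9.hasNormalPComplement_iff Pb).mp hQ
  set L : Subgroup G := Lb.comap (QuotientGroup.mk' U) with hL
  have hLn : L.Normal := hLbn.comap _
  have hUL : U ≤ L := Cfsg.Agent.Helper23.le_comap_mk' U Lb
  have hLcard : Nat.card L = Nat.card U * Nat.card Lb := Cfsg.Agent.Helper23.card_comap_mk' U Lb
  have hrel : U.relIndex L = Nat.card Lb := by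
    have h1 := Cfsg.Agent.Lead.card_eq_relIndex_mul_card hUL
    rw [hLcard, mul_comm] at h1
    exact (Nat.eq_of_mul_eq_mul_right Nat.card_pos h1).symm
  have hLbcop : (Nat.card Lb).Coprime p := by
    have h1 : (Pb : Subgroup (G ⧸ U)).index = Nat.card Lb := hLbc.index_eq_card
    rw [← h1]
    exact ((Nat.Prime.coprime_iff_not_dvd hp).mpr Pb.not_dvd_index).symm
  have hLidx : ∃ k : ℕ, L.index = p ^ k := by
    obtain ⟨k, hk⟩ := IsPGroup.iff_card.mp Pb.2
    refine ⟨k, ?_⟩
    rw [hL, Subgroup.index_comap_of_surjective _ hsurj, ← hk]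
    exact hLbc.symm.index_eq_card
  have hsolv : Cfsg.IsPSolvable p G :=
    isPSolvable_of_chain3 U L hUn hLn hUL (IsPGroup.iff_card.mp hUp) (hrel ▸ hLbcop) hLidx
  have hC : centralizer (U : Set G) ≤ U :=
    Cfsg.Agent.Helper23.centralizer_pCore_le_of_isPSolvable hsolv hO
  -- maximality of `P`
  have hmax : ∀ M : Subgroup G, (P : Subgroup G) ≤ M → M = P ∨ M = ⊤ := by
    intro M hPM
    by_cases hM : M = ⊤
    · exact Or.inr hM
    left
    have hnpc := h.npc_of_sylow_le M hM P hPM
    obtain ⟨K, hKn, hKc⟩ := (Cfsg.Agent.Helper9.hasNormalPComplement_iff (P.subtype hPM)).mp hnpc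
    have hKcop : (Nat.card K).Coprime p := by
      have h1 : ((P.subtype hPM : Sylow p M) : Subgroup M).index = Nat.card K := hKc.index_eq_card
      rw [← h1]
      exact ((Nat.Prime.coprime_iff_not_dvd hp).mpr (P.subtype hPM).not_dvd_index).symm
    have hUMn : (U.subgroupOf M).Normal := inferInstance
    have hK : K = ⊥ := by
      rw [eq_bot_iff]
      intro k hk
      have hkord : (orderOf k).Coprime p := by
        have h1 : orderOf k ∣ Nat.card K := by
          have := orderOf_dvd_natCard (⟨k, hk⟩ : K)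
          rwa [Subgroup.orderOf_mk] at this
        exact Nat.Coprime.coprime_dvd_left h1 hKcop
      have hcent : (k : G) ∈ centralizer (U : Set G) := by
        rw [Subgroup.mem_centralizer_iff]
        intro u hu
        have hu' : (⟨u, hPM (hUP hu)⟩ : M) ∈ U.subgroupOf M := Subgroup.mem_subgroupOf.mpr hu
        have h1 := Cfsg.Agent.Helper9.commute_of_hasNormalPComplement hnpc (U.subgroupOf M)
          (hUp.comap_subtype) k hkord _ hu'
        have h2 := congrArg (fun z : M => (z : G)) h1
        exact h2.symm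
      have hkU : (k : G) ∈ U := hC hcent
      obtain ⟨j, hj⟩ := (IsPGroup.iff_orderOf.mp hUp) ⟨(k : G), hkU⟩
      rw [Subgroup.orderOf_mk, Subgroup.orderOf_coe] at hj
      rw [hj] at hkord
      have hj0 : j = 0 := by
        by_contra hj0
        have : p ∣ 1 := by
          have h3 : p ∣ p ^ j := dvd_pow_self p hj0
          have := Nat.Coprime.eq_one_of_dvd hkord.symm h3
          rw [this]
        exact hp.one_lt.ne' (Nat.dvd_one.mp this)
      rw [hj0, pow_zero, orderOf_eq_one_iff] at hj
      rw [Subgroup.mem_bot]; exact hj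
    rw [hK, Subgroup.isComplement'_bot_left] at hKc
    apply le_antisymm _ hPM
    intro x hx
    have h1 : (⟨x, hx⟩ : M) ∈ ((P.subtype hPM : Sylow p M) : Subgroup M) := by
      rw [hKc]; exact Subgroup.mem_top _
    rw [Sylow.coe_subtype, Subgroup.mem_subgroupOf] at h1
    exact h1
  have hLP : L ⊔ P = ⊤ := by
    have h1 : (L ⊔ (P : Subgroup G)).map (QuotientGroup.mk' U) = ⊤ := by
      rw [Subgroup.map_sup, hL, Subgroup.map_comap_eq_self_of_surjective hsurj, ← hPbc]
      exact hLbc.sup_eq_top
    have h2 : (QuotientGroup.mk' U).ker ≤ L ⊔ (P : Subgroup G) := by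
      rw [QuotientGroup.ker_mk']; exact hUL.trans le_sup_left
    rw [← Subgroup.comap_map_eq_self h2, h1, Subgroup.comap_top]
  have hmaxb : ∀ X : Subgroup (G ⧸ U), (Pb : Subgroup (G ⧸ U)) ≤ X → X = Pb ∨ X = ⊤ := by
    intro X hX
    have h1 : (P : Subgroup G) ≤ X.comap (QuotientGroup.mk' U) := by
      intro x hx
      rw [Subgroup.mem_comap]
      apply hX
      rw [hPbc]
      exact Subgroup.mem_map_of_mem _ hx
    have h2 : (X.comap (QuotientGroup.mk' U)).map (QuotientGroup.mk' U) = X :=
      Subgroup.map_comap_eq_self_of_surjective hsurj X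
    rcases hmax _ h1 with h3 | h3
    · left; rw [← h2, h3, hPbc]
    · right; rw [← h2, h3, ← MonoidHom.range_eq_map, MonoidHom.range_eq_top.mpr hsurj]
  have hab : ⁅Lb, Lb⁆ = ⊥ := commutator_eq_bot_of_max Pb Lb hLbc hmaxb
  have hLL : ⁅L, L⁆ ≤ U := by
    have h1 : (⁅L, L⁆).map (QuotientGroup.mk' U) = ⊥ := by
      rw [Subgroup.map_commutator, hL, Subgroup.map_comap_eq_self_of_surjective hsurj, hab]
    rw [Subgroup.map_eq_bot_iff, QuotientGroup.ker_mk'] at h1
    exact h1
  exact ⟨h.not_npc, hUne, hO, hC, hmax, L, hLn, hUL, hLP, hrel ▸ hLbcop, hLL⟩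

/-- **The abstract normal `p`-complement theorem.** -/
theorem ControlHyp.npc (C : ControlHyp.{u} p)
    (endgame : ∀ (G : Type u) [Group G] [Finite G] (P : Sylow p G), C.Hyp G P →
      MinStructure p G P → False) :
    ∀ (G : Type u) [Group G] [Finite G] (P : Sylow p G), C.Hyp G P →
      Cfsg.HasNormalPComplement p G := by
  suffices H : ∀ (n : ℕ) (G : Type u) [Group G] [Finite G] (P : Sylow p G), Nat.card G = n →
      C.Hyp G P → Cfsg.HasNormalPComplement p G from fun G _ _ P hP => H _ G P rfl hP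
  intro n
  induction n using Nat.strong_induction_on with
  | _ n ih =>
    intro G _ _ P hn hP
    by_contra hnot
    have hmin : MinCE C G P := ⟨hP, fun G' _ _ P' hlt hP' => ih _ (hn ▸ hlt) G' P' rfl hP', hnot⟩
    exact endgame G P hP hmin.minStructure

end Cfsg.Agent.Lead.TNC
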