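import Mathlib
import Cfsg.Agent.Lead.TNC4
import Cfsg.Agent.Helper7.PConstrained2

set_option autoImplicit false
set_option linter.style.haveILetI false
set_option linter.unusedSectionVars false

/-!
# Normal `p`-complement theorems: control hypotheses from characteristic subgroup functors
-/

namespace Cfsg.Agent.Lead.TNC

open Subgroup

universe u

/-- A rule assigning to each subgroup `P` of each group a subgroup `W P ≤ P`, compatible with
homomorphisms injective on `P`. -/
structure CharFunctor (p : ℕ) where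
  /-- the subgroup -/
  W : ∀ {G : Type u} [Group G], Subgroup G → Subgroup G
  le : ∀ {G : Type u} [Group G] (P : Subgroup G), W P ≤ P
  map : ∀ {G H : Type u} [Group G] [Group H] (f : G →* H) (P : Subgroup G),
    Set.InjOn f (P : Set G) → W (P.map f) = (W P).map f
  ne_bot : ∀ {G : Type u} [Group G] [Finite G] (P : Subgroup G), IsPGroup p P → P ≠ ⊥ → W P ≠ ⊥

variable {p : ℕ} [Fact p.Prime]

theorem CharFunctor.normalizer_le (F : CharFunctor.{u} p) {G : Type u} [Group G]
    (P : Subgroup G) : normalizer (P : Set G) ≤ normalizer (F.W P : Set G) := by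
  intro g hg
  rw [mem_normalizer_iff_map_conj_eq] at hg ⊢
  have h1 := F.map (MulAut.conj g : G →* G) P ((MulAut.conj g).injective.injOn)
  rw [hg] at h1
  exact h1.symm

theorem CharFunctor.stronglyChar (F : CharFunctor.{u} p) {G : Type u} [Group G]
    (P : Subgroup G) : StronglyChar P (F.W P) := by
  refine ⟨F.le P, ?_⟩
  intro G' _ f hf
  rw [← F.map f P hf.injOn]
  exact F.normalizer_le _

/-- a normal `p'`-subgroup meets a `p`-subgroup trivially -/
theorem injOn_mk' {G : Type*} [Group G] [Finite G] (K : Subgroup G) [K.Normal]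
    (hK : (Nat.card K).Coprime p) {P : Subgroup G} (hP : IsPGroup p P) :
    Set.InjOn (QuotientGroup.mk' K) (P : Set G) := by
  intro x hx y hy hxy
  have h1 : y⁻¹ * x ∈ K := by
    have := QuotientGroup.eq.mp hxy.symm
    exact this
  have h2 : y⁻¹ * x ∈ P := mul_mem (inv_mem hy) hx
  have h3 : K ⊓ P = ⊥ := by
    apply (Subgroup.disjoint_of_coprime_natCard _).eq_bot
    obtain ⟨k, hk⟩ := IsPGroup.iff_card.mp hP
    rw [hk]
    exact Nat.Coprime.pow_right k hK
  have h4 : y⁻¹ * x ∈ K ⊓ P := ⟨h1, h2⟩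
  rw [h3, Subgroup.mem_bot] at h4
  calc x = y * (y⁻¹ * x) := by group
    _ = y := by rw [h4, mul_one]


theorem inf_eq_bot_of_coprime {G : Type*} [Group G] [Finite G] {K P : Subgroup G}
    (hK : (Nat.card K).Coprime p) (hP : IsPGroup p P) : K ⊓ P = ⊥ := by
  apply (Subgroup.disjoint_of_coprime_natCard _).eq_bot
  obtain ⟨k, hk⟩ := IsPGroup.iff_card.mp hP
  rw [hk]
  exact Nat.Coprime.pow_right k hK

/-- centralizers of `p`-subgroups pass to quotients by normal `p'`-subgroups -/
theorem centralizer_map_mk_eq {G : Type u} [Group G] [Finite G] {K : Subgroup G} [K.Normal]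
    (hK : (Nat.card K).Coprime p) {Z : Subgroup G} (hZ : IsPGroup p Z) :
    centralizer ((Z.map (QuotientGroup.mk' K) : Subgroup (G ⧸ K)) : Set (G ⧸ K)) =
      (centralizer (Z : Set G)).map (QuotientGroup.mk' K) := by
  apply le_antisymm
  · intro y hy
    have h1 : y ∈ normalizer ((Z.map (QuotientGroup.mk' K) : Subgroup (G ⧸ K)) : Set (G ⧸ K)) :=
      centralizer_le_normalizer _ hy
    rw [Cfsg.Agent.Helper7.normalizer_map_mk_eq hK hZ] at h1
    obtain ⟨n, hn, rfl⟩ := h1
    refine ⟨n, ?_, rfl⟩
    show n ∈ centralizer (Z : Set G)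
    rw [mem_centralizer_iff]
    intro z hz
    have hZ1 : n * z * n⁻¹ * z⁻¹ ∈ Z :=
      mul_mem ((mem_normalizer_iff.mp hn z).mp hz) (inv_mem hz)
    have hK1 : n * z * n⁻¹ * z⁻¹ ∈ K := by
      rw [← QuotientGroup.eq_one_iff]
      have h2 := mem_centralizer_iff.mp hy (QuotientGroup.mk' K z) (mem_map_of_mem _ hz)
      have h3 : ((n * z * n⁻¹ * z⁻¹ : G) : G ⧸ K) =
          (QuotientGroup.mk' K n) * (QuotientGroup.mk' K z) * (QuotientGroup.mk' K n)⁻¹ *
            (QuotientGroup.mk' K z)⁻¹ := by
        simp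
      rw [h3, ← h2]
      group
    have h4 : n * z * n⁻¹ * z⁻¹ ∈ K ⊓ Z := ⟨hK1, hZ1⟩
    rw [inf_eq_bot_of_coprime hK hZ, mem_bot] at h4
    calc z * n = (n * z * n⁻¹ * z⁻¹)⁻¹ * (n * z) := by group
      _ = n * z := by rw [h4, inv_one, one_mul]
  · rintro _ ⟨c, hc, rfl⟩
    rw [mem_centralizer_iff]
    rintro _ ⟨z, hz, rfl⟩
    rw [← map_mul, ← map_mul, mem_centralizer_iff.mp hc z hz]

/-- the centralizer of a subgroup of a subgroup embeds in the centralizer of its image -/
theorem npc_centralizer_of_map {G : Type*} [Group G] [Finite G] (N : Subgroup G) (X : Subgroup N)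
    (h : Cfsg.HasNormalPComplement p (centralizer ((X.map N.subtype : Subgroup G) : Set G))) :
    Cfsg.HasNormalPComplement p (centralizer (X : Set N)) := by
  have hmem : ∀ x : centralizer (X : Set N),
      (N.subtype.comp (centralizer (X : Set N)).subtype) x ∈
        centralizer ((X.map N.subtype : Subgroup G) : Set G) := by
    intro x
    rw [mem_centralizer_iff]
    rintro _ ⟨z, hz, rfl⟩
    have h1 := mem_centralizer_iff.mp x.2 z hz
    have h2 := congrArg (fun w : N => (w : G)) h1
    exact h2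
  refine npc_of_injective ((N.subtype.comp (centralizer (X : Set N)).subtype).codRestrict _ hmem)
    ?_ h
  intro x y hxy
  have h1 : ((x : N) : G) = ((y : N) : G) :=
    congrArg (fun z : centralizer ((X.map N.subtype : Subgroup G) : Set G) => (z : G)) hxy
  exact Subtype.ext (Subtype.ext h1)

theorem npc_map_of_npc {G H : Type*} [Group G] [Group H] [Finite G] (f : G →* H) (K : Subgroup G)
    (h : Cfsg.HasNormalPComplement p K) : Cfsg.HasNormalPComplement p (K.map f) :=
  Cfsg.Agent.Helper21.NPCSections.npc_of_surjective (f.subgroupMap K) (f.subgroupMap_surjective K) h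

/-- the control hypothesis "`N_G(W(P))` has a normal `p`-complement" -/
def ControlHyp.ofNormalizer (F : CharFunctor.{u} p) : ControlHyp.{u} p where
  Hyp G _ _ P := Cfsg.HasNormalPComplement p (normalizer (F.W (P : Subgroup G) : Set G))
  iso := by
    intro G H _ _ _ _ e P Q hPQ h
    have h1 := npc_map_of_npc e.toMonoidHom _ h
    refine npc_of_eq ?_ h1
    rw [map_equiv_normalizer_eq, ← hPQ, F.map e.toMonoidHom _ e.injective.injOn]
  sub := by
    intro G _ _ P M PM hPM h
    apply npc_normalizer_of_map M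
    refine npc_of_eq ?_ h
    rw [← F.map M.subtype _ M.subtype_injective.injOn, hPM]
  quot := by
    intro G _ _ P K _ hK PK hPK h
    have h1 := npc_map_of_npc (QuotientGroup.mk' K) _ h
    refine npc_of_eq ?_ h1
    rw [← Cfsg.Agent.Helper7.normalizer_map_mk_eq hK (P.2.to_le (F.le _)), ← hPK,
      F.map _ _ (injOn_mk' K hK P.2)]
  loc := by
    intro G _ _ P hP h
    exact h _ (F.stronglyChar _) (F.ne_bot _ P.2 hP)

/-- the control hypothesis "`C_G(W(P))` has a normal `p`-complement" -/
def ControlHyp.ofCentralizer (F : CharFunctor.{u} p) : ControlHyp.{u} p where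
  Hyp G _ _ P := Cfsg.HasNormalPComplement p (centralizer (F.W (P : Subgroup G) : Set G))
  iso := by
    intro G H _ _ _ _ e P Q hPQ h
    have h1 := npc_map_of_npc e.toMonoidHom _ h
    refine npc_of_eq ?_ h1
    rw [← hPQ, F.map e.toMonoidHom _ e.injective.injOn]
    ext x
    constructor
    · rintro ⟨c, hc, rfl⟩
      rw [mem_centralizer_iff]
      rintro _ ⟨z, hz, rfl⟩
      show e z * e c = e c * e z
      rw [← map_mul, ← map_mul, mem_centralizer_iff.mp hc z hz]
    · intro hx
      refine ⟨e.symm x, ?_, by simp⟩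
      show e.symm x ∈ centralizer (F.W (P : Subgroup G) : Set G)
      rw [mem_centralizer_iff]
      intro z hz
      have h2 := mem_centralizer_iff.mp hx (e z) (mem_map_of_mem _ hz)
      apply e.injective
      rw [map_mul, map_mul, e.apply_symm_apply]
      exact h2
  sub := by
    intro G _ _ P M PM hPM h
    apply npc_centralizer_of_map M
    refine npc_of_eq ?_ h
    rw [← F.map M.subtype _ M.subtype_injective.injOn, hPM]
  quot := by
    intro G _ _ P K _ hK PK hPK h
    have h1 := npc_map_of_npc (QuotientGroup.mk' K) _ h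
    refine npc_of_eq ?_ h1
    rw [← centralizer_map_mk_eq hK (P.2.to_le (F.le _)), ← hPK,
      F.map _ _ (injOn_mk' K hK P.2)]
  loc := by
    intro G _ _ P hP h
    exact npc_of_le (centralizer_le_normalizer _) (h _ (F.stronglyChar _) (F.ne_bot _ P.2 hP))

/-- conjunction of control hypotheses -/
def ControlHyp.and (C₁ C₂ : ControlHyp.{u} p) : ControlHyp.{u} p where
  Hyp G _ _ P := C₁.Hyp G P ∧ C₂.Hyp G P
  iso := fun e P Q hPQ h => ⟨C₁.iso e P Q hPQ h.1, C₂.iso e P Q hPQ h.2⟩
  sub := fun P M PM hPM h => ⟨C₁.sub P M PM hPM h.1, C₂.sub P M PM hPM h.2⟩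
  quot := fun P K _ hK PK hPK h => ⟨C₁.quot P K hK PK hPK h.1, C₂.quot P K hK PK hPK h.2⟩
  loc := fun P hP h => ⟨C₁.loc P hP h, C₂.loc P hP h⟩

end Cfsg.Agent.Lead.TNC
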