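import Mathlib
import Cfsg.Agent.Lead.TNC5
import Cfsg.Agent.Helper26.Thompson
import Cfsg.Agent.Helper26.ThompsonNorm

set_option autoImplicit false
set_option linter.style.haveILetI false
set_option linter.unusedSectionVars false

/-!
# The functors `Z(P)` and `J(P)`
-/

namespace Cfsg.Agent.Lead.TNC

open Subgroup

universe u

variable {p : ℕ} [Fact p.Prime]

theorem thompsonSubgroupOf_map_of_injOn {G H : Type u} [Group G] [Group H] (f : G →* H)
    (P : Subgroup G) (hinj : Set.InjOn f (P : Set G)) :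
    Cfsg.thompsonSubgroupOf p (P.map f) = (Cfsg.thompsonSubgroupOf p P).map f := by
  have hg : Function.Bijective (f.subgroupMap P) := by
    refine ⟨?_, f.subgroupMap_surjective P⟩
    intro x y hxy
    have h1 : f x = f y := congrArg (fun z : P.map f => (z : H)) hxy
    exact Subtype.ext (hinj x.2 y.2 h1)
  have h1 := Cfsg.Agent.Helper26.thompsonSubgroup_map_equiv p (MulEquiv.ofBijective _ hg)
  unfold Cfsg.thompsonSubgroupOf
  rw [← h1, Subgroup.map_map, Subgroup.map_map]
  rfl

/-- the functor `P ↦ Z(P)` -/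
def zFunctor (p : ℕ) [Fact p.Prime] : CharFunctor.{u} p where
  W P := P ⊓ centralizer (P : Set _)
  le _ := inf_le_left
  map := by
    intro G H _ _ f P hinj
    ext y
    rw [Subgroup.mem_inf, Subgroup.mem_map]
    constructor
    · rintro ⟨⟨x, hx, rfl⟩, hy⟩
      refine ⟨x, Subgroup.mem_inf.mpr ⟨hx, ?_⟩, rfl⟩
      rw [mem_centralizer_iff]
      intro z hz
      have h1 := mem_centralizer_iff.mp hy (f z) (mem_map_of_mem f hz)
      rw [← map_mul, ← map_mul] at h1
      exact hinj (mul_mem hz hx) (mul_mem hx hz) h1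
    · rintro ⟨x, hx, rfl⟩
      rw [SetLike.mem_coe, Subgroup.mem_inf] at hx
      refine ⟨⟨x, hx.1, rfl⟩, ?_⟩
      rw [mem_centralizer_iff]
      rintro _ ⟨z, hz, rfl⟩
      rw [← map_mul, ← map_mul, mem_centralizer_iff.mp hx.2 z hz]
  ne_bot := by
    intro G _ _ P hP hne
    haveI : Nontrivial P := (Subgroup.nontrivial_iff_ne_bot P).mpr hne
    haveI := hP.center_nontrivial
    obtain ⟨z, hz⟩ := exists_ne (1 : Subgroup.center P)
    intro h0
    apply hz
    have h1 : ((z : P) : G) ∈ P ⊓ centralizer (P : Set G) := by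
      refine Subgroup.mem_inf.mpr ⟨(z : P).2, ?_⟩
      rw [mem_centralizer_iff]
      intro y hy
      have h2 := Subgroup.mem_center_iff.mp z.2 ⟨y, hy⟩
      exact congrArg (fun w : P => (w : G)) h2
    rw [h0, mem_bot] at h1
    exact Subtype.ext (Subtype.ext h1)

/-- the functor `P ↦ J(P)` -/
def jFunctor (p : ℕ) [Fact p.Prime] : CharFunctor.{u} p where
  W P := Cfsg.thompsonSubgroupOf p P
  le P := Cfsg.Agent.Helper26.thompsonSubgroupOf_le p P
  map f P hinj := thompsonSubgroupOf_map_of_injOn f P hinj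
  ne_bot := by
    intro G _ _ P hP hne
    have hpp : p.Prime := Fact.out
    have h1 : p ∣ Nat.card P := by
      obtain ⟨k, hk⟩ := IsPGroup.iff_card.mp hP
      rw [hk]
      apply dvd_pow_self
      rintro rfl
      rw [pow_zero] at hk
      exact hne (Subgroup.card_eq_one.mp hk)
    have h2 := Cfsg.Agent.Helper26.thompsonSubgroup_ne_bot (G := P) h1
    intro h0
    apply h2
    unfold Cfsg.thompsonSubgroupOf at h0
    rwa [Subgroup.map_eq_bot_iff_of_injective _ P.subtype_injective] at h0

/-- the hypothesis of Thompson's normal `p`-complement theorem -/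
def thompsonHyp (p : ℕ) [Fact p.Prime] : ControlHyp.{u} p :=
  (ControlHyp.ofNormalizer (jFunctor p)).and (ControlHyp.ofCentralizer (zFunctor p))

end Cfsg.Agent.Lead.TNC
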