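import Mathlib
import Cfsg.Agent.Lead.TNC1
import Cfsg.Agent.Lead.TNC6
import Cfsg.Agent.Helper23.OmegaOne
import Cfsg.Agent.Helper26.ZJInst

set_option autoImplicit false
set_option linter.style.haveILetI false
set_option linter.unusedSectionVars false

/-!
# The endgame of Thompson's normal `p`-complement theorem: general lemmas
-/

namespace Cfsg.Agent.Lead.TNC

open Subgroup

universe u

variable {p : ℕ} [Fact p.Prime] {G : Type u} [Group G]

/-- `Ω₁` of an abelian subgroup -/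
def omega1 (p : ℕ) (V : Subgroup G) (hV : ∀ x ∈ V, ∀ y ∈ V, x * y = y * x) : Subgroup G where
  carrier := {v | v ∈ V ∧ v ^ p = 1}
  one_mem' := ⟨one_mem _, one_pow _⟩
  mul_mem' := by
    rintro a b ⟨ha, hap⟩ ⟨hb, hbp⟩
    refine ⟨mul_mem ha hb, ?_⟩
    have hc : Commute a b := hV a ha b hb
    rw [hc.mul_pow, hap, hbp, one_mul]
  inv_mem' := by
    rintro a ⟨ha, hap⟩
    exact ⟨inv_mem ha, by rw [inv_pow, hap, inv_one]⟩

theorem mem_omega1 {V : Subgroup G} {hV : ∀ x ∈ V, ∀ y ∈ V, x * y = y * x} {v : G} :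
    v ∈ omega1 p V hV ↔ v ∈ V ∧ v ^ p = 1 := Iff.rfl

theorem omega1_le (V : Subgroup G) (hV : ∀ x ∈ V, ∀ y ∈ V, x * y = y * x) :
    omega1 p V hV ≤ V := fun _ h => h.1

theorem omega1_normal (V : Subgroup G) [hVn : V.Normal] (hV : ∀ x ∈ V, ∀ y ∈ V, x * y = y * x) :
    (omega1 p V hV).Normal := by
  constructor
  rintro v ⟨hv, hvp⟩ g
  refine ⟨hVn.conj_mem v hv g, ?_⟩
  rw [conj_pow, hvp, mul_one, mul_inv_cancel]

/-- the centralizer of `Ω₁(V)` is a `p`-group if `C_G(V)` is -/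
theorem isPGroup_centralizer_omega1 [Finite G] (hp2 : p ≠ 2) (V : Subgroup G) [hVn : V.Normal]
    (hVp : IsPGroup p V) (hV : ∀ x ∈ V, ∀ y ∈ V, x * y = y * x)
    (hCV : IsPGroup p (centralizer (V : Set G))) :
    IsPGroup p (centralizer (omega1 p V hV : Set G)) := by
  have hp : p.Prime := Fact.out
  intro x
  obtain ⟨x, hx⟩ := x
  have hn0 : orderOf x ≠ 0 := (orderOf_pos x).ne'
  obtain ⟨k, m, hm, hn⟩ := Nat.exists_eq_pow_mul_and_not_dvd hn0 p hp.ne_one
  refine ⟨k, ?_⟩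
  apply Subtype.ext
  show x ^ p ^ k = 1
  set y := x ^ p ^ k with hy
  have hyord : orderOf y = m := by
    rw [hy, orderOf_pow_of_dvd (pow_pos hp.pos k).ne' ⟨m, hn⟩, hn,
      Nat.mul_div_cancel_left _ (pow_pos hp.pos k)]
  have hmcop : m.Coprime p := ((Nat.Prime.coprime_iff_not_dvd hp).mpr hm).symm
  have hyC : y ∈ centralizer (omega1 p V hV : Set G) := pow_mem hx _
  have hA : zpowers y ≤ centralizer (V : Set G) := by
    apply Cfsg.Agent.Helper23.le_centralizer_of_centralizes_omega hp2 V (zpowers y) hVp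
    · rw [Subgroup.normalizer_eq_top_iff.mpr hVn]; exact le_top
    · rw [Nat.card_zpowers, hyord]; exact hmcop
    · intro v hv hvord
      rw [zpowers_le]
      rw [mem_centralizer_iff]
      intro w hw
      rw [Set.mem_singleton_iff] at hw
      subst hw
      apply mem_centralizer_iff.mp hyC
      exact ⟨hv, by rw [← hvord]; exact pow_orderOf_eq_one w⟩
  have hyV : y ∈ centralizer (V : Set G) := hA (mem_zpowers y)
  obtain ⟨j, hj⟩ := (IsPGroup.iff_orderOf.mp hCV) ⟨y, hyV⟩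
  rw [Subgroup.orderOf_mk, hyord] at hj
  have hm1 : m = 1 := by
    rw [hj] at hmcop
    by_contra hne
    have hj0 : j ≠ 0 := by
      rintro rfl
      exact hne (by rw [hj, pow_zero])
    have h1 : p ∣ p ^ j := dvd_pow_self p hj0
    have h2 := Nat.Coprime.eq_one_of_dvd hmcop.symm h1
    exact hp.one_lt.ne' h2
  rw [hm1] at hyord
  exact orderOf_eq_one_iff.mp hyord

/-- an element of `P` centralizing `L / O_p(G)` lies in `O_p(G)` when `G = L P` -/
theorem mem_pCore_of_commutator [Finite G] (P : Sylow p G) (L : Subgroup G) [hLn : L.Normal]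
    (hLP : L ⊔ (P : Subgroup G) = ⊤) (a : G) (ha : a ∈ (P : Subgroup G))
    (h : ∀ x ∈ L, a * x * a⁻¹ * x⁻¹ ∈ Cfsg.pCore p G) : a ∈ Cfsg.pCore p G := by
  set U := Cfsg.pCore p G with hU
  have hUn : U.Normal := inferInstance
  have hUP : U ≤ (P : Subgroup G) := Cfsg.Agent.Helper14.pCore_le_sylow p P
  set π := QuotientGroup.mk' U with hπ
  have hLbn : (L.map π).Normal := hLn.map π (QuotientGroup.mk'_surjective U)
  set D0 : Subgroup G := (centralizer ((L.map π : Subgroup (G ⧸ U)) : Set (G ⧸ U))).comap π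
    with hD0
  have hD0n : D0.Normal := Subgroup.Normal.comap inferInstance π
  have hmem : ∀ g : G, g ∈ D0 ↔ ∀ x ∈ L, g * x * g⁻¹ * x⁻¹ ∈ U := by
    intro g
    rw [hD0, mem_comap, mem_centralizer_iff]
    constructor
    · intro hg x hx
      have h1 := hg (π x) (mem_map_of_mem π hx)
      rw [← QuotientGroup.eq_one_iff, ← QuotientGroup.mk'_apply, ← hπ]
      rw [map_mul, map_mul, map_mul, map_inv, map_inv, ← h1]
      group
    · rintro hg _ ⟨x, hx, rfl⟩
      have h1 := hg x hx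
      rw [← QuotientGroup.eq_one_iff, ← QuotientGroup.mk'_apply, ← hπ] at h1
      rw [map_mul, map_mul, map_mul, map_inv, map_inv] at h1
      calc π x * π g = (π g * π x * (π g)⁻¹ * (π x)⁻¹)⁻¹ * (π g * π x) := by group
        _ = π g * π x := by rw [h1, inv_one, one_mul]
  set D : Subgroup G := (P : Subgroup G) ⊓ D0 with hD
  have hUD : U ≤ D := by
    refine le_inf hUP ?_
    intro u hu
    rw [hmem]
    intro x hx
    have h1 : u * x * u⁻¹ * x⁻¹ = u * (x * u⁻¹ * x⁻¹) := by group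
    rw [h1]
    exact mul_mem hu (hUn.conj_mem u⁻¹ (inv_mem hu) x)
  have hconj : ∀ x ∈ L, ∀ d ∈ D, x * d * x⁻¹ ∈ D := by
    intro x hx d hd
    have h1 : d * x⁻¹ * d⁻¹ * x⁻¹⁻¹ ∈ U := (hmem d).mp hd.2 x⁻¹ (inv_mem hx)
    have h2 : x * (d * x⁻¹ * d⁻¹ * x⁻¹⁻¹) * x⁻¹ ∈ U := hUn.conj_mem _ h1 x
    have h3 : x * d * x⁻¹ = (x * (d * x⁻¹ * d⁻¹ * x⁻¹⁻¹) * x⁻¹) * d := by group
    rw [h3]
    exact mul_mem (hUD h2) hd
  have hLD : L ≤ normalizer (D : Set G) := by
    intro x hx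
    rw [mem_normalizer_iff]
    intro d
    constructor
    · exact hconj x hx d
    · intro hd
      have := hconj x⁻¹ (inv_mem hx) _ hd
      have h4 : x⁻¹ * (x * d * x⁻¹) * x⁻¹⁻¹ = d := by group
      rwa [h4] at this
  have hPD : (P : Subgroup G) ≤ normalizer (D : Set G) := by
    refine le_trans ?_ inf_normalizer_le_normalizer_inf
    refine le_inf le_normalizer ?_
    rw [Subgroup.normalizer_eq_top_iff.mpr hD0n]
    exact le_top
  have hDn : D.Normal := by
    rw [← Subgroup.normalizer_eq_top_iff, eq_top_iff, ← hLP]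
    exact sup_le hLD hPD
  have hDU : D ≤ U := Cfsg.Agent.Helper14.le_pCore p hDn (P.2.to_le inf_le_left)
  exact hDU ⟨ha, (hmem a).mpr h⟩

end Cfsg.Agent.Lead.TNC
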