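import Mathlib
import Cfsg.Agent.Lead.TNC7

set_option autoImplicit false
set_option linter.style.haveILetI false
set_option linter.unusedSectionVars false

/-!
# The endgame of Thompson's normal `p`-complement theorem
-/

namespace Cfsg.Agent.Lead.TNC

open Subgroup
open scoped IsMulCommutative commutatorElement

universe u

variable {p : ℕ} [Fact p.Prime] {G : Type u} [Group G]

/-- Lemma Q2 applied to the conjugation action on a normal elementary abelian subgroup -/
theorem commutator_mem_centralizer_of_quadratic [Finite G] (hp2 : p ≠ 2) (V1 : Subgroup G)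
    [hV1n : V1.Normal] (hV1c : ∀ x ∈ V1, ∀ y ∈ V1, x * y = y * x) (hV1p : ∀ x ∈ V1, x ^ p = 1)
    (L : Subgroup G) [hLn : L.Normal] (K : Subgroup G)
    (hKC : K ≤ centralizer (V1 : Set G)) (hLK : (K.relIndex L).Coprime p) (hLL : ⁅L, L⁆ ≤ K)
    (a : G)
    (hquad : ∀ v ∈ V1, a * (a * v * a⁻¹ * v⁻¹) = (a * v * a⁻¹ * v⁻¹) * a) :
    ∀ x ∈ L, a * x * a⁻¹ * x⁻¹ ∈ centralizer (V1 : Set G) := by
  have hp : p.Prime := Fact.out
  haveI : IsMulCommutative V1 := ⟨⟨fun x y => Subtype.ext (hV1c x x.2 y y.2)⟩⟩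
  set ρ : G →* MulAut V1 := MulAut.conjNormal with hρ
  have hρapp : ∀ (g : G) (v : V1), ((ρ g v : V1) : G) = g * v * g⁻¹ := fun g v =>
    MulAut.conjNormal_apply g v
  have hker : ∀ g : G, ρ g = 1 ↔ g ∈ centralizer (V1 : Set G) := by
    intro g
    rw [mem_centralizer_iff]
    constructor
    · intro hg v hv
      have h1 := hρapp g ⟨v, hv⟩
      rw [hg] at h1
      have h2 : v = g * v * g⁻¹ := h1
      calc v * g = (g * v * g⁻¹) * g := by rw [← h2]
        _ = g * v := by group
    · intro hg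
      apply MulEquiv.ext
      intro v
      apply Subtype.ext
      rw [hρapp]
      have := hg v v.2
      show g * v * g⁻¹ = v
      rw [← this]; group
  set Λ : Subgroup (MulAut V1) := L.map ρ with hΛ
  have hΛcard : (Nat.card Λ).Coprime p := by
    have h1 : Nat.card Λ = ρ.ker.relIndex L := (relIndex_ker L ρ).symm
    have h2 : K ≤ ρ.ker := by
      intro k hk
      rw [MonoidHom.mem_ker, hker]
      exact hKC hk
    rw [h1]
    exact Nat.Coprime.coprime_dvd_left (relIndex_dvd_of_le_left L h2) hLK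
  have hΛcomm : ∀ x ∈ Λ, ∀ y ∈ Λ, x * y = y * x := by
    rintro _ ⟨x, hx, rfl⟩ _ ⟨y, hy, rfl⟩
    have h1 : ⁅x, y⁆ ∈ centralizer (V1 : Set G) :=
      hKC (hLL (Subgroup.commutator_mem_commutator hx hy))
    rw [← hker, commutatorElement_def, map_mul, map_mul, map_mul, map_inv, map_inv] at h1
    calc ρ x * ρ y = (ρ x * ρ y * (ρ x)⁻¹ * (ρ y)⁻¹) * (ρ y * ρ x) := by group
      _ = ρ y * ρ x := by rw [h1, one_mul]
  have hΛnorm : ρ a ∈ normalizer (Λ : Set (MulAut V1)) := by
    apply Subgroup.le_normalizer_map ρ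
    refine mem_map_of_mem ρ ?_
    rw [Subgroup.normalizer_eq_top_iff.mpr hLn]
    exact mem_top a
  have hV : ∀ v : V1, v ^ p = 1 := fun v => Subtype.ext (by simpa using hV1p v v.2)
  have hq : ∀ v : V1, ρ a • cc (ρ a) v = cc (ρ a) v := by
    intro v
    apply Subtype.ext
    have h1 : ((cc (ρ a) v : V1) : G) = a * v * a⁻¹ * (v : G)⁻¹ := by
      unfold cc
      rw [MulAut.smul_def, Subgroup.coe_mul, hρapp, Subgroup.coe_inv]
    rw [MulAut.smul_def, hρapp, h1]
    have h2 := hquad v v.2
    calc a * (a * v * a⁻¹ * (v : G)⁻¹) * a⁻¹ = (a * v * a⁻¹ * (v : G)⁻¹) * a * a⁻¹ := by rw [h2]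
      _ = a * v * a⁻¹ * (v : G)⁻¹ := by group
  have hρp : (ρ a) ^ p = 1 := by
    apply MulEquiv.ext
    intro v
    have h1 := pow_smul_eq (ρ a) hq v p
    rw [MulAut.smul_def, hV, mul_one] at h1
    exact h1
  intro x hx
  rw [← hker]
  apply MulEquiv.ext
  intro v
  have h1 := quad_comm_trivial hp hp2 hV (ρ a) hρp hq Λ hΛcard
    hΛcomm hΛnorm (ρ x) (mem_map_of_mem ρ hx) v
  rw [MulAut.smul_def] at h1
  rw [map_mul, map_mul, map_mul, map_inv, map_inv]
  exact h1


open Cfsg.Agent.Helper26 in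
theorem thompsonSubgroupOf_eq_sSup (p : ℕ) (T : Subgroup G) :
    Cfsg.thompsonSubgroupOf p T = sSup (famEl p T) := by
  unfold Cfsg.thompsonSubgroupOf Cfsg.thompsonSubgroup
  rw [← image_maxElementaryAbelian_eq, sSup_image]
  exact (Subgroup.gc_map_comap T.subtype).l_sSup

open Cfsg.Agent.Helper26 in
/-- **The endgame of Thompson's normal `p`-complement theorem.** -/
theorem thompson_endgame (hp2 : p ≠ 2) (G : Type u) [Group G] [Finite G] (P : Sylow p G)
    (hH : (thompsonHyp p).Hyp G P) (hS : MinStructure p G P) : False := by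
  have hp : p.Prime := Fact.out
  obtain ⟨hJ0, hZ0⟩ := hH
  have hJ : Cfsg.HasNormalPComplement p
      (normalizer (Cfsg.thompsonSubgroupOf p (P : Subgroup G) : Set G)) := hJ0
  have hZ : Cfsg.HasNormalPComplement p
      (centralizer (((P : Subgroup G) ⊓ centralizer ((P : Subgroup G) : Set G) : Subgroup G) :
        Set G)) := hZ0
  obtain ⟨L, hLn, hUL, hLP, hLcop, hLL⟩ := hS.exL
  set U := Cfsg.pCore p G with hU
  have hUn : U.Normal := inferInstance
  have hUp : IsPGroup p U := Cfsg.Agent.Helper14.pCore_isPGroup p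
  have hUP : U ≤ (P : Subgroup G) := Cfsg.Agent.Helper14.pCore_le_sylow p P
  set Z : Subgroup G := (P : Subgroup G) ⊓ centralizer ((P : Subgroup G) : Set G) with hZdef
  -- `C_G(Z(P)) = P`
  have hPCZ : (P : Subgroup G) ≤ centralizer (Z : Set G) := by
    intro x hx
    rw [mem_centralizer_iff]
    intro z hz
    rw [SetLike.mem_coe, hZdef, Subgroup.mem_inf] at hz
    exact (mem_centralizer_iff.mp hz.2 x hx).symm
  have hCZ : centralizer (Z : Set G) = P := by
    rcases hS.max _ hPCZ with h | h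
    · exact h
    · exact absurd (npc_of_top (npc_of_eq h hZ)) hS.not_npc
  have hZCU : Z ≤ centralizer (U : Set G) := by
    intro z hz
    rw [hZdef, Subgroup.mem_inf] at hz
    exact Subgroup.centralizer_le (show (U : Set G) ⊆ (P : Subgroup G) from hUP) hz.2
  have hZU : Z ≤ U := hZCU.trans hS.centralizer_le
  have hZUn : (U ⊓ centralizer (U : Set G)).Normal := inferInstance
  set V : Subgroup G := normalClosure (Z : Set G) with hVdef
  have hVZU : V ≤ U ⊓ centralizer (U : Set G) := normalClosure_le_normal (le_inf hZU hZCU)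
  have hVn : V.Normal := normalClosure_normal
  have hVU : V ≤ U := hVZU.trans inf_le_left
  have hVc : ∀ x ∈ V, ∀ y ∈ V, x * y = y * x := by
    intro x hx y hy
    exact mem_centralizer_iff.mp (hVZU hy).2 x (hVU hx)
  have hVp : IsPGroup p V := hUp.to_le hVU
  have hCVP : centralizer (V : Set G) ≤ (P : Subgroup G) := by
    rw [← hCZ]
    exact Subgroup.centralizer_le subset_normalClosure
  have hCVp : IsPGroup p (centralizer (V : Set G)) := P.2.to_le hCVP
  -- `V₁ = Ω₁(V)`
  set V1 : Subgroup G := omega1 p V hVc with hV1def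
  have hV1n : V1.Normal := omega1_normal V hVc
  have hV1V : V1 ≤ V := omega1_le V hVc
  have hV1c : ∀ x ∈ V1, ∀ y ∈ V1, x * y = y * x := fun x hx y hy => hVc x (hV1V hx) y (hV1V hy)
  have hV1p : ∀ x ∈ V1, x ^ p = 1 := fun x hx => hx.2
  have hC1p : IsPGroup p (centralizer (V1 : Set G)) :=
    isPGroup_centralizer_omega1 hp2 V hVp hVc hCVp
  have hC1n : (centralizer (V1 : Set G)).Normal := inferInstance
  have hC1U : centralizer (V1 : Set G) ≤ U := Cfsg.Agent.Helper14.le_pCore p hC1n hC1p
  have hUC1 : U ≤ centralizer (V1 : Set G) := by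
    intro u hu
    rw [mem_centralizer_iff]
    intro v hv
    exact (mem_centralizer_iff.mp (hVZU (hV1V hv)).2 u hu).symm
  have hV1P : V1 ≤ (P : Subgroup G) := hV1V.trans (hVU.trans hUP)
  by_cases hall : ∀ A ∈ famEl p (P : Subgroup G), V1 ≤ A
  · -- `J(P) ≤ U`, so `J(P) = J(U)` is normal
    have hAU : ∀ A ∈ famEl p (P : Subgroup G), A ≤ U := by
      intro A hA
      refine le_trans ?_ hC1U
      intro a ha
      rw [mem_centralizer_iff]
      intro v hv
      exact hA.2.1.1 v (hall A hA hv) a ha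
    have hfam : famEl p (P : Subgroup G) = famEl p U := by
      ext X
      constructor
      · intro hX
        exact (famEl_restrict hX (hAU X hX) hUP).1
      · intro hX
        obtain ⟨A, hA⟩ := famEl_nonempty p (P : Subgroup G)
        exact (famEl_restrict hA (hAU A hA) hUP).2 hX
    have hJU : Cfsg.thompsonSubgroupOf p (P : Subgroup G) = Cfsg.thompsonSubgroupOf p U := by
      rw [thompsonSubgroupOf_eq_sSup, thompsonSubgroupOf_eq_sSup, hfam]
    have hJn : normalizer (Cfsg.thompsonSubgroupOf p (P : Subgroup G) : Set G) = ⊤ := by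
      rw [eq_top_iff, hJU]
      refine le_trans ?_ ((jFunctor p).normalizer_le U)
      rw [Subgroup.normalizer_eq_top_iff.mpr hUn]
    exact hS.not_npc (npc_of_top (npc_of_eq hJn hJ))
  · push Not at hall
    obtain ⟨A0, hA0, hVA0⟩ := hall
    have hodd : Odd p := hp.odd_of_ne_two hp2
    have hPV1 : (P : Subgroup G) ≤ normalizer (V1 : Set G) := by
      rw [Subgroup.normalizer_eq_top_iff.mpr hV1n]; exact le_top
    have hV1comm : ⁅V1, V1⁆ ≤ A0 := by
      have : ⁅V1, V1⁆ = ⊥ := by
        rw [Subgroup.commutator_eq_bot_iff_le_centralizer]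
        intro x hx
        rw [mem_centralizer_iff]
        intro y hy
        exact hV1c y hy x hx
      rw [this]; exact bot_le
    obtain ⟨A', hA', -, hVA', hVNA'⟩ := famEl_repl hp2 p (Or.inr hodd) (P : Subgroup G) V1 P.2
      hV1P hPV1 A0 hA0 hV1comm hVA0
    have hA'U : ¬ A' ≤ U := by
      intro h
      apply hVA'
      intro v hv
      refine mem_famEl_of_commute hA' (hV1P hv) (hV1p v hv) (fun a ha => ?_)
      exact (mem_centralizer_iff.mp (hUC1 (h ha)) v hv).symm
    obtain ⟨a, haA, haU⟩ := SetLike.not_le_iff_exists.mp hA'U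
    have haP : a ∈ (P : Subgroup G) := hA'.1 haA
    have hquad : ∀ v ∈ V1, a * (a * v * a⁻¹ * v⁻¹) = (a * v * a⁻¹ * v⁻¹) * a := by
      intro v hv
      have h1 : v * a⁻¹ * v⁻¹ ∈ A' := (mem_normalizer_iff.mp (hVNA' hv) a⁻¹).mp (inv_mem haA)
      have h2 : a * v * a⁻¹ * v⁻¹ ∈ A' := by
        have h3 : a * v * a⁻¹ * v⁻¹ = a * (v * a⁻¹ * v⁻¹) := by group
        rw [h3]
        exact mul_mem haA h1
      exact hA'.2.1.1 a haA _ h2
    have hcomm := commutator_mem_centralizer_of_quadratic hp2 V1 hV1c hV1p L U hUC1 hLcop hLL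
      a hquad
    exact haU (mem_pCore_of_commutator P L hLP a haP (fun x hx => hC1U (hcomm x hx)))

/-- **Thompson's normal `p`-complement theorem** (the nontrivial direction). -/
theorem thompson_npc (hp2 : p ≠ 2) (G : Type u) [Group G] [Finite G] (P : Sylow p G)
    (hJ : Cfsg.HasNormalPComplement p
      (normalizer (Cfsg.thompsonSubgroupOf p (P : Subgroup G) : Set G)))
    (hZ : Cfsg.HasNormalPComplement p
      (centralizer (((P : Subgroup G) ⊓ centralizer ((P : Subgroup G) : Set G) : Subgroup G) :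
        Set G))) : Cfsg.HasNormalPComplement p G :=
  (thompsonHyp p).npc (thompson_endgame hp2) G P ⟨hJ, hZ⟩

end Cfsg.Agent.Lead.TNC
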