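import Mathlib
import Cfsg.Agent.Lead.TNC8
import Cfsg.Agent.S0071
import Cfsg.Agent.Helper29.NilpHall
import Cfsg.Agent.Helper9.PResidual

set_option autoImplicit false
set_option linter.style.haveILetI false
set_option linter.unusedSectionVars false

/-!
# Groups with a nilpotent maximal subgroup of odd order (Thompson): preliminaries
-/

namespace Cfsg.Agent.Lead.NilpMax

open Subgroup
open Cfsg.Agent.Lead.TNC

universe u

/-- nilpotent groups have normal `p`-complements -/
theorem npc_of_isNilpotent {M : Type*} [Group M] [Finite M] [Group.IsNilpotent M] (p : ℕ)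
    [Fact p.Prime] : Cfsg.HasNormalPComplement p M := by
  obtain ⟨P⟩ : Nonempty (Sylow p M) := inferInstance
  obtain ⟨N, hN, hc⟩ := (Cfsg.Agent.S0071.result P).mpr (by
    intro Q hQP g _ hcop
    rw [mem_centralizer_iff]
    intro x hx
    obtain ⟨k, hk⟩ := (IsPGroup.iff_orderOf.mp P.2) ⟨x, hQP hx⟩
    rw [Subgroup.orderOf_mk] at hk
    have h1 : (orderOf g).Coprime (orderOf x) := by
      rw [hk]; exact Nat.Coprime.pow_right k hcop
    exact (Cfsg.Agent.Helper29.commute_of_nilpotent_of_coprime_orderOf M g x h1).eq.symm)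
  exact ⟨P, N, hN, hc⟩

variable {G : Type u} [Group G]

/-- the image of a maximal subgroup in a quotient by a normal subgroup it contains -/
theorem isCoatom_map_mk' {M X : Subgroup G} [X.Normal] (hM : IsCoatom M) (hXM : X ≤ M) :
    IsCoatom (M.map (QuotientGroup.mk' X)) := by
  have hsurj := QuotientGroup.mk'_surjective X
  have hcomap : (M.map (QuotientGroup.mk' X)).comap (QuotientGroup.mk' X) = M := by
    apply Subgroup.comap_map_eq_self
    rw [QuotientGroup.ker_mk']; exact hXM
  constructor
  · intro h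
    apply hM.1
    rw [← hcomap, h, Subgroup.comap_top]
  · intro K hK
    have h1 : M ≤ K.comap (QuotientGroup.mk' X) := by
      rw [← hcomap]; exact Subgroup.comap_mono hK.le
    have h2 : K.comap (QuotientGroup.mk' X) ≠ M := by
      intro h
      apply hK.ne
      rw [← Subgroup.map_comap_eq_self_of_surjective hsurj K, h]
    have h3 := hM.2 _ (lt_of_le_of_ne h1 h2.symm)
    rw [← Subgroup.map_comap_eq_self_of_surjective hsurj K, h3, ← MonoidHom.range_eq_map,
      MonoidHom.range_eq_top.mpr hsurj]

theorem solvable_of_normal_of_quotient (X : Subgroup G) [X.Normal] (h1 : Group.IsSolvable X)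
    (h2 : Group.IsSolvable (G ⧸ X)) : Group.IsSolvable G := by
  refine Group.isSolvable_of_ker_le_range X.subtype (QuotientGroup.mk' X) ?_
  rw [QuotientGroup.ker_mk', Subgroup.range_subtype]


/-- Case B: `M` contains no nontrivial normal subgroup of `G`. Then for each prime `p ∣ |M|`
the Sylow `p`-subgroup of `M` is a Sylow subgroup of `G` and `G` has a normal `p`-complement. -/
theorem npc_of_caseB [Finite G] {M : Subgroup G} (hM : IsCoatom M) (hnil : Group.IsNilpotent M)
    (hodd : Odd (Nat.card M)) (hB : ∀ X : Subgroup G, X.Normal → X ≤ M → X = ⊥) (p : ℕ)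
    [Fact p.Prime] (hpM : p ∣ Nat.card M) :
    Cfsg.HasNormalPComplement p G ∧
      (Nat.card G).factorization p = (Nat.card M).factorization p := by
  have hp : p.Prime := Fact.out
  have hp2 : p ≠ 2 := by
    rintro rfl
    exact (Nat.not_even_iff_odd.mpr hodd) (even_iff_two_dvd.mpr hpM)
  obtain ⟨Pp⟩ : Nonempty (Sylow p M) := inferInstance
  haveI hPpn : (Pp : Subgroup M).Normal :=
    Sylow.normal_of_normalizerCondition Group.normalizerCondition_of_isNilpotent Pp
  set P0 : Subgroup G := (Pp : Subgroup M).map M.subtype with hP0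
  have hP0p : IsPGroup p P0 := Pp.2.map _
  have hP0M : P0 ≤ M := Subgroup.map_subtype_le _
  have hP0ne : P0 ≠ ⊥ := by
    intro h0
    rw [hP0, Subgroup.map_eq_bot_iff_of_injective _ M.subtype_injective] at h0
    exact Pp.ne_bot_of_dvd_card hpM h0
  -- a subgroup `Y` with `M ≤ N_G(Y)`, `Y ≤ M`, `Y ≠ ⊥` has `N_G(Y) = M`
  have hnorm : ∀ Y : Subgroup G, Y ≠ ⊥ → Y ≤ M → M ≤ normalizer (Y : Set G) →
      normalizer (Y : Set G) = M := by
    intro Y hY hYM hMY
    by_contra hne
    have h1 : normalizer (Y : Set G) = ⊤ := hM.2 _ (lt_of_le_of_ne hMY (Ne.symm hne))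
    exact hY (hB Y (Subgroup.normalizer_eq_top_iff.mp h1) hYM)
  have hMP0 : M ≤ normalizer (P0 : Set G) := by
    have h1 := Subgroup.le_normalizer_map (H := (Pp : Subgroup M)) M.subtype
    rw [Subgroup.normalizer_eq_top_iff.mpr hPpn, ← MonoidHom.range_eq_map,
      Subgroup.range_subtype] at h1
    exact h1
  have hNP0 : normalizer (P0 : Set G) = M := hnorm P0 hP0ne hP0M hMP0
  -- every `p`-subgroup of `M` lies in `P0`
  have hall : ∀ Q : Subgroup G, IsPGroup p Q → Q ≤ M → Q ≤ P0 := by
    intro Q hQ hQM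
    have h1 : IsPGroup p (Q.subgroupOf M) := hQ.comap_subtype
    obtain ⟨S', hS'⟩ := h1.exists_le_sylow
    obtain ⟨g, rfl⟩ := MulAction.exists_smul_eq M Pp S'
    rw [Sylow.smul_eq_of_normal] at hS'
    intro x hx
    exact ⟨⟨x, hQM hx⟩, hS' (Subgroup.mem_subgroupOf.mpr hx), rfl⟩
  -- `P0` is a Sylow subgroup of `G`
  obtain ⟨S, hS⟩ := hP0p.exists_le_sylow
  have hSP0 : (S : Subgroup G) = P0 := by
    by_contra hne
    have hlt : P0 < (S : Subgroup G) := lt_of_le_of_ne hS (Ne.symm hne)
    have h1 := Cfsg.Agent.Helper11.lt_inf_normalizer (S : Subgroup G) P0 S.2 hlt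
    rw [hNP0] at h1
    exact (not_le_of_gt h1) (hall _ (S.2.to_le inf_le_left) inf_le_right)
  have hfac : (Nat.card G).factorization p = (Nat.card M).factorization p := by
    have h1 : Nat.card (S : Subgroup G) = p ^ (Nat.card G).factorization p :=
      S.card_eq_multiplicity
    have h2 : Nat.card P0 = p ^ (Nat.card M).factorization p := by
      rw [hP0, Subgroup.card_map_of_injective M.subtype_injective]
      exact Pp.card_eq_multiplicity
    rw [hSP0, h2] at h1
    exact (Nat.pow_right_injective hp.two_le h1).symm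
  refine ⟨?_, hfac⟩
  have hSM : (S : Subgroup G) ≤ M := hSP0 ▸ hP0M
  have hSne : (S : Subgroup G) ≠ ⊥ := hSP0 ▸ hP0ne
  have hMS : M ≤ normalizer ((S : Subgroup G) : Set G) := hSP0 ▸ hMP0
  have hnpcM : Cfsg.HasNormalPComplement p M := npc_of_isNilpotent p
  -- the Thompson subgroup
  have hJ : Cfsg.HasNormalPComplement p
      (normalizer (Cfsg.thompsonSubgroupOf p (S : Subgroup G) : Set G)) := by
    have h1 : normalizer (Cfsg.thompsonSubgroupOf p (S : Subgroup G) : Set G) = M :=
      hnorm _ ((jFunctor p).ne_bot _ S.2 hSne) (((jFunctor p).le _).trans hSM)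
        (hMS.trans ((jFunctor p).normalizer_le _))
    exact npc_of_eq h1.symm hnpcM
  have hZ : Cfsg.HasNormalPComplement p
      (centralizer (((S : Subgroup G) ⊓ centralizer ((S : Subgroup G) : Set G) : Subgroup G) :
        Set G)) := by
    have h1 : normalizer (((S : Subgroup G) ⊓ centralizer ((S : Subgroup G) : Set G) :
        Subgroup G) : Set G) = M :=
      hnorm _ ((zFunctor p).ne_bot _ S.2 hSne) (((zFunctor p).le _).trans hSM)
        (hMS.trans ((zFunctor p).normalizer_le _))
    exact npc_of_le ((centralizer_le_normalizer _).trans h1.le) hnpcM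
  exact thompson_npc hp2 G S hJ hZ

end Cfsg.Agent.Lead.NilpMax
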