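import Mathlib
import Cfsg.Agent.Lead.Fpf2
import Cfsg.Agent.Lead.TNC8
import Cfsg.Agent.Lead.NilpMax1

set_option autoImplicit false
set_option linter.style.haveILetI false
set_option linter.unusedSectionVars false

/-!
# Fixed-point-free automorphisms of prime order: auxiliary lemmas for the induction
-/

namespace Cfsg.Agent.Lead.Fpf

open Subgroup
open scoped IsMulCommutative commutatorElement

universe u

variable {G : Type*} [Group G]

theorem map_eq_of_map_le [Finite G] (φ : G ≃* G) (H : Subgroup G)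
    (h : H.map φ.toMonoidHom ≤ H) : H.map φ.toMonoidHom = H := by
  apply Subgroup.eq_of_le_of_card_ge h
  rw [Subgroup.card_map_of_injective φ.injective]

theorem map_of_characteristic (φ : G ≃* G) (H : Subgroup G) [hH : H.Characteristic] :
    H.map φ.toMonoidHom = H :=
  Subgroup.characteristic_iff_map_eq.mp hH φ

theorem map_centralizer_eq [Finite G] (φ : G ≃* G) (S : Subgroup G)
    (hS : S.map φ.toMonoidHom = S) :
    (centralizer (S : Set G)).map φ.toMonoidHom = centralizer (S : Set G) := by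
  apply map_eq_of_map_le
  rintro _ ⟨x, hx, rfl⟩
  rw [mem_centralizer_iff]
  intro s hs
  rw [SetLike.mem_coe, ← hS] at hs
  obtain ⟨s', hs', rfl⟩ := hs
  have := mem_centralizer_iff.mp hx s' hs'
  simp only [MulEquiv.coe_toMonoidHom]
  rw [← map_mul, ← map_mul, this]

theorem map_normalizer_eq (φ : G ≃* G) (S : Subgroup G)
    (hS : S.map φ.toMonoidHom = S) :
    (normalizer (S : Set G)).map φ.toMonoidHom = normalizer (S : Set G) := by
  rw [map_equiv_normalizer_eq, hS]

theorem card_quotient_lt [Finite G] {N : Subgroup G} [N.Normal] (hN : N ≠ ⊥) :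
    Nat.card (G ⧸ N) < Nat.card G := by
  have h1 := N.card_mul_index
  rw [Subgroup.index_eq_card] at h1
  have h2 : 1 < Nat.card ↥N := (Subgroup.one_lt_card_iff_ne_bot N).2 hN
  have h3 : 0 < Nat.card (G ⧸ N) := Nat.card_pos
  nlinarith

theorem card_subgroup_lt [Finite G] {H : Subgroup G} (hH : H ≠ ⊤) : Nat.card ↥H < Nat.card G := by
  have h1 := H.card_mul_index
  have h2 : H.index ≠ 1 := fun h => hH (index_eq_one.mp h)
  have h3 : H.index ≠ 0 := index_ne_zero_of_finite
  have h4 : 2 ≤ H.index := by omega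
  have h5 : 0 < Nat.card H := Nat.card_pos
  nlinarith

theorem sylow_normal_of_quotient_nilpotent [Finite G] {p : ℕ} [Fact p.Prime] (P : Sylow p G)
    (N : Subgroup G) [N.Normal] (hNP : N ≤ P) (hnil : Group.IsNilpotent (G ⧸ N)) :
    (P : Subgroup G).Normal := by
  have hsurj := QuotientGroup.mk'_surjective N
  have h1 : ((P.mapSurjective hsurj : Sylow p (G ⧸ N)) : Subgroup (G ⧸ N)).Normal :=
    Sylow.normal_of_normalizerCondition Group.normalizerCondition_of_isNilpotent _
  rw [Sylow.coe_mapSurjective] at h1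
  have h2 := h1.comap (QuotientGroup.mk' N)
  rwa [Subgroup.comap_map_eq_self (by rw [QuotientGroup.ker_mk']; exact hNP)] at h2

theorem isNilpotent_of_forall_sylow_normal [Finite G]
    (h : ∀ (p : ℕ) [Fact p.Prime], ∃ P : Sylow p G, (P : Subgroup G).Normal) :
    Group.IsNilpotent G := by
  apply ((Group.isNilpotent_of_finite_tfae (G := G)).out 0 3).mpr
  intro p hp P'
  obtain ⟨P, hP⟩ := h p
  obtain ⟨g, hg⟩ := MulAction.exists_smul_eq G P P'
  rw [← hg, Sylow.smul_eq_of_normal]
  exact hP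

/-- a nontrivial finite solvable group has a nontrivial characteristic abelian `q`-subgroup -/
theorem exists_char_abelian_qgroup [Finite G] [Nontrivial G] (hsolv : Group.IsSolvable G) :
    ∃ (q : ℕ) (_ : Fact q.Prime) (V : Subgroup G), V.Characteristic ∧ V ≠ ⊥ ∧ IsPGroup q V ∧
      IsMulCommutative V := by
  classical
  obtain ⟨n, hn⟩ := hsolv.solvable
  have hex : ∃ n, derivedSeries G n = ⊥ := ⟨n, hn⟩
  set n0 := Nat.find hex with hn0
  have hn0bot : derivedSeries G n0 = ⊥ := Nat.find_spec hex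
  have hn0ne : n0 ≠ 0 := by
    intro h0
    rw [h0, derivedSeries_zero] at hn0bot
    exact top_ne_bot hn0bot
  obtain ⟨m, hm⟩ : ∃ m, n0 = m + 1 := ⟨n0 - 1, by omega⟩
  set A := derivedSeries G m with hA
  have hAne : A ≠ ⊥ := by
    intro h0
    have := Nat.find_min' hex h0
    omega
  have hAcomm : ⁅A, A⁆ = ⊥ := by
    rw [hA, ← derivedSeries_succ, ← hm]; exact hn0bot
  have hAchar : A.Characteristic := derivedSeries_characteristic G m
  have hcomm : ∀ x ∈ A, ∀ y ∈ A, x * y = y * x := by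
    intro x hx y hy
    have h1 : ⁅x, y⁆ ∈ ⁅A, A⁆ := Subgroup.commutator_mem_commutator hx hy
    rw [hAcomm, mem_bot] at h1
    exact commutatorElement_eq_one_iff_mul_comm.mp h1
  have hA1 : Nat.card A ≠ 1 := fun h => hAne (Subgroup.card_eq_one.mp h)
  obtain ⟨q, hq, hqA⟩ := Nat.exists_prime_and_dvd hA1
  haveI : Fact q.Prime := ⟨hq⟩
  let V : Subgroup G :=
    { carrier := {x | x ∈ A ∧ x ^ q = 1}
      mul_mem' := by
        rintro x y ⟨hx, hxq⟩ ⟨hy, hyq⟩
        refine ⟨A.mul_mem hx hy, ?_⟩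
        have hc : Commute x y := hcomm x hx y hy
        rw [hc.mul_pow, hxq, hyq, one_mul]
      one_mem' := ⟨A.one_mem, one_pow q⟩
      inv_mem' := by
        rintro x ⟨hx, hxq⟩
        exact ⟨A.inv_mem hx, by rw [inv_pow, hxq, inv_one]⟩ }
  have hVmem : ∀ x, x ∈ V ↔ x ∈ A ∧ x ^ q = 1 := fun x => Iff.rfl
  refine ⟨q, ⟨hq⟩, V, ?_, ?_, ?_, ?_⟩
  · rw [Subgroup.characteristic_iff_map_le]
    intro ψ
    rintro _ ⟨x, hx, rfl⟩
    obtain ⟨hxA, hxq⟩ := (hVmem x).mp hx
    refine (hVmem _).mpr ⟨?_, ?_⟩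
    · have h1 : A.map ψ.toMonoidHom = A := Subgroup.characteristic_iff_map_eq.mp hAchar ψ
      rw [← h1]
      exact Subgroup.mem_map_of_mem _ hxA
    · simp only [MulEquiv.coe_toMonoidHom]
      rw [← map_pow, hxq, map_one]
  · obtain ⟨a, ha⟩ := exists_prime_orderOf_dvd_card' q hqA
    intro h0
    have h1 : (a : G) ∈ V := by
      refine (hVmem _).mpr ⟨a.2, ?_⟩
      have : a ^ q = 1 := by rw [← ha]; exact pow_orderOf_eq_one a
      have := congrArg Subtype.val this
      simpa using this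
    rw [h0, mem_bot] at h1
    have h2 : a = 1 := Subtype.ext h1
    rw [h2, orderOf_one] at ha
    exact hq.one_lt.ne ha
  · intro x
    refine ⟨1, Subtype.ext ?_⟩
    rw [pow_one, Subgroup.coe_pow, Subgroup.coe_one]
    exact ((hVmem _).mp x.2).2
  · refine ⟨⟨fun x y => Subtype.ext ?_⟩⟩
    exact hcomm _ ((hVmem _).mp x.2).1 _ ((hVmem _).mp y.2).1

end Cfsg.Agent.Lead.Fpf
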