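import Mathlib
import Cfsg.Agent.Lead.Fpf3

set_option autoImplicit false
set_option linter.style.haveILetI false
set_option linter.unusedSectionVars false

/-!
# Fixed-point-free automorphisms of prime order: the solvable case
-/

namespace Cfsg.Agent.Lead.Fpf

open Subgroup
open scoped IsMulCommutative commutatorElement

universe u

theorem nilpotent_of_solvable_step {r : ℕ} (hr : r.Prime) {G : Type u} [Group G] [Finite G]
    (φ : G ≃* G) (h : FpfAut r φ)
    (IH : ∀ (H : Type u) [Group H] [Finite H] (ψ : H ≃* H), Nat.card H < Nat.card G →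
      FpfAut r ψ → Group.IsNilpotent H)
    (hsolv : Group.IsSolvable G) : Group.IsNilpotent G := by
  by_cases hG : Subsingleton G
  · infer_instance
  haveI : Nontrivial G := not_subsingleton_iff_nontrivial.mp hG
  obtain ⟨q, hqf, V, hVchar, hVne, hVq, hVab⟩ := exists_char_abelian_qgroup hsolv
  haveI := hqf
  haveI := hVchar
  haveI := hVab
  have hVn : V.Normal := inferInstance
  have hVφ : V.map φ.toMonoidHom = V := map_of_characteristic φ V
  have hGV : Group.IsNilpotent (G ⧸ V) :=
    IH (G ⧸ V) (quot φ V hVφ) (card_quotient_lt hVne) (h.quotient V hVφ)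
  apply isNilpotent_of_forall_sylow_normal
  intro p hp
  by_cases hpq : p = q
  · subst hpq
    obtain ⟨P⟩ : Nonempty (Sylow p G) := inferInstance
    refine ⟨P, sylow_normal_of_quotient_nilpotent P V ?_ hGV⟩
    exact (Cfsg.Agent.Helper14.le_pCore p hVn hVq).trans (Cfsg.Agent.Helper14.pCore_le_sylow p P)
  · obtain ⟨P, hPφ⟩ := h.exists_invariant_sylow p
    refine ⟨P, ?_⟩
    set M := V ⊔ (P : Subgroup G) with hM
    have hMn : M.Normal := by
      have hsurj := QuotientGroup.mk'_surjective V
      have h1 : ((P.mapSurjective hsurj : Sylow p (G ⧸ V)) : Subgroup (G ⧸ V)).Normal :=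
        Sylow.normal_of_normalizerCondition Group.normalizerCondition_of_isNilpotent _
      rw [Sylow.coe_mapSurjective] at h1
      have h2 := h1.comap (QuotientGroup.mk' V)
      rw [Subgroup.comap_map_eq, QuotientGroup.ker_mk', sup_comm] at h2
      exact h2
    have hMφ : M.map φ.toMonoidHom = M := by rw [hM, Subgroup.map_sup, hVφ, hPφ]
    by_cases hMtop : M = ⊤
    · -- `G = V P`
      set C := (P : Subgroup G) ⊓ centralizer (V : Set G) with hC
      have hCn : C.Normal := by
        constructor
        intro c hc g
        have hg : g ∈ ((V ⊔ (P : Subgroup G) : Subgroup G) : Set G) := by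
          rw [← hM, hMtop]; exact mem_top g
        rw [Subgroup.normal_mul] at hg
        obtain ⟨v, hv, x, hx, rfl⟩ := hg
        rw [hC, Subgroup.mem_inf] at hc
        have h1 : x * c * x⁻¹ ∈ C := by
          rw [hC, Subgroup.mem_inf]
          refine ⟨mul_mem (mul_mem hx hc.1) (inv_mem hx), ?_⟩
          exact (Subgroup.normal_centralizer (H := V)).conj_mem c hc.2 x
        have h2 : v * (x * c * x⁻¹) = (x * c * x⁻¹) * v := by
          rw [hC, Subgroup.mem_inf] at h1
          exact (mem_centralizer_iff.mp h1.2 v hv)
        have h3 : v * x * c * (v * x)⁻¹ = x * c * x⁻¹ := by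
          calc v * x * c * (v * x)⁻¹ = (v * (x * c * x⁻¹)) * v⁻¹ := by group
            _ = x * c * x⁻¹ := by rw [h2]; group
        rw [h3]
        exact h1
      have hCφ : C.map φ.toMonoidHom = C := by
        apply map_eq_of_map_le
        rw [hC]
        refine (Subgroup.map_inf_le _ _ _).trans ?_
        rw [hPφ, map_centralizer_eq φ V hVφ]
      by_cases hCbot : C = ⊥
      · by_cases hPbot : (P : Subgroup G) = ⊥
        · rw [hPbot]; infer_instance
        exfalso
        set A := (P : Subgroup G) ⊓ centralizer ((P : Subgroup G) : Set G) with hA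
        have hAne : A ≠ ⊥ := (Cfsg.Agent.Lead.TNC.zFunctor p).ne_bot (P : Subgroup G) P.2 hPbot
        have hAφ : A.map φ.toMonoidHom = A := by
          have h1 := (Cfsg.Agent.Lead.TNC.zFunctor p).map φ.toMonoidHom (P : Subgroup G)
            φ.injective.injOn
          rw [hPφ] at h1
          exact h1.symm
        haveI hAab : IsMulCommutative A := by
          refine ⟨⟨fun x y => Subtype.ext ?_⟩⟩
          have hx : (x : G) ∈ (P : Subgroup G) ⊓ centralizer ((P : Subgroup G) : Set G) := x.2
          have hy : (y : G) ∈ (P : Subgroup G) ⊓ centralizer ((P : Subgroup G) : Set G) := y.2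
          rw [Subgroup.mem_inf] at hx hy
          rw [Subgroup.coe_mul, Subgroup.coe_mul]
          exact mem_centralizer_iff.mp hy.2 x hx.1
        have hcop : (Nat.card A).Coprime (Nat.card V) := by
          obtain ⟨a, ha⟩ := IsPGroup.iff_card.mp (P.2.to_le (inf_le_left : A ≤ P))
          obtain ⟨b, hb⟩ := IsPGroup.iff_card.mp hVq
          rw [ha, hb]
          apply Nat.Coprime.pow
          exact (Nat.coprime_primes hp.out hqf.out).mpr hpq
        have hcent := fpf_centralizes hr h V A hVφ hAφ hcop
        apply hAne
        rw [eq_bot_iff, ← hCbot]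
        intro a ha
        rw [hC, Subgroup.mem_inf]
        have ha' := ha
        rw [hA, Subgroup.mem_inf] at ha'
        refine ⟨ha'.1, ?_⟩
        rw [mem_centralizer_iff]
        intro v hv
        exact (hcent a ha v hv).symm
      · have hGC := IH (G ⧸ C) (quot φ C hCφ) (card_quotient_lt hCbot) (h.quotient C hCφ)
        exact sylow_normal_of_quotient_nilpotent P C inf_le_left hGC
    · -- `M` is proper
      have hMnil : Group.IsNilpotent M :=
        IH M (restrict φ M hMφ) (card_subgroup_lt hMtop) (h.restrict M hMφ)
      have hPM : (P : Subgroup G) ≤ M := le_sup_right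
      have h1 : ((P.subtype hPM : Sylow p M) : Subgroup M).Normal :=
        Sylow.normal_of_normalizerCondition Group.normalizerCondition_of_isNilpotent _
      haveI h2 : ((P.subtype hPM : Sylow p M) : Subgroup M).Characteristic :=
        Sylow.characteristic_of_normal _ h1
      have h3 : (((P.subtype hPM : Sylow p M) : Subgroup M).map M.subtype).Normal :=
        inferInstance
      rw [Sylow.coe_subtype, Subgroup.subgroupOf_map_subtype, inf_eq_left.mpr hPM] at h3
      exact h3

end Cfsg.Agent.Lead.Fpf
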