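import Mathlib
import Cfsg.Agent.Lead.Fpf4

set_option autoImplicit false
set_option linter.style.haveILetI false
set_option linter.unusedSectionVars false

/-!
# Thompson's theorem: a finite group with a fixed-point-free automorphism of prime order is
nilpotent
-/

namespace Cfsg.Agent.Lead.Fpf

open Subgroup
open scoped IsMulCommutative commutatorElement

universe u

theorem solvable_step {r : ℕ} {G : Type u} [Group G] [Finite G]
    (φ : G ≃* G) (h : FpfAut r φ)
    (IH : ∀ (H : Type u) [Group H] [Finite H] (ψ : H ≃* H), Nat.card H < Nat.card G →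
      FpfAut r ψ → Group.IsNilpotent H) : Group.IsSolvable G := by
  by_cases h2 : IsPGroup 2 G
  · haveI := h2.isNilpotent
    infer_instance
  obtain ⟨p, hp, hpdvd, hp2⟩ : ∃ p : ℕ, p.Prime ∧ p ∣ Nat.card G ∧ p ≠ 2 := by
    by_contra hcon
    push Not at hcon
    apply h2
    have hpos : Nat.card G ≠ 0 := Nat.card_pos.ne'
    have := Nat.eq_prime_pow_of_unique_prime_dvd hpos (fun {d} hd hdvd => hcon d hd hdvd)
    exact IsPGroup.of_card this
  haveI : Fact p.Prime := ⟨hp⟩
  obtain ⟨P, hPφ⟩ := h.exists_invariant_sylow p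
  have hPne : (P : Subgroup G) ≠ ⊥ := P.ne_bot_of_dvd_card hpdvd
  set J := Cfsg.thompsonSubgroupOf p (P : Subgroup G) with hJ
  have hJφ : J.map φ.toMonoidHom = J := by
    have h1 := Cfsg.Agent.Lead.TNC.thompsonSubgroupOf_map_of_injOn (p := p) φ.toMonoidHom
      (P : Subgroup G) φ.injective.injOn
    rw [hPφ] at h1
    exact h1.symm
  set Z := (P : Subgroup G) ⊓ centralizer ((P : Subgroup G) : Set G) with hZ
  have hZφ : Z.map φ.toMonoidHom = Z := by
    have h1 := (Cfsg.Agent.Lead.TNC.zFunctor p).map φ.toMonoidHom (P : Subgroup G)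
      φ.injective.injOn
    rw [hPφ] at h1
    exact h1.symm
  have hJne : J ≠ ⊥ := (Cfsg.Agent.Lead.TNC.jFunctor p).ne_bot (P : Subgroup G) P.2 hPne
  have hZne : Z ≠ ⊥ := (Cfsg.Agent.Lead.TNC.zFunctor p).ne_bot (P : Subgroup G) P.2 hPne
  set N1 := normalizer (J : Set G) with hN1d
  set N2 := centralizer (Z : Set G) with hN2d
  have hN1φ : N1.map φ.toMonoidHom = N1 := map_normalizer_eq φ J hJφ
  have hN2φ : N2.map φ.toMonoidHom = N2 := map_centralizer_eq φ Z hZφ
  by_cases hN1 : N1 = ⊤
  · have hJn : J.Normal := Subgroup.normalizer_eq_top_iff.mp hN1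
    have hGJ := IH (G ⧸ J) (quot φ J hJφ) (card_quotient_lt hJne) (h.quotient J hJφ)
    have hJp : IsPGroup p J := P.2.to_le (Cfsg.Agent.Helper26.thompsonSubgroupOf_le p _)
    haveI := hJp.isNilpotent
    exact Cfsg.Agent.Lead.NilpMax.solvable_of_normal_of_quotient J inferInstance inferInstance
  by_cases hN2 : N2 = ⊤
  · have hZn : Z.Normal := by
      constructor
      intro z hz g
      have hg : g ∈ N2 := hN2 ▸ mem_top g
      have h1 := mem_centralizer_iff.mp hg z hz
      have h3 : g * z * g⁻¹ = z := by rw [← h1]; group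
      rw [h3]
      exact hz
    have hGZ := IH (G ⧸ Z) (quot φ Z hZφ) (card_quotient_lt hZne) (h.quotient Z hZφ)
    have hZp : IsPGroup p Z := P.2.to_le inf_le_left
    haveI := hZp.isNilpotent
    exact Cfsg.Agent.Lead.NilpMax.solvable_of_normal_of_quotient Z inferInstance inferInstance
  haveI hN1nil : Group.IsNilpotent N1 :=
    IH N1 (restrict φ N1 hN1φ) (card_subgroup_lt hN1) (h.restrict N1 hN1φ)
  haveI hN2nil : Group.IsNilpotent N2 :=
    IH N2 (restrict φ N2 hN2φ) (card_subgroup_lt hN2) (h.restrict N2 hN2φ)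
  have hnpc : Cfsg.HasNormalPComplement p G :=
    Cfsg.Agent.Lead.TNC.thompson_npc hp2 G P (Cfsg.Agent.Lead.NilpMax.npc_of_isNilpotent p)
      (Cfsg.Agent.Lead.NilpMax.npc_of_isNilpotent p)
  obtain ⟨K, hKn, hKc⟩ := (Cfsg.Agent.Helper9.hasNormalPComplement_iff P).mp hnpc
  haveI := hKn
  have hKeq : K = Cfsg.pResidual p G := Cfsg.Agent.Helper9.normal_complement_eq_pResidual P K hKc
  have hKφ : K.map φ.toMonoidHom = K := by
    rw [hKeq]
    exact map_of_characteristic φ _
  have hKtop : K ≠ ⊤ := by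
    intro h0
    have h1 := hKc.disjoint.eq_bot
    rw [h0, top_inf_eq] at h1
    exact hPne h1
  haveI hKnil : Group.IsNilpotent K :=
    IH K (restrict φ K hKφ) (card_subgroup_lt hKtop) (h.restrict K hKφ)
  have hGK : IsPGroup p (G ⧸ K) := by
    obtain ⟨k, hk⟩ := IsPGroup.iff_card.mp P.2
    apply IsPGroup.of_card (n := k)
    rw [← Subgroup.index_eq_card, hKc.symm.index_eq_card, hk]
  haveI := hGK.isNilpotent
  exact Cfsg.Agent.Lead.NilpMax.solvable_of_normal_of_quotient K inferInstance inferInstance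

/-- **Thompson's theorem** on fixed-point-free automorphisms of prime order. -/
theorem nilpotent_of_fpfAut {r : ℕ} (hr : r.Prime) : ∀ (n : ℕ) (G : Type u) [Group G] [Finite G]
    (φ : G ≃* G), Nat.card G = n → FpfAut r φ → Group.IsNilpotent G := by
  intro n
  induction n using Nat.strong_induction_on with
  | _ n ih =>
    intro G _ _ φ hn h
    have IH : ∀ (H : Type u) [Group H] [Finite H] (ψ : H ≃* H), Nat.card H < Nat.card G →
        FpfAut r ψ → Group.IsNilpotent H :=
      fun H _ _ ψ hlt hψ => ih _ (hn ▸ hlt) H ψ rfl hψ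
    exact nilpotent_of_solvable_step hr φ h IH (solvable_step φ h IH)

theorem mulAut_pow_apply {G : Type*} [Group G] (φ : G ≃* G) (n : ℕ) (g : G) :
    ((φ ^ n : MulAut G) : G ≃* G) g = φ^[n] g := by
  induction n with
  | zero => rfl
  | succ n ih =>
    rw [pow_succ', MulAut.mul_apply, ih, Function.iterate_succ_apply']

/-- Thompson's theorem, for an automorphism of prime order -/
theorem nilpotent_of_fpf_of_orderOf {G : Type u} [Group G] [Finite G] (φ : G ≃* G)
    (hφ : ∀ g, φ g = g → g = 1) (p : ℕ) (hp : p.Prime) (hord : orderOf (φ : MulAut G) = p) :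
    Group.IsNilpotent G := by
  refine nilpotent_of_fpfAut hp _ G φ rfl ⟨hφ, fun g => ?_⟩
  rw [← mulAut_pow_apply, ← hord, pow_orderOf_eq_one]
  rfl

end Cfsg.Agent.Lead.Fpf
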