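import Cfsg.Agent.Helper5.TDDefs
import Cfsg.Agent.S0029
import Cfsg.Agent.S0586

set_option autoImplicit false

/-! S4460 piece CENT. -/

namespace Cfsg.Agent.Lead.TD

open Cfsg Cfsg.Agent.Helper24 Cfsg.Agent.Helper29.TwoDeg
open scoped ComplexConjugate commutatorElement
open Cfsg.Agent.Helper5.TD

universe u
variable {G : Type u} [Group G] [Finite G]

/-- In a finite nilpotent group the commutator subgroup lies in the Frattini subgroup. -/
theorem commutator_le_frattini_of_nilpotent {K : Type*} [Group K] [Finite K]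
    (hK : Group.IsNilpotent K) : commutator K ≤ frattini K := by
  unfold frattini Order.radical
  rw [le_iInf₂_iff]
  intro M hM
  have htfae : Group.IsNilpotent K ↔ ∀ H : Subgroup K, IsCoatom H → H.Normal :=
    (Group.isNilpotent_of_finite_tfae (G := K)).out 0 2
  have hMn : M.Normal := htfae.mp hK M hM
  have := Cfsg.Agent.S0586.isSimpleGroup_quotient_of_isCoatom M hM
  rw [← Subgroup.Normal.quotient_commutative_iff_commutator_le]
  infer_instance

theorem mem_of_coprime_of_commutator_mem {p : ℕ} (hp : p.Prime) (P : Subgroup G) [P.Normal]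
    (hPp : IsPGroup p P) (hcent : Subgroup.centralizer (P : Set G) ≤ P)
    (b : G) (hb : (orderOf b).Coprime p)
    (hc : ∀ k ∈ P, b * k * b⁻¹ * k⁻¹ ∈ ⁅P, P⁆) : b ∈ P := by
  have hpf : Fact p.Prime := ⟨hp⟩
  have hnil : Group.IsNilpotent P := hPp.isNilpotent
  have hcomm : ⁅P, P⁆ ≤ (frattini P).map P.subtype := by
    rw [← Subgroup.map_subtype_commutator]
    exact Subgroup.map_mono (commutator_le_frattini_of_nilpotent hnil)
  have hPPn : (⁅P, P⁆ : Subgroup G).Normal := inferInstance
  -- powers of b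
  have hpow : ∀ n : ℕ, ∀ k ∈ P, b ^ n * k * (b ^ n)⁻¹ * k⁻¹ ∈ ⁅P, P⁆ := by
    intro n
    induction n with
    | zero => intro k _; simp
    | succ n ih =>
      intro k hk
      have h1 := ih k hk
      have h2 := hc k hk
      have h3 : b * (b ^ n * k * (b ^ n)⁻¹ * k⁻¹) * b⁻¹ ∈ ⁅P, P⁆ := hPPn.conj_mem _ h1 b
      have h4 : b ^ (n + 1) * k * (b ^ (n + 1))⁻¹ * k⁻¹ =
          (b * (b ^ n * k * (b ^ n)⁻¹ * k⁻¹) * b⁻¹) * (b * k * b⁻¹ * k⁻¹) := by
        rw [pow_succ']; group
      rw [h4]
      exact Subgroup.mul_mem _ h3 h2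
  have hA : Subgroup.zpowers b ≤ Subgroup.centralizer (P : Set G) := by
    apply Cfsg.Agent.S0029.result (Subgroup.zpowers b) P
    · rw [Subgroup.normalizer_eq_top]; exact le_top
    · rw [Nat.card_zpowers]
      obtain ⟨n, hn⟩ := hPp.exists_card_eq
      have h1 : Nat.card (frattini P) ∣ p ^ n := by
        rw [← hn]; exact Subgroup.card_subgroup_dvd_card _
      exact Nat.Coprime.coprime_dvd_right h1 (Nat.Coprime.pow_right n hb)
    · intro a ha k hk
      have hfin : IsOfFinOrder b := isOfFinOrder_of_finite b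
      rw [← mem_powers_iff_mem_zpowers, Submonoid.mem_powers_iff] at ha
      obtain ⟨n, rfl⟩ := ha
      exact hcomm (hpow n k hk)
  exact hcent (hA (Subgroup.mem_zpowers b))

end Cfsg.Agent.Lead.TD
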