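import Cfsg.Agent.Helper5.TDDefs
import Cfsg.Agent.S0044
import Cfsg.Agent.Helper7.Fitting

set_option autoImplicit false

/-! S4460 piece DFIT1. -/

namespace Cfsg.Agent.Lead.TD

open Cfsg Cfsg.Agent.Helper24 Cfsg.Agent.Helper29.TwoDeg
open scoped ComplexConjugate commutatorElement
open Cfsg.Agent.Helper5.TD

universe u
variable {G : Type u} [Group G] [Finite G]

theorem fitting_pgroup [Group.IsSolvable G] (M : Subgroup G) (hM : M ≠ ⊥)
    (hmin : ∀ N : Subgroup G, N.Normal → N ≠ ⊥ → M ≤ N) :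
    ∃ p : ℕ, p.Prime ∧ IsPGroup p (fittingSubgroup G) ∧ fittingSubgroup G ≠ ⊥ := by
  classical
  -- F ≠ ⊥
  have hF1 : fittingSubgroup G ≠ ⊥ := by
    intro h0
    have h1 := Cfsg.Agent.S0044.result (G := G)
    rw [h0] at h1
    have h2 : (⊤ : Subgroup G) ≤ ⊥ := by
      refine le_trans ?_ h1
      intro x _
      rw [Subgroup.mem_centralizer_iff]
      intro y hy
      rw [Subgroup.coe_bot, Set.mem_singleton_iff] at hy
      subst hy
      simp
    apply hM
    rw [eq_bot_iff]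
    exact le_trans le_top h2
  -- some p-core is nontrivial
  obtain ⟨p, hp, hpc⟩ : ∃ p : ℕ, p.Prime ∧ pCore p G ≠ ⊥ := by
    by_contra hcon
    push Not at hcon
    apply hF1
    rw [eq_bot_iff, Cfsg.Agent.Helper7.fittingSubgroup_eq_pCoreSup,
      Cfsg.Agent.Helper7.pCoreSup_le_iff]
    intro q hq
    rw [hcon q hq]
  have hpf : Fact p.Prime := ⟨hp⟩
  have hMp : M ≤ pCore p G := hmin _ (Cfsg.pCore_normal p G) hpc
  -- all other cores are trivial
  have hother : ∀ q : ℕ, q.Prime → q ≠ p → pCore q G = ⊥ := by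
    intro q hq hqp
    by_contra hqc
    have hqf : Fact q.Prime := ⟨hq⟩
    have hMq : M ≤ pCore q G := hmin _ (Cfsg.pCore_normal q G) hqc
    have hdisj : Disjoint (pCore p G) (pCore q G) :=
      IsPGroup.disjoint_of_ne p q (Ne.symm hqp) _ _
        (Cfsg.Agent.Helper14.pCore_isPGroup p) (Cfsg.Agent.Helper14.pCore_isPGroup q)
    apply hM
    rw [eq_bot_iff]
    exact hdisj hMp hMq
  have hFeq : fittingSubgroup G = pCore p G := by
    apply le_antisymm
    · rw [Cfsg.Agent.Helper7.fittingSubgroup_eq_pCoreSup, Cfsg.Agent.Helper7.pCoreSup_le_iff]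
      intro q hq
      by_cases hqp : q = p
      · rw [hqp]
      · rw [hother q hq hqp]; exact bot_le
    · exact Cfsg.Agent.Helper7.pCore_le_fittingSubgroup p
  refine ⟨p, hp, ?_, hF1⟩
  rw [hFeq]
  exact Cfsg.Agent.Helper14.pCore_isPGroup p

end Cfsg.Agent.Lead.TD
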