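import Cfsg.Agent.Helper5.TDDefs
import Cfsg.Agent.Helper29.SchurPE

set_option autoImplicit false

/-! S4460 piece NFA. -/

namespace Cfsg.Agent.Lead.TD

open Cfsg Cfsg.Agent.Helper24 Cfsg.Agent.Helper29.TwoDeg
open scoped ComplexConjugate commutatorElement
open Cfsg.Agent.Helper5.TD

universe u
variable {G : Type u} [Group G] [Finite G]

theorem faithful_of_min
    (hmin : ∀ K : Subgroup G, K.Normal → K ≠ ⊥ → commutator G ≤ K) :
    ∀ χ : IrrCharacter G, irrDeg χ ≠ 1 → ∀ g : G,
      (χ : G → ℂ) g = (χ : G → ℂ) 1 → g = 1 := by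
  intro χ hχ g hg
  by_contra hg1
  apply hχ
  have hgK : g ∈ irrKer χ := (mem_irrKer χ g).mpr hg
  have hKne : irrKer χ ≠ ⊥ := by
    intro h
    rw [h, Subgroup.mem_bot] at hgK
    exact hg1 hgK
  have hle : commutator G ≤ irrKer χ := hmin (irrKer χ) inferInstance hKne
  obtain ⟨ψ, hψ⟩ := Cfsg.Agent.Helper29.SchurP.exists_irr_quot (irrKer χ) χ
    (fun n hn => (mem_irrKer χ n).mp hn)
  have hcomm : ∀ a b : G ⧸ irrKer χ, a * b = b * a := by
    intro a b
    induction a using QuotientGroup.induction_on with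
    | H a =>
      induction b using QuotientGroup.induction_on with
      | H b =>
        rw [← QuotientGroup.mk_mul, ← QuotientGroup.mk_mul]
        apply QuotientGroup.eq.mpr
        apply hle
        have : (a * b)⁻¹ * (b * a) = ⁅b⁻¹, a⁻¹⁆ := by
          rw [commutatorElement_def]; group
        rw [this]
        exact Subgroup.commutator_mem_commutator (Subgroup.mem_top _) (Subgroup.mem_top _)
  have h1 := (comm_iff_forall_irr_one (G := G ⧸ irrKer χ)).mp hcomm ψ
  rw [irrDeg_eq_one_iff]
  have h2 := hψ 1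
  rw [map_one] at h2
  rw [← h2]; exact h1

end Cfsg.Agent.Lead.TD
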