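import Mathlib
import Cfsg.Prelude.Def_Local
import Cfsg.Agent.Lead.CoprimeFrattini
import Cfsg.Agent.Helper1.PGroup
import Cfsg.Agent.Helper14.PCore
import Cfsg.Agent.Helper23.HallHigman

set_option autoImplicit false

/-! `G / O_{p',p}(G)` acts faithfully on the Frattini quotient of `O_{p',p}(G)/O_{p'}(G)`
for `p`-solvable `G`. -/

namespace Cfsg.Agent.Lead

open Subgroup
open scoped commutatorElement

theorem mem_frattini_mulEquiv {H₁ H₂ : Type*} [Group H₁] [Group H₂] (e : H₁ ≃* H₂) (x : H₁) :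
    e x ∈ frattini H₂ ↔ x ∈ frattini H₁ := by
  constructor
  · intro h
    have h1 := frattini_le_comap_frattini_of_surjective (φ := e.symm.toMonoidHom)
      e.symm.surjective h
    rw [mem_comap] at h1
    simpa using h1
  · intro h
    have h1 := frattini_le_comap_frattini_of_surjective (φ := e.toMonoidHom) e.surjective h
    rw [mem_comap] at h1
    exact h1

/-- A normal `p`-subgroup `Q` containing its centralizer and containing every normal
`p`-subgroup: `g` acts trivially on `Q/Φ(Q)` iff `g ∈ Q`. -/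
theorem mem_iff_trivial_on_frattini_quotient {K : Type*} [Group K] [Finite K] {p : ℕ}
    [hp : Fact p.Prime] (Q : Subgroup K) [hQn : Q.Normal] (hQ : IsPGroup p Q)
    (hmax : ∀ C : Subgroup K, C.Normal → IsPGroup p C → C ≤ Q)
    (hcent : centralizer (Q : Set K) ≤ Q) (g : K) :
    (∀ y ∈ Q, g * y * g⁻¹ * y⁻¹ ∈ (frattini Q).map Q.subtype) ↔ g ∈ Q := by
  set Φ : Subgroup K := (frattini Q).map Q.subtype with hΦ
  have hΦn : ∀ t : K, ∀ x ∈ Φ, t * x * t⁻¹ ∈ Φ := by
    intro t x hx
    have h1 := normalizer_le_normalizer_map_of_characteristic Q (frattini Q)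
    have h2 : t ∈ normalizer (Q : Set K) := by
      rw [normalizer_eq_top]; exact mem_top t
    exact (mem_normalizer_iff.mp (h1 h2) x).mp hx
  have hQconj : ∀ t : K, ∀ y ∈ Q, t * y * t⁻¹ ∈ Q := fun t y hy => hQn.conj_mem y hy t
  constructor
  · intro hg
    -- the subgroup of elements acting trivially
    let C : Subgroup K :=
      { carrier := {g | ∀ y ∈ Q, g * y * g⁻¹ * y⁻¹ ∈ Φ}
        one_mem' := by
          intro y _
          have : (1 : K) * y * 1⁻¹ * y⁻¹ = 1 := by group
          rw [this]; exact Φ.one_mem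
        mul_mem' := by
          intro a b ha hb y hy
          have e : a * b * y * (a * b)⁻¹ * y⁻¹ =
              a * (b * y * b⁻¹ * y⁻¹) * a⁻¹ * (a * y * a⁻¹ * y⁻¹) := by group
          rw [e]
          exact Φ.mul_mem (hΦn a _ (hb y hy)) (ha y hy)
        inv_mem' := by
          intro a ha y hy
          have e : a⁻¹ * y * a⁻¹⁻¹ * y⁻¹ = a⁻¹ * (a * y * a⁻¹ * y⁻¹)⁻¹ * a⁻¹⁻¹ := by group
          rw [e]
          exact hΦn a⁻¹ _ (Φ.inv_mem (ha y hy)) }
    have hCn : C.Normal := by
      refine ⟨fun a ha t y hy => ?_⟩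
      have h1 := ha (t⁻¹ * y * t⁻¹⁻¹) (hQconj t⁻¹ y hy)
      have e : t * a * t⁻¹ * y * (t * a * t⁻¹)⁻¹ * y⁻¹ =
          t * (a * (t⁻¹ * y * t⁻¹⁻¹) * a⁻¹ * (t⁻¹ * y * t⁻¹⁻¹)⁻¹) * t⁻¹ := by group
      rw [e]
      exact hΦn t _ h1
    have hCp : IsPGroup p C := by
      intro c
      obtain ⟨k, m, hm, hkm⟩ := Nat.exists_eq_pow_mul_and_not_dvd (orderOf_pos (c : K)).ne' p
        hp.out.ne_one
      refine ⟨k, ?_⟩
      -- the `p'`-part of `c`
      set c' : K := (c : K) ^ (p ^ k) with hc'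
      have hc'C : c' ∈ C := C.pow_mem c.2 _
      have hc'm : c' ^ m = 1 := by
        rw [hc', ← pow_mul, ← hkm, pow_orderOf_eq_one]
      set A : Subgroup K := zpowers c' with hA
      have hAQ : A ≤ normalizer (Q : Set K) := by
        rw [normalizer_eq_top]; exact le_top
      have hcardA : Nat.card A ∣ m := by
        rw [hA, Nat.card_zpowers]
        exact orderOf_dvd_of_pow_eq_one hc'm
      have hmp : m.Coprime p := ((Nat.Prime.coprime_iff_not_dvd hp.out).mpr hm).symm
      have hcopA : (Nat.card A).Coprime (Nat.card (frattini Q)) := by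
        have h1 : IsPGroup p (frattini Q) := hQ.to_subgroup _
        obtain ⟨n, hn⟩ := h1.exists_card_eq
        rw [hn]
        exact (hmp.coprime_dvd_left hcardA).pow_right n
      have htriv : ∀ a ∈ A, ∀ y ∈ Q, a * y * a⁻¹ * y⁻¹ ∈ (frattini Q).map Q.subtype := by
        intro a ha y hy
        have haC : a ∈ C := (zpowers_le.mpr hc'C) ha
        exact haC y hy
      have h1 := centralizes_of_trivial_on_frattini_quotient A Q hAQ hcopA htriv
      have hc'Q : c' ∈ Q := hcent (h1 (mem_zpowers c'))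
      -- `c'` is a `p`-element and a `p'`-element
      obtain ⟨j, hj⟩ := hQ ⟨c', hc'Q⟩
      have hj' : c' ^ (p ^ j) = 1 := by
        have := congrArg Subtype.val hj
        simpa using this
      have h2 : orderOf c' ∣ m := orderOf_dvd_of_pow_eq_one hc'm
      have h3 : orderOf c' ∣ p ^ j := orderOf_dvd_of_pow_eq_one hj'
      have h4 : orderOf c' = 1 := Nat.eq_one_of_dvd_coprimes (hmp.pow_right j) h2 h3
      have h5 : c' = 1 := orderOf_eq_one_iff.mp h4
      apply Subtype.ext
      rw [Subgroup.coe_pow]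
      exact h5
    exact hmax C hCn hCp hg
  · intro hg y hy
    have h1 : (⁅(⟨g, hg⟩ : Q), ⟨y, hy⟩⁆ : Q) ∈ frattini Q := by
      apply Cfsg.Agent.Helper1.IsPGroup.commutator_le_frattini hQ
      rw [_root_.commutator_def]
      exact commutator_mem_commutator (mem_top _) (mem_top _)
    exact ⟨_, h1, rfl⟩

/-- The preimage of the Frattini subgroup under a surjection depends only on the kernel. -/
theorem comap_frattini_eq_of_ker_eq {P H₁ H₂ : Type*} [Group P] [Group H₁] [Group H₂]
    (φ₁ : P →* H₁) (φ₂ : P →* H₂) (h₁ : Function.Surjective φ₁) (h₂ : Function.Surjective φ₂)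
    (hker : φ₁.ker = φ₂.ker) : (frattini H₁).comap φ₁ = (frattini H₂).comap φ₂ := by
  let e : H₁ ≃* H₂ := (QuotientGroup.quotientKerEquivOfSurjective φ₁ h₁).symm.trans
    ((QuotientGroup.quotientMulEquivOfEq hker).trans
      (QuotientGroup.quotientKerEquivOfSurjective φ₂ h₂))
  have he : ∀ x : P, e (φ₁ x) = φ₂ x := by
    intro x
    have h1 : (QuotientGroup.quotientKerEquivOfSurjective φ₁ h₁).symm (φ₁ x) =
        QuotientGroup.mk x := by
      rw [MulEquiv.symm_apply_eq]
      rfl
    change (QuotientGroup.quotientKerEquivOfSurjective φ₂ h₂)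
      ((QuotientGroup.quotientMulEquivOfEq hker)
        ((QuotientGroup.quotientKerEquivOfSurjective φ₁ h₁).symm (φ₁ x))) = φ₂ x
    rw [h1]
    rfl
  ext x
  rw [mem_comap, mem_comap, ← he x, mem_frattini_mulEquiv]

/-- `G/O_{p',p}(G)` acts faithfully on the Frattini quotient of `O_{p',p}(G)/O_{p'}(G)`. -/
theorem pPrimePCore_faithful_frattini {G : Type*} [Group G] [Finite G] {p : ℕ} [Fact p.Prime]
    (hG : Cfsg.IsPSolvable p G) (g : G) :
    (∀ x ∈ Cfsg.pPrimePCore p G, g * x * g⁻¹ * x⁻¹ ∈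
      ((frattini (↥(Cfsg.pPrimePCore p G) ⧸
        (Cfsg.pPrimeCore p G).subgroupOf (Cfsg.pPrimePCore p G))).comap
        (QuotientGroup.mk' ((Cfsg.pPrimeCore p G).subgroupOf (Cfsg.pPrimePCore p G)))).map
        (Cfsg.pPrimePCore p G).subtype) ↔ g ∈ Cfsg.pPrimePCore p G := by
  set N₀ : Subgroup G := Cfsg.pPrimeCore p G with hN₀
  set π : G →* G ⧸ N₀ := QuotientGroup.mk' N₀ with hπ
  set Q : Subgroup (G ⧸ N₀) := Cfsg.pCore p (G ⧸ N₀) with hQ
  have hP₁ : Cfsg.pPrimePCore p G = Q.comap π := rfl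
  rw [hP₁]
  set ψ : ↥(Q.comap π) →* ↥Q := π.subgroupComap Q with hψ
  have hψs : Function.Surjective ψ :=
    MonoidHom.subgroupComap_surjective_of_surjective π Q (QuotientGroup.mk'_surjective N₀)
  have hker : (QuotientGroup.mk' (N₀.subgroupOf (Q.comap π))).ker = ψ.ker := by
    rw [QuotientGroup.ker_mk']
    ext x
    rw [mem_subgroupOf, MonoidHom.mem_ker]
    constructor
    · intro hx
      apply Subtype.ext
      change π (x : G) = 1
      exact (QuotientGroup.eq_one_iff (x : G)).mpr hx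
    · intro hx
      have h1 : π (x : G) = 1 := congrArg Subtype.val hx
      exact (QuotientGroup.eq_one_iff (x : G)).mp h1
  have hF := comap_frattini_eq_of_ker_eq (QuotientGroup.mk' (N₀.subgroupOf (Q.comap π))) ψ
    (QuotientGroup.mk'_surjective _) hψs hker
  rw [hF]
  -- membership in `F`
  have hmemF : ∀ z : G, z ∈ ((frattini ↥Q).comap ψ).map (Q.comap π).subtype ↔
      z ∈ Q.comap π ∧ π z ∈ (frattini ↥Q).map Q.subtype := by
    intro z
    constructor
    · rintro ⟨x', hx', rfl⟩
      refine ⟨x'.2, ψ x', hx', rfl⟩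
    · rintro ⟨hz, q, hq, hqz⟩
      refine ⟨⟨z, hz⟩, ?_, rfl⟩
      rw [SetLike.mem_coe, mem_comap]
      have : ψ ⟨z, hz⟩ = q := Subtype.ext hqz.symm
      rw [this]; exact hq
  have hQp : IsPGroup p Q := Cfsg.Agent.Helper14.pCore_isPGroup p
  have hcore := mem_iff_trivial_on_frattini_quotient Q hQp
    (fun C hCn hCp => Cfsg.Agent.Helper14.le_pCore p hCn hCp)
    (Cfsg.Agent.Helper23.centralizer_pCore_quotient_le_of_isPSolvable hG) (π g)
  rw [mem_comap, ← hcore]
  constructor
  · intro h y hy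
    obtain ⟨x, hxy⟩ := QuotientGroup.mk'_surjective N₀ y
    have hxy' : π x = y := hxy
    have hx : x ∈ Q.comap π := by rw [mem_comap, hxy']; exact hy
    have h1 := ((hmemF _).mp (h x hx)).2
    rw [map_mul, map_mul, map_mul, map_inv, map_inv, hxy'] at h1
    exact h1
  · intro h x hx
    rw [hmemF]
    have hxQ : π x ∈ Q := hx
    have h1 := h (π x) hxQ
    have hgQ : π g ∈ Q := hcore.mp h
    refine ⟨?_, ?_⟩
    · rw [mem_comap, map_mul, map_mul, map_mul, map_inv, map_inv]
      exact Q.mul_mem (Q.mul_mem (Q.mul_mem hgQ hxQ) (Q.inv_mem hgQ)) (Q.inv_mem hxQ)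
    · rw [map_mul, map_mul, map_mul, map_inv, map_inv]
      exact h1

end Cfsg.Agent.Lead
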