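import Mathlib
import Cfsg.Prelude.Def_Local
import Cfsg.Agent.Helper7.PPrimeCore
import Cfsg.Agent.Helper14.PCore
import Cfsg.Agent.Helper23.PSeries

/-! API for the upper `p`-series and `p`-length (`Cfsg.upperPSeries`, `Cfsg.PLengthLE`). -/

set_option linter.style.haveILetI false

namespace Cfsg.Agent.Lead

open Subgroup

section
variable (p : ℕ) (G : Type*) [Group G]

theorem upperPSeries_zero : (Cfsg.upperPSeries p G 0).1 = ⊥ := by
  rw [Cfsg.upperPSeries]

theorem upperPSeries_succ_of_even {n : ℕ} (h : Even n) :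
    (Cfsg.upperPSeries p G (n + 1)).1 =
      (Cfsg.pPrimeCore p (G ⧸ (Cfsg.upperPSeries p G n).1)).comap
        (QuotientGroup.mk' (Cfsg.upperPSeries p G n).1) := by
  rw [Cfsg.upperPSeries, if_pos h]

theorem upperPSeries_succ_of_not_even {n : ℕ} (h : ¬ Even n) :
    (Cfsg.upperPSeries p G (n + 1)).1 =
      (Cfsg.pCore p (G ⧸ (Cfsg.upperPSeries p G n).1)).comap
        (QuotientGroup.mk' (Cfsg.upperPSeries p G n).1) := by
  rw [Cfsg.upperPSeries, if_neg h]

end

theorem le_comap_mk'_self {G : Type*} [Group G] (N : Subgroup G) [N.Normal]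
    (T : Subgroup (G ⧸ N)) : N ≤ T.comap (QuotientGroup.mk' N) := by
  intro x hx
  rw [Subgroup.mem_comap]
  have : (QuotientGroup.mk' N) x = 1 := (QuotientGroup.eq_one_iff x).mpr hx
  rw [this]; exact T.one_mem

section
variable (p : ℕ) (G : Type*) [Group G]

theorem upperPSeries_le_succ (n : ℕ) :
    (Cfsg.upperPSeries p G n).1 ≤ (Cfsg.upperPSeries p G (n + 1)).1 := by
  by_cases h : Even n
  · rw [upperPSeries_succ_of_even p G h]; exact le_comap_mk'_self _ _
  · rw [upperPSeries_succ_of_not_even p G h]; exact le_comap_mk'_self _ _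

theorem upperPSeries_mono : Monotone (fun n => (Cfsg.upperPSeries p G n).1) :=
  monotone_nat_of_le_succ (upperPSeries_le_succ p G)

variable {p G}

theorem PLengthLE.mono {k k' : ℕ} (h : Cfsg.PLengthLE p k G) (hk : k ≤ k') :
    Cfsg.PLengthLE p k' G := by
  have h1 : (Cfsg.upperPSeries p G (2 * k + 1)).1 = ⊤ := h
  have h2 := upperPSeries_mono p G (show 2 * k + 1 ≤ 2 * k' + 1 by omega)
  have h3 : (⊤ : Subgroup G) ≤ (Cfsg.upperPSeries p G (2 * k' + 1)).1 := by
    rw [← h1]; exact h2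
  exact top_le_iff.mp h3

end

/-- The canonical isomorphism `G ⧸ comap K ≃* (G ⧸ A) ⧸ K`. -/
theorem exists_quotient_comap_equiv {G : Type*} [Group G] (A : Subgroup G) [A.Normal]
    (K : Subgroup (G ⧸ A)) [K.Normal] :
    ∃ e : G ⧸ K.comap (QuotientGroup.mk' A) ≃* (G ⧸ A) ⧸ K,
      ∀ g : G, e (QuotientGroup.mk' (K.comap (QuotientGroup.mk' A)) g) =
        QuotientGroup.mk' K (QuotientGroup.mk' A g) := by
  let φ : G →* (G ⧸ A) ⧸ K := (QuotientGroup.mk' K).comp (QuotientGroup.mk' A)
  have hφ : Function.Surjective φ :=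
    (QuotientGroup.mk'_surjective K).comp (QuotientGroup.mk'_surjective A)
  have hker : φ.ker = K.comap (QuotientGroup.mk' A) := by
    ext x
    rw [MonoidHom.mem_ker, Subgroup.mem_comap]
    change QuotientGroup.mk' K (QuotientGroup.mk' A x) = 1 ↔ _
    rw [QuotientGroup.mk'_apply, QuotientGroup.eq_one_iff]
  refine ⟨(QuotientGroup.quotientMulEquivOfEq hker.symm).trans
    (QuotientGroup.quotientKerEquivOfSurjective φ hφ), ?_⟩
  intro g
  rfl

/-- Cores commute with the third isomorphism theorem. -/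
theorem comap_core_comap {G : Type*} [Group G] (A : Subgroup G) [A.Normal]
    (K : Subgroup (G ⧸ A)) [K.Normal]
    (C₁ : Subgroup (G ⧸ K.comap (QuotientGroup.mk' A))) (C₂ : Subgroup ((G ⧸ A) ⧸ K))
    (hC : ∀ e : G ⧸ K.comap (QuotientGroup.mk' A) ≃* (G ⧸ A) ⧸ K, C₁.map e.toMonoidHom = C₂) :
    C₁.comap (QuotientGroup.mk' (K.comap (QuotientGroup.mk' A))) =
      (C₂.comap (QuotientGroup.mk' K)).comap (QuotientGroup.mk' A) := by
  obtain ⟨e, he⟩ := exists_quotient_comap_equiv A K
  ext x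
  rw [mem_comap, mem_comap, mem_comap, ← he x, ← hC e]
  constructor
  · intro h; exact ⟨_, h, rfl⟩
  · rintro ⟨y, hy, hxy⟩
    have : y = QuotientGroup.mk' (K.comap (QuotientGroup.mk' A)) x := e.injective hxy
    rw [← this]; exact hy

theorem comap_pPrimeCore_congr {G : Type*} [Group G] (p : ℕ) (N N' : Subgroup G) [hN : N.Normal]
    [hN' : N'.Normal] (h : N = N') :
    (Cfsg.pPrimeCore p (G ⧸ N)).comap (QuotientGroup.mk' N) =
      (Cfsg.pPrimeCore p (G ⧸ N')).comap (QuotientGroup.mk' N') := by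
  subst h; rfl

theorem comap_pCore_congr {G : Type*} [Group G] (p : ℕ) (N N' : Subgroup G) [hN : N.Normal]
    [hN' : N'.Normal] (h : N = N') :
    (Cfsg.pCore p (G ⧸ N)).comap (QuotientGroup.mk' N) =
      (Cfsg.pCore p (G ⧸ N')).comap (QuotientGroup.mk' N') := by
  subst h; rfl

/-- Shift lemma: for even `m`, the upper `p`-series of `G` above its `m`-th term is the preimage
of the upper `p`-series of the quotient. -/
theorem upperPSeries_add (p : ℕ) (G : Type*) [Group G] {m : ℕ} (hm : Even m) (n : ℕ) :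
    (Cfsg.upperPSeries p G (m + n)).1 =
      ((Cfsg.upperPSeries p (G ⧸ (Cfsg.upperPSeries p G m).1) n).1).comap
        (QuotientGroup.mk' (Cfsg.upperPSeries p G m).1) := by
  induction n with
  | zero =>
    rw [upperPSeries_zero, add_zero, MonoidHom.comap_bot, QuotientGroup.ker_mk']
  | succ n ih =>
    set A := (Cfsg.upperPSeries p G m).1 with hA
    set K := (Cfsg.upperPSeries p (G ⧸ A) n).1 with hK
    change (Cfsg.upperPSeries p G ((m + n) + 1)).1 = _
    by_cases hn : Even n
    · have hmn : Even (m + n) := hm.add hn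
      rw [upperPSeries_succ_of_even p G hmn, upperPSeries_succ_of_even p (G ⧸ A) hn,
        comap_pPrimeCore_congr p _ _ ih]
      exact comap_core_comap A K _ _ (fun e => Cfsg.Agent.Helper7.pPrimeCore_map_equiv p e)
    · have hmn : ¬ Even (m + n) := by
        intro h
        exact hn ((Nat.even_add.mp h).mp hm)
      rw [upperPSeries_succ_of_not_even p G hmn, upperPSeries_succ_of_not_even p (G ⧸ A) hn,
        comap_pCore_congr p _ _ ih]
      exact comap_core_comap A K _ _ (fun e => Cfsg.Agent.Helper14.pCore_map_equiv p e)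

/-- `l_p(G) ≤ l_p(G / O_{p',p}(G)) + 1`. -/
theorem PLengthLE.of_quotient_two {p : ℕ} {G : Type*} [Group G] {k : ℕ}
    (h : Cfsg.PLengthLE p k (G ⧸ (Cfsg.upperPSeries p G 2).1)) : Cfsg.PLengthLE p (k + 1) G := by
  have h1 : (Cfsg.upperPSeries p (G ⧸ (Cfsg.upperPSeries p G 2).1) (2 * k + 1)).1 = ⊤ := h
  have h2 := upperPSeries_add p G (m := 2) (by decide) (2 * k + 1)
  rw [h1, comap_top] at h2
  have e : 2 * (k + 1) + 1 = 2 + (2 * k + 1) := by ring
  change (Cfsg.upperPSeries p G (2 * (k + 1) + 1)).1 = ⊤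
  rw [e]; exact h2

end Cfsg.Agent.Lead
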