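import Mathlib
import Cfsg.Agent.Lead.Hall

set_option autoImplicit false
open Pointwise

namespace Cfsg.Agent.Lead

open Subgroup

variable {G : Type*} [Group G]

/-- Generalized Frattini argument for Hall subgroups of a solvable normal subgroup. -/
theorem hall_frattini [Finite G] (L : Subgroup G) [hLn : L.Normal] (hL : Group.IsSolvable L)
    (H : Subgroup G) (hHL : H ≤ L) (hHall : (Nat.card H).Coprime (H.relIndex L)) :
    L ⊔ Subgroup.normalizer (H : Set G) = ⊤ := by
  rw [eq_top_iff]
  intro g _
  set H' : Subgroup G := MulAut.conj g • H with hH'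
  have hH'L : H' ≤ L := by
    intro x hx
    rw [hH', mem_conj_smul_iff] at hx
    have := hLn.conj_mem _ (hHL hx) g
    have e : g * (g⁻¹ * x * g) * g⁻¹ = x := by group
    rw [e] at this; exact this
  have h1 : Nat.card (H.subgroupOf L) = Nat.card H :=
    Nat.card_congr (subgroupOfEquivOfLe hHL).toEquiv
  have hcardL : Nat.card L = Nat.card H * H.relIndex L := by
    have := (H.subgroupOf L).card_mul_index
    rw [h1] at this
    exact this.symm
  have h2 : Nat.card (H'.subgroupOf L) = Nat.card H := by
    rw [Nat.card_congr (subgroupOfEquivOfLe hH'L).toEquiv, hH', card_conj_smul]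
  obtain ⟨l, hl⟩ := hall_conj_aux _ rfl (Nat.card H) (H.relIndex L) hcardL hHall
    (H'.subgroupOf L) (H.subgroupOf L) h2 h1
  have hl' := conj_of_subgroupOf l hl
  rw [inf_eq_left.mpr hH'L, inf_eq_left.mpr hHL, hH', ← mul_smul, ← map_mul] at hl'
  have hn : (l : G) * g ∈ normalizer (H : Set G) :=
    (conj_smul_eq_self_iff_mem_normalizer _ H).mp hl'
  have e : g = (l : G)⁻¹ * ((l : G) * g) := by group
  rw [e]
  exact (L ⊔ normalizer (H : Set G)).mul_mem
    ((le_sup_left : L ≤ _) (L.inv_mem l.2)) ((le_sup_right : normalizer (H : Set G) ≤ _) hn)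

end Cfsg.Agent.Lead
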