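import Mathlib
import Cfsg.Agent.Lead.TNC8
import Cfsg.Agent.Helper23.PGroup

set_option autoImplicit false
set_option linter.style.haveILetI false
set_option linter.unusedSectionVars false

/-!
# `p`-stability in groups `G = L P` with `L / O_p(G)` an abelian `p'`-group

For a normal `p`-subgroup `B` we construct a normal subgroup `K ≥ C_G(B)` with `K / C_G(B)` a
`p`-group such that `[a, L] ≤ K` for every `a` acting quadratically on `B`.
-/

namespace Cfsg.Agent.Lead.TNC

open Subgroup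

universe u

variable {p : ℕ} [Fact p.Prime]

/-- elementwise quadratic action of `a` on `B` -/
def QuadOn {G : Type*} [Group G] (a : G) (B : Subgroup G) : Prop :=
  ∀ b ∈ B, a * (a * b * a⁻¹ * b⁻¹) = (a * b * a⁻¹ * b⁻¹) * a

theorem conj_pow_of_commute_comm {G : Type*} [Group G] {y b : G}
    (h : y * (y * b * y⁻¹ * b⁻¹) = (y * b * y⁻¹ * b⁻¹) * y) (n : ℕ) :
    y ^ n * b * (y ^ n)⁻¹ = (y * b * y⁻¹ * b⁻¹) ^ n * b := by
  set z := y * b * y⁻¹ * b⁻¹ with hz
  have h1 : y * z * y⁻¹ = z := by rw [h]; group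
  have h2 : y * b * y⁻¹ = z * b := by rw [hz]; group
  induction n with
  | zero => simp
  | succ n ih =>
    calc y ^ (n + 1) * b * (y ^ (n + 1))⁻¹ = y * (y ^ n * b * (y ^ n)⁻¹) * y⁻¹ := by
          rw [pow_succ']; group
      _ = y * (z ^ n * b) * y⁻¹ := by rw [ih]
      _ = (y * z * y⁻¹) ^ n * (y * b * y⁻¹) := by rw [conj_pow]; group
      _ = z ^ (n + 1) * b := by rw [h1, h2, pow_succ, ← mul_assoc]

theorem exists_stab_kernel (hp2 : p ≠ 2) : ∀ (n : ℕ) (G : Type u) [Group G] [Finite G]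
    (L K0 B : Subgroup G), L.Normal → K0.Normal → IsPGroup p K0 → K0 ≤ L →
    (K0.relIndex L).Coprime p → ⁅L, L⁆ ≤ K0 → B.Normal → B ≤ K0 → Nat.card B = n →
    ∃ K : Subgroup G, K.Normal ∧ centralizer (B : Set G) ≤ K ∧
      (∀ x ∈ K, ∃ k : ℕ, x ^ (p ^ k) ∈ centralizer (B : Set G)) ∧
      ∀ a : G, QuadOn a B → ∀ x ∈ L, a * x * a⁻¹ * x⁻¹ ∈ K := by
  have hp : p.Prime := Fact.out
  intro n
  induction n using Nat.strong_induction_on with
  | _ n ih =>
    intro G _ _ L K0 B hLn hK0n hK0p hK0L hcop hLL hBn hBK hn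
    by_cases hB : B = ⊥
    · refine ⟨⊤, inferInstance, le_top, fun x _ => ⟨0, ?_⟩, fun _ _ _ _ => mem_top _⟩
      rw [hB, pow_zero, pow_one, mem_centralizer_iff]
      intro b hb
      rw [SetLike.mem_coe, mem_bot] at hb
      rw [hb, one_mul, mul_one]
    haveI := hLn
    haveI := hK0n
    haveI := hBn
    -- the subgroup `Z₀ = B ∩ Z(K0)`
    set Z0 : Subgroup G := B ⊓ centralizer (K0 : Set G) with hZ0
    have hZ0n : Z0.Normal := inferInstance
    have hZ0c : ∀ x ∈ Z0, ∀ y ∈ Z0, x * y = y * x := by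
      intro x hx y hy
      exact mem_centralizer_iff.mp (Subgroup.mem_inf.mp hy).2 x (hBK (Subgroup.mem_inf.mp hx).1)
    have hZ0ne : Z0 ≠ ⊥ := by
      have hNne : B.subgroupOf K0 ≠ ⊥ := by
        intro h0
        apply hB
        rw [eq_bot_iff]
        intro b hb
        have h1 : (⟨b, hBK hb⟩ : K0) ∈ B.subgroupOf K0 := Subgroup.mem_subgroupOf.mpr hb
        rw [h0, mem_bot] at h1
        rw [mem_bot]
        exact congrArg Subtype.val h1
      obtain ⟨z, hzN, hzc, hz1⟩ :=
        Cfsg.Agent.Helper23.exists_mem_inf_center_ne_one hK0p (B.subgroupOf K0) hNne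
      intro h0
      apply hz1
      have h1 : (z : G) ∈ Z0 := by
        refine Subgroup.mem_inf.mpr ⟨Subgroup.mem_subgroupOf.mp hzN, ?_⟩
        rw [mem_centralizer_iff]
        intro k hk
        have h2 := Subgroup.mem_center_iff.mp hzc ⟨k, hk⟩
        exact congrArg Subtype.val h2
      rw [h0, mem_bot] at h1
      exact Subtype.ext h1
    have hZ0p : IsPGroup p Z0 := hK0p.to_le (inf_le_left.trans hBK)
    -- `Z₁ = Ω₁(Z₀)`
    set Z1 : Subgroup G := omega1 p Z0 hZ0c with hZ1
    have hZ1n : Z1.Normal := omega1_normal Z0 hZ0c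
    haveI := hZ1n
    have hZ1Z0 : Z1 ≤ Z0 := omega1_le Z0 hZ0c
    have hZ1B : Z1 ≤ B := hZ1Z0.trans inf_le_left
    have hZ1c : ∀ x ∈ Z1, ∀ y ∈ Z1, x * y = y * x := fun x hx y hy =>
      hZ0c x (hZ1Z0 hx) y (hZ1Z0 hy)
    have hZ1p : ∀ x ∈ Z1, x ^ p = 1 := fun x hx => hx.2
    have hZ1ne : Z1 ≠ ⊥ := by
      have hdvd : p ∣ Nat.card Z0 := by
        obtain ⟨k, hk⟩ := IsPGroup.iff_card.mp hZ0p
        rw [hk]
        apply dvd_pow_self
        rintro rfl
        rw [pow_zero] at hk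
        exact hZ0ne (Subgroup.card_eq_one.mp hk)
      obtain ⟨w, hw⟩ := exists_prime_orderOf_dvd_card' (G := Z0) p hdvd
      intro h0
      have h1 : (w : G) ∈ Z1 := by
        refine ⟨w.2, ?_⟩
        have h2 : w ^ p = 1 := by rw [← hw]; exact pow_orderOf_eq_one w
        have h3 := congrArg Subtype.val h2
        simpa using h3
      rw [h0, mem_bot] at h1
      have h4 : w = 1 := Subtype.ext h1
      rw [h4, orderOf_one] at hw
      exact hp.one_lt.ne hw
    have hK0Z1 : K0 ≤ centralizer (Z1 : Set G) := by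
      intro k hk
      rw [mem_centralizer_iff]
      intro v hv
      exact (mem_centralizer_iff.mp (Subgroup.mem_inf.mp (hZ1Z0 hv)).2 k hk).symm
    -- the quotient by `Z₁`
    set π := QuotientGroup.mk' Z1 with hπ
    have hsurj : Function.Surjective π := QuotientGroup.mk'_surjective Z1
    have hker : π.ker = Z1 := QuotientGroup.ker_mk' Z1
    have hcardB : Nat.card (B.map π) < n := by
      have h1 : (B.map π).comap π = B := by
        apply Subgroup.comap_map_eq_self
        rw [hker]; exact hZ1B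
      have h2 := Cfsg.Agent.Helper23.card_comap_mk' Z1 (B.map π)
      rw [← hπ, h1, hn] at h2
      have h3 : 1 < Nat.card Z1 := by
        rw [Subgroup.one_lt_card_iff_ne_bot]; exact hZ1ne
      have h4 : 0 < Nat.card (B.map π) := Nat.card_pos
      nlinarith
    obtain ⟨Kb, hKbn, hCKb, hKbpow, hKbq⟩ := ih _ hcardB (G ⧸ Z1) (L.map π) (K0.map π) (B.map π)
      (hLn.map π hsurj) (hK0n.map π hsurj) (hK0p.map π) (Subgroup.map_mono hK0L)
      (by
        rw [Subgroup.relIndex_map_map, hker, sup_eq_left.mpr (hZ1B.trans hBK),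
          sup_eq_left.mpr ((hZ1B.trans hBK).trans hK0L)]
        exact hcop)
      (by rw [← Subgroup.map_commutator]; exact Subgroup.map_mono hLL)
      (hBn.map π hsurj) (Subgroup.map_mono hBK) rfl
    haveI := hKbn
    refine ⟨Kb.comap π ⊓ centralizer (Z1 : Set G), inferInstance, ?_, ?_, ?_⟩
    · -- `C_G(B) ≤ K`
      intro c hc
      refine Subgroup.mem_inf.mpr ⟨?_, Subgroup.centralizer_le (show (Z1 : Set G) ⊆ B from hZ1B) hc⟩
      rw [Subgroup.mem_comap]
      apply hCKb
      rw [mem_centralizer_iff]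
      rintro _ ⟨b, hb, rfl⟩
      rw [← map_mul, ← map_mul, mem_centralizer_iff.mp hc b hb]
    · -- `K / C_G(B)` is a `p`-group
      intro x hx
      obtain ⟨hx1, hx2⟩ := Subgroup.mem_inf.mp hx
      obtain ⟨k1, hk1⟩ := hKbpow (π x) (Subgroup.mem_comap.mp hx1)
      refine ⟨k1 + 1, ?_⟩
      set y := x ^ (p ^ k1) with hy
      have hyZ : y ∈ centralizer (Z1 : Set G) := pow_mem hx2 _
      have hxy : x ^ (p ^ (k1 + 1)) = y ^ p := by rw [hy, ← pow_mul, pow_succ]
      rw [hxy, mem_centralizer_iff]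
      intro b hb
      have hz : y * b * y⁻¹ * b⁻¹ ∈ Z1 := by
        rw [← hker, MonoidHom.mem_ker]
        have h1 : π y ∈ centralizer ((B.map π : Subgroup (G ⧸ Z1)) : Set (G ⧸ Z1)) := by
          rw [hy, map_pow]; exact hk1
        have h2 := mem_centralizer_iff.mp h1 (π b) (mem_map_of_mem π hb)
        rw [map_mul, map_mul, map_mul, map_inv, map_inv, ← h2]
        group
      have hcomm : y * (y * b * y⁻¹ * b⁻¹) = (y * b * y⁻¹ * b⁻¹) * y :=
        (mem_centralizer_iff.mp hyZ _ hz).symm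
      have h3 := conj_pow_of_commute_comm hcomm p
      rw [hZ1p _ hz, one_mul] at h3
      calc b * y ^ p = (y ^ p * b * (y ^ p)⁻¹) * y ^ p := by rw [h3]
        _ = y ^ p * b := by group
    · -- quadratic elements
      intro a ha x hx
      refine Subgroup.mem_inf.mpr ⟨?_, ?_⟩
      · rw [Subgroup.mem_comap, map_mul, map_mul, map_mul, map_inv, map_inv]
        apply hKbq (π a) _ (π x) (mem_map_of_mem π hx)
        rintro _ ⟨b, hb, rfl⟩
        have h1 := congrArg π (ha b hb)
        simpa only [map_mul, map_inv] using h1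
      · exact commutator_mem_centralizer_of_quadratic hp2 Z1 hZ1c hZ1p L K0 hK0Z1 hcop hLL a
          (fun v hv => ha v (hZ1B hv)) x hx

end Cfsg.Agent.Lead.TNC
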