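import Mathlib
import Cfsg.Agent.Lead.TNC9
import Cfsg.Agent.Helper26.ZJ
import Cfsg.Agent.Helper26.ZJInst
import Cfsg.Agent.Helper15.CL2

set_option autoImplicit false
set_option linter.style.haveILetI false
set_option linter.unusedSectionVars false

/-!
# Glauberman's normal `p`-complement theorem (abelian-version Thompson subgroup)
-/

namespace Cfsg.Agent.Lead.TNC

open Subgroup
open scoped commutatorElement

universe u

variable {p : ℕ} [Fact p.Prime]

/-- the subgroup-commutator form of quadratic action gives the elementwise form -/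
theorem quadOn_of_commutator_eq_bot {G : Type*} [Group G] {B A : Subgroup G}
    (h : ⁅⁅B, A⁆, A⁆ = ⊥) {a : G} (ha : a ∈ A) : QuadOn a B := by
  intro b hb
  have h1 : ⁅⁅b, a⁆, a⁆ ∈ ⁅⁅B, A⁆, A⁆ :=
    Subgroup.commutator_mem_commutator (Subgroup.commutator_mem_commutator hb ha) ha
  rw [h, mem_bot] at h1
  have h2 : ⁅b, a⁆ * a = a * ⁅b, a⁆ := by
    have := commutatorElement_eq_one_iff_mul_comm.mp h1
    exact this
  have h3 : a * b * a⁻¹ * b⁻¹ = ⁅b, a⁆⁻¹ := by
    rw [commutatorElement_def]; group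
  rw [h3]
  calc a * ⁅b, a⁆⁻¹ = ⁅b, a⁆⁻¹ * (⁅b, a⁆ * a) * ⁅b, a⁆⁻¹ := by group
    _ = ⁅b, a⁆⁻¹ * (a * ⁅b, a⁆) * ⁅b, a⁆⁻¹ := by rw [h2]
    _ = ⁅b, a⁆⁻¹ * a := by group

/-- a minimal counterexample is `p`-stable (in the quotient-free form) -/
theorem stabHypSub_of_minStructure (hp2 : p ≠ 2) {G : Type u} [Group G] [Finite G]
    {P : Sylow p G} (hS : MinStructure p G P) : Cfsg.Agent.Helper26.StabHypSub p G := by
  have hp : p.Prime := Fact.out
  obtain ⟨L, hLn, hUL, hLP, hLcop, hLL⟩ := hS.exL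
  haveI := hLn
  have hUn : (Cfsg.pCore p G).Normal := inferInstance
  have hUp : IsPGroup p (Cfsg.pCore p G) := Cfsg.Agent.Helper14.pCore_isPGroup p
  -- the index of `L` is a power of `p`
  have hLidx : ∃ k : ℕ, L.index = p ^ k := by
    have h1 : L.relIndex (L ⊔ (P : Subgroup G)) = L.relIndex (P : Subgroup G) :=
      Subgroup.relIndex_sup_left (P : Subgroup G) L
    rw [hLP, Subgroup.relIndex_top_right] at h1
    have h2 : L.relIndex (P : Subgroup G) ∣ Nat.card (P : Subgroup G) :=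
      Subgroup.relIndex_dvd_card L _
    obtain ⟨n, hn⟩ := IsPGroup.iff_card.mp P.2
    rw [hn, ← h1] at h2
    obtain ⟨k, -, hk⟩ := (Nat.dvd_prime_pow hp).mp h2
    exact ⟨k, hk⟩
  intro B hBn hBp
  have hBU : B ≤ Cfsg.pCore p G := Cfsg.Agent.Helper14.le_pCore p hBn hBp
  obtain ⟨K, hKn, hCK, hKpow, hKq⟩ := exists_stab_kernel hp2 _ G L (Cfsg.pCore p G) B hLn hUn hUp
    hUL hLcop hLL hBn hBU rfl
  haveI := hKn
  set π := QuotientGroup.mk' K with hπ
  have hsurj : Function.Surjective π := QuotientGroup.mk'_surjective K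
  refine ⟨(Cfsg.pCore p (G ⧸ K)).comap π, Subgroup.Normal.comap inferInstance π, ?_, ?_, ?_⟩
  · intro c hc
    rw [Subgroup.mem_comap]
    have h1 : π c = 1 := (QuotientGroup.eq_one_iff c).mpr (hCK hc)
    rw [h1]
    exact one_mem _
  · intro x hx
    rw [Subgroup.mem_comap] at hx
    obtain ⟨j, hj⟩ := (Cfsg.Agent.Helper14.pCore_isPGroup (G := G ⧸ K) p) ⟨π x, hx⟩
    have hj' : (π x) ^ (p ^ j) = 1 := by
      have := congrArg Subtype.val hj
      simpa using this
    have h1 : x ^ (p ^ j) ∈ K := by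
      rw [← QuotientGroup.eq_one_iff, ← QuotientGroup.mk'_apply, ← hπ, map_pow]
      exact hj'
    obtain ⟨k, hk⟩ := hKpow _ h1
    refine ⟨j + k, ?_⟩
    rw [pow_add, pow_mul]
    exact hk
  · intro A hAp hquad a ha
    have hqa : QuadOn a B := quadOn_of_commutator_eq_bot hquad ha
    rw [Subgroup.mem_comap]
    -- a Sylow subgroup of `G / K` containing the image of `a`
    have hap : IsPGroup p (zpowers (π a)) := by
      have h1 : zpowers (π a) = (zpowers a).map π := by
        rw [MonoidHom.map_zpowers]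
      rw [h1]
      exact (hAp.to_le (zpowers_le.mpr ha)).map π
    obtain ⟨P', hP'⟩ := hap.exists_le_sylow
    have haP' : π a ∈ (P' : Subgroup (G ⧸ K)) := hP' (mem_zpowers _)
    haveI : (L.map π).Normal := hLn.map π hsurj
    have hsup : L.map π ⊔ (P' : Subgroup (G ⧸ K)) = ⊤ := by
      rw [← Subgroup.index_eq_one]
      have h1 : (L.map π ⊔ (P' : Subgroup (G ⧸ K))).index ∣ (L.map π).index :=
        Subgroup.index_dvd_of_le le_sup_left
      have h2 : (L.map π ⊔ (P' : Subgroup (G ⧸ K))).index ∣ (P' : Subgroup (G ⧸ K)).index :=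
        Subgroup.index_dvd_of_le le_sup_right
      obtain ⟨k, hk⟩ := hLidx
      have h3 : (L.map π).index ∣ p ^ k := by
        rw [← hk]; exact Subgroup.index_map_dvd L hsurj
      have h4 : ((L.map π ⊔ (P' : Subgroup (G ⧸ K))).index).Coprime p := by
        apply Nat.Coprime.coprime_dvd_left h2
        exact ((Nat.Prime.coprime_iff_not_dvd hp).mpr P'.not_dvd_index).symm
      exact Nat.Coprime.eq_one_of_dvd (Nat.Coprime.pow_right k h4) (h1.trans h3)
    apply mem_pCore_of_commutator P' (L.map π) hsup (π a) haP'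
    rintro _ ⟨x, hx, rfl⟩
    have h1 : π a * π x * (π a)⁻¹ * (π x)⁻¹ = 1 := by
      rw [← map_inv, ← map_inv, ← map_mul, ← map_mul, ← map_mul]
      exact (QuotientGroup.eq_one_iff _).mpr (hKq a hqa x hx)
    rw [h1]
    exact one_mem _

end Cfsg.Agent.Lead.TNC
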