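import Mathlib
import Cfsg.Agent.Lead.TNC10
import Cfsg.Agent.Lead.TNC6

set_option autoImplicit false
set_option linter.style.haveILetI false
set_option linter.unusedSectionVars false

/-!
# Glauberman's normal `p`-complement theorem: the functor `Z(J_A(P))` and the endgame
-/

namespace Cfsg.Agent.Lead.TNC

open Subgroup
open scoped commutatorElement

universe u

variable {p : ℕ} [Fact p.Prime]

theorem isMulCommutative_map_equiv {G H : Type*} [Group G] [Group H] (e : G ≃* H)
    {A : Subgroup G} (hA : IsMulCommutative A) : IsMulCommutative (A.map e.toMonoidHom) := by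
  rw [Cfsg.Agent.Helper26.isMulCommutative_iff_forall] at hA ⊢
  rintro _ ⟨x, hx, rfl⟩ _ ⟨y, hy, rfl⟩
  rw [← map_mul, ← map_mul, hA x hx y hy]

theorem map_mem_maxAbelianSubgroups {G H : Type*} [Group G] [Group H] (e : G ≃* H)
    {A : Subgroup G} (hA : A ∈ Cfsg.maxAbelianSubgroups G) :
    A.map e.toMonoidHom ∈ Cfsg.maxAbelianSubgroups H := by
  refine ⟨isMulCommutative_map_equiv e hA.1, fun B hB => ?_⟩
  have h1 : Nat.card (B.map e.symm.toMonoidHom) ≤ Nat.card A :=
    hA.2 _ (isMulCommutative_map_equiv e.symm hB)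
  have h2 : Nat.card (B.map e.symm.toMonoidHom) = Nat.card B :=
    Nat.card_congr (e.symm.subgroupMap B).symm.toEquiv
  have h3 : Nat.card (A.map e.toMonoidHom) = Nat.card A :=
    Nat.card_congr (e.subgroupMap A).symm.toEquiv
  omega

theorem thompsonSubgroupA_map_equiv {G H : Type*} [Group G] [Group H] (e : G ≃* H) :
    (Cfsg.thompsonSubgroupA G).map e.toMonoidHom = Cfsg.thompsonSubgroupA H := by
  unfold Cfsg.thompsonSubgroupA
  apply le_antisymm
  · rw [Subgroup.map_le_iff_le_comap]
    apply sSup_le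
    intro A hA
    rw [← Subgroup.map_le_iff_le_comap]
    exact le_sSup (map_mem_maxAbelianSubgroups e hA)
  · apply sSup_le
    intro B hB
    have h1 := map_mem_maxAbelianSubgroups e.symm hB
    have h2 : B = (B.map e.symm.toMonoidHom).map e.toMonoidHom := by
      rw [Subgroup.map_map]
      have : e.toMonoidHom.comp e.symm.toMonoidHom = MonoidHom.id H := by
        ext x; simp
      rw [this, Subgroup.map_id]
    rw [h2]
    exact Subgroup.map_mono (le_sSup h1)

theorem thompsonSubgroupAOf_map_of_injOn {G H : Type u} [Group G] [Group H] (f : G →* H)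
    (P : Subgroup G) (hinj : Set.InjOn f (P : Set G)) :
    Cfsg.thompsonSubgroupAOf (P.map f) = (Cfsg.thompsonSubgroupAOf P).map f := by
  have hg : Function.Bijective (f.subgroupMap P) := by
    refine ⟨?_, f.subgroupMap_surjective P⟩
    intro x y hxy
    have h1 : f x = f y := congrArg (fun z : P.map f => (z : H)) hxy
    exact Subtype.ext (hinj x.2 y.2 h1)
  have h1 := thompsonSubgroupA_map_equiv (MulEquiv.ofBijective _ hg)
  unfold Cfsg.thompsonSubgroupAOf
  rw [← h1, Subgroup.map_map, Subgroup.map_map]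
  rfl

theorem thompsonSubgroupAOf_le {G : Type*} [Group G] (P : Subgroup G) :
    Cfsg.thompsonSubgroupAOf P ≤ P := by
  unfold Cfsg.thompsonSubgroupAOf
  exact Subgroup.map_subtype_le _

theorem thompsonSubgroupA_ne_bot {G : Type*} [Group G] [Finite G] [Nontrivial G] :
    Cfsg.thompsonSubgroupA G ≠ ⊥ := by
  obtain ⟨A, hA⟩ := Cfsg.Agent.Helper15.exists_maxAbelian (P := G)
  obtain ⟨x, hx⟩ := exists_ne (1 : G)
  have hz : IsMulCommutative (zpowers x) := by
    rw [Cfsg.Agent.Helper26.isMulCommutative_iff_forall]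
    rintro _ ⟨i, rfl⟩ _ ⟨j, rfl⟩
    rw [← zpow_add, ← zpow_add, add_comm]
  have h1 := hA.2 _ hz
  intro hbot
  have hle : A ≤ Cfsg.thompsonSubgroupA G := le_sSup hA
  rw [hbot, le_bot_iff] at hle
  subst hle
  rw [Subgroup.card_bot] at h1
  have h2 : Nat.card (zpowers x) = 1 := le_antisymm h1 Nat.card_pos
  rw [Subgroup.card_eq_one, zpowers_eq_bot] at h2
  exact hx h2

/-- the functor `P ↦ Z(J_A(P))`, with `J_A` the abelian-version Thompson subgroup -/
def zjAFunctor (p : ℕ) [Fact p.Prime] : CharFunctor.{u} p where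
  W P := Cfsg.centerThompsonAOf P
  le P := inf_le_left.trans (thompsonSubgroupAOf_le P)
  map := by
    intro G H _ _ f P hinj
    unfold Cfsg.centerThompsonAOf
    rw [thompsonSubgroupAOf_map_of_injOn f P hinj]
    exact (zFunctor p).map f (Cfsg.thompsonSubgroupAOf P)
      (hinj.mono (thompsonSubgroupAOf_le P))
  ne_bot := by
    intro G _ _ P hP hne
    have hJp : IsPGroup p (Cfsg.thompsonSubgroupAOf P) := hP.to_le (thompsonSubgroupAOf_le P)
    have hJne : Cfsg.thompsonSubgroupAOf P ≠ ⊥ := by
      haveI : Nontrivial P := (Subgroup.nontrivial_iff_ne_bot P).mpr hne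
      have h2 := thompsonSubgroupA_ne_bot (G := P)
      intro h0
      apply h2
      unfold Cfsg.thompsonSubgroupAOf at h0
      rwa [Subgroup.map_eq_bot_iff_of_injective _ P.subtype_injective] at h0
    exact (zFunctor p).ne_bot (Cfsg.thompsonSubgroupAOf P) hJp hJne

/-- the hypothesis of Glauberman's normal `p`-complement theorem -/
def glaubermanHyp (p : ℕ) [Fact p.Prime] : ControlHyp.{u} p :=
  ControlHyp.ofNormalizer (zjAFunctor p)

theorem glauberman_endgame (hp2 : p ≠ 2) (G : Type u) [Group G] [Finite G] (P : Sylow p G)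
    (hH : (glaubermanHyp p).Hyp G P) (hS : MinStructure p G P) : False := by
  have hst := stabHypSub_of_minStructure hp2 hS
  have hn : (sInf (Cfsg.Agent.Helper26.famEl 0 (P : Subgroup G))).Normal :=
    (Cfsg.Agent.Helper26.zjFamily_famEl hp2 0 (Or.inl rfl)).normal_sInf' hst hS.centralizer_le P
  rw [← Cfsg.Agent.Helper26.centerThompsonAOf_eq] at hn
  have htop : normalizer (Cfsg.centerThompsonAOf (P : Subgroup G) : Set G) = ⊤ :=
    Subgroup.normalizer_eq_top_iff.mpr hn
  exact hS.not_npc (npc_of_top (npc_of_eq htop hH))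

/-- **Glauberman's normal `p`-complement theorem** for the abelian-version Thompson subgroup. -/
theorem glauberman_npc (hp2 : p ≠ 2) (G : Type u) [Group G] [Finite G] (P : Sylow p G)
    (hN : Cfsg.HasNormalPComplement p
      (normalizer (Cfsg.centerThompsonAOf (P : Subgroup G) : Set G))) :
    Cfsg.HasNormalPComplement p G :=
  (glaubermanHyp p).npc (glauberman_endgame hp2) G P hN

end Cfsg.Agent.Lead.TNC
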