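import Mathlib
import Cfsg.Agent.Lead.PiHall
import Cfsg.Agent.Lead.RelQuot
import Cfsg.Agent.Lead.CoprimeSylow2

set_option autoImplicit false
open Pointwise

namespace Cfsg.Agent.Lead

open Subgroup

universe u

variable {X : Type*} [Group X]

theorem card_lt_card_of_lt [Finite X] {H K : Subgroup X} (h : H < K) :
    Nat.card H < Nat.card K := by
  have h1 := relIndex_mul_card' h.le
  have h2 : H.relIndex K ≠ 1 := fun h3 => h.not_ge (relIndex_eq_one.mp h3)
  have h3 : H.relIndex K ≠ 0 := by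
    intro h0; rw [h0, zero_mul] at h1; exact Nat.card_pos.ne' h1.symm
  have h4 : 2 ≤ H.relIndex K := by omega
  have h5 : 0 < Nat.card H := Nat.card_pos
  nlinarith

theorem normalizer_le_normalizer_centralizer (U : Subgroup X) :
    normalizer (U : Set X) ≤ normalizer ((centralizer (U : Set X) : Subgroup X) : Set X) :=
  (normal_subgroupOf_iff_le_normalizer (centralizer_le_normalizer (U : Set X))).mp
    (normal_subgroupOf_centralizer_normalizer (U : Set X))

/-- Complements of a normal Hall subgroup `N` of `G` that contain `U` are conjugate under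
`C_N(U)`; here in the form needed for Hall `π`-subgroups: `|G| = m p^k`, `N` a normal `p`-subgroup
of order `p^k` with `p ∉ π`, `m` a `π`-number. -/
theorem hall_ge_trans_centralizer [Finite X] {π : Set ℕ} {G N U : Subgroup X}
    (hsolv : Group.IsSolvable G) (hNG : N ≤ G) (hGN : G ≤ normalizer (N : Set X))
    {m r : ℕ} (hG : Nat.card G = m * r) (hm : IsPiNum π m) (hr : IsPiNum πᶜ r)
    (hN : Nat.card N = r) {H H' : Subgroup X}
    (hH : Cfsg.IsPiHallOf π H G) (hH' : Cfsg.IsPiHallOf π H' G) (hUH : U ≤ H) (hUH' : U ≤ H') :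
    ∃ k ∈ N ⊓ centralizer (U : Set X), MulAut.conj k • H = H' := by
  obtain ⟨g, hg, hgH⟩ := isPiHallOf_trans hsolv hH hH'
  rw [isPiHallOf_iff_card hG hm hr] at hH hH'
  have hcop : (Nat.card N).Coprime (Nat.card H) := by
    rw [hN, hH.2]; exact (hm.coprime hr).symm
  have hdisj : N ⊓ H = ⊥ := (disjoint_of_coprime_natCard hcop).eq_bot
  have hc : IsComplement' (N.subgroupOf G) (H.subgroupOf G) := by
    apply isComplement'_of_coprime
    · rw [Nat.card_congr (subgroupOfEquivOfLe hNG).toEquiv,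
        Nat.card_congr (subgroupOfEquivOfLe hH.1).toEquiv, hN, hH.2, hG, mul_comm]
    · rw [Nat.card_congr (subgroupOfEquivOfLe hNG).toEquiv,
        Nat.card_congr (subgroupOfEquivOfLe hH.1).toEquiv]
      exact hcop
  obtain ⟨⟨⟨n, hn⟩, ⟨h, hh⟩⟩, hnh, -⟩ := hc.existsUnique ⟨g, hg⟩
  simp only at hnh
  have hnh' : (n : X) * (h : X) = g := congrArg Subtype.val hnh
  have hn' : (n : X) ∈ N := hn
  have hh' : (h : X) ∈ H := hh
  have hconj : MulAut.conj (n : X) • H = H' := by
    rw [← hgH, ← hnh', map_mul, mul_smul, conj_smul_eq_self_of_mem hh']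
  refine ⟨(n : X), ⟨hn', ?_⟩, hconj⟩
  change (n : X) ∈ centralizer (U : Set X)
  rw [mem_centralizer_iff]
  intro u hu
  have hu1 : (n : X)⁻¹ * u * n ∈ H := by
    rw [← mem_conj_smul_iff, hconj]; exact hUH' hu
  have hu2 : (n : X)⁻¹ * u * n * u⁻¹ ∈ H := H.mul_mem hu1 (H.inv_mem (hUH hu))
  have hu3 : u * (n : X) * u⁻¹ ∈ N :=
    (mem_normalizer_iff.mp (hGN (hH.1 (hUH hu))) (n : X)).mp hn'
  have hu4 : (n : X)⁻¹ * u * n * u⁻¹ ∈ N := by
    have : (n : X)⁻¹ * u * n * u⁻¹ = (n : X)⁻¹ * (u * n * u⁻¹) := by group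
    rw [this]; exact N.mul_mem (N.inv_mem hn') hu3
  have hu5 : (n : X)⁻¹ * u * n * u⁻¹ ∈ N ⊓ H := ⟨hu4, hu2⟩
  rw [hdisj, mem_bot] at hu5
  have : u * (n : X) = n * ((n : X)⁻¹ * u * n * u⁻¹) * u := by group
  rw [this, hu5, mul_one]


/-- Coprime action on a solvable group: every `A`-invariant `π`-subgroup of `G` lies in an
`A`-invariant Hall `π`-subgroup of `G`. -/
theorem coprime_invariant_pi_le_hall_aux (π : Set ℕ) (n₀ : ℕ) :
    ∀ {X : Type u} [Group X] [Finite X] (A G U : Subgroup X), Nat.card G = n₀ →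
      A ≤ normalizer (G : Set X) → (Nat.card A).Coprime (Nat.card G) → Group.IsSolvable G →
      U ≤ G → A ≤ normalizer (U : Set X) → IsPiNum π (Nat.card U) →
      ∃ H, Cfsg.IsPiHallOf π H G ∧ A ≤ normalizer (H : Set X) ∧ U ≤ H := by
  induction n₀ using Nat.strong_induction_on with
  | _ n₀ ih =>
  intro X _ _ A G U hn₀ hAG hcop hsolv hUG hAU hU
  by_cases hGbot : G = ⊥
  · refine ⟨⊥, ?_, ?_, ?_⟩
    · rw [isPiHallOf_iff, hGbot]
      refine ⟨le_rfl, ?_, ?_⟩
      · rw [card_bot]; exact isPiNum_one π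
      · rw [relIndex_self]; exact isPiNum_one _
    · rw [normalizer_eq_top]; exact le_top
    · rw [← hGbot]; exact hUG
  obtain ⟨p, hp, N, hNG, hNne, hNp, hNnorm⟩ := exists_pgroup_normalizer_le hsolv hGbot
  have : Fact p.Prime := ⟨hp⟩
  have hGW : G ≤ normalizer (N : Set X) := le_normalizer.trans hNnorm
  have hAW : A ≤ normalizer (N : Set X) := hAG.trans hNnorm
  have hUW : U ≤ normalizer (N : Set X) := hUG.trans hGW
  have hcardG : Nat.card (bar N G) * Nat.card N = Nat.card G := card_bar_mul N hGW hNG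
  have hNcard1 : 1 < Nat.card N := N.one_lt_card_iff_ne_bot.mpr hNne
  have hlt : Nat.card (bar N G) < n₀ := by
    rw [← hn₀, ← hcardG]; exact lt_mul_of_one_lt_right Nat.card_pos hNcard1
  have hcop' : (Nat.card (bar N A)).Coprime (Nat.card (bar N G)) :=
    Nat.Coprime.coprime_dvd_left (card_bar_dvd N A)
      (Nat.Coprime.coprime_dvd_right (card_bar_dvd N G) hcop)
  obtain ⟨H', hH', hAH', hUH'⟩ := ih _ hlt (bar N A) (bar N G) (bar N U) rfl
    (bar_le_normalizer_bar N hAG) hcop' (isSolvable_bar N hsolv) (bar_mono N hUG)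
    (bar_le_normalizer_bar N hAU) (hU.of_dvd (card_bar_dvd N U))
  set H₀ := lift N H' with hH₀
  rw [isPiHallOf_iff] at hH'
  obtain ⟨hH'G, hH'pi, hH'idx⟩ := hH'
  have hH₀G : H₀ ≤ G := by
    have := lift_mono N hH'G
    rwa [lift_bar_eq N hGW hNG] at this
  have hUH₀ : U ≤ H₀ := (le_lift_bar N hUW).trans (lift_mono N hUH')
  have hAH₀ : A ≤ normalizer (H₀ : Set X) := le_normalizer_lift N hAW hAH'
  have hidx : H₀.relIndex G = H'.relIndex (bar N G) := by
    conv_lhs => rw [← lift_bar_eq N hGW hNG]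
    exact relIndex_lift N _ _
  have hH₀card : Nat.card H₀ = Nat.card H' * Nat.card N := card_lift N H'
  obtain ⟨k, hk⟩ := hNp.exists_card_eq
  by_cases hpπ : p ∈ π
  · refine ⟨H₀, ?_, hAH₀, hUH₀⟩
    rw [isPiHallOf_iff]
    refine ⟨hH₀G, ?_, ?_⟩
    · rw [hH₀card, hk]; exact hH'pi.mul (isPiNum_pow_of_mem hp hpπ k)
    · rw [hidx]; exact hH'idx
  · by_cases hH₀top : H₀ = G
    · -- `G / N` is a `π`-group and `N` a `π'`-group
      have hGcard : Nat.card G = Nat.card H' * p ^ k := by rw [← hH₀top, hH₀card, hk]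
      have hr : IsPiNum πᶜ (p ^ k) := isPiNum_pow_of_mem hp hpπ k
      let _ := conjSubgroupAction X
      set K : Subgroup X := N ⊓ centralizer (U : Set X) with hK
      have hAK : A ≤ normalizer (K : Set X) :=
        le_normalizer_inf' hAW (hAU.trans (normalizer_le_normalizer_centralizer U))
      have hKG : K ≤ G := inf_le_left.trans hNG
      have hcopK : (Nat.card A).Coprime (Nat.card K) :=
        hcop.coprime_dvd_right (card_dvd_of_le hKG)
      have hKAG : K ⊔ A ≤ normalizer (G : Set X) := sup_le (hKG.trans le_normalizer) hAG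
      have hKAU : K ⊔ A ≤ normalizer (U : Set X) :=
        sup_le (inf_le_right.trans (centralizer_le_normalizer _)) hAU
      have h := glauberman_rel K A hAK hcopK (Or.inr (isSolvable_of_le hKG hsolv))
        {H | Cfsg.IsPiHallOf π H G ∧ U ≤ H}
        (fun g hg H hH => ⟨isPiHallOf_conj (hKAG hg) hH.1, by
          rw [← conj_smul_eq_of_mem_normalizer (hKAU hg)]
          exact pointwise_smul_le_pointwise_smul_iff.mpr hH.2⟩)
        (fun H hH H' hH' => hall_ge_trans_centralizer hsolv hNG hGW hGcard hH'pi hr hk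
          hH.1 hH'.1 hH.2 hH'.2)
      obtain ⟨H, hH, hUH⟩ := exists_isPiHallOf_ge hsolv hUG hU
      obtain ⟨H₁, ⟨hH₁, hUH₁⟩, hfix⟩ := h.1 ⟨H, hH, hUH⟩
      refine ⟨H₁, hH₁, fun a ha => ?_, hUH₁⟩
      rw [← conj_smul_eq_self_iff_mem_normalizer]
      exact hfix a ha
    · -- induction inside `H₀`
      have hlt₀ : Nat.card H₀ < n₀ := by
        rw [← hn₀]; exact card_lt_card_of_lt (lt_of_le_of_ne hH₀G hH₀top)
      obtain ⟨H, hH, hAH, hUH⟩ := ih _ hlt₀ A H₀ U rfl hAH₀
        (hcop.coprime_dvd_right (card_dvd_of_le hH₀G)) (isSolvable_of_le hH₀G hsolv) hUH₀ hAU hU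
      refine ⟨H, ?_, hAH, hUH⟩
      rw [isPiHallOf_iff] at hH ⊢
      obtain ⟨h1, h2, h3⟩ := hH
      refine ⟨h1.trans hH₀G, h2, ?_⟩
      rw [← relIndex_mul_relIndex H H₀ G h1 hH₀G]
      exact h3.mul (by rw [hidx]; exact hH'idx)

theorem coprime_invariant_pi_le_hall {X : Type*} [Group X] [Finite X] (A G U : Subgroup X)
    (hAG : A ≤ normalizer (G : Set X)) (hcop : (Nat.card A).Coprime (Nat.card G))
    (hsolv : Group.IsSolvable G) (π : Set ℕ) (hUG : U ≤ G) (hAU : A ≤ normalizer (U : Set X))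
    (hU : IsPiNum π (Nat.card U)) :
    ∃ H, Cfsg.IsPiHallOf π H G ∧ A ≤ normalizer (H : Set X) ∧ U ≤ H :=
  coprime_invariant_pi_le_hall_aux π _ A G U rfl hAG hcop hsolv hUG hAU hU

end Cfsg.Agent.Lead
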