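import Mathlib
import Cfsg.Prelude.Def_Local
import Cfsg.Agent.Helper23.HallHigman
import Cfsg.Agent.Helper14.PCore
import Cfsg.Agent.Helper19.Cores
import Cfsg.Agent.Lead.ThompsonPQ
import Cfsg.Agent.Helper10.CosetFixed
import Cfsg.Agent.Helper10.SolvPSolv

set_option autoImplicit false
set_option linter.unusedSectionVars false
set_option linter.unusedVariables false

/-! # `O_{p'}(N_X(P)) ≤ O_{p'}(X)` for `p`-solvable `X` and a `p`-subgroup `P` -/

namespace Cfsg.Agent.Lead.Bender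

open Subgroup Cfsg
open Cfsg.Agent.Helper19 (pPrimeCore_coprime)

universe u

/-- In a `p`-solvable group `X`, a `p'`-subgroup `D` of `N_X(P)` normalized by `N_X(P)`, `P` a
`p`-subgroup, lies in `O_{p'}(X)`. -/
theorem le_pPrimeCore_of_normalized_by_normalizer {X : Type u} [Group X] [Finite X] {p : ℕ}
    [hp : Fact p.Prime] (hsolv : IsPSolvable p X) {P : Subgroup X} (hPp : IsPGroup p P)
    {D : Subgroup X}
    (hDP : D ≤ normalizer (P : Set X))
    (hnorm : normalizer (P : Set X) ≤ normalizer (D : Set X))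
    (hD : (Nat.card D).Coprime p) : D ≤ pPrimeCore p X := by
  obtain ⟨O, hO⟩ : ∃ O : Subgroup X, O = pPrimeCore p X := ⟨_, rfl⟩
  have hOn : O.Normal := hO ▸ pPrimeCore_normal p X
  rw [← hO]
  obtain ⟨π, hπ⟩ : ∃ π : X →* X ⧸ O, π = QuotientGroup.mk' O := ⟨_, rfl⟩
  have hπker : π.ker = O := by rw [hπ]; exact QuotientGroup.ker_mk' O
  have hπsurj : Function.Surjective π := by rw [hπ]; exact QuotientGroup.mk'_surjective O
  obtain ⟨Q, hQdef⟩ : ∃ Q : Subgroup (X ⧸ O), Q = pCore p (X ⧸ O) := ⟨_, rfl⟩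
  have hHH : centralizer (Q : Set (X ⧸ O)) ≤ Q := by
    subst hO hQdef
    exact Cfsg.Agent.Helper23.centralizer_pCore_quotient_le_of_isPSolvable hsolv
  have hQn : Q.Normal := hQdef ▸ Cfsg.Agent.Helper14.pCore_normal p
  have hQp : IsPGroup p Q := hQdef ▸ Cfsg.Agent.Helper14.pCore_isPGroup p
  obtain ⟨Pb, hPb⟩ : ∃ Pb : Subgroup (X ⧸ O), Pb = P.map π := ⟨_, rfl⟩
  obtain ⟨Db, hDb⟩ : ∃ Db : Subgroup (X ⧸ O), Db = D.map π := ⟨_, rfl⟩
  have hPp' : IsPGroup p Pb := hPb ▸ hPp.map π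
  have hDbcop : (Nat.card Db).Coprime p :=
    Nat.Coprime.coprime_dvd_left (hDb ▸ Subgroup.card_map_dvd D π) hD
  -- `P` and `D` commute elementwise
  have hPD0 : P ⊓ D = ⊥ := by
    apply Disjoint.eq_bot
    apply Subgroup.disjoint_of_coprime_natCard
    obtain ⟨n, hn⟩ := IsPGroup.iff_card.1 hPp
    rw [hn]
    exact (Nat.Coprime.pow_right n hD).symm
  have hcomm : ∀ a ∈ P, ∀ d ∈ D, d * a = a * d := by
    intro a ha d hd
    have h1 : a * d * a⁻¹ * d⁻¹ ∈ P ⊓ D := by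
      refine mem_inf.2 ⟨?_, ?_⟩
      · have h2 : d * a⁻¹ * d⁻¹ ∈ P := (mem_normalizer_iff.1 (hDP hd) a⁻¹).1 (P.inv_mem ha)
        have h3 : a * d * a⁻¹ * d⁻¹ = a * (d * a⁻¹ * d⁻¹) := by group
        rw [h3]; exact P.mul_mem ha h2
      · have haN : a ∈ normalizer (D : Set X) := hnorm (le_normalizer ha)
        have h2 : a * d * a⁻¹ ∈ D := (mem_normalizer_iff.1 haN d).1 hd
        exact D.mul_mem h2 (D.inv_mem hd)
    rw [hPD0, mem_bot] at h1
    have h4 : d * a = (a * d * a⁻¹ * d⁻¹)⁻¹ * (a * d) := by group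
    rw [h4, h1, inv_one, one_mul]
  have hPD : Pb ≤ centralizer (Db : Set (X ⧸ O)) := by
    rw [hPb, hDb]
    rintro _ ⟨a, ha, rfl⟩
    rw [mem_centralizer_iff]
    rintro _ ⟨d, hd, rfl⟩
    rw [← map_mul, ← map_mul, hcomm a ha d hd]
  have hPQ : Pb ≤ normalizer (Q : Set (X ⧸ O)) := by rw [normalizer_eq_top]; exact le_top
  have hDQ : Db ≤ normalizer (Q : Set (X ⧸ O)) := by rw [normalizer_eq_top]; exact le_top
  have hQD : Q ⊓ Db = ⊥ := by
    apply Disjoint.eq_bot
    apply Subgroup.disjoint_of_coprime_natCard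
    obtain ⟨n, hn⟩ := IsPGroup.iff_card.1 hQp
    rw [hn]
    exact (Nat.Coprime.pow_right n hDbcop).symm
  have hcopAO : (Nat.card P).Coprime (Nat.card O) := by
    obtain ⟨n, hn⟩ := IsPGroup.iff_card.1 hPp
    rw [hn, hO]
    exact Nat.Coprime.pow_left n (pPrimeCore_coprime p).symm
  have hPsolv : Group.IsSolvable P := by
    haveI := hPp.isNilpotent
    exact IsNilpotent.to_isSolvable
  have hC : Q ⊓ centralizer (Pb : Set (X ⧸ O)) ≤ centralizer (Db : Set (X ⧸ O)) := by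
    intro qb hqb
    obtain ⟨hqQ, hqP⟩ := mem_inf.1 hqb
    obtain ⟨q, rfl⟩ := hπsurj qb
    obtain ⟨Kc, hKc⟩ : ∃ Kc : Subgroup X, Kc = (centralizer (Pb : Set (X ⧸ O))).comap π :=
      ⟨_, rfl⟩
    have hqK : q ∈ Kc := by rw [hKc]; exact hqP
    have hOK : O ≤ Kc := by
      intro o ho
      rw [hKc, mem_comap]
      have : π o = 1 := by rw [← MonoidHom.mem_ker, hπker]; exact ho
      rw [this]; exact one_mem _
    have hKN : Kc ≤ normalizer (O : Set X) := by rw [normalizer_eq_top]; exact le_top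
    have hAN : P ≤ normalizer (O : Set X) := by rw [normalizer_eq_top]; exact le_top
    have hfix : ∀ a ∈ P, ∀ k ∈ Kc, a * k * a⁻¹ * k⁻¹ ∈ O := by
      intro a ha k hk
      rw [← hπker, MonoidHom.mem_ker]
      simp only [map_mul, map_inv]
      rw [hKc, mem_comap, mem_centralizer_iff] at hk
      have h1 := hk (π a) (hPb ▸ mem_map_of_mem π ha)
      rw [h1]; group
    obtain ⟨c, hc, hqc⟩ := Cfsg.Agent.Helper10.exists_centralizing_in_coset hOK hKN hAN hcopAO
      (Or.inl hPsolv) hfix hqK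
    have hcN : c ∈ normalizer (P : Set X) := by
      rw [mem_normalizer_iff]
      intro h
      have hcc := mem_centralizer_iff.1 hc.2
      constructor
      · intro hh
        have : c * h * c⁻¹ = h := by rw [← hcc h hh]; group
        rw [this]; exact hh
      · intro hh
        have h5 : c * (c * h * c⁻¹) = (c * h * c⁻¹) * c := (hcc _ hh).symm
        have : h = c * h * c⁻¹ := by
          have h6 : c * h * c⁻¹ = c⁻¹ * (c * (c * h * c⁻¹)) := by group
          rw [h6, h5]; group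
        rw [this]; exact hh
    have hπc : π c = π q := by
      have h1 : π (q⁻¹ * c) = 1 := by rw [← MonoidHom.mem_ker, hπker]; exact hqc
      rw [map_mul, map_inv, inv_mul_eq_one] at h1
      exact h1.symm
    rw [mem_centralizer_iff]
    rintro db hdb
    rw [hDb] at hdb
    obtain ⟨d, hd, rfl⟩ := hdb
    have he : c * d * c⁻¹ * d⁻¹ ∈ D :=
      D.mul_mem ((mem_normalizer_iff.1 (hnorm hcN) d).1 hd) (D.inv_mem hd)
    have h1 : π (c * d * c⁻¹ * d⁻¹) ∈ Q ⊓ Db := by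
      refine mem_inf.2 ⟨?_, hDb ▸ mem_map_of_mem π he⟩
      simp only [map_mul, map_inv]
      rw [hπc]
      have h2 : π d * (π q)⁻¹ * (π d)⁻¹ ∈ Q := hQn.conj_mem _ (Q.inv_mem hqQ) _
      have h3 : π q * π d * (π q)⁻¹ * (π d)⁻¹ = π q * (π d * (π q)⁻¹ * (π d)⁻¹) := by group
      rw [h3]
      exact Q.mul_mem hqQ h2
    rw [hQD, mem_bot] at h1
    simp only [map_mul, map_inv] at h1
    rw [hπc] at h1
    have h4 : π d * π q = (π q * π d * (π q)⁻¹ * (π d)⁻¹)⁻¹ * (π q * π d) := by group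
    rw [h4, h1, inv_one, one_mul]
  have h1 := Cfsg.Agent.Lead.thompson_PQ p Pb Db Q hPp' hDbcop hQp hPD hPQ hDQ hC
  have h2 : Db ≤ Q ⊓ Db := le_inf (h1.trans hHH) le_rfl
  rw [hQD, le_bot_iff, hDb, Subgroup.map_eq_bot_iff, hπker] at h2
  exact h2

end Cfsg.Agent.Lead.Bender
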