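import Mathlib
import Cfsg.Agent.Helper19.Baer

set_option autoImplicit false
set_option linter.unusedSectionVars false
set_option linter.style.haveILetI false

/-! # A fixed-point lemma via the Baer trick

`D` a finite `p`-group (`p` odd) of class at most two, `𝒜` a `p`-group and `𝒦` a `p'`-group of
automorphisms of `D` with `𝒜` normalizing `𝒦 ≠ 1`.  Then `𝒜` fixes an element of order `p` of `D`
that is not fixed by `𝒦`. -/

namespace Cfsg.Agent.Lead.TT

open Cfsg.Agent.Helper19.Baer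
open scoped commutatorElement

section auto

variable {D : Type*} [Group D] [Finite D]

/-- Baer data for a finite group of odd order and class at most two. -/
noncomputable def baerData (hodd : Odd (Nat.card D)) (hcl : ∀ x y : D, ⁅x, y⁆ ∈ Subgroup.center D) :
    Data D where
  h := (Nat.card D + 1) / 2
  central := hcl
  half := by
    intro z
    rw [← pow_mul]
    have : (Nat.card D + 1) / 2 * 2 = Nat.card D + 1 := by
      obtain ⟨k, hk⟩ := hodd
      omega
    rw [this, pow_succ, pow_card_eq_one', one_mul]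

variable {d : Data D}

/-- the action of an automorphism on the Baer group -/
def act (φ : MulAut D) : BaerT d →* BaerT d := BaerT.bmap φ.toMonoidHom

theorem act_val (φ : MulAut D) (x : BaerT d) : (act φ x).val = φ x.val := rfl

theorem act_mul (φ ψ : MulAut D) (x : BaerT d) : act (φ * ψ) x = act φ (act ψ x) :=
  BaerT.ext' rfl

theorem act_one (x : BaerT d) : act (1 : MulAut D) x = x := BaerT.ext' rfl

open scoped Classical in
/-- the trace map of a group of automorphisms on the Baer group -/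
noncomputable def trace (𝒦 : Subgroup (MulAut D)) : BaerT d →* BaerT d :=
  letI : Fintype 𝒦 := Fintype.ofFinite 𝒦
  ∏ k : 𝒦, act (d := d) (k : MulAut D)

open scoped Classical in
theorem trace_apply (𝒦 : Subgroup (MulAut D)) (x : BaerT d) :
    letI : Fintype 𝒦 := Fintype.ofFinite 𝒦
    trace 𝒦 x = ∏ k : 𝒦, act (d := d) (k : MulAut D) x := by
  unfold trace
  rw [MonoidHom.finsetProd_apply]

theorem trace_act_of_mem (𝒦 : Subgroup (MulAut D)) {k₀ : MulAut D} (hk₀ : k₀ ∈ 𝒦)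
    (x : BaerT d) : trace 𝒦 (act k₀ x) = trace 𝒦 x := by
  classical
  letI : Fintype 𝒦 := Fintype.ofFinite 𝒦
  rw [trace_apply, trace_apply]
  refine Fintype.prod_equiv (Equiv.mulRight (⟨k₀, hk₀⟩ : 𝒦)) _ _ ?_
  intro k
  rw [← act_mul]
  rfl

theorem trace_act_of_normalizes (𝒦 : Subgroup (MulAut D)) {a : MulAut D}
    (ha : ∀ k ∈ 𝒦, a * k * a⁻¹ ∈ 𝒦) (ha' : ∀ k ∈ 𝒦, a⁻¹ * k * a ∈ 𝒦)
    (x : BaerT d) : trace 𝒦 (act a x) = act a (trace 𝒦 x) := by
  classical
  letI : Fintype 𝒦 := Fintype.ofFinite 𝒦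
  rw [trace_apply, trace_apply, map_prod]
  let σ : 𝒦 ≃ 𝒦 :=
    { toFun := fun k => ⟨a⁻¹ * k.1 * a, ha' k.1 k.2⟩
      invFun := fun k => ⟨a * k.1 * a⁻¹, ha k.1 k.2⟩
      left_inv := fun k => Subtype.ext (by simp [mul_assoc])
      right_inv := fun k => Subtype.ext (by simp [mul_assoc]) }
  refine Fintype.prod_equiv σ _ _ ?_
  intro k
  rw [← act_mul, ← act_mul]
  have e : (k : MulAut D) * a = a * ((σ k : 𝒦) : MulAut D) := by
    show (k : MulAut D) * a = a * (a⁻¹ * k.1 * a)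
    group
  rw [e]

theorem trace_of_fixed (𝒦 : Subgroup (MulAut D)) (x : BaerT d)
    (hx : ∀ k ∈ 𝒦, act k x = x) : trace 𝒦 x = x ^ Nat.card 𝒦 := by
  classical
  letI : Fintype 𝒦 := Fintype.ofFinite 𝒦
  rw [trace_apply, Finset.prod_congr rfl (fun k _ => hx k.1 k.2), Finset.prod_const,
    Finset.card_univ, Nat.card_eq_fintype_card]

/-- **Fixed point lemma** (automorphism form). -/
theorem exists_fixed_not_fixed {p : ℕ} [hp : Fact p.Prime] (hp2 : p ≠ 2) (hD : IsPGroup p D)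
    (hcl : ∀ x y : D, ⁅x, y⁆ ∈ Subgroup.center D)
    (𝒜 𝒦 : Subgroup (MulAut D)) (h𝒜 : IsPGroup p 𝒜) (h𝒦 : (Nat.card 𝒦).Coprime p)
    (hnorm : ∀ a ∈ 𝒜, ∀ k ∈ 𝒦, a * k * a⁻¹ ∈ 𝒦) (hne : 𝒦 ≠ ⊥) :
    ∃ y : D, y ≠ 1 ∧ y ^ p = 1 ∧ (∀ a ∈ 𝒜, a y = y) ∧ ∃ k ∈ 𝒦, k y ≠ y := by
  classical
  obtain ⟨n, hn⟩ := IsPGroup.iff_card.mp hD
  have hpodd : Odd p := hp.out.odd_of_ne_two hp2
  have hodd : Odd (Nat.card D) := by rw [hn]; exact hpodd.pow
  set d : Data D := baerData hodd hcl with hd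
  -- the kernel of the trace
  set T : Subgroup (BaerT d) := (trace (d := d) 𝒦).ker with hT
  have hcardL : Nat.card (BaerT d) = p ^ n := by rw [BaerT.card_eq, hn]
  have hLp : IsPGroup p (BaerT d) := IsPGroup.of_card hcardL
  have hTne : T ≠ ⊥ := by
    intro hbot
    have hinj : Function.Injective (trace (d := d) 𝒦) := (MonoidHom.ker_eq_bot_iff _).mp hbot
    apply hne
    rw [Subgroup.eq_bot_iff_forall]
    intro k hk
    ext z
    have h1 := hinj (trace_act_of_mem (d := d) 𝒦 hk ⟨z⟩)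
    have h2 := congrArg BaerT.val h1
    simpa [act_val] using h2
  -- the elements of order dividing `p` in `T`
  set S : Subgroup (BaerT d) := T ⊓ (powMonoidHom p : BaerT d →* BaerT d).ker with hS
  have hmemS : ∀ x : BaerT d, x ∈ S ↔ trace 𝒦 x = 1 ∧ x ^ p = 1 := by
    intro x
    rw [hS, Subgroup.mem_inf, hT, MonoidHom.mem_ker, MonoidHom.mem_ker, powMonoidHom_apply]
  have hSne : S ≠ ⊥ := by
    have hTp : IsPGroup p T := hLp.to_subgroup T
    have hTnt : Nontrivial T := (Subgroup.nontrivial_iff_ne_bot T).mpr hTne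
    obtain ⟨m, hm⟩ := IsPGroup.iff_card.mp hTp
    have hm0 : m ≠ 0 := by
      rintro rfl
      rw [pow_zero] at hm
      have := (Finite.one_lt_card_iff_nontrivial (α := T)).mpr hTnt
      omega
    have hdvd : p ∣ Nat.card T := by rw [hm]; exact dvd_pow_self p hm0
    obtain ⟨x, hx⟩ := exists_prime_orderOf_dvd_card' p hdvd
    intro hbot
    have hxS : (x : BaerT d) ∈ S := by
      rw [hmemS]
      refine ⟨x.2, ?_⟩
      have : x ^ p = 1 := by rw [← hx]; exact pow_orderOf_eq_one x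
      have := congrArg Subtype.val this
      simpa using this
    rw [hbot, Subgroup.mem_bot] at hxS
    have : x = 1 := Subtype.ext hxS
    rw [this, orderOf_one] at hx
    exact hp.out.one_lt.ne hx
  -- the action of `𝒜` on `S`
  have hinv : ∀ a ∈ 𝒜, ∀ x ∈ S, act (d := d) a x ∈ S := by
    intro a ha x hx
    rw [hmemS] at hx ⊢
    constructor
    · rw [trace_act_of_normalizes 𝒦 (hnorm a ha)
        (fun k hk => by simpa using hnorm a⁻¹ (𝒜.inv_mem ha) k hk), hx.1, map_one]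
    · rw [← map_pow, hx.2, map_one]
  letI : MulAction 𝒜 S :=
    { smul := fun a x => ⟨act (d := d) (a : MulAut D) x.1, hinv a a.2 x x.2⟩
      one_smul := fun x => Subtype.ext (act_one _)
      mul_smul := fun a b x => Subtype.ext (act_mul _ _ _) }
  have hsmul : ∀ (a : 𝒜) (x : S), ((a • x : S) : BaerT d) = act (d := d) (a : MulAut D) x.1 :=
    fun _ _ => rfl
  have hSp : IsPGroup p S := hLp.to_subgroup S
  have hSnt : Nontrivial S := (Subgroup.nontrivial_iff_ne_bot S).mpr hSne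
  have hdvdS : p ∣ Nat.card S := by
    obtain ⟨m, hm⟩ := IsPGroup.iff_card.mp hSp
    have hm0 : m ≠ 0 := by
      rintro rfl
      rw [pow_zero] at hm
      have := (Finite.one_lt_card_iff_nontrivial (α := S)).mpr hSnt
      omega
    rw [hm]; exact dvd_pow_self p hm0
  have h1fix : (1 : S) ∈ MulAction.fixedPoints 𝒜 S := by
    intro a
    apply Subtype.ext
    rw [hsmul]
    exact map_one _
  obtain ⟨b, hbfix, hb1⟩ := h𝒜.exists_fixed_point_of_prime_dvd_card_of_fixed_point S hdvdS h1fix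
  have hbS := (hmemS b.1).mp b.2
  refine ⟨b.1.val, ?_, ?_, ?_, ?_⟩
  · intro h
    apply hb1
    apply Subtype.ext
    exact ((BaerT.eq_one_iff _).mpr h).symm
  · rw [← BaerT.val_pow, hbS.2]; rfl
  · intro a ha
    have := hbfix ⟨a, ha⟩
    have h2 := congrArg (fun x : S => (x : BaerT d).val) this
    simpa [hsmul, act_val] using h2
  · by_contra hcon
    push_neg at hcon
    have hfix : ∀ k ∈ 𝒦, act (d := d) k b.1 = b.1 := fun k hk => BaerT.ext' (hcon k hk)
    have h1 := trace_of_fixed 𝒦 b.1 hfix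
    rw [hbS.1] at h1
    have h2 : orderOf (b.1 : BaerT d) ∣ Nat.card 𝒦 := orderOf_dvd_of_pow_eq_one h1.symm
    have h3 : orderOf (b.1 : BaerT d) ∣ p := orderOf_dvd_of_pow_eq_one hbS.2
    have h4 : orderOf (b.1 : BaerT d) ∣ 1 := by
      have := Nat.dvd_gcd h2 h3
      rwa [h𝒦] at this
    have h5 : (b.1 : BaerT d) = 1 := orderOf_eq_one_iff.mp (Nat.dvd_one.mp h4)
    exact hb1 (Subtype.ext h5.symm)

end auto

end Cfsg.Agent.Lead.TT

namespace Cfsg.Agent.Lead.TT

open scoped commutatorElement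

section internal

variable {X : Type*} [Group X] [Finite X]

/-- **Fixed point lemma** (internal form): `D` a `p`-subgroup (`p` odd) of class at most two,
`A` a `p`-subgroup, `K` a `p'`-subgroup, `A` and `K` normalizing `D`, `A` normalizing `K`, and `K`
not centralizing `D`.  Then some element of order `p` of `D` is centralized by `A` but not by `K`. -/
theorem exists_centralized_not_centralized {p : ℕ} [hp : Fact p.Prime] (hp2 : p ≠ 2)
    (D A K : Subgroup X) (hD : IsPGroup p D) (hcl : ⁅⁅D, D⁆, D⁆ = ⊥)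
    (hA : IsPGroup p A) (hK : (Nat.card K).Coprime p)
    (hAD : A ≤ Subgroup.normalizer (D : Set X)) (hKD : K ≤ Subgroup.normalizer (D : Set X))
    (hAK : A ≤ Subgroup.normalizer (K : Set X))
    (hne : ¬ K ≤ Subgroup.centralizer (D : Set X)) :
    ∃ y ∈ D, y ≠ 1 ∧ y ^ p = 1 ∧ (∀ a ∈ A, a * y * a⁻¹ = y) ∧ ∃ k ∈ K, k * y * k⁻¹ ≠ y := by
  set N : Subgroup X := Subgroup.normalizer (D : Set X) with hN
  set Φ : N →* MulAut D := D.normalizerMonoidHom with hΦ
  have hΦv : ∀ (g : N) (x : D), ((Φ g x : D) : X) = g * x * (g : X)⁻¹ := fun _ _ => rfl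
  set 𝒜 : Subgroup (MulAut D) := (A.subgroupOf N).map Φ with h𝒜
  set 𝒦 : Subgroup (MulAut D) := (K.subgroupOf N).map Φ with h𝒦
  have h𝒜p : IsPGroup p 𝒜 := (hA.comap_subtype).map Φ
  have h𝒦c : (Nat.card 𝒦).Coprime p := by
    have h1 : Nat.card 𝒦 ∣ Nat.card (K.subgroupOf N) := Subgroup.card_map_dvd _ _
    have h2 : Nat.card (K.subgroupOf N) = Nat.card K :=
      Nat.card_congr (Subgroup.subgroupOfEquivOfLe hKD).toEquiv
    rw [h2] at h1
    exact Nat.Coprime.coprime_dvd_left h1 hK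
  have hnorm : ∀ a ∈ 𝒜, ∀ k ∈ 𝒦, a * k * a⁻¹ ∈ 𝒦 := by
    rintro _ ⟨a, ha, rfl⟩ _ ⟨k, hk, rfl⟩
    refine ⟨a * k * a⁻¹, ?_, by simp⟩
    simp only [SetLike.mem_coe, Subgroup.mem_subgroupOf] at ha hk ⊢
    have := (Subgroup.mem_normalizer_iff.mp (hAK ha) (k : X)).mp hk
    simpa using this
  have hne' : 𝒦 ≠ ⊥ := by
    intro hbot
    apply hne
    intro k hk
    rw [Subgroup.mem_centralizer_iff]
    intro x hx
    have hmem : Φ ⟨k, hKD hk⟩ ∈ 𝒦 := ⟨⟨k, hKD hk⟩, by simp only [SetLike.mem_coe, Subgroup.mem_subgroupOf]; exact hk, rfl⟩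
    rw [hbot, Subgroup.mem_bot] at hmem
    have h1 := hΦv ⟨k, hKD hk⟩ ⟨x, hx⟩
    rw [hmem] at h1
    simp only [MulAut.one_apply] at h1
    -- x = k x k⁻¹
    calc x * k = (k * x * k⁻¹) * k := by rw [← h1]
      _ = k * x := by group
  have hcl' : ∀ x y : D, ⁅x, y⁆ ∈ Subgroup.center D := by
    intro x y
    rw [Subgroup.mem_center_iff]
    intro z
    apply Subtype.ext
    have h1 : ⁅⁅(x : X), (y : X)⁆, (z : X)⁆ ∈ ⁅⁅D, D⁆, D⁆ :=
      Subgroup.commutator_mem_commutator (Subgroup.commutator_mem_commutator x.2 y.2) z.2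
    rw [hcl, Subgroup.mem_bot, commutatorElement_eq_one_iff_mul_comm] at h1
    have e : ((⁅x, y⁆ : D) : X) = ⁅(x : X), (y : X)⁆ := by
      simp [commutatorElement_def]
    rw [Subgroup.coe_mul, Subgroup.coe_mul, e]
    exact h1.symm
  haveI : Finite D := inferInstance
  have hDp : IsPGroup p D := hD
  obtain ⟨y, hy1, hyp, hyA, k, hk, hky⟩ :=
    exists_fixed_not_fixed hp2 hDp hcl' 𝒜 𝒦 h𝒜p h𝒦c hnorm hne'
  refine ⟨y, y.2, ?_, ?_, ?_, ?_⟩
  · intro h; exact hy1 (Subtype.ext h)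
  · have := congrArg Subtype.val hyp
    simpa using this
  · intro a ha
    have hmem : Φ ⟨a, hAD ha⟩ ∈ 𝒜 :=
      ⟨⟨a, hAD ha⟩, by simp only [SetLike.mem_coe, Subgroup.mem_subgroupOf]; exact ha, rfl⟩
    have h1 := hyA _ hmem
    have h2 := hΦv ⟨a, hAD ha⟩ y
    rw [h1] at h2
    exact h2.symm
  · obtain ⟨k', hk', rfl⟩ := hk
    simp only [SetLike.mem_coe, Subgroup.mem_subgroupOf] at hk'
    refine ⟨k', hk', ?_⟩
    intro h
    apply hky
    apply Subtype.ext
    rw [hΦv]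
    exact h

end internal

end Cfsg.Agent.Lead.TT
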