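import Mathlib
import Cfsg.Agent.Lead.TT1
import Cfsg.Agent.Lead.Coprime3
import Cfsg.Agent.Lead.ThompsonPQ

set_option autoImplicit false
set_option linter.unusedSectionVars false

/-! # Invariant `p'`-subgroups of a group with a self-centralizing normal `p`-subgroup

`R` a normal `p`-subgroup of `Y` with `C_Y(R) ≤ R`.  Two criteria for an `A`-invariant
`p'`-subgroup `K` to be trivial. -/

namespace Cfsg.Agent.Lead.TT

open Subgroup
open scoped commutatorElement

variable {Y : Type*} [Group Y] [Finite Y] {p : ℕ} [hp : Fact p.Prime]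

/-- an element of a `p`-subgroup and of a subgroup of order prime to `p` is trivial -/
theorem eq_one_of_mem_of_mem {R K : Subgroup Y} (hR : IsPGroup p R)
    (hK : (Nat.card K).Coprime p) {c : Y} (hcR : c ∈ R) (hcK : c ∈ K) : c = 1 := by
  obtain ⟨m, hm⟩ := hR ⟨c, hcR⟩
  have h1 : c ^ p ^ m = 1 := by
    have := congrArg Subtype.val hm
    simpa using this
  have h2 : orderOf c ∣ p ^ m := orderOf_dvd_of_pow_eq_one h1
  have h3 : orderOf c ∣ Nat.card K := by
    have := orderOf_dvd_natCard (⟨c, hcK⟩ : K)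
    rwa [Subgroup.orderOf_mk] at this
  have h4 : (orderOf c).Coprime (orderOf c) :=
    Nat.Coprime.coprime_dvd_left h3 (Nat.Coprime.coprime_dvd_right h2 (hK.pow_right m))
  exact orderOf_eq_one_iff.mp ((Nat.coprime_self _).mp h4)

theorem eq_bot_of_le_of_coprime {R K : Subgroup Y} (hR : IsPGroup p R)
    (hK : (Nat.card K).Coprime p) (hKR : K ≤ R) : K = ⊥ := by
  rw [Subgroup.eq_bot_iff_forall]
  intro c hc
  exact eq_one_of_mem_of_mem hR hK (hKR hc) hc

/-- an element of `R` (normal `p`-subgroup) normalizing the `p'`-subgroup `K` centralizes it -/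
theorem commute_of_mem_normal_of_mem_normalizer {R K : Subgroup Y} [R.Normal] (hR : IsPGroup p R)
    (hK : (Nat.card K).Coprime p) {y : Y} (hyR : y ∈ R) (hyK : y ∈ normalizer (K : Set Y))
    {k : Y} (hk : k ∈ K) : y * k = k * y := by
  have h1 : y * k * y⁻¹ * k⁻¹ ∈ K :=
    K.mul_mem ((mem_normalizer_iff.mp hyK k).mp hk) (K.inv_mem hk)
  have h2 : y * k * y⁻¹ * k⁻¹ ∈ R := by
    have : k * y⁻¹ * k⁻¹ ∈ R := Normal.conj_mem inferInstance _ (R.inv_mem hyR) k
    have e : y * k * y⁻¹ * k⁻¹ = y * (k * y⁻¹ * k⁻¹) := by group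
    rw [e]; exact R.mul_mem hyR this
  have h3 := eq_one_of_mem_of_mem hR hK h2 h1
  calc y * k = (y * k * y⁻¹ * k⁻¹) * (k * y) := by group
    _ = k * y := by rw [h3, one_mul]

theorem isSolvable_of_isPGroup {R : Subgroup Y} (hR : IsPGroup p R) : Group.IsSolvable R :=
  haveI := hR.isNilpotent
  inferInstance

/-- **Odd `p`**: if the `p`-subgroup `A` contains every element of order `p` of `C_Y(A)`, then every
`A`-invariant `p'`-subgroup is trivial. -/
theorem pprime_eq_bot_of_omega (hp2 : p ≠ 2)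
    (R : Subgroup Y) [R.Normal] (hR : IsPGroup p R) (hCR : centralizer (R : Set Y) ≤ R)
    (A K : Subgroup Y) (hA : IsPGroup p A)
    (hΩ : ∀ x ∈ centralizer (A : Set Y), orderOf x = p → x ∈ A)
    (hK : (Nat.card K).Coprime p) (hAK : A ≤ normalizer (K : Set Y)) : K = ⊥ := by
  by_contra hKne
  have hKR0 : ¬ K ≤ centralizer (R : Set Y) := fun h =>
    hKne (eq_bot_of_le_of_coprime hR hK (h.trans hCR))
  -- a minimal invariant subgroup on which `K` acts nontrivially
  let 𝒟 : Set (Subgroup Y) :=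
    {D | D ≤ R ∧ A ≤ normalizer (D : Set Y) ∧ K ≤ normalizer (D : Set Y) ∧
      ¬ K ≤ centralizer (D : Set Y)}
  have hRmem : R ∈ 𝒟 := by
    refine ⟨le_rfl, ?_, ?_, hKR0⟩
    · rw [normalizer_eq_top]; exact le_top
    · rw [normalizer_eq_top]; exact le_top
  obtain ⟨D, ⟨hDR, hAD, hKD, hKCD⟩, hmin⟩ :=
    Set.exists_min_image 𝒟 (fun D => Nat.card D) (Set.toFinite _) ⟨R, hRmem⟩
  have hminimal : ∀ D' : Subgroup Y, D' ≤ D → D' ≠ D → A ≤ normalizer (D' : Set Y) →
      K ≤ normalizer (D' : Set Y) → K ≤ centralizer (D' : Set Y) := by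
    intro D' hD'D hne hA' hK'
    by_contra hcon
    have := hmin D' ⟨hD'D.trans hDR, hA', hK', hcon⟩
    exact hne (eq_of_le_of_card_ge hD'D this)
  have hDp : IsPGroup p D := hR.to_le hDR
  have hDne : D ≠ ⊥ := by
    rintro rfl
    apply hKCD
    intro k _
    rw [mem_centralizer_iff]
    intro x hx
    rw [SetLike.mem_coe, mem_bot] at hx
    rw [hx, mul_one, one_mul]
  have hcopKD : (Nat.card K).Coprime (Nat.card D) := by
    obtain ⟨m, hm⟩ := IsPGroup.iff_card.mp hDp
    rw [hm]; exact hK.pow_right m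
  have hsolvD : Group.IsSolvable K ∨ Group.IsSolvable D := Or.inr (isSolvable_of_isPGroup hDp)
  -- `D = [D, K]`
  have hDK : ⁅D, K⁆ = D := by
    by_contra hne
    have h1 : ⁅D, K⁆ ≤ D := commutator_le_of_le_normalizer hKD
    have hA1 : A ≤ normalizer ((⁅D, K⁆ : Subgroup Y) : Set Y) := by
      intro a ha
      rw [mem_normalizer_iff_map_conj_eq, map_commutator]
      rw [(mem_normalizer_iff_map_conj_eq).mp (hAD ha), (mem_normalizer_iff_map_conj_eq).mp (hAK ha)]
    have hK1 : K ≤ normalizer ((⁅D, K⁆ : Subgroup Y) : Set Y) := le_normalizer_commutator_right D K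
    have h2 := hminimal _ h1 hne hA1 hK1
    have h3 : ⁅⁅D, K⁆, K⁆ = ⊥ := by
      rw [commutator_eq_bot_iff_le_centralizer]
      exact le_centralizer_iff.mp h2
    rw [coprime_commutator_commutator K D hKD hcopKD hsolvD] at h3
    apply hKCD
    exact le_centralizer_iff.mp (commutator_eq_bot_iff_le_centralizer.mp h3)
  -- characteristic-like subgroups
  have hinvComm : ∀ U V : Subgroup Y, ∀ B : Subgroup Y, B ≤ normalizer (U : Set Y) →
      B ≤ normalizer (V : Set Y) → B ≤ normalizer ((⁅U, V⁆ : Subgroup Y) : Set Y) := by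
    intro U V B hU hV b hb
    rw [mem_normalizer_iff_map_conj_eq, map_commutator]
    rw [(mem_normalizer_iff_map_conj_eq).mp (hU hb), (mem_normalizer_iff_map_conj_eq).mp (hV hb)]
  have hD'lt : ⁅D, D⁆ < D := commutator_lt_of_isPGroup hDp hDp le_normalizer hDne
  have hD'K : K ≤ centralizer ((⁅D, D⁆ : Subgroup Y) : Set Y) :=
    hminimal _ hD'lt.le hD'lt.ne (hinvComm D D A hAD hAD) (hinvComm D D K hKD hKD)
  have hγ3le : ⁅⁅D, D⁆, D⁆ ≤ ⁅D, D⁆ :=
    commutator_le_of_le_normalizer ((le_normalizer : D ≤ _).trans (by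
      intro x hx
      rw [mem_normalizer_iff_map_conj_eq, map_commutator] at *
      rw [hx]))
  have hγ3ne : ⁅⁅D, D⁆, D⁆ ≠ D := fun h => by
    have := hγ3le.trans_lt hD'lt
    rw [h] at this
    exact lt_irrefl _ this
  have hγ3K : K ≤ centralizer ((⁅⁅D, D⁆, D⁆ : Subgroup Y) : Set Y) :=
    hminimal _ (hγ3le.trans hD'lt.le) hγ3ne
      (hinvComm _ D A (hinvComm D D A hAD hAD) hAD) (hinvComm _ D K (hinvComm D D K hKD hKD) hKD)
  -- three subgroups lemma
  have hcl : ⁅⁅D, D⁆, D⁆ = ⊥ := by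
    have h1 : ⁅⁅K, ⁅D, D⁆⁆, D⁆ = ⊥ := by
      have : ⁅K, ⁅D, D⁆⁆ = ⊥ := commutator_eq_bot_iff_le_centralizer.mpr hD'K
      rw [this, commutator_bot_left]
    have h2 : ⁅⁅⁅D, D⁆, D⁆, K⁆ = ⊥ := by
      rw [commutator_eq_bot_iff_le_centralizer]
      exact le_centralizer_iff.mp hγ3K
    have h3 : ⁅⁅D, K⁆, ⁅D, D⁆⁆ = ⊥ := commutator_commutator_eq_bot_of_rotate h1 h2
    rw [hDK] at h3
    rw [commutator_comm] 
    exact h3
  obtain ⟨y, hyD, hy1, hyp, hyA, k, hk, hky⟩ :=
    exists_centralized_not_centralized hp2 D A K hDp hcl hA hK hAD hKD hAK hKCD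
  have hyo : orderOf y = p := orderOf_eq_prime hyp hy1
  have hyC : y ∈ centralizer (A : Set Y) := by
    rw [mem_centralizer_iff]
    intro a ha
    have := hyA a ha
    calc a * y = (a * y * a⁻¹) * a := by group
      _ = y * a := by rw [this]
  have hyAmem : y ∈ A := hΩ y hyC hyo
  have := commute_of_mem_normal_of_mem_normalizer hR hK (hDR hyD) (hAK hyAmem) hk
  apply hky
  calc k * y * k⁻¹ = (y * k) * k⁻¹ := by rw [this]
    _ = y := by group

/-- **Any `p`**: if `E` is an abelian `p`-subgroup normalized by `R` with `C_R(E) ≤ E`, then every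
`E`-invariant `p'`-subgroup is trivial. -/
theorem pprime_eq_bot_of_scn
    (R : Subgroup Y) [R.Normal] (hR : IsPGroup p R) (hCR : centralizer (R : Set Y) ≤ R)
    (E K : Subgroup Y) (hE : IsPGroup p E) (hEab : ∀ a ∈ E, ∀ b ∈ E, a * b = b * a)
    (hRE : R ≤ normalizer (E : Set Y)) (hCE : R ⊓ centralizer (E : Set Y) ≤ E)
    (hK : (Nat.card K).Coprime p) (hEK : E ≤ normalizer (K : Set Y)) : K = ⊥ := by
  set N : Subgroup Y := E ⊓ R with hN
  have hRn : ∀ B : Subgroup Y, B ≤ normalizer (R : Set Y) := fun B => by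
    rw [normalizer_eq_top]; exact le_top
  -- `K` centralizes `N`
  have hNK : ∀ n ∈ N, ∀ k ∈ K, n * k = k * n := fun n hn k hk =>
    commute_of_mem_normal_of_mem_normalizer hR hK hn.2 (hEK hn.1) hk
  -- the subgroup of elements normalizing `N` and acting trivially on `R/N`
  let S : Subgroup Y :=
    { carrier := {g | g ∈ normalizer (N : Set Y) ∧ ∀ r ∈ R, g * r * g⁻¹ * r⁻¹ ∈ N}
      one_mem' := ⟨one_mem _, fun r _ => by simp⟩
      mul_mem' := by
        rintro g h ⟨hg1, hg2⟩ ⟨hh1, hh2⟩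
        refine ⟨mul_mem hg1 hh1, fun r hr => ?_⟩
        have e : g * h * r * (g * h)⁻¹ * r⁻¹ =
            (g * (h * r * h⁻¹ * r⁻¹) * g⁻¹) * (g * r * g⁻¹ * r⁻¹) := by group
        rw [e]
        exact N.mul_mem ((mem_normalizer_iff.mp hg1 _).mp (hh2 r hr)) (hg2 r hr)
      inv_mem' := by
        rintro g ⟨hg1, hg2⟩
        refine ⟨inv_mem hg1, fun r hr => ?_⟩
        have e : g⁻¹ * r * g⁻¹⁻¹ * r⁻¹ = g⁻¹ * (g * r * g⁻¹ * r⁻¹)⁻¹ * g⁻¹⁻¹ := by group
        rw [e]
        exact (mem_normalizer_iff.mp (inv_mem hg1) _).mp (N.inv_mem (hg2 r hr)) }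
  have hmemS : ∀ g : Y, g ∈ S ↔ g ∈ normalizer (N : Set Y) ∧ ∀ r ∈ R, g * r * g⁻¹ * r⁻¹ ∈ N :=
    fun _ => Iff.rfl
  have hES : E ≤ S := by
    intro a ha
    rw [hmemS]
    constructor
    · rw [mem_normalizer_iff]
      intro n
      have key : ∀ m ∈ E, a * m * a⁻¹ = m := fun m hm => by
        rw [hEab a ha m hm]; group
      constructor
      · intro hn; rw [key n hn.1]; exact hn
      · intro hn
        have h1 : a * n * a⁻¹ ∈ E := hn.1
        have h2 : n ∈ E := by
          have := E.mul_mem (E.mul_mem (E.inv_mem ha) h1) ha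
          have e : a⁻¹ * (a * n * a⁻¹) * a = n := by group
          rwa [e] at this
        have := key n h2
        rw [this] at hn; exact hn
    · intro r hr
      refine ⟨?_, ?_⟩
      · have h1 : r * a⁻¹ * r⁻¹ ∈ E := (mem_normalizer_iff.mp (hRE hr) _).mp (E.inv_mem ha)
        have e : a * r * a⁻¹ * r⁻¹ = a * (r * a⁻¹ * r⁻¹) := by group
        rw [e]; exact E.mul_mem ha h1
      · have h1 : a * r * a⁻¹ ∈ R := Normal.conj_mem inferInstance r hr a
        exact R.mul_mem h1 (R.inv_mem hr)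
  have hKS : ∀ k ∈ K, ∀ g ∈ S, k * g * k⁻¹ ∈ S := by
    intro k hk g hg
    rw [hmemS] at hg ⊢
    have hkN : ∀ n ∈ N, k * n * k⁻¹ = n := fun n hn => by
      rw [← hNK n hn k hk]; group
    have hkN' : ∀ n ∈ N, k⁻¹ * n * k = n := fun n hn => by
      rw [mul_assoc, hNK n hn k hk]; group
    constructor
    · rw [mem_normalizer_iff]
      intro n
      have e : k * g * k⁻¹ * n * (k * g * k⁻¹)⁻¹ = k * (g * (k⁻¹ * n * k) * g⁻¹) * k⁻¹ := by group
      rw [e]
      constructor
      · intro hn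
        rw [hkN' n hn]
        have := (mem_normalizer_iff.mp hg.1 n).mp hn
        rw [hkN _ this]; exact this
      · intro hn
        -- conjugate back
        set m := g * (k⁻¹ * n * k) * g⁻¹ with hm
        have hmN : m ∈ N := by
          have h1 : k⁻¹ * (k * m * k⁻¹) * k = m := by group
          have h2 := hkN' _ hn
          rw [h1] at h2
          rw [h2]; exact hn
        have h3 : k⁻¹ * n * k ∈ N := (mem_normalizer_iff.mp hg.1 _).mpr hmN
        have h4 := hkN _ h3
        have e2 : k * (k⁻¹ * n * k) * k⁻¹ = n := by group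
        rw [e2] at h4
        rw [h4]; exact h3
    · intro r hr
      have hr' : k⁻¹ * r * k ∈ R := by
        have := Normal.conj_mem (inferInstance : R.Normal) r hr k⁻¹
        simpa using this
      have e : k * g * k⁻¹ * r * (k * g * k⁻¹)⁻¹ * r⁻¹ =
          k * (g * (k⁻¹ * r * k) * g⁻¹ * (k⁻¹ * r * k)⁻¹) * k⁻¹ := by group
      rw [e, hkN _ (hg.2 _ hr')]
      exact hg.2 _ hr'
  -- `[K, E] ≤ S`
  set K₁ : Subgroup Y := ⁅K, E⁆ with hK₁
  have hK₁K : K₁ ≤ K := commutator_le_of_le_normalizer hEK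
  have hK₁S : K₁ ≤ S := by
    rw [hK₁, commutator_le]
    intro k hk a ha
    have e : ⁅k, a⁆ = (k * a * k⁻¹) * a⁻¹ := by rw [commutatorElement_def]
    rw [e]
    exact S.mul_mem (hKS k hk a (hES ha)) (S.inv_mem (hES ha))
  have hcopK₁ : (Nat.card K₁).Coprime p :=
    Nat.Coprime.coprime_dvd_left (card_dvd_of_le hK₁K) hK
  have hRK₁ : ⁅R, K₁⁆ ≤ N := by
    rw [commutator_le]
    intro r hr g hg
    have := ((hmemS g).mp (hK₁S hg)).2 r hr
    have e : ⁅r, g⁆ = (g * r * g⁻¹ * r⁻¹)⁻¹ := by rw [commutatorElement_def]; group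
    rw [e]; exact N.inv_mem this
  have hK₁bot : K₁ = ⊥ := by
    have h1 : ⁅⁅R, K₁⁆, K₁⁆ = ⊥ := by
      rw [eq_bot_iff]
      refine (commutator_mono hRK₁ hK₁K).trans ?_
      rw [commutator_le]
      intro n hn k hk
      rw [mem_bot, commutatorElement_eq_one_iff_mul_comm]
      exact hNK n hn k hk
    have hcop : (Nat.card K₁).Coprime (Nat.card R) := by
      obtain ⟨m, hm⟩ := IsPGroup.iff_card.mp hR
      rw [hm]; exact hcopK₁.pow_right m
    rw [coprime_commutator_commutator K₁ R (hRn K₁) hcop (Or.inr (isSolvable_of_isPGroup hR))] at h1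
    have h2 : K₁ ≤ centralizer (R : Set Y) :=
      le_centralizer_iff.mp (commutator_eq_bot_iff_le_centralizer.mp h1)
    exact eq_bot_of_le_of_coprime hR hcopK₁ (h2.trans hCR)
  have hEcK : E ≤ centralizer (K : Set Y) :=
    le_centralizer_iff.mp (commutator_eq_bot_iff_le_centralizer.mp hK₁bot)
  have hfin : K ≤ centralizer (R : Set Y) := by
    refine thompson_PQ p E K R hE hK hR hEcK (hRn E) (hRn K) ?_
    intro x hx
    have hxN : x ∈ N := ⟨hCE hx, hx.1⟩
    rw [mem_centralizer_iff]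
    intro k hk
    exact (hNK x hxN k hk).symm
  exact eq_bot_of_le_of_coprime hR hK (hfin.trans hCR)

end Cfsg.Agent.Lead.TT
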