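import Mathlib
import Cfsg.Agent.Lead.TT2
import Cfsg.Agent.Lead.CoprimeSylow2
import Cfsg.Agent.Helper7.PConstrained

set_option autoImplicit false
set_option linter.unusedSectionVars false

/-! # Invariant `p'`-subgroups of `p`-constrained groups lie in `O_{p'}` -/

namespace Cfsg.Agent.Lead.TT

open Subgroup
open scoped commutatorElement

variable {X : Type*} [Group X] [Finite X] {p : ℕ} [hp : Fact p.Prime]

/-- In a `p`-constrained group, `O_p(X/O_{p'}(X))` contains its centralizer. -/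
theorem centralizer_pCore_quotient_le (hX : Cfsg.IsPConstrained p X) :
    centralizer (Cfsg.pCore p (X ⧸ Cfsg.pPrimeCore p X) : Set (X ⧸ Cfsg.pPrimeCore p X)) ≤
      Cfsg.pCore p (X ⧸ Cfsg.pPrimeCore p X) :=
  Cfsg.Agent.Helper7.layer_quotient_eq_bot_iff.mp
    (Cfsg.Agent.Helper7.pLayer_eq_bot_iff.mp (Cfsg.Agent.Helper7.isPConstrained_iff.mp hX))

theorem le_pPrimeCore_of_map_eq_bot {K : Subgroup X}
    (h : K.map (QuotientGroup.mk' (Cfsg.pPrimeCore p X)) = ⊥) : K ≤ Cfsg.pPrimeCore p X := by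
  have := (Subgroup.map_eq_bot_iff K).mp h
  rwa [QuotientGroup.ker_mk'] at this

theorem coprime_card_map {Z : Type*} [Group Z] (f : X →* Z) {K : Subgroup X}
    (hK : (Nat.card K).Coprime p) : (Nat.card (K.map f)).Coprime p :=
  Nat.Coprime.coprime_dvd_left (Subgroup.card_map_dvd K f) hK

theorem map_le_normalizer_map {Z : Type*} [Group Z] (f : X →* Z) {A K : Subgroup X}
    (hAK : A ≤ normalizer (K : Set X)) : A.map f ≤ normalizer ((K.map f : Subgroup Z) : Set Z) :=
  (Subgroup.map_mono hAK).trans (le_normalizer_map f)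

/-- **S1302 (general form)**: `p` odd, `X` `p`-constrained, `A` a `p`-subgroup containing every
element of order `p` of its centralizer.  Every `A`-invariant `p'`-subgroup lies in `O_{p'}(X)`. -/
theorem le_pPrimeCore_of_omega (hp2 : p ≠ 2) (hX : Cfsg.IsPConstrained p X)
    (A K : Subgroup X) (hA : IsPGroup p A)
    (hΩ : ∀ x ∈ centralizer (A : Set X), orderOf x = p → x ∈ A)
    (hK : (Nat.card K).Coprime p) (hAK : A ≤ normalizer (K : Set X)) :
    K ≤ Cfsg.pPrimeCore p X := by
  set N₀ : Subgroup X := Cfsg.pPrimeCore p X with hN₀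
  set π : X →* X ⧸ N₀ := QuotientGroup.mk' N₀ with hπ
  have hπs : Function.Surjective π := QuotientGroup.mk'_surjective N₀
  have hN₀c : (Nat.card N₀).Coprime p := Cfsg.Agent.Helper19.pPrimeCore_coprime p
  apply le_pPrimeCore_of_map_eq_bot
  refine pprime_eq_bot_of_omega hp2 (Cfsg.pCore p (X ⧸ N₀)) (Cfsg.Agent.Helper14.pCore_isPGroup p)
    (centralizer_pCore_quotient_le hX) (A.map π) (K.map π) (hA.map π) ?_
    (coprime_card_map π hK) (map_le_normalizer_map π hAK)
  -- transfer of the hypothesis on elements of order `p`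
  intro xbar hxbar hord
  obtain ⟨x, rfl⟩ := hπs xbar
  have hcopAN : (Nat.card A).Coprime (Nat.card N₀) := by
    obtain ⟨m, hm⟩ := IsPGroup.iff_card.mp hA
    rw [hm]; exact (hN₀c.pow_right m).symm
  have hfix : ∀ a ∈ A, a * x * a⁻¹ * x⁻¹ ∈ N₀ := by
    intro a ha
    rw [← QuotientGroup.ker_mk' N₀, MonoidHom.mem_ker]
    have := (mem_centralizer_iff.mp hxbar) (π a) (mem_map_of_mem π ha)
    simp only [map_mul, map_inv]
    rw [← hπ, this]; group
  have hNA : A ≤ normalizer (N₀ : Set X) := by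
    rw [normalizer_eq_top]; exact le_top
  obtain ⟨c, hcC, hcx⟩ := coprime_invariant_coset_fixed A N₀ hNA hcopAN
    (Or.inl (isSolvable_of_isPGroup hA)) x hfix
  have hπc : π c = π x := by
    have : π (c * x⁻¹) = 1 := by
      rw [← MonoidHom.mem_ker, hπ, QuotientGroup.ker_mk']; exact hcx
    rw [map_mul, map_inv, mul_inv_eq_one] at this
    exact this
  -- the order of `c ^ p` is prime to `p`
  have hcp : c ^ p ∈ N₀ := by
    rw [← QuotientGroup.ker_mk' N₀, MonoidHom.mem_ker, map_pow, ← hπ, hπc]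
    have := pow_orderOf_eq_one (π x)
    rwa [hord] at this
  set n := orderOf (c ^ p) with hn
  have hncop : n.Coprime p := by
    have h1 : n ∣ Nat.card N₀ := by
      have := orderOf_dvd_natCard (⟨c ^ p, hcp⟩ : N₀)
      rwa [Subgroup.orderOf_mk] at this
    exact Nat.Coprime.coprime_dvd_left h1 hN₀c
  obtain ⟨t, ht⟩ := Nat.exists_mul_mod_eq_one_of_coprime hncop hp.out.one_lt
  set c' := c ^ (n * t) with hc'
  have hc'p : c' ^ p = 1 := by
    rw [hc', ← pow_mul, mul_comm (n * t) p, pow_mul, pow_mul, hn, pow_orderOf_eq_one, one_pow]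
  have hπc' : π c' = π x := by
    rw [hc', map_pow, hπc]
    have h1 : (π x) ^ (n * t) = (π x) ^ (n * t % orderOf (π x)) := (pow_mod_orderOf _ _).symm
    rw [h1, hord, ht.2, pow_one]
  have hc'1 : c' ≠ 1 := by
    intro h
    rw [h, map_one] at hπc'
    rw [← hπc', orderOf_one] at hord
    exact hp.out.one_lt.ne hord
  have hc'C : c' ∈ centralizer (A : Set X) := (centralizer (A : Set X)).pow_mem hcC _
  have hc'A : c' ∈ A := hΩ c' hc'C (orderOf_eq_prime hc'p hc'1)
  rw [← hπc']
  exact mem_map_of_mem π hc'A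

/-- **SCN form** (any `p`): `X` `p`-constrained, `P` a Sylow `p`-subgroup, `E ≤ P` abelian, normal in
`P` with `C_P(E) ≤ E`.  Every `E`-invariant `p'`-subgroup lies in `O_{p'}(X)`. -/
theorem le_pPrimeCore_of_scn (hX : Cfsg.IsPConstrained p X) (P : Sylow p X)
    (E K : Subgroup X) (hEP : E ≤ P) (hEab : ∀ a ∈ E, ∀ b ∈ E, a * b = b * a)
    (hPE : (P : Subgroup X) ≤ normalizer (E : Set X))
    (hCE : (P : Subgroup X) ⊓ centralizer (E : Set X) ≤ E)
    (hK : (Nat.card K).Coprime p) (hEK : E ≤ normalizer (K : Set X)) :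
    K ≤ Cfsg.pPrimeCore p X := by
  set N₀ : Subgroup X := Cfsg.pPrimeCore p X with hN₀
  set π : X →* X ⧸ N₀ := QuotientGroup.mk' N₀ with hπ
  have hπs : Function.Surjective π := QuotientGroup.mk'_surjective N₀
  have hN₀c : (Nat.card N₀).Coprime p := Cfsg.Agent.Helper19.pPrimeCore_coprime p
  have hEp : IsPGroup p E := P.isPGroup'.to_le hEP
  set R : Subgroup (X ⧸ N₀) := Cfsg.pCore p (X ⧸ N₀) with hR
  have hRp : IsPGroup p R := Cfsg.Agent.Helper14.pCore_isPGroup p
  have hRP : R ≤ (P : Subgroup X).map π := by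
    have := le_sylow_of_normal_isPGroup (P.mapSurjective hπs) R hRp
    rwa [Sylow.coe_mapSurjective] at this
  apply le_pPrimeCore_of_map_eq_bot
  refine pprime_eq_bot_of_scn R hRp (centralizer_pCore_quotient_le hX) (E.map π) (K.map π)
    (hEp.map π) ?_ ?_ ?_ (coprime_card_map π hK) (map_le_normalizer_map π hEK)
  · rintro _ ⟨a, ha, rfl⟩ _ ⟨b, hb, rfl⟩
    rw [← map_mul, ← map_mul, hEab a ha b hb]
  · exact hRP.trans (map_le_normalizer_map π hPE)
  · rintro xbar ⟨hxR, hxC⟩
    obtain ⟨x, hxP, rfl⟩ := hRP hxR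
    have hxE : x ∈ centralizer (E : Set X) := by
      rw [mem_centralizer_iff]
      intro e he
      have h1 : e * x * e⁻¹ * x⁻¹ ∈ N₀ := by
        rw [← QuotientGroup.ker_mk' N₀, MonoidHom.mem_ker]
        have := (mem_centralizer_iff.mp hxC) (π e) (mem_map_of_mem π he)
        simp only [map_mul, map_inv]
        rw [← hπ, this]; group
      have h2 : e * x * e⁻¹ * x⁻¹ ∈ (P : Subgroup X) :=
        mul_mem (mul_mem (mul_mem (hEP he) hxP) (inv_mem (hEP he))) (inv_mem hxP)
      have h3 := eq_one_of_mem_of_mem P.isPGroup' hN₀c h2 h1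
      calc e * x = (e * x * e⁻¹ * x⁻¹) * (x * e) := by group
        _ = x * e := by rw [h3, one_mul]
    exact mem_map_of_mem π (hCE ⟨hxP, hxE⟩)

end Cfsg.Agent.Lead.TT
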