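import Mathlib
import Cfsg.Agent.Lead.GenCent
import Cfsg.Agent.Lead.Coprime3
import Cfsg.Agent.Lead.CoprimeSylow2
import Cfsg.Agent.Lead.PiHall2

set_option autoImplicit false
open Pointwise

/-! Coprime action of an abelian group `A` on `G`: `G = ⟨C_G(B) : A/B cyclic⟩` and
`[G,A] = ⟨[C_G(B),A] : A/B cyclic⟩`. -/

namespace Cfsg.Agent.Lead

open Subgroup
open scoped IsMulCommutative commutatorElement

universe u

/-- Subgroups `B ≤ A` with `A/B` cyclic, in the form `A = ⟨B, a⟩`. -/
def cycQuot {X : Type u} [Group X] (A : Subgroup X) : Set (Subgroup X) :=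
  {B : Subgroup X | B ≤ A ∧ ∃ a ∈ A, B ⊔ zpowers a = A}

theorem le_centralizer_zpowers_of_commute {X : Type u} [Group X] {a b : X} (h : b * a = a * b) :
    b ∈ centralizer ((zpowers a : Subgroup X) : Set X) := by
  rw [mem_centralizer_iff]
  rintro y ⟨k, rfl⟩
  have hc : Commute b a := h
  exact ((hc.zpow_right k).eq).symm

theorem conj_mem_centralizer_singleton {X : Type u} [Group X] {a b x : X} (hab : b * a = a * b)
    (hx : x ∈ centralizer ({a} : Set X)) : b * x * b⁻¹ ∈ centralizer ({a} : Set X) := by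
  rw [mem_centralizer_singleton_iff] at hx ⊢
  have h1 : b⁻¹ * a = a * b⁻¹ := by
    have : b⁻¹ * a * b = a := by rw [mul_assoc, hab.symm, ← mul_assoc, inv_mul_cancel, one_mul]
    calc b⁻¹ * a = b⁻¹ * a * b * b⁻¹ := by group
      _ = a * b⁻¹ := by rw [this]
  calc b * x * b⁻¹ * a = b * x * (b⁻¹ * a) := by group
    _ = b * (x * a) * b⁻¹ := by rw [h1]; group
    _ = b * a * x * b⁻¹ := by rw [hx]; group
    _ = a * (b * x * b⁻¹) := by rw [hab]; group

/-- Induction step for `G = ⟨C_G(B) : A/B cyclic⟩`. -/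
theorem gen_cycQuot_step {X : Type u} [Group X] [Finite X] (A G : Subgroup X)
    [hAc : IsMulCommutative A] (hAG : A ≤ normalizer (G : Set X))
    (hcop : (Nat.card A).Coprime (Nat.card G))
    (ih : ∀ (Y : Type u) [Group Y] [Finite Y] (A' G' : Subgroup Y) [IsMulCommutative A'],
      Nat.card A' < Nat.card A → A' ≤ normalizer (G' : Set Y) →
      (Nat.card A').Coprime (Nat.card G') →
      G' ≤ ⨆ B ∈ cycQuot A', G' ⊓ centralizer (B : Set Y))
    (a : X) (haA : a ∈ A) (ha1 : a ≠ 1) :
    G ⊓ centralizer {a} ≤ ⨆ B ∈ cycQuot A, G ⊓ centralizer (B : Set X) := by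
  have hcomm : ∀ b ∈ A, ∀ c ∈ A, b * c = c * b := by
    intro b hb c hc
    exact congrArg Subtype.val (mul_comm (⟨b, hb⟩ : A) ⟨c, hc⟩)
  set N : Subgroup X := zpowers a with hN
  have hNA : N ≤ A := zpowers_le.mpr haA
  have hAN : A ≤ normalizer (N : Set X) := fun b hb =>
    centralizer_le_normalizer _ (le_centralizer_zpowers_of_commute (hcomm b hb a haA))
  set H : Subgroup X := G ⊓ centralizer {a} with hH
  have hHN : H ≤ normalizer (N : Set X) := by
    intro h hh
    apply centralizer_le_normalizer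
    apply le_centralizer_zpowers_of_commute
    have h5 : h ∈ centralizer ({a} : Set X) := hh.2
    rw [mem_centralizer_singleton_iff] at h5
    exact h5
  have hAH : A ≤ normalizer (H : Set X) := by
    apply le_normalizer_inf' hAG
    intro b hb
    have hba := hcomm b hb a haA
    have hba' : b⁻¹ * a = a * b⁻¹ := hcomm b⁻¹ (A.inv_mem hb) a haA
    rw [mem_normalizer_iff]
    intro x
    constructor
    · exact conj_mem_centralizer_singleton hba
    · intro hx
      have := conj_mem_centralizer_singleton hba' hx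
      have e : b⁻¹ * (b * x * b⁻¹) * b⁻¹⁻¹ = x := by group
      rwa [e] at this
  have hNG : N ⊓ G = ⊥ :=
    (disjoint_of_coprime_natCard (hcop.coprime_dvd_left (card_dvd_of_le hNA))).eq_bot
  -- the quotient situation
  have hAbar : IsMulCommutative (bar N A) := by
    refine ⟨⟨fun x y => ?_⟩⟩
    obtain ⟨x', hx', hxe⟩ := x.2
    obtain ⟨y', hy', hye⟩ := y.2
    apply Subtype.ext
    change (x : RelQ N) * y = y * x
    rw [← hxe, ← hye, ← map_mul, ← map_mul]
    congr 1
    exact Subtype.ext (hcomm _ hx' _ hy')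
  have hcardlt : Nat.card (bar N A) < Nat.card A := by
    have h1 := card_bar_mul N hAN hNA
    have h2 : 1 < Nat.card N := by
      rw [Nat.card_zpowers]
      have h3 : orderOf a ≠ 1 := by rwa [Ne, orderOf_eq_one_iff]
      have h4 := orderOf_pos a
      omega
    have h3 : 0 < Nat.card (bar N A) := Nat.card_pos
    nlinarith
  have hnorm : bar N A ≤ normalizer (bar N H : Set (RelQ N)) := bar_le_normalizer_bar N hAH
  have hcopbar : (Nat.card (bar N A)).Coprime (Nat.card (bar N H)) :=
    (hcop.coprime_dvd_left (card_bar_dvd N A)).coprime_dvd_right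
      ((card_bar_dvd N H).trans (card_dvd_of_le inf_le_left))
  have hih := ih (RelQ N) (bar N A) (bar N H) hcardlt hnorm hcopbar
  set JH : Subgroup X := ⨆ B ∈ cycQuot A, H ⊓ centralizer (B : Set X) with hJH
  have hJHH : JH ≤ H := iSup₂_le fun B _ => inf_le_left
  -- each term of the quotient supremum lies in the image of `JH`
  have hterm : ∀ T ∈ cycQuot (bar N A), bar N H ⊓ centralizer (T : Set (RelQ N)) ≤ bar N JH := by
    rintro T ⟨hTA, t, htA, hTt⟩
    set B : Subgroup X := lift N T with hB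
    have hBA : B ≤ A := by
      have := lift_mono N hTA
      rwa [lift_bar_eq N hAN hNA] at this
    have hNB : N ≤ B := le_lift N T
    obtain ⟨t', ht'A, rfl⟩ := htA
    have ht'A' : (t' : X) ∈ A := ht'A
    have hBmem : B ∈ cycQuot A := by
      refine ⟨hBA, (t' : X), ht'A', le_antisymm (sup_le hBA (zpowers_le.mpr ht'A')) ?_⟩
      have h1 : bar N A ≤ bar N (B ⊔ zpowers (t' : X)) := by
        rw [← hTt]
        apply sup_le
        · have := bar_mono N (le_sup_left : B ≤ B ⊔ zpowers (t' : X))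
          rwa [hB, bar_lift_eq] at this
        · rw [zpowers_le]
          exact ⟨t', mem_sup_right (mem_zpowers _), rfl⟩
      have h2 := (le_lift_bar N hAN).trans (lift_mono N h1)
      rwa [lift_bar_eq N ((sup_le hBA (zpowers_le.mpr ht'A')).trans hAN)
        (hNB.trans le_sup_left)] at h2
    rintro w ⟨hwH, hwT⟩
    obtain ⟨h, hh, rfl⟩ := hwH
    have hhH : (h : X) ∈ H := hh
    refine ⟨h, ?_, rfl⟩
    change (h : X) ∈ JH
    refine (le_iSup₂_of_le B hBmem le_rfl : H ⊓ centralizer (B : Set X) ≤ JH) ⟨hhH, ?_⟩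
    change (h : X) ∈ centralizer (B : Set X)
    rw [mem_centralizer_iff]
    intro b hb
    obtain ⟨hbN, hbT⟩ := (mem_lift_iff N T b).mp hb
    have hwT' : relMk N h ∈ centralizer (T : Set (RelQ N)) := hwT
    rw [mem_centralizer_iff] at hwT'
    have h1 := hwT' _ hbT
    have h2 := (relMk_commute_iff N ⟨b, hbN⟩ h).mp h1
    have h3 : b * (h : X) * b⁻¹ * (h : X)⁻¹ ∈ G := by
      have hbA : b ∈ A := hBA hb
      have := (mem_normalizer_iff.mp (hAG hbA) (h : X)).mp hhH.1
      exact G.mul_mem this (G.inv_mem hhH.1)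
    have h4 : b * (h : X) * b⁻¹ * (h : X)⁻¹ ∈ N ⊓ G := ⟨h2, h3⟩
    rw [hNG, mem_bot] at h4
    calc b * (h : X) = b * (h : X) * b⁻¹ * (h : X)⁻¹ * (h : X) * b := by group
      _ = (h : X) * b := by rw [h4, one_mul]
  have hbarle : bar N H ≤ bar N JH := hih.trans (iSup₂_le hterm)
  have hHJH : H ≤ JH := by
    intro h hh
    have h1 : relMk N ⟨h, hHN hh⟩ ∈ bar N JH := hbarle ⟨⟨h, hHN hh⟩, hh, rfl⟩
    obtain ⟨j, hj, hje⟩ := h1
    have hjJ : (j : X) ∈ JH := hj
    have h2 : j⁻¹ * ⟨h, hHN hh⟩ ∈ (relMk N).ker := by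
      rw [MonoidHom.mem_ker, map_mul, map_inv, hje, inv_mul_cancel]
    rw [ker_relMk, mem_subgroupOf] at h2
    have h3 : (j : X)⁻¹ * h ∈ N ⊓ G :=
      ⟨h2, G.mul_mem (G.inv_mem (hJHH hjJ).1) hh.1⟩
    rw [hNG, mem_bot] at h3
    have h4 : h = (j : X) := by
      calc h = (j : X) * ((j : X)⁻¹ * h) := by group
        _ = (j : X) := by rw [h3, mul_one]
    rw [h4]; exact hjJ
  exact hHJH.trans (iSup₂_mono fun B _ => inf_le_inf_right _ inf_le_left)

theorem gen_cycQuot_aux (n : ℕ) : ∀ {X : Type u} [Group X] [Finite X] (A G : Subgroup X)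
    [IsMulCommutative A], Nat.card A = n → A ≤ normalizer (G : Set X) →
    (Nat.card A).Coprime (Nat.card G) →
    G ≤ ⨆ B ∈ cycQuot A, G ⊓ centralizer (B : Set X) := by
  induction n using Nat.strong_induction_on with
  | _ n ih =>
    intro X _ _ A G _ hn hAG hcop
    by_cases hcyc : IsCyclic A
    · obtain ⟨g, hg⟩ := hcyc.exists_generator
      have hmem : (⊥ : Subgroup X) ∈ cycQuot A := by
        refine ⟨bot_le, (g : X), g.2, ?_⟩
        rw [bot_sup_eq]
        apply le_antisymm (zpowers_le.mpr g.2)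
        intro x hx
        obtain ⟨k, hk⟩ := hg ⟨x, hx⟩
        refine ⟨k, ?_⟩
        have := congrArg Subtype.val hk
        simpa using this
      refine le_iSup₂_of_le ⊥ hmem ?_
      intro x hx
      refine ⟨hx, ?_⟩
      change x ∈ centralizer (((⊥ : Subgroup X)) : Set X)
      rw [mem_centralizer_iff]
      intro y hy
      have : y = 1 := mem_bot.mp hy
      rw [this, one_mul, mul_one]
    · have h58 := generated_by_centralizers A G hcyc hAG hcop
      conv_lhs => rw [← h58]
      refine iSup₂_le ?_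
      rintro a ⟨haA, ha1⟩
      refine gen_cycQuot_step A G hAG hcop ?_ a haA ha1
      intro Y _ _ A' G' _ hlt hA'G' hcop'
      exact ih (Nat.card A') (hn ▸ hlt) A' G' rfl hA'G' hcop'

/-- Coprime action of an abelian group: `G = ⟨C_G(B) : A/B cyclic⟩`. -/
theorem gen_cycQuot {X : Type u} [Group X] [Finite X] (A G : Subgroup X) [IsMulCommutative A]
    (hAG : A ≤ normalizer (G : Set X)) (hcop : (Nat.card A).Coprime (Nat.card G)) :
    (⨆ B ∈ cycQuot A, G ⊓ centralizer (B : Set X)) = G :=
  le_antisymm (iSup₂_le fun _ _ => inf_le_left) (gen_cycQuot_aux _ A G rfl hAG hcop)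

section
variable {X : Type u} [Group X]

/-- If `D` normalizes each `S i` then it normalizes `⨆ i, S i`. -/
theorem le_normalizer_iSup' {ι : Sort*} {D : Subgroup X} {S : ι → Subgroup X}
    (h : ∀ i, D ≤ normalizer (S i : Set X)) :
    D ≤ normalizer ((⨆ i, S i : Subgroup X) : Set X) := by
  have key : ∀ d ∈ D, ∀ x ∈ ⨆ i, S i, d * x * d⁻¹ ∈ ⨆ i, S i := by
    intro d hd
    have : (⨆ i, S i) ≤ (⨆ i, S i).comap (MulAut.conj d).toMonoidHom := by
      refine iSup_le fun i => ?_
      intro x hx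
      rw [mem_comap]
      change d * x * d⁻¹ ∈ ⨆ i, S i
      exact (le_iSup S i) ((mem_normalizer_iff.mp (h i hd) x).mp hx)
    intro x hx
    exact this hx
  intro d hd
  rw [mem_normalizer_iff]
  intro x
  constructor
  · exact key d hd x
  · intro hx
    have := key d⁻¹ (D.inv_mem hd) _ hx
    have e : d⁻¹ * (d * x * d⁻¹) * d⁻¹⁻¹ = x := by group
    rwa [e] at this

/-- If `L ≤ M D` with `M` normalized by `A` and `D`, and `D` centralizing `A`,
then `[L, A] ≤ M`. -/
theorem commutator_le_of_le_sup_centralizer {M D A L : Subgroup X}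
    (hMA : A ≤ normalizer (M : Set X)) (hDM : D ≤ normalizer (M : Set X))
    (hDA : D ≤ centralizer (A : Set X)) (hL : L ≤ M ⊔ D) : ⁅L, A⁆ ≤ M := by
  let T : Subgroup X :=
    { carrier := {l | l ∈ normalizer (M : Set X) ∧ ∀ a ∈ A, ⁅l, a⁆ ∈ M}
      one_mem' := by
        refine ⟨one_mem _, fun a _ => ?_⟩
        rw [commutatorElement_one_left]
        exact M.one_mem
      mul_mem' := by
        rintro l₁ l₂ ⟨h1, h1'⟩ ⟨h2, h2'⟩
        refine ⟨mul_mem h1 h2, fun a ha => ?_⟩
        have e : ⁅l₁ * l₂, a⁆ = l₁ * ⁅l₂, a⁆ * l₁⁻¹ * ⁅l₁, a⁆ := by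
          simp only [commutatorElement_def]; group
        rw [e]
        exact M.mul_mem ((mem_normalizer_iff.mp h1 _).mp (h2' a ha)) (h1' a ha)
      inv_mem' := by
        rintro l ⟨h1, h1'⟩
        refine ⟨inv_mem h1, fun a ha => ?_⟩
        have e : ⁅l⁻¹, a⁆ = l⁻¹ * ⁅l, a⁆⁻¹ * l⁻¹⁻¹ := by
          simp only [commutatorElement_def]; group
        rw [e]
        exact (mem_normalizer_iff.mp (inv_mem h1) _).mp (M.inv_mem (h1' a ha)) }
  have hMT : M ≤ T := by
    intro m hm
    refine ⟨le_normalizer hm, fun a ha => ?_⟩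
    have e : ⁅m, a⁆ = m * (a * m⁻¹ * a⁻¹) := by
      simp only [commutatorElement_def]; group
    rw [e]
    exact M.mul_mem hm ((mem_normalizer_iff.mp (hMA ha) _).mp (M.inv_mem hm))
  have hDT : D ≤ T := by
    intro d hd
    refine ⟨hDM hd, fun a ha => ?_⟩
    have h1 := hDA hd
    rw [mem_centralizer_iff] at h1
    have e : ⁅d, a⁆ = 1 := by
      rw [commutatorElement_def, ← h1 a ha]; group
    rw [e]
    exact M.one_mem
  rw [commutator_le]
  intro l hl a ha
  exact ((hL.trans (sup_le hMT hDT)) hl).2 a ha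

end

/-- Coprime action of an abelian group: `[G,A] = ⟨[C_G(B),A] : A/B cyclic⟩`. -/
theorem gen_cycQuot_commutator {X : Type u} [Group X] [Finite X] (A G : Subgroup X)
    [IsMulCommutative A] (hAG : A ≤ normalizer (G : Set X))
    (hcop : (Nat.card A).Coprime (Nat.card G)) :
    (⨆ B ∈ cycQuot A, ⁅G ⊓ centralizer (B : Set X), A⁆) = ⁅G, A⁆ := by
  apply le_antisymm (iSup₂_le fun B _ => commutator_mono inf_le_left le_rfl)
  have hcomm : ∀ b ∈ A, ∀ c ∈ A, b * c = c * b := by
    intro b hb c hc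
    exact congrArg Subtype.val (mul_comm (⟨b, hb⟩ : A) ⟨c, hc⟩)
  have hsolv : Group.IsSolvable A ∨ Group.IsSolvable G :=
    Or.inl (isSolvable_of_isMulCommutative A)
  set L : Subgroup X := ⁅G, A⁆ with hL
  have hLG : L ≤ G := commutator_le_of_le_normalizer hAG
  have hAL : A ≤ normalizer (L : Set X) := le_normalizer_commutator_right G A
  have hcopL : (Nat.card A).Coprime (Nat.card L) :=
    hcop.coprime_dvd_right (card_dvd_of_le hLG)
  have hLL : ⁅L, A⁆ = L := coprime_commutator_commutator A G hAG hcop hsolv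
  have h1 := gen_cycQuot A L hAL hcopL
  set ML : Subgroup X := ⨆ B ∈ cycQuot A, ⁅L ⊓ centralizer (B : Set X), A⁆ with hML
  set D : Subgroup X := L ⊓ centralizer (A : Set X) with hD
  have hML_le : ML ≤ ⨆ B ∈ cycQuot A, ⁅G ⊓ centralizer (B : Set X), A⁆ :=
    iSup₂_mono fun B _ => commutator_mono (inf_le_inf_right _ hLG) le_rfl
  have hA_ML : A ≤ normalizer (ML : Set X) :=
    le_normalizer_iSup' fun B => le_normalizer_iSup' fun _ =>
      le_normalizer_commutator_right _ A
  have hD_ML : D ≤ normalizer (ML : Set X) :=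
    le_normalizer_iSup' fun B => le_normalizer_iSup' fun hB =>
      (inf_le_inf_left L (centralizer_le (SetLike.coe_subset_coe.mpr hB.1))).trans
        (le_normalizer_commutator_left _ A)
  have hL_le : L ≤ ML ⊔ D := by
    conv_lhs => rw [← h1]
    refine iSup₂_le fun B hB => ?_
    have hAB : A ≤ normalizer ((centralizer (B : Set X) : Subgroup X) : Set X) := by
      refine le_trans ?_ (normalizer_le_normalizer_centralizer B)
      refine le_trans ?_ (centralizer_le_normalizer (B : Set X))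
      intro a ha
      rw [mem_centralizer_iff]
      intro b hb
      exact hcomm b (hB.1 hb) a ha
    have hALB : A ≤ normalizer ((L ⊓ centralizer (B : Set X) : Subgroup X) : Set X) :=
      le_normalizer_inf' hAL hAB
    have hcopLB : (Nat.card A).Coprime (Nat.card (L ⊓ centralizer (B : Set X) : Subgroup X)) :=
      hcopL.coprime_dvd_right (card_dvd_of_le inf_le_left)
    have h2 := coprime_commutator_sup_centralizer A (L ⊓ centralizer (B : Set X)) hALB hcopLB
      (Or.inl (isSolvable_of_isMulCommutative A))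
    rw [← h2]
    exact sup_le_sup (le_iSup₂_of_le B hB le_rfl) (inf_le_inf_right _ inf_le_left)
  have h3 : ⁅L, A⁆ ≤ ML :=
    commutator_le_of_le_sup_centralizer hA_ML hD_ML inf_le_right hL_le
  rw [hLL] at h3
  exact h3.trans hML_le

end Cfsg.Agent.Lead
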