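import Mathlib
import Cfsg.Agent.Lead.TT2
import Cfsg.Agent.Lead.CoprimeSylow2
import Cfsg.Agent.Lead.GenCent2
import Cfsg.Agent.Helper7.Hyperplane
import Cfsg.Agent.Helper11.SylowInter
import Cfsg.Agent.Helper17.Basic

set_option autoImplicit false
set_option linter.unusedSectionVars false

/-! # Thompson's transitivity theorem, abstract form -/

namespace Cfsg.Agent.Lead.TT

open Subgroup
open scoped Pointwise

variable {G : Type*} [Group G]

/-- `Q` is a maximal `E`-invariant `q`-subgroup. -/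
def IsMaxInv (q : ℕ) (E Q : Subgroup G) : Prop :=
  IsPGroup q Q ∧ E ≤ normalizer (Q : Set G) ∧
    ∀ R : Subgroup G, IsPGroup q R → E ≤ normalizer (R : Set G) → Q ≤ R → R = Q

theorem map_conj_map_conj (Q : Subgroup G) (a b : G) :
    (Q.map (MulAut.conj a).toMonoidHom).map (MulAut.conj b).toMonoidHom =
      Q.map (MulAut.conj (b * a)).toMonoidHom := by
  rw [Subgroup.map_map]
  congr 1
  ext x
  simp [mul_assoc]

theorem map_conj_one (Q : Subgroup G) : Q.map (MulAut.conj (1 : G)).toMonoidHom = Q := by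
  ext x
  simp

theorem le_normalizer_sup' {A X Y : Subgroup G} (hX : A ≤ normalizer (X : Set G))
    (hY : A ≤ normalizer (Y : Set G)) : A ≤ normalizer ((X ⊔ Y : Subgroup G) : Set G) := by
  intro a ha
  rw [mem_normalizer_iff_map_conj_eq, Subgroup.map_sup,
    (mem_normalizer_iff_map_conj_eq).mp (hX ha), (mem_normalizer_iff_map_conj_eq).mp (hY ha)]

theorem le_normalizer_normalizer {A D : Subgroup G} (h : A ≤ normalizer (D : Set G)) :
    A ≤ normalizer ((normalizer (D : Set G) : Subgroup G) : Set G) :=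
  h.trans le_normalizer

theorem le_normalizer_centralizer_singleton {E : Subgroup G} {a : G}
    (h : ∀ e ∈ E, e * a = a * e) : E ≤ normalizer ((centralizer ({a} : Set G) : Subgroup G) : Set G) := by
  intro e he
  rw [mem_normalizer_iff]
  intro x
  constructor
  · intro hx
    exact conj_mem_centralizer_singleton (h e he) hx
  · intro hx
    have he' : e⁻¹ * a = a * e⁻¹ := by
      have := h e he
      calc e⁻¹ * a = e⁻¹ * (a * e) * e⁻¹ := by group
        _ = e⁻¹ * (e * a) * e⁻¹ := by rw [this]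
        _ = a * e⁻¹ := by group
    have := conj_mem_centralizer_singleton he' hx
    have e2 : e⁻¹ * (e * x * e⁻¹) * e⁻¹⁻¹ = x := by group
    rwa [e2] at this

theorem IsMaxInv.map_conj {q : ℕ} {E Q : Subgroup G} (h : IsMaxInv q E Q) {c : G}
    (hc : c ∈ centralizer (E : Set G)) : IsMaxInv q E (Q.map (MulAut.conj c).toMonoidHom) := by
  have hinv : ∀ (R : Subgroup G) (d : G), d ∈ centralizer (E : Set G) → E ≤ normalizer (R : Set G) →
      E ≤ normalizer ((R.map (MulAut.conj d).toMonoidHom : Subgroup G) : Set G) := by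
    intro R d hd hR e he
    have h1 : (MulAut.conj d) e = e := by
      rw [MulAut.conj_apply, ← (mem_centralizer_iff.mp hd) e he]; group
    have h2 := Subgroup.map_equiv_normalizer_eq R (MulAut.conj d)
    have h3 : e ∈ (normalizer (R : Set G)).map (MulAut.conj d).toMonoidHom :=
      ⟨e, hR he, h1⟩
    rw [h2] at h3
    exact h3
  refine ⟨h.1.map _, hinv Q c hc h.2.1, ?_⟩
  intro R hRq hER hle
  have hc' : c⁻¹ ∈ centralizer (E : Set G) := inv_mem hc
  have h1 : Q ≤ R.map (MulAut.conj c⁻¹).toMonoidHom := by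
    have := Subgroup.map_mono (f := (MulAut.conj c⁻¹).toMonoidHom) hle
    rwa [map_conj_map_conj, inv_mul_cancel, map_conj_one] at this
  have h2 := h.2.2 _ (hRq.map _) (hinv R c⁻¹ hc' hER) h1
  have h3 := congrArg (fun S : Subgroup G => S.map (MulAut.conj c).toMonoidHom) h2
  simp only [map_conj_map_conj, mul_inv_cancel, map_conj_one] at h3
  exact h3

theorem exists_isMaxInv_ge [Finite G] {q : ℕ} (E T : Subgroup G) (hT : IsPGroup q T)
    (hET : E ≤ normalizer (T : Set G)) : ∃ Q : Subgroup G, T ≤ Q ∧ IsMaxInv q E Q := by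
  let 𝒮 : Set (Subgroup G) := {R | T ≤ R ∧ IsPGroup q R ∧ E ≤ normalizer (R : Set G)}
  obtain ⟨Q, ⟨hTQ, hQq, hEQ⟩, hmax⟩ :=
    Set.exists_max_image 𝒮 (fun R => Nat.card R) (Set.toFinite _) ⟨T, le_rfl, hT, hET⟩
  refine ⟨Q, hTQ, hQq, hEQ, ?_⟩
  intro R hRq hER hle
  have := hmax R ⟨hTQ.trans hle, hRq, hER⟩
  exact (eq_of_le_of_card_ge hle this).symm

theorem coprime_card_of_isPGroup {p q : ℕ} [hp : Fact p.Prime] [hq : Fact q.Prime] (hqp : q ≠ p)
    [Finite G] {R : Subgroup G} (hR : IsPGroup q R) : (Nat.card R).Coprime p := by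
  obtain ⟨k, hk⟩ := IsPGroup.iff_card.mp hR
  rw [hk]
  exact Nat.Coprime.pow_left _ ((Nat.coprime_primes hq.out hp.out).mpr hqp)

/-- rank at least three: two invariant `p'`-subgroups not contained in `D` have a common element
`a ≠ 1` of `F` whose centralizers in them are not contained in `D`. -/
theorem exists_common_centralizer [Finite G] {p : ℕ} [hp : Fact p.Prime]
    (F : Subgroup G) (hF : Cfsg.IsElementaryAbelian p F) (hFcard : p ^ 3 ≤ Nat.card F)
    (R₁ R₂ D : Subgroup G) (hR₁ : (Nat.card R₁).Coprime p) (hR₂ : (Nat.card R₂).Coprime p)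
    (hFR₁ : F ≤ normalizer (R₁ : Set G)) (hFR₂ : F ≤ normalizer (R₂ : Set G))
    (h1 : ¬ R₁ ≤ D) (h2 : ¬ R₂ ≤ D) :
    ∃ a ∈ F, a ≠ 1 ∧ ¬ (R₁ ⊓ centralizer ({a} : Set G) ≤ D) ∧
      ¬ (R₂ ⊓ centralizer ({a} : Set G) ≤ D) := by
  have key : ∀ R : Subgroup G, (Nat.card R).Coprime p → F ≤ normalizer (R : Set G) → ¬ R ≤ D →
      ∃ B : Subgroup G, B ≤ F ∧ B.relIndex F ≤ p ∧ ¬ (R ⊓ centralizer (B : Set G) ≤ D) := by
    intro R hR hFR hRD
    by_contra hcon
    push Not at hcon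
    apply hRD
    have hnd : ¬ p ∣ Nat.card R := fun h => by
      have := Nat.Coprime.eq_one_of_dvd hR.symm h
      exact hp.out.one_lt.ne' this
    rw [Cfsg.Agent.Helper7.eq_iSup_inf_centralizer_hyperplane p F R hF hnd hFR]
    exact iSup_le fun B => hcon B.1 B.2.1 B.2.2
  obtain ⟨B₁, hB₁F, hB₁i, hB₁⟩ := key R₁ hR₁ hFR₁ h1
  obtain ⟨B₂, hB₂F, hB₂i, hB₂⟩ := key R₂ hR₂ hFR₂ h2
  have hne : B₁ ⊓ B₂ ≠ ⊥ := by
    intro hbot
    have h3 : (B₁ ⊓ B₂).relIndex F ≤ p * p :=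
      (relIndex_inf_le).trans (Nat.mul_le_mul hB₁i hB₂i)
    have h4 := Cfsg.Agent.Helper7.card_mul_relIndex_of_le (inf_le_left.trans hB₁F : B₁ ⊓ B₂ ≤ F)
    rw [hbot, card_bot, one_mul] at h4
    rw [hbot, h4] at h3
    have : p * p < p ^ 3 := by
      have := hp.out.one_lt
      calc p * p = p * p * 1 := by ring
        _ < p * p * p := by
          apply Nat.mul_lt_mul_of_pos_left this
          positivity
        _ = p ^ 3 := by ring
    omega
  obtain ⟨a, ha, ha1⟩ : ∃ a ∈ B₁ ⊓ B₂, a ≠ 1 := by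
    by_contra hcon
    push Not at hcon
    exact hne ((eq_bot_iff_forall _).mpr hcon)
  refine ⟨a, hB₁F ha.1, ha1, ?_, ?_⟩
  · intro h
    apply hB₁
    refine le_trans (inf_le_inf_left _ ?_) h
    exact centralizer_le (Set.singleton_subset_iff.mpr ha.1)
  · intro h
    apply hB₂
    refine le_trans (inf_le_inf_left _ ?_) h
    exact centralizer_le (Set.singleton_subset_iff.mpr ha.2)

/-- **Thompson transitivity**, abstract form. -/
theorem transitivity_aux [Finite G] {p q : ℕ} [hp : Fact p.Prime] [hq : Fact q.Prime] (hqp : q ≠ p)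
    (E : Subgroup G) (hEp : IsPGroup p E) (hEab : ∀ a ∈ E, ∀ b ∈ E, a * b = b * a)
    (F : Subgroup G) (hFE : F ≤ E) (hF : Cfsg.IsElementaryAbelian p F)
    (hFcard : p ^ 3 ≤ Nat.card F)
    (hW : ∀ a ∈ E, a ≠ 1 → ∃ W : Subgroup G, (Nat.card W).Coprime p ∧
      E ≤ normalizer (W : Set G) ∧ ∀ K : Subgroup G, K ≤ centralizer ({a} : Set G) →
        E ≤ normalizer (K : Set G) → (Nat.card K).Coprime p → K ≤ W)
    (O : Subgroup G)
    (hO : ∀ Y : Subgroup G, (Nat.card Y).Coprime p → Y ≤ centralizer (E : Set G) → Y ≤ O) :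
    ∀ m : ℕ, ∀ Q₁ Q₂ : Subgroup G, IsMaxInv q E Q₁ → IsMaxInv q E Q₂ →
      Nat.card G - Nat.card (Q₁ ⊓ Q₂ : Subgroup G) = m →
      ∃ c ∈ O, Q₂ = Q₁.map (MulAut.conj c).toMonoidHom := by
  intro m
  induction m using Nat.strong_induction_on with
  | _ m ih =>
  intro Q₁ Q₂ h₁ h₂ hm
  by_cases h12 : Q₁ ≤ Q₂
  · have := h₁.2.2 Q₂ h₂.1 h₂.2.1 h12
    exact ⟨1, O.one_mem, by rw [map_conj_one, this]⟩
  by_cases h21 : Q₂ ≤ Q₁
  · have := h₂.2.2 Q₁ h₁.1 h₁.2.1 h21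
    exact ⟨1, O.one_mem, by rw [map_conj_one, this]⟩
  set D : Subgroup G := Q₁ ⊓ Q₂ with hD
  have hD1 : D < Q₁ := lt_of_le_of_ne inf_le_left (fun h => h12 (inf_eq_left.mp h))
  have hD2 : D < Q₂ := lt_of_le_of_ne inf_le_right (fun h => h21 (inf_eq_right.mp h))
  have hED : E ≤ normalizer (D : Set G) := le_normalizer_inf' h₁.2.1 h₂.2.1
  set R₁ : Subgroup G := Q₁ ⊓ normalizer (D : Set G) with hR₁
  set R₂ : Subgroup G := Q₂ ⊓ normalizer (D : Set G) with hR₂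
  have hDR₁ : D < R₁ := Cfsg.Agent.Helper11.lt_inf_normalizer Q₁ D h₁.1 hD1
  have hDR₂ : D < R₂ := Cfsg.Agent.Helper11.lt_inf_normalizer Q₂ D h₂.1 hD2
  have hER₁ : E ≤ normalizer (R₁ : Set G) :=
    le_normalizer_inf' h₁.2.1 (le_normalizer_normalizer hED)
  have hER₂ : E ≤ normalizer (R₂ : Set G) :=
    le_normalizer_inf' h₂.2.1 (le_normalizer_normalizer hED)
  have hR₁q : IsPGroup q R₁ := h₁.1.to_le inf_le_left
  have hR₂q : IsPGroup q R₂ := h₂.1.to_le inf_le_left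
  obtain ⟨a, haF, ha1, haR₁, haR₂⟩ := exists_common_centralizer F hF hFcard R₁ R₂ D
    (coprime_card_of_isPGroup hqp hR₁q) (coprime_card_of_isPGroup hqp hR₂q)
    (hFE.trans hER₁) (hFE.trans hER₂) (not_le_of_gt hDR₁) (not_le_of_gt hDR₂)
  have haE : a ∈ E := hFE haF
  have hEa : ∀ e ∈ E, e * a = a * e := fun e he => hEab e he a haE
  have hECa : E ≤ normalizer ((centralizer ({a} : Set G) : Subgroup G) : Set G) :=
    le_normalizer_centralizer_singleton hEa
  set T₁ : Subgroup G := R₁ ⊓ centralizer ({a} : Set G) with hT₁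
  set T₂ : Subgroup G := R₂ ⊓ centralizer ({a} : Set G) with hT₂
  have hET₁ : E ≤ normalizer (T₁ : Set G) := le_normalizer_inf' hER₁ hECa
  have hET₂ : E ≤ normalizer (T₂ : Set G) := le_normalizer_inf' hER₂ hECa
  have hT₁q : IsPGroup q T₁ := hR₁q.to_le inf_le_left
  have hT₂q : IsPGroup q T₂ := hR₂q.to_le inf_le_left
  obtain ⟨W, hWc, hEW, hWmax⟩ := hW a haE ha1
  have hT₁W : T₁ ≤ W := hWmax T₁ inf_le_right hET₁ (coprime_card_of_isPGroup hqp hT₁q)
  have hT₂W : T₂ ≤ W := hWmax T₂ inf_le_right hET₂ (coprime_card_of_isPGroup hqp hT₂q)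
  set K' : Subgroup G := W ⊓ normalizer (D : Set G) with hK'
  have hEK' : E ≤ normalizer (K' : Set G) := le_normalizer_inf' hEW (le_normalizer_normalizer hED)
  have hK'c : (Nat.card K').Coprime p :=
    Nat.Coprime.coprime_dvd_left (card_dvd_of_le inf_le_left) hWc
  have hT₁K' : T₁ ≤ K' := le_inf hT₁W (inf_le_left.trans inf_le_right)
  have hT₂K' : T₂ ≤ K' := le_inf hT₂W (inf_le_left.trans inf_le_right)
  set Y : Subgroup G := D ⊔ K' with hY
  have hDq : IsPGroup q D := h₁.1.to_le inf_le_left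
  have hYc : (Nat.card Y).Coprime p := by
    have h3 := Cfsg.Agent.Helper17.card_sup_mul_card_inf D K' inf_le_right
    have h4 : Nat.card Y ∣ Nat.card D * Nat.card K' := ⟨_, h3.symm⟩
    exact Nat.Coprime.coprime_dvd_left h4
      (Nat.Coprime.mul_left (coprime_card_of_isPGroup hqp hDq) hK'c)
  have hEY : E ≤ normalizer (Y : Set G) := le_normalizer_sup' hED hEK'
  have hcopEY : (Nat.card E).Coprime (Nat.card Y) := by
    obtain ⟨k, hk⟩ := IsPGroup.iff_card.mp hEp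
    rw [hk]; exact (hYc.pow_right k).symm
  have hsolv : Group.IsSolvable E ∨ Group.IsSolvable Y := Or.inl (isSolvable_of_isPGroup hEp)
  -- the invariant `q`-subgroups `D ⊔ T_i` of `Y`
  have hU : ∀ T : Subgroup G, IsPGroup q T → T ≤ K' → E ≤ normalizer (T : Set G) →
      ∃ P : Sylow q Y, D ⊔ T ≤ (P : Subgroup Y).map Y.subtype ∧
        E ≤ normalizer (((P : Subgroup Y).map Y.subtype : Subgroup G) : Set G) := by
    intro T hTq hTK' hET
    have hTD : T ≤ normalizer (D : Set G) := hTK'.trans inf_le_right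
    have hUq : IsPGroup q (D ⊔ T : Subgroup G) := by
      rw [sup_comm]
      exact IsPGroup.to_sup_of_normal_right' hTq hDq hTD
    exact coprime_invariant_pgroup_le_sylow E Y hEY hcopEY hsolv q (D ⊔ T)
      (sup_le le_sup_left (hTK'.trans le_sup_right)) hUq (le_normalizer_sup' hED hET)
  obtain ⟨P₁, hUP₁, hEP₁⟩ := hU T₁ hT₁q hT₁K' hET₁
  obtain ⟨P₂, hUP₂, hEP₂⟩ := hU T₂ hT₂q hT₂K' hET₂
  obtain ⟨c, hcC, hcP⟩ := coprime_invariant_sylow_conj E Y hEY hcopEY hsolv q P₁ P₂ hEP₁ hEP₂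
  set P₁' : Subgroup G := (P₁ : Subgroup Y).map Y.subtype with hP₁'
  set P₂' : Subgroup G := (P₂ : Subgroup Y).map Y.subtype with hP₂'
  have hP₂eq : P₂' = P₁'.map (MulAut.conj (c : G)).toMonoidHom := by
    have h3 : ((MulAut.conj c • P₁ : Sylow q Y) : Subgroup Y) = (P₂ : Subgroup Y) := by rw [hcP]
    rw [Sylow.pointwise_smul_def] at h3
    rw [hP₂', ← h3, map_conj_smul]
    rfl
  have hcO : (c : G) ∈ O := by
    have h3 : Y ⊓ centralizer (E : Set G) ≤ O :=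
      hO _ (Nat.Coprime.coprime_dvd_left (card_dvd_of_le inf_le_left) hYc) inf_le_right
    exact h3 ⟨c.2, hcC⟩
  have hP₁q : IsPGroup q P₁' := P₁.isPGroup'.map _
  obtain ⟨S₁, hP₁S₁, hS₁⟩ := exists_isMaxInv_ge E P₁' hP₁q hEP₁
  set S₂ : Subgroup G := S₁.map (MulAut.conj (c : G)).toMonoidHom with hS₂
  have hS₂max : IsMaxInv q E S₂ := hS₁.map_conj hcC
  have hP₂S₂ : P₂' ≤ S₂ := by
    rw [hP₂eq]; exact Subgroup.map_mono hP₁S₁
  have hcardG : ∀ H : Subgroup G, Nat.card H ≤ Nat.card G := fun H => card_le_card_group H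
  have hlt : ∀ (T A B : Subgroup G), ¬ T ≤ D → D ⊔ T ≤ A ⊓ B →
      Nat.card G - Nat.card (A ⊓ B : Subgroup G) < m := by
    intro T A B hTD hle
    have h3 : D < D ⊔ T := lt_of_le_of_ne le_sup_left (fun h => hTD (by
      have : T ≤ D ⊔ T := le_sup_right
      rwa [← h] at this))
    have h4 : Nat.card D < Nat.card (A ⊓ B : Subgroup G) :=
      (card_lt_card_of_lt h3).trans_le (card_le_of_le hle)
    have h5 := hcardG (A ⊓ B)
    have h6 := hcardG D
    omega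
  have hTD₁ : ¬ T₁ ≤ D := haR₁
  have hTD₂ : ¬ T₂ ≤ D := haR₂
  -- `Q₁ ~ S₁`
  have hQ₁S₁ : D ⊔ T₁ ≤ Q₁ ⊓ S₁ :=
    le_inf (sup_le inf_le_left (inf_le_left.trans inf_le_left)) (hUP₁.trans hP₁S₁)
  obtain ⟨c₁, hc₁O, hc₁⟩ := ih _ (hlt T₁ Q₁ S₁ hTD₁ hQ₁S₁) Q₁ S₁ h₁ hS₁ rfl
  -- `S₂ ~ Q₂`
  have hS₂Q₂ : D ⊔ T₂ ≤ S₂ ⊓ Q₂ :=
    le_inf (hUP₂.trans hP₂S₂) (sup_le inf_le_right (inf_le_left.trans inf_le_left))
  obtain ⟨c₂, hc₂O, hc₂⟩ := ih _ (hlt T₂ S₂ Q₂ hTD₂ hS₂Q₂) S₂ Q₂ hS₂max h₂ rfl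
  refine ⟨c₂ * (c * c₁), O.mul_mem hc₂O (O.mul_mem hcO hc₁O), ?_⟩
  rw [hc₂, hS₂, hc₁, map_conj_map_conj, map_conj_map_conj, mul_assoc]

end Cfsg.Agent.Lead.TT
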