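import Mathlib
import Cfsg.Agent.Lead.TT3
import Cfsg.Agent.Lead.TT4

set_option autoImplicit false
set_option linter.unusedSectionVars false

/-! # Thompson transitivity: from `p`-constrained locals to the abstract hypotheses -/

namespace Cfsg.Agent.Lead.TT

open Subgroup
open scoped Pointwise

variable {G : Type*} [Group G] [Finite G] {p : ℕ} [hp : Fact p.Prime]

theorem le_normalizer_map_subtype_of_normal (M : Subgroup G) (N : Subgroup M) [N.Normal] :
    M ≤ normalizer ((N.map M.subtype : Subgroup G) : Set G) := by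
  intro m hm
  rw [mem_normalizer_iff]
  intro x
  constructor
  · rintro ⟨y, hy, rfl⟩
    refine ⟨⟨m, hm⟩ * y * ⟨m, hm⟩⁻¹, Normal.conj_mem inferInstance y hy _, ?_⟩
    simp
  · rintro ⟨y, hy, hyx⟩
    refine ⟨⟨m, hm⟩⁻¹ * y * ⟨m, hm⟩, ?_, ?_⟩
    · have := Normal.conj_mem (inferInstance : N.Normal) y hy (⟨m, hm⟩⁻¹)
      simpa using this
    · simp only [coe_subtype, coe_mul, InvMemClass.coe_inv]
      simp only [coe_subtype] at hyx
      rw [hyx]; group

theorem isPGroup_iff_forall_prime_dvd {q : ℕ} [hq : Fact q.Prime] (Y : Subgroup G) :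
    IsPGroup q Y ↔ ∀ r : ℕ, r.Prime → r ∣ Nat.card Y → r ∈ ({q} : Set ℕ) := by
  constructor
  · intro h r hr hdvd
    obtain ⟨k, hk⟩ := IsPGroup.iff_card.mp h
    rw [hk] at hdvd
    exact (Nat.prime_dvd_prime_iff_eq hr hq.out).mp (hr.dvd_of_dvd_pow hdvd)
  · intro h
    have h0 : Nat.card Y ≠ 0 := Nat.card_pos.ne'
    have := Nat.eq_prime_pow_of_unique_prime_dvd h0 (fun {d} hd hdvd => h d hd hdvd)
    exact IsPGroup.of_card this

/-- The key local lemma: invariant `p'`-subgroups of `N_G(U)` lie in `O_{p'}(N_G(U))`. -/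
theorem le_core_of_local
    (hloc : ∀ T : Subgroup G, IsPGroup p T → T ≠ ⊥ →
      Cfsg.IsPConstrained p ↥(normalizer (T : Set G)))
    (E : Subgroup G) (hEp : IsPGroup p E) (hEab : ∀ a ∈ E, ∀ b ∈ E, a * b = b * a)
    (hEfull : ∀ x ∈ centralizer (E : Set G), IsPGroup p (zpowers x) → x ∈ E)
    (hnorm2 : p = 2 → ∀ S : Sylow p G, E ≤ S → (S : Subgroup G) ≤ normalizer (E : Set G))
    (U : Subgroup G) (hUE : U ≤ E) (hU : U ≠ ⊥) (K : Subgroup G)
    (hKU : K ≤ normalizer (U : Set G)) (hEK : E ≤ normalizer (K : Set G))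
    (hK : (Nat.card K).Coprime p) :
    K ≤ (Cfsg.pPrimeCore p ↥(normalizer (U : Set G))).map (normalizer (U : Set G)).subtype := by
  set M : Subgroup G := normalizer (U : Set G) with hM
  have hMc : Cfsg.IsPConstrained p ↥M := hloc U (hEp.to_le hUE) hU
  have hEM : E ≤ M := by
    intro e he
    rw [hM, mem_normalizer_iff]
    intro u
    constructor
    · intro hu
      have : e * u * e⁻¹ = u := by rw [hEab e he u (hUE hu)]; group
      rw [this]; exact hu
    · intro hu
      have h1 : e * u * e⁻¹ ∈ E := hUE hu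
      have h2 : u ∈ E := by
        have := E.mul_mem (E.mul_mem (E.inv_mem he) h1) he
        have e2 : e⁻¹ * (e * u * e⁻¹) * e = u := by group
        rwa [e2] at this
      have : e * u * e⁻¹ = u := by rw [hEab e he u h2]; group
      rwa [this] at hu
  set EM : Subgroup M := E.subgroupOf M with hEMdef
  set KM : Subgroup M := K.subgroupOf M with hKMdef
  have hEMp : IsPGroup p EM := hEp.comap_subtype
  have hKMc : (Nat.card KM).Coprime p := by
    rw [hKMdef, Nat.card_congr (subgroupOfEquivOfLe hKU).toEquiv]; exact hK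
  have hEKM : EM ≤ normalizer (KM : Set M) := by
    intro e he
    rw [mem_normalizer_iff]
    intro x
    rw [hKMdef, mem_subgroupOf, mem_subgroupOf]
    have := mem_normalizer_iff.mp (hEK (mem_subgroupOf.mp he)) (x : G)
    simpa using this
  have hfin : KM ≤ Cfsg.pPrimeCore p ↥M := by
    by_cases hp2 : p = 2
    · -- the SCN form
      obtain ⟨P, hP⟩ := hEMp.exists_le_sylow
      have hPGp : IsPGroup p ((P : Subgroup M).map M.subtype) := P.isPGroup'.map _
      obtain ⟨S, hS⟩ := hPGp.exists_le_sylow
      have hES : E ≤ S := by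
        intro e he
        apply hS
        exact ⟨⟨e, hEM he⟩, hP (mem_subgroupOf.mpr he), rfl⟩
      have hSN := hnorm2 hp2 S hES
      refine le_pPrimeCore_of_scn hMc P EM KM hP ?_ ?_ ?_ hKMc hEKM
      · intro a ha b hb
        apply Subtype.ext
        simpa using hEab a (mem_subgroupOf.mp ha) b (mem_subgroupOf.mp hb)
      · intro x hx
        have hxS : (x : G) ∈ (S : Subgroup G) := hS ⟨x, hx, rfl⟩
        have hxN := hSN hxS
        rw [mem_normalizer_iff] at hxN ⊢
        intro y
        rw [hEMdef, mem_subgroupOf, mem_subgroupOf]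
        have := hxN (y : G)
        simpa using this
      · rintro x ⟨hxP, hxC⟩
        rw [hEMdef, mem_subgroupOf]
        apply hEfull
        · rw [mem_centralizer_iff]
          intro e he
          have := (mem_centralizer_iff.mp hxC) ⟨e, hEM he⟩ (mem_subgroupOf.mpr he)
          have := congrArg Subtype.val this
          simpa using this
        · have hxS : (x : G) ∈ (S : Subgroup G) := hS ⟨x, hxP, rfl⟩
          exact S.isPGroup'.to_le (zpowers_le.mpr hxS)
    · -- the odd form
      refine le_pPrimeCore_of_omega hp2 hMc EM KM hEMp ?_ hKMc hEKM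
      intro x hxC hxo
      rw [hEMdef, mem_subgroupOf]
      apply hEfull
      · rw [mem_centralizer_iff]
        intro e he
        have := (mem_centralizer_iff.mp hxC) ⟨e, hEM he⟩ (mem_subgroupOf.mpr he)
        have := congrArg Subtype.val this
        simpa using this
      · have : Nat.card (zpowers (x : G)) = p ^ 1 := by
          rw [Nat.card_zpowers, Subgroup.orderOf_coe, hxo, pow_one]
        exact IsPGroup.of_card this
  intro k hk
  exact ⟨⟨k, hKU hk⟩, hfin (mem_subgroupOf.mpr hk), rfl⟩

/-- the hypothesis `hW` of the abstract transitivity theorem -/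
theorem exists_W_of_local
    (hloc : ∀ T : Subgroup G, IsPGroup p T → T ≠ ⊥ →
      Cfsg.IsPConstrained p ↥(normalizer (T : Set G)))
    (E : Subgroup G) (hEp : IsPGroup p E) (hEab : ∀ a ∈ E, ∀ b ∈ E, a * b = b * a)
    (hEfull : ∀ x ∈ centralizer (E : Set G), IsPGroup p (zpowers x) → x ∈ E)
    (hnorm2 : p = 2 → ∀ S : Sylow p G, E ≤ S → (S : Subgroup G) ≤ normalizer (E : Set G))
    (a : G) (haE : a ∈ E) (ha1 : a ≠ 1) :
    ∃ W : Subgroup G, (Nat.card W).Coprime p ∧
      E ≤ normalizer (W : Set G) ∧ ∀ K : Subgroup G, K ≤ centralizer ({a} : Set G) →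
        E ≤ normalizer (K : Set G) → (Nat.card K).Coprime p → K ≤ W := by
  set U : Subgroup G := zpowers a with hU
  have hUE : U ≤ E := zpowers_le.mpr haE
  have hUne : U ≠ ⊥ := by
    intro h
    apply ha1
    have : a ∈ U := mem_zpowers a
    rwa [h, mem_bot] at this
  set M : Subgroup G := normalizer (U : Set G) with hM
  have hEM : E ≤ M := by
    intro e he
    rw [hM, mem_normalizer_iff]
    intro u
    have key : ∀ v ∈ E, e * v * e⁻¹ = v := fun v hv => by rw [hEab e he v hv]; group
    constructor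
    · intro hu; rw [key u (hUE hu)]; exact hu
    · intro hu
      have h1 : e * u * e⁻¹ ∈ E := hUE hu
      have h2 : u ∈ E := by
        have := E.mul_mem (E.mul_mem (E.inv_mem he) h1) he
        have e2 : e⁻¹ * (e * u * e⁻¹) * e = u := by group
        rwa [e2] at this
      rwa [key u h2] at hu
  refine ⟨(Cfsg.pPrimeCore p ↥M).map M.subtype, ?_, ?_, ?_⟩
  · rw [Nat.card_congr ((Cfsg.pPrimeCore p ↥M).equivMapOfInjective M.subtype
      M.subtype_injective).toEquiv.symm]
    exact Cfsg.Agent.Helper19.pPrimeCore_coprime p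
  · exact hEM.trans (le_normalizer_map_subtype_of_normal M _)
  · intro K hKa hEK hK
    apply le_core_of_local hloc E hEp hEab hEfull hnorm2 U hUE hUne K _ hEK hK
    refine hKa.trans ?_
    intro x hx
    rw [mem_centralizer_singleton_iff] at hx
    rw [mem_normalizer_iff]
    have hc : Commute x a := hx
    rintro u
    constructor
    · rintro ⟨n, rfl⟩
      have : x * a ^ n * x⁻¹ = a ^ n := by
        have := (hc.zpow_right n).eq
        rw [this]; group
      rw [this]; exact ⟨n, rfl⟩
    · intro hu
      obtain ⟨n, hn⟩ := hu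
      have : u = x⁻¹ * a ^ n * x := by
        have h2 : a ^ n = x * u * x⁻¹ := hn
        rw [h2]; group
      have h3 : x⁻¹ * a ^ n * x = a ^ n := by
        have := (hc.zpow_right n).eq
        calc x⁻¹ * a ^ n * x = x⁻¹ * (a ^ n * x) := by group
          _ = x⁻¹ * (x * a ^ n) := by rw [this]
          _ = a ^ n := by group
      rw [this, h3]; exact ⟨n, rfl⟩

end Cfsg.Agent.Lead.TT
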