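import Mathlib
import Cfsg.Agent.Lead.TT5
import Cfsg.Prelude.Def_OddOrderLocal

set_option autoImplicit false
set_option linter.unusedSectionVars false

/-! # Thompson transitivity for groups with `p`-constrained `p`-locals -/

namespace Cfsg.Agent.Lead.TT

open Subgroup
open scoped Pointwise

variable {G : Type*} [Group G] [Finite G] {p : ℕ} [hp : Fact p.Prime]

/-- a self-centralizing abelian subgroup of a `p`-group of class at most two is normal -/
theorem le_normalizer_of_class_two (E : Subgroup G)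
    (hEfull : ∀ x ∈ centralizer (E : Set G), IsPGroup p (zpowers x) → x ∈ E)
    (S : Sylow p G) (hnil : Group.IsNilpotent (S : Subgroup G))
    (hcl : Group.nilpotencyClass (S : Subgroup G) ≤ 2) (hES : E ≤ S) :
    (S : Subgroup G) ≤ normalizer (E : Set G) := by
  have hupper : Subgroup.upperCentralSeries (S : Subgroup G) 2 = ⊤ :=
    Subgroup.upperCentralSeries_eq_top_iff_nilpotencyClass_le.mpr hcl
  have key : ∀ s ∈ (S : Subgroup G), ∀ e ∈ E, s * e * s⁻¹ ∈ E := by
    intro s hs e he
    have h1 : (⟨s, hs⟩ : (S : Subgroup G)) ∈ Subgroup.upperCentralSeries (S : Subgroup G) (1 + 1) := by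
      rw [hupper]; exact mem_top _
    rw [Subgroup.mem_upperCentralSeries_succ_iff] at h1
    have h2 := h1 ⟨e, hES he⟩
    rw [Subgroup.upperCentralSeries_one, mem_center_iff] at h2
    set z : G := s * e * s⁻¹ * e⁻¹ with hz
    have hzS : z ∈ (S : Subgroup G) :=
      mul_mem (mul_mem (mul_mem hs (hES he)) (inv_mem hs)) (inv_mem (hES he))
    have hzE : z ∈ E := by
      apply hEfull
      · rw [mem_centralizer_iff]
        intro f hf
        have := h2 ⟨f, hES hf⟩
        have := congrArg Subtype.val this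
        simpa [hz, commutatorElement_def] using this
      · exact S.isPGroup'.to_le (zpowers_le.mpr hzS)
    have : s * e * s⁻¹ = z * e := by rw [hz]; group
    rw [this]; exact E.mul_mem hzE he
  intro s hs
  rw [mem_normalizer_iff]
  intro x
  constructor
  · exact key s hs x
  · intro hx
    have := key s⁻¹ (inv_mem hs) _ hx
    have e2 : s⁻¹ * (s * x * s⁻¹) * s⁻¹⁻¹ = x := by group
    rwa [e2] at this

theorem exists_elementary_of_not_pRankLE (E : Subgroup G) (hEp : IsPGroup p E)
    (hE3 : ¬ Cfsg.PRankLE p 2 E) :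
    ∃ F : Subgroup G, F ≤ E ∧ Cfsg.IsElementaryAbelian p F ∧ p ^ 3 ≤ Nat.card F := by
  unfold Cfsg.PRankLE at hE3
  push Not at hE3
  obtain ⟨A, hAc, hAp, hAcard⟩ := hE3
  refine ⟨A.map E.subtype, map_subtype_le A, ⟨?_, ?_⟩, ?_⟩
  · refine ⟨⟨?_⟩⟩
    rintro ⟨_, a, ha, rfl⟩ ⟨_, b, hb, rfl⟩
    apply Subtype.ext
    have := hAc.is_comm.comm (⟨a, ha⟩ : A) ⟨b, hb⟩
    have := congrArg (fun x : A => ((x : E) : G)) this
    simpa using this
  · rintro _ ⟨a, ha, rfl⟩
    have := hAp a ha
    have := congrArg (Subtype.val : E → G) this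
    simpa using this
  · have hcard : Nat.card (A.map E.subtype) = Nat.card A :=
      (Nat.card_congr (A.equivMapOfInjective E.subtype E.subtype_injective).toEquiv).symm
    rw [hcard]
    have hAg : IsPGroup p A := hEp.to_subgroup A
    obtain ⟨k, hk⟩ := IsPGroup.iff_card.mp hAg
    rw [hk] at hAcard ⊢
    have : 2 < k := (Nat.pow_lt_pow_iff_right hp.out.one_lt).mp hAcard
    exact Nat.pow_le_pow_right hp.out.pos this

theorem isMaxInv_of_mem_maxInvSubgroups {q : ℕ} [hq : Fact q.Prime] {E Q : Subgroup G}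
    (h : Q ∈ Cfsg.maxInvSubgroups ⊤ E {q}) : IsMaxInv q E Q := by
  obtain ⟨⟨_, hQ2, hQ3⟩, hmax⟩ := h
  refine ⟨(isPGroup_iff_forall_prime_dvd Q).mpr hQ2, hQ3, ?_⟩
  intro R hRq hER hle
  exact hmax R ⟨le_top, (isPGroup_iff_forall_prime_dvd R).mp hRq, hER⟩ hle

/-- **Thompson's transitivity theorem** (S1480). -/
theorem transitivity_of_constrained_locals
    (hloc : ∀ T : Subgroup G, IsPGroup p T → T ≠ ⊥ →
      Cfsg.IsPConstrained p ↥(normalizer (T : Set G)))
    (h2 : p = 2 → ∀ S : Sylow p G, Group.IsNilpotent (S : Subgroup G) ∧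
      Group.nilpotencyClass (S : Subgroup G) ≤ 2)
    (E : Subgroup G) (hEp : IsPGroup p E) (hEc : IsMulCommutative E)
    (hE3 : ¬ Cfsg.PRankLE p 2 E)
    (hEfull : ∀ x ∈ centralizer (E : Set G), IsPGroup p (zpowers x) → x ∈ E)
    (q : ℕ) [hq : Fact q.Prime] (hqp : q ≠ p) (Q₁ Q₂ : Subgroup G)
    (h₁ : IsMaxInv q E Q₁) (h₂ : IsMaxInv q E Q₂) :
    ∃ k ∈ Cfsg.piCoreOf (Cfsg.primesNotDvd p) (centralizer (E : Set G)),
      Q₂ = Q₁.map (MulAut.conj k).toMonoidHom := by
  have hEab : ∀ a ∈ E, ∀ b ∈ E, a * b = b * a := by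
    intro a ha b hb
    have := hEc.is_comm.comm (⟨a, ha⟩ : E) ⟨b, hb⟩
    exact congrArg Subtype.val this
  have hnorm2 : p = 2 → ∀ S : Sylow p G, E ≤ S → (S : Subgroup G) ≤ normalizer (E : Set G) :=
    fun hp2 S hES => le_normalizer_of_class_two E hEfull S (h2 hp2 S).1 (h2 hp2 S).2 hES
  obtain ⟨F, hFE, hF, hFcard⟩ := exists_elementary_of_not_pRankLE E hEp hE3
  have hEne : E ≠ ⊥ := by
    rintro rfl
    have h1 : F = ⊥ := le_bot_iff.mp hFE
    rw [h1, card_bot] at hFcard
    have := hp.out.one_lt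
    have : 1 < p ^ 3 := Nat.one_lt_pow (by norm_num) this
    omega
  set C : Subgroup G := centralizer (E : Set G) with hC
  set M : Subgroup G := normalizer (E : Set G) with hM
  have hCM : C ≤ M := centralizer_le_normalizer (E : Set G)
  set W : Subgroup G := (Cfsg.pPrimeCore p ↥M).map M.subtype with hW
  have hWc : (Nat.card W).Coprime p := by
    rw [hW, Nat.card_congr ((Cfsg.pPrimeCore p ↥M).equivMapOfInjective M.subtype
      M.subtype_injective).toEquiv.symm]
    exact Cfsg.Agent.Helper19.pPrimeCore_coprime p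
  have hMW : M ≤ normalizer (W : Set G) := le_normalizer_map_subtype_of_normal M _
  -- `C` is normal in `M`
  have hMC : M ≤ normalizer (C : Set G) := by
    intro m hm
    rw [mem_normalizer_iff]
    have key : ∀ n ∈ M, ∀ x ∈ C, n * x * n⁻¹ ∈ C := by
      intro n hn x hx
      rw [hC, mem_centralizer_iff] at hx ⊢
      intro e he
      have he' : n⁻¹ * e * n ∈ E := by
        have := (mem_normalizer_iff.mp (inv_mem hn) e).mp he
        simpa using this
      have := hx _ he'
      calc e * (n * x * n⁻¹) = n * ((n⁻¹ * e * n) * x) * n⁻¹ := by group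
        _ = n * (x * (n⁻¹ * e * n)) * n⁻¹ := by rw [this]
        _ = n * x * n⁻¹ * e := by group
    intro x
    constructor
    · exact key m hm x
    · intro hx
      have := key m⁻¹ (inv_mem hm) _ hx
      have e2 : m⁻¹ * (m * x * m⁻¹) * m⁻¹⁻¹ = x := by group
      rwa [e2] at this
  set L : Subgroup G := W ⊓ C with hL
  have hLc : (Nat.card L).Coprime p :=
    Nat.Coprime.coprime_dvd_left (card_dvd_of_le inf_le_left) hWc
  have hCL : C ≤ normalizer (L : Set G) := le_normalizer_inf' (hCM.trans hMW) (hCM.trans hMC)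
  have hLO : L ≤ Cfsg.piCoreOf (Cfsg.primesNotDvd p) C := by
    intro x hx
    have hnormal : (L.subgroupOf C).Normal := by
      refine ⟨fun n hn g => ?_⟩
      rw [mem_subgroupOf] at hn ⊢
      have := (mem_normalizer_iff.mp (hCL g.2) (n : G)).mp hn
      simpa using this
    have hle : L.subgroupOf C ≤ Cfsg.piCore (Cfsg.primesNotDvd p) ↥C := by
      apply le_sSup
      refine ⟨hnormal, ?_⟩
      intro r hr hdvd
      refine ⟨hr, fun hrp => ?_⟩
      have hrp' : r = p := (Nat.prime_dvd_prime_iff_eq hr hp.out).mp hrp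
      rw [hrp'] at hdvd
      have hcard : Nat.card (L.subgroupOf C) = Nat.card L :=
        Nat.card_congr (subgroupOfEquivOfLe (inf_le_right : L ≤ C)).toEquiv
      rw [hcard] at hdvd
      have := Nat.Coprime.eq_one_of_dvd hLc.symm hdvd
      exact hp.out.one_lt.ne' this
    exact ⟨⟨x, hx.2⟩, hle (mem_subgroupOf.mpr hx), rfl⟩
  have hO : ∀ Y : Subgroup G, (Nat.card Y).Coprime p → Y ≤ centralizer (E : Set G) →
      Y ≤ Cfsg.piCoreOf (Cfsg.primesNotDvd p) C := by
    intro Y hYc hYC
    refine le_trans (le_inf ?_ hYC) hLO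
    apply le_core_of_local hloc E hEp hEab hEfull hnorm2 E le_rfl hEne Y (hYC.trans hCM) _ hYc
    exact (le_centralizer_iff.mp hYC).trans (centralizer_le_normalizer (Y : Set G))
  exact transitivity_aux hqp E hEp hEab F hFE hF hFcard
    (fun a haE ha1 => exists_W_of_local hloc E hEp hEab hEfull hnorm2 a haE ha1)
    _ hO _ Q₁ Q₂ h₁ h₂ rfl

end Cfsg.Agent.Lead.TT
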