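import Mathlib
import Cfsg.Agent.Lead.TT6
import Cfsg.Agent.Helper19.Cores

set_option autoImplicit false
set_option linter.unusedSectionVars false

/-! # The transitivity hypothesis of Bender–Glauberman §7: conjugacy of maximal invariant
`q`-subgroups meeting a common proper overgroup -/

namespace Cfsg.Agent.Lead.TT

open Subgroup
open scoped Pointwise

variable {G : Type*} [Group G] [Finite G]

theorem forall_prime_mem_primesNotDvd_iff (n m : ℕ) :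
    (∀ r : ℕ, r.Prime → r ∣ m → r ∈ Cfsg.primesNotDvd n) ↔ m.Coprime n := by
  constructor
  · intro h
    by_contra hcon
    obtain ⟨r, hr, hrm, hrn⟩ := Nat.Prime.not_coprime_iff_dvd.mp hcon
    exact (h r hr hrm).2 hrn
  · intro h r hr hrm
    refine ⟨hr, fun hrn => ?_⟩
    exact Nat.Prime.not_coprime_iff_dvd.mpr ⟨r, hr, hrm, hrn⟩ h

theorem card_piCoreOf (π : Set ℕ) (X : Subgroup G) :
    Nat.card (Cfsg.piCoreOf π X) = Nat.card (Cfsg.piCore π ↥X) :=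
  (Nat.card_congr ((Cfsg.piCore π ↥X).equivMapOfInjective X.subtype
    X.subtype_injective).toEquiv).symm

theorem piCoreOf_coprime (n : ℕ) (X : Subgroup G) :
    (Nat.card (Cfsg.piCoreOf (Cfsg.primesNotDvd n) X)).Coprime n := by
  rw [card_piCoreOf]
  exact (forall_prime_mem_primesNotDvd_iff n _).mp (Cfsg.Agent.Helper19.piCore_isPiNum _)

theorem piCoreOf_le (π : Set ℕ) (X : Subgroup G) : Cfsg.piCoreOf π X ≤ X := map_subtype_le _

theorem le_normalizer_piCoreOf (π : Set ℕ) (X : Subgroup G) :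
    X ≤ normalizer ((Cfsg.piCoreOf π X : Subgroup G) : Set G) :=
  le_normalizer_map_subtype_of_normal X _

theorem le_piCoreOf_of_normal {n : ℕ} {X Y : Subgroup G} (hYX : Y ≤ X)
    (hXY : X ≤ normalizer (Y : Set G)) (hY : (Nat.card Y).Coprime n) :
    Y ≤ Cfsg.piCoreOf (Cfsg.primesNotDvd n) X := by
  have hnormal : (Y.subgroupOf X).Normal := by
    refine ⟨fun y hy g => ?_⟩
    rw [mem_subgroupOf] at hy ⊢
    have := (mem_normalizer_iff.mp (hXY g.2) (y : G)).mp hy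
    simpa using this
  have hle : Y.subgroupOf X ≤ Cfsg.piCore (Cfsg.primesNotDvd n) ↥X := by
    apply le_sSup
    refine ⟨hnormal, ?_⟩
    rw [forall_prime_mem_primesNotDvd_iff, Nat.card_congr (subgroupOfEquivOfLe hYX).toEquiv]
    exact hY
  intro x hx
  exact ⟨⟨x, hYX hx⟩, hle (mem_subgroupOf.mpr hx), rfl⟩

/-- the transitivity hypothesis: invariant subgroups of coprime order lie in the core -/
theorem inv_le_piCoreOf {A : Subgroup G} (hT : Cfsg.TransitivityHypothesis A)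
    {X Y : Subgroup G} (hX : X ≠ ⊤) (hAX : A ≤ X) (hYX : Y ≤ X)
    (hY : (Nat.card Y).Coprime (Nat.card A)) (hAY : A ≤ normalizer (Y : Set G)) :
    Y ≤ Cfsg.piCoreOf (Cfsg.primesNotDvd (Nat.card A)) X := by
  rw [← hT.2.2 X hX hAX]
  apply le_sSup
  exact ⟨hYX, (forall_prime_mem_primesNotDvd_iff _ _).mpr hY, hAY⟩

theorem normalizer_ne_top_of_simple (hS : IsSimpleGroup G) {D : Subgroup G} (hD : D ≠ ⊥)
    (hD' : D ≠ ⊤) : normalizer (D : Set G) ≠ ⊤ := by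
  intro h
  have hn : D.Normal := normalizer_eq_top_iff.mp h
  rcases hn.eq_bot_or_eq_top with h1 | h1
  exacts [hD h1, hD' h1]

/-- subgroups of `C_G(A)` of order coprime to `|A|` lie in `O_{π'}(C_G(A))` -/
theorem coprime_le_piCoreOf_centralizer (hS : IsSimpleGroup G) {A : Subgroup G}
    (hT : Cfsg.TransitivityHypothesis A) {Y : Subgroup G} (hYC : Y ≤ centralizer (A : Set G))
    (hYc : (Nat.card Y).Coprime (Nat.card A)) :
    Y ≤ Cfsg.piCoreOf (Cfsg.primesNotDvd (Nat.card A)) (centralizer (A : Set G)) := by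
  set π' := Cfsg.primesNotDvd (Nat.card A) with hπ'
  set C : Subgroup G := centralizer (A : Set G) with hC
  set N : Subgroup G := normalizer (A : Set G) with hN
  have hNtop : N ≠ ⊤ := normalizer_ne_top_of_simple hS hT.1 hT.2.1
  have hAN : A ≤ N := le_normalizer
  have hCN : C ≤ N := centralizer_le_normalizer (A : Set G)
  have hAY : A ≤ normalizer (Y : Set G) :=
    (le_centralizer_iff.mp hYC).trans (centralizer_le_normalizer (Y : Set G))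
  have hYW : Y ≤ Cfsg.piCoreOf π' N :=
    inv_le_piCoreOf hT hNtop hAN (hYC.trans hCN) hYc hAY
  set W : Subgroup G := Cfsg.piCoreOf π' N with hW
  have hAW : A ⊓ W = ⊥ := (disjoint_of_coprime_natCard (piCoreOf_coprime _ N).symm).eq_bot
  have hWC : W ≤ C := by
    intro w hw
    rw [hC, mem_centralizer_iff]
    intro a ha
    have hwN : w ∈ N := piCoreOf_le _ _ hw
    have h1 : a * w * a⁻¹ * w⁻¹ ∈ W := by
      have := (mem_normalizer_iff.mp (le_normalizer_piCoreOf π' N (hAN ha)) w).mp hw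
      exact W.mul_mem this (W.inv_mem hw)
    have h2 : a * w * a⁻¹ * w⁻¹ ∈ A := by
      have := (mem_normalizer_iff.mp hwN a⁻¹).mp (A.inv_mem ha)
      have h3 : a * w * a⁻¹ * w⁻¹ = a * (w * a⁻¹ * w⁻¹) := by group
      rw [h3]; exact A.mul_mem ha this
    have h4 : a * w * a⁻¹ * w⁻¹ = 1 := by
      have : a * w * a⁻¹ * w⁻¹ ∈ A ⊓ W := ⟨h2, h1⟩
      rwa [hAW, mem_bot] at this
    calc a * w = (a * w * a⁻¹ * w⁻¹) * w * a := by group
      _ = w * a := by rw [h4, one_mul]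
  have hWK : W ≤ Cfsg.piCoreOf π' C :=
    le_piCoreOf_of_normal hWC (hCN.trans (le_normalizer_piCoreOf π' N)) (piCoreOf_coprime _ N)
  exact hYW.trans hWK

theorem coprime_card_of_isPGroup' {q : ℕ} [hq : Fact q.Prime] {n : ℕ} (hqn : ¬ q ∣ n)
    {R : Subgroup G} (hR : IsPGroup q R) : (Nat.card R).Coprime n := by
  obtain ⟨k, hk⟩ := IsPGroup.iff_card.mp hR
  rw [hk]
  exact Nat.Coprime.pow_left _ ((Nat.Prime.coprime_iff_not_dvd hq.out).mpr hqn)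

/-- two invariant `q`-subgroups of a proper overgroup `H` of `A` lie in maximal invariant
`q`-subgroups conjugate under `O_{π'}(C_G(A))` -/
theorem exists_conj_isMaxInv_ge (hS : IsSimpleGroup G) {A : Subgroup G}
    (hsolvA : Group.IsSolvable A) (hT : Cfsg.TransitivityHypothesis A) {q : ℕ} [hq : Fact q.Prime]
    (hqA : ¬ q ∣ Nat.card A) {H : Subgroup G} (hH : H ≠ ⊤) (hAH : A ≤ H) (T₁ T₂ : Subgroup G)
    (hT₁H : T₁ ≤ H) (hT₂H : T₂ ≤ H) (hT₁q : IsPGroup q T₁) (hT₂q : IsPGroup q T₂)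
    (hAT₁ : A ≤ normalizer (T₁ : Set G)) (hAT₂ : A ≤ normalizer (T₂ : Set G)) :
    ∃ S₁ S₂ : Subgroup G,
      ∃ c ∈ Cfsg.piCoreOf (Cfsg.primesNotDvd (Nat.card A)) (centralizer (A : Set G)),
        IsMaxInv q A S₁ ∧ IsMaxInv q A S₂ ∧ T₁ ≤ S₁ ∧ T₂ ≤ S₂ ∧
          S₂ = S₁.map (MulAut.conj c).toMonoidHom := by
  set π' := Cfsg.primesNotDvd (Nat.card A) with hπ'
  set X : Subgroup G := Cfsg.piCoreOf π' H with hX
  have hT₁X : T₁ ≤ X :=
    inv_le_piCoreOf hT hH hAH hT₁H (coprime_card_of_isPGroup' hqA hT₁q) hAT₁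
  have hT₂X : T₂ ≤ X :=
    inv_le_piCoreOf hT hH hAH hT₂H (coprime_card_of_isPGroup' hqA hT₂q) hAT₂
  have hAX : A ≤ normalizer (X : Set G) := hAH.trans (le_normalizer_piCoreOf π' H)
  have hcop : (Nat.card A).Coprime (Nat.card X) := (piCoreOf_coprime _ H).symm
  have hsolv : Group.IsSolvable A ∨ Group.IsSolvable X := Or.inl hsolvA
  obtain ⟨P₁, hTP₁, hAP₁⟩ :=
    coprime_invariant_pgroup_le_sylow A X hAX hcop hsolv q T₁ hT₁X hT₁q hAT₁
  obtain ⟨P₂, hTP₂, hAP₂⟩ :=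
    coprime_invariant_pgroup_le_sylow A X hAX hcop hsolv q T₂ hT₂X hT₂q hAT₂
  obtain ⟨c, hcC, hcP⟩ := coprime_invariant_sylow_conj A X hAX hcop hsolv q P₁ P₂ hAP₁ hAP₂
  set P₁' : Subgroup G := (P₁ : Subgroup X).map X.subtype with hP₁'
  set P₂' : Subgroup G := (P₂ : Subgroup X).map X.subtype with hP₂'
  have hP₂eq : P₂' = P₁'.map (MulAut.conj (c : G)).toMonoidHom := by
    have h3 : ((MulAut.conj c • P₁ : Sylow q X) : Subgroup X) = (P₂ : Subgroup X) := by rw [hcP]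
    rw [Sylow.pointwise_smul_def] at h3
    rw [hP₂', ← h3, map_conj_smul]
    rfl
  have hcK : (c : G) ∈ Cfsg.piCoreOf π' (centralizer (A : Set G)) :=
    coprime_le_piCoreOf_centralizer hS hT (inf_le_right : X ⊓ centralizer (A : Set G) ≤ _)
      (Nat.Coprime.coprime_dvd_left (card_dvd_of_le inf_le_left) (piCoreOf_coprime _ H))
      ⟨c.2, hcC⟩
  have hP₁q : IsPGroup q P₁' := P₁.isPGroup'.map _
  obtain ⟨S₁, hP₁S₁, hS₁⟩ := exists_isMaxInv_ge A P₁' hP₁q hAP₁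
  refine ⟨S₁, S₁.map (MulAut.conj (c : G)).toMonoidHom, (c : G), hcK, hS₁, hS₁.map_conj hcC,
    hTP₁.trans hP₁S₁, ?_, rfl⟩
  refine hTP₂.trans ?_
  rw [hP₂eq]
  exact Subgroup.map_mono hP₁S₁

/-- maximal invariant `q`-subgroups with nontrivial intersection are conjugate -/
theorem transitivity_inter (hS : IsSimpleGroup G) {A : Subgroup G}
    (hsolvA : Group.IsSolvable A) (hT : Cfsg.TransitivityHypothesis A) {q : ℕ} [hq : Fact q.Prime]
    (hqA : ¬ q ∣ Nat.card A) :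
    ∀ m : ℕ, ∀ Q₁ Q₂ : Subgroup G, IsMaxInv q A Q₁ → IsMaxInv q A Q₂ → Q₁ ⊓ Q₂ ≠ ⊥ →
      Nat.card G - Nat.card (Q₁ ⊓ Q₂ : Subgroup G) = m →
      ∃ c ∈ Cfsg.piCoreOf (Cfsg.primesNotDvd (Nat.card A)) (centralizer (A : Set G)),
        Q₂ = Q₁.map (MulAut.conj c).toMonoidHom := by
  set O : Subgroup G := Cfsg.piCoreOf (Cfsg.primesNotDvd (Nat.card A)) (centralizer (A : Set G))
    with hO
  intro m
  induction m using Nat.strong_induction_on with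
  | _ m ih =>
  intro Q₁ Q₂ h₁ h₂ hne hm
  by_cases h12 : Q₁ ≤ Q₂
  · have := h₁.2.2 Q₂ h₂.1 h₂.2.1 h12
    exact ⟨1, O.one_mem, by rw [map_conj_one, this]⟩
  by_cases h21 : Q₂ ≤ Q₁
  · have := h₂.2.2 Q₁ h₁.1 h₁.2.1 h21
    exact ⟨1, O.one_mem, by rw [map_conj_one, this]⟩
  set D : Subgroup G := Q₁ ⊓ Q₂ with hD
  have hD1 : D < Q₁ := lt_of_le_of_ne inf_le_left (fun h => h12 (inf_eq_left.mp h))
  have hD2 : D < Q₂ := lt_of_le_of_ne inf_le_right (fun h => h21 (inf_eq_right.mp h))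
  have hAD : A ≤ normalizer (D : Set G) := le_normalizer_inf' h₁.2.1 h₂.2.1
  have hDtop : D ≠ ⊤ := ne_top_of_lt hD1
  have hHtop : normalizer (D : Set G) ≠ ⊤ := normalizer_ne_top_of_simple hS hne hDtop
  set R₁ : Subgroup G := Q₁ ⊓ normalizer (D : Set G) with hR₁
  set R₂ : Subgroup G := Q₂ ⊓ normalizer (D : Set G) with hR₂
  have hDR₁ : D < R₁ := Cfsg.Agent.Helper11.lt_inf_normalizer Q₁ D h₁.1 hD1
  have hDR₂ : D < R₂ := Cfsg.Agent.Helper11.lt_inf_normalizer Q₂ D h₂.1 hD2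
  have hAR₁ : A ≤ normalizer (R₁ : Set G) :=
    le_normalizer_inf' h₁.2.1 (le_normalizer_normalizer hAD)
  have hAR₂ : A ≤ normalizer (R₂ : Set G) :=
    le_normalizer_inf' h₂.2.1 (le_normalizer_normalizer hAD)
  have hR₁q : IsPGroup q R₁ := h₁.1.to_le inf_le_left
  have hR₂q : IsPGroup q R₂ := h₂.1.to_le inf_le_left
  obtain ⟨S₁, S₂, c, hcO, hS₁, hS₂, hRS₁, hRS₂, hS₂eq⟩ :=
    exists_conj_isMaxInv_ge hS hsolvA hT hqA hHtop hAD R₁ R₂ inf_le_right inf_le_right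
      hR₁q hR₂q hAR₁ hAR₂
  have hcardG : ∀ H : Subgroup G, Nat.card H ≤ Nat.card G := fun H => card_le_card_group H
  have hlt : ∀ (R B C : Subgroup G), D < R → R ≤ B ⊓ C →
      Nat.card G - Nat.card (B ⊓ C : Subgroup G) < m := by
    intro R B C hDR hle
    have h4 : Nat.card D < Nat.card (B ⊓ C : Subgroup G) :=
      (card_lt_card_of_lt hDR).trans_le (card_le_of_le hle)
    have h5 := hcardG (B ⊓ C)
    have h6 := hcardG D
    omega
  have hnb : ∀ (R B C : Subgroup G), D < R → R ≤ B ⊓ C → B ⊓ C ≠ ⊥ := by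
    intro R B C hDR hle h
    rw [h] at hle
    have : R = ⊥ := le_bot_iff.mp hle
    rw [this] at hDR
    exact not_lt_bot hDR
  have hQ₁S₁ : R₁ ≤ Q₁ ⊓ S₁ := le_inf inf_le_left hRS₁
  obtain ⟨c₁, hc₁O, hc₁⟩ :=
    ih _ (hlt R₁ Q₁ S₁ hDR₁ hQ₁S₁) Q₁ S₁ h₁ hS₁ (hnb R₁ Q₁ S₁ hDR₁ hQ₁S₁) rfl
  have hS₂Q₂ : R₂ ≤ S₂ ⊓ Q₂ := le_inf hRS₂ inf_le_left
  obtain ⟨c₂, hc₂O, hc₂⟩ :=
    ih _ (hlt R₂ S₂ Q₂ hDR₂ hS₂Q₂) S₂ Q₂ hS₂ h₂ (hnb R₂ S₂ Q₂ hDR₂ hS₂Q₂) rfl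
  refine ⟨c₂ * (c * c₁), O.mul_mem hc₂O (O.mul_mem hcO hc₁O), ?_⟩
  rw [hc₂, hS₂eq, hc₁, map_conj_map_conj, map_conj_map_conj, mul_assoc]

/-- **B&G Theorem 7.3** -/
theorem transitivity_common_overgroup (hS : IsSimpleGroup G) {A : Subgroup G}
    (hsolvA : Group.IsSolvable A) (hT : Cfsg.TransitivityHypothesis A) {q : ℕ} [hq : Fact q.Prime]
    (hqA : ¬ q ∣ Nat.card A) {Q₁ Q₂ : Subgroup G} (h₁ : IsMaxInv q A Q₁) (h₂ : IsMaxInv q A Q₂)
    {H : Subgroup G} (hH : H ≠ ⊤) (hAH : A ≤ H) (hH₁ : H ⊓ Q₁ ≠ ⊥) (hH₂ : H ⊓ Q₂ ≠ ⊥) :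
    ∃ c ∈ Cfsg.piCoreOf (Cfsg.primesNotDvd (Nat.card A)) (centralizer (A : Set G)),
      Q₂ = Q₁.map (MulAut.conj c).toMonoidHom := by
  set O : Subgroup G := Cfsg.piCoreOf (Cfsg.primesNotDvd (Nat.card A)) (centralizer (A : Set G))
    with hO
  have hAHn : A ≤ normalizer (H : Set G) := hAH.trans le_normalizer
  obtain ⟨S₁, S₂, c, hcO, hS₁, hS₂, hTS₁, hTS₂, hS₂eq⟩ :=
    exists_conj_isMaxInv_ge hS hsolvA hT hqA hH hAH (H ⊓ Q₁) (H ⊓ Q₂) inf_le_left inf_le_left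
      (h₁.1.to_le inf_le_right) (h₂.1.to_le inf_le_right)
      (le_normalizer_inf' hAHn h₁.2.1) (le_normalizer_inf' hAHn h₂.2.1)
  have hne₁ : Q₁ ⊓ S₁ ≠ ⊥ := by
    intro h
    apply hH₁
    have : H ⊓ Q₁ ≤ Q₁ ⊓ S₁ := le_inf inf_le_right hTS₁
    rw [h] at this
    exact le_bot_iff.mp this
  have hne₂ : S₂ ⊓ Q₂ ≠ ⊥ := by
    intro h
    apply hH₂
    have : H ⊓ Q₂ ≤ S₂ ⊓ Q₂ := le_inf hTS₂ inf_le_right
    rw [h] at this
    exact le_bot_iff.mp this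
  obtain ⟨c₁, hc₁O, hc₁⟩ := transitivity_inter hS hsolvA hT hqA _ Q₁ S₁ h₁ hS₁ hne₁ rfl
  obtain ⟨c₂, hc₂O, hc₂⟩ := transitivity_inter hS hsolvA hT hqA _ S₂ Q₂ hS₂ h₂ hne₂ rfl
  refine ⟨c₂ * (c * c₁), O.mul_mem hc₂O (O.mul_mem hcO hc₁O), ?_⟩
  rw [hc₂, hS₂eq, hc₁, map_conj_map_conj, map_conj_map_conj, mul_assoc]

end Cfsg.Agent.Lead.TT
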