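import Mathlib
import Cfsg.Prelude.Def_OddOrderLocal
import Cfsg.Agent.Lead.Bender1
import Cfsg.Agent.Lead.TT7
import Cfsg.Agent.Lead.CoprimeSylow2
import Cfsg.Agent.Helper14.Asym8
import Cfsg.Agent.Helper7.Fitting
import Cfsg.Agent.Helper1.FrobeniusCompl
import Cfsg.Agent.S0044

set_option autoImplicit false
set_option linter.unusedSectionVars false
set_option linter.unusedVariables false
set_option linter.style.haveILetI false

/-! # Bender's maximal subgroup theorem (solvable locals) -/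

namespace Cfsg.Agent.Lead.Bender

open Subgroup Cfsg
open Cfsg.Agent.Lead.TT (le_piCoreOf_of_normal piCoreOf_coprime piCoreOf_le le_normalizer_piCoreOf
  le_normalizer_map_subtype_of_normal normalizer_ne_top_of_simple)

variable {G : Type*} [Group G] [Finite G]

/-- `O_{n'}(X)`: the largest normal subgroup of `X` of order coprime to `n` (ambient). -/
def Oc (n : ℕ) (X : Subgroup G) : Subgroup G := Cfsg.piCoreOf (Cfsg.primesNotDvd n) X

theorem Oc_le (n : ℕ) (X : Subgroup G) : Oc n X ≤ X := piCoreOf_le _ X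

theorem le_normalizer_Oc (n : ℕ) (X : Subgroup G) : X ≤ normalizer ((Oc n X : Subgroup G) : Set G) :=
  le_normalizer_piCoreOf _ X

theorem Oc_coprime (n : ℕ) (X : Subgroup G) : (Nat.card (Oc n X)).Coprime n := piCoreOf_coprime n X

theorem le_Oc {n : ℕ} {X Y : Subgroup G} (hYX : Y ≤ X) (hXY : X ≤ normalizer (Y : Set G))
    (hY : (Nat.card Y).Coprime n) : Y ≤ Oc n X := le_piCoreOf_of_normal hYX hXY hY

/-- ambient form of `O_{q'}(N_X(Q)) ≤ O_{q'}(X)` -/
theorem le_Oc_of_local {X Q Y : Subgroup G} {q : ℕ} [hq : Fact q.Prime] (hX : Group.IsSolvable X)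
    (hQX : Q ≤ X) (hQ : IsPGroup q Q) (hYX : Y ≤ X) (hYQ : Y ≤ normalizer (Q : Set G))
    (hnorm : X ⊓ normalizer (Q : Set G) ≤ normalizer (Y : Set G))
    (hY : (Nat.card Y).Coprime q) : Y ≤ Oc q X := by
  have hps : IsPSolvable q X := Cfsg.Agent.Helper10.isPSolvable_of_isSolvable q hX
  have hQ' : IsPGroup q (Q.subgroupOf X) := hQ.comap_subtype
  have hcard : Nat.card (Y.subgroupOf X) = Nat.card Y :=
    Nat.card_congr (subgroupOfEquivOfLe hYX).toEquiv
  have h1 : Y.subgroupOf X ≤ normalizer ((Q.subgroupOf X : Subgroup X) : Set X) := by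
    intro y hy
    rw [mem_subgroupOf] at hy
    have h := hYQ hy
    rw [mem_normalizer_iff] at h ⊢
    intro g
    rw [mem_subgroupOf, mem_subgroupOf]
    simpa using h (g : G)
  have h2 : normalizer ((Q.subgroupOf X : Subgroup X) : Set X) ≤
      normalizer ((Y.subgroupOf X : Subgroup X) : Set X) := by
    intro x hx
    have hxG : (x : G) ∈ normalizer (Q : Set G) := by
      rw [mem_normalizer_iff] at hx ⊢
      intro g
      constructor
      · intro hg
        have h := (hx ⟨g, hQX hg⟩).1 (mem_subgroupOf.2 hg)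
        rw [mem_subgroupOf] at h
        simpa using h
      · intro hg
        have hgX : g ∈ X := by
          have h3 : (x : G)⁻¹ * ((x : G) * g * (x : G)⁻¹) * (x : G) ∈ X :=
            X.mul_mem (X.mul_mem (X.inv_mem x.2) (hQX hg)) x.2
          have e : (x : G)⁻¹ * ((x : G) * g * (x : G)⁻¹) * (x : G) = g := by group
          rwa [e] at h3
        have h := (hx ⟨g, hgX⟩).2 (by rw [mem_subgroupOf]; simpa using hg)
        rw [mem_subgroupOf] at h
        simpa using h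
    have hxN := hnorm (mem_inf.2 ⟨x.2, hxG⟩)
    rw [mem_normalizer_iff] at hxN ⊢
    intro g
    rw [mem_subgroupOf, mem_subgroupOf]
    simpa using hxN (g : G)
  have h3 := le_pPrimeCore_of_normalized_by_normalizer hps hQ' h1 h2 (hcard.symm ▸ hY)
  obtain ⟨W, hW⟩ : ∃ W : Subgroup G, W = (pPrimeCore q X).map X.subtype := ⟨_, rfl⟩
  have hWc : (Nat.card W).Coprime q := by
    rw [hW, Nat.card_congr ((pPrimeCore q ↥X).equivMapOfInjective X.subtype
      X.subtype_injective).toEquiv.symm]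
    exact Cfsg.Agent.Helper19.pPrimeCore_coprime q
  have hWO : W ≤ Oc q X := by
    apply le_Oc _ _ hWc
    · rw [hW]; exact map_subtype_le _
    · rw [hW]; exact le_normalizer_map_subtype_of_normal X _
  intro y hy
  apply hWO
  rw [hW]
  exact ⟨⟨y, hYX hy⟩, h3 (mem_subgroupOf.2 hy), rfl⟩

theorem le_normalizer_of_forall_conj_mem {X K : Subgroup G}
    (h : ∀ x ∈ X, ∀ k ∈ K, x * k * x⁻¹ ∈ K) : X ≤ normalizer (K : Set G) := by
  intro x hx
  rw [mem_normalizer_iff]
  intro k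
  constructor
  · exact h x hx k
  · intro hk
    have := h x⁻¹ (X.inv_mem hx) _ hk
    have e : x⁻¹ * (x * k * x⁻¹) * x⁻¹⁻¹ = k := by group
    rwa [e] at this

/-- `K_r(X) = O_{(π ∖ r)'}(X)` as an intersection -/
def Kr (π : Finset ℕ) (r : ℕ) (X : Subgroup G) : Subgroup G := ⨅ q ∈ π.erase r, Oc q X

theorem Kr_le_Oc {π : Finset ℕ} {r q : ℕ} (X : Subgroup G) (hq : q ∈ π) (hqr : q ≠ r) :
    Kr π r X ≤ Oc q X := iInf₂_le q (Finset.mem_erase.2 ⟨hqr, hq⟩)

theorem le_Kr {π : Finset ℕ} {r : ℕ} {X T : Subgroup G}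
    (h : ∀ q ∈ π, q ≠ r → T ≤ Oc q X) : T ≤ Kr π r X := by
  apply le_iInf₂
  intro q hq
  rw [Finset.mem_erase] at hq
  exact h q hq.2 hq.1

theorem Kr_le {π : Finset ℕ} {r s : ℕ} (X : Subgroup G) (hs : s ∈ π) (hsr : s ≠ r) :
    Kr π r X ≤ X := (Kr_le_Oc X hs hsr).trans (Oc_le s X)

theorem le_normalizer_Kr (π : Finset ℕ) (r : ℕ) (X : Subgroup G) :
    X ≤ normalizer ((Kr π r X : Subgroup G) : Set G) := by
  apply le_normalizer_of_forall_conj_mem
  intro x hx k hk
  unfold Kr at hk ⊢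
  simp only [mem_iInf] at hk ⊢
  intro q hq
  exact (mem_normalizer_iff.1 (le_normalizer_Oc q X hx) k).1 (hk q hq)

theorem Kr_coprime {π : Finset ℕ} {r q : ℕ} (X : Subgroup G) (hq : q ∈ π) (hqr : q ≠ r) :
    (Nat.card (Kr π r X)).Coprime q :=
  Nat.Coprime.coprime_dvd_left (card_dvd_of_le (Kr_le_Oc X hq hqr)) (Oc_coprime q X)

/-- a normal `r`-subgroup of `X` lies in `K_r(X)` -/
theorem le_Kr_of_normal {π : Finset ℕ} (hπ : ∀ r ∈ π, r.Prime) {r : ℕ} [hr : Fact r.Prime]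
    {X T : Subgroup G}
    (hTX : T ≤ X) (hXT : X ≤ normalizer (T : Set G)) (hT : IsPGroup r T) : T ≤ Kr π r X := by
  apply le_Kr
  intro q hq hqr
  apply le_Oc hTX hXT
  obtain ⟨k, hk⟩ := IsPGroup.iff_card.1 hT
  rw [hk]
  apply Nat.Coprime.pow_left
  exact (Nat.coprime_primes hr.out (hπ q hq)).2 (Ne.symm hqr)

/-- a normal `r`-subgroup of a normal subgroup lies in `O_r` -/
theorem le_pCoreOf_of_normal_normal {r : ℕ} [Fact r.Prime] {X K T : Subgroup G} (hTK : T ≤ K)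
    (hKT : K ≤ normalizer (T : Set G)) (hKX : K ≤ X) (hXK : X ≤ normalizer (K : Set G))
    (hT : IsPGroup r T) : T ≤ pCoreOf r X :=
  (Cfsg.Agent.Helper14.le_pCoreOf r hTK hKT hT).trans
    (Cfsg.Agent.Helper14.pCoreOf_le_pCoreOf_of_normal hKX hXK)

theorem normalizer_eq_of_coatom (hS : IsSimpleGroup G) {Y W : Subgroup G} (hY : IsCoatom Y)
    (hW1 : W ≠ ⊥) (hWY : W ≤ Y) (hYW : Y ≤ normalizer (W : Set G)) :
    normalizer (W : Set G) = Y := by
  have hWtop : W ≠ ⊤ := by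
    intro h
    apply hY.1
    rw [eq_top_iff, ← h]; exact hWY
  have h1 := normalizer_ne_top_of_simple hS hW1 hWtop
  rcases hY.le_iff.1 hYW with h | h
  · exact absurd h h1
  · exact h

/-- the basic half-step of Bender's argument -/
theorem half_step (hS : IsSimpleGroup G) {X Y : Subgroup G} (hXsolv : Group.IsSolvable X)
    (hY : IsCoatom Y) (π : Finset ℕ) (hπ : ∀ r ∈ π, r.Prime) (hπ2 : 2 ≤ π.card)
    (hO : ∀ N : Subgroup G, N ≤ X → X ≤ normalizer (N : Set G) →
      (∀ q ∈ π, (Nat.card N).Coprime q) → N = ⊥)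
    (W : ℕ → Subgroup G) (hWp : ∀ r ∈ π, IsPGroup r (W r)) (hW1 : ∀ r ∈ π, W r ≠ ⊥)
    (hWX : ∀ r ∈ π, W r ≤ X) (hWY : ∀ r ∈ π, W r ≤ Y)
    (hYW : ∀ r ∈ π, Y ≤ normalizer (W r : Set G)) :
    ∀ r ∈ π, Kr π r X ≤ Y ∧ W r ≤ Kr π r X := by
  have hNW : ∀ r ∈ π, normalizer (W r : Set G) = Y := fun r hr =>
    normalizer_eq_of_coatom hS hY (hW1 r hr) (hWY r hr) (hYW r hr)
  have hWK : ∀ r ∈ π, W r ≤ Kr π r X := by
    intro r hr
    apply le_Kr
    intro q hq hqr
    haveI : Fact q.Prime := ⟨hπ q hq⟩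
    apply le_Oc_of_local hXsolv (hWX q hq) (hWp q hq) (hWX r hr)
    · rw [hNW q hq]; exact hWY r hr
    · rw [hNW q hq]; exact inf_le_right.trans (hYW r hr)
    · haveI : Fact r.Prime := ⟨hπ r hr⟩
      obtain ⟨k, hk⟩ := IsPGroup.iff_card.1 (hWp r hr)
      rw [hk]
      apply Nat.Coprime.pow_left
      exact (Nat.coprime_primes (hπ r hr) (hπ q hq)).2 (Ne.symm hqr)
  have hex : ∀ r ∈ π, ∃ s ∈ π, s ≠ r := fun r hr => Finset.exists_mem_ne hπ2 r
  have hKX : ∀ r ∈ π, Kr π r X ≤ X := by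
    intro r hr
    obtain ⟨s, hs, hsr⟩ := hex r hr
    exact Kr_le X hs hsr
  have hcomm : ∀ r ∈ π, ∀ s ∈ π, r ≠ s → Kr π r X ≤ centralizer (Kr π s X : Set G) := by
    intro r hr s hs hrs
    have hbot : Kr π r X ⊓ Kr π s X = ⊥ := by
      apply hO
      · exact inf_le_left.trans (hKX r hr)
      · exact Cfsg.Agent.Lead.le_normalizer_inf' (le_normalizer_Kr π r X) (le_normalizer_Kr π s X)
      · intro q hq
        by_cases hqr : q = r
        · have hqs : q ≠ s := by rw [hqr]; exact hrs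
          exact Nat.Coprime.coprime_dvd_left (card_dvd_of_le inf_le_right) (Kr_coprime X hq hqs)
        · exact Nat.Coprime.coprime_dvd_left (card_dvd_of_le inf_le_left) (Kr_coprime X hq hqr)
    intro a ha
    rw [mem_centralizer_iff]
    intro b hb
    have h1 : a * b * a⁻¹ * b⁻¹ ∈ Kr π r X ⊓ Kr π s X := by
      refine mem_inf.2 ⟨?_, ?_⟩
      · have hbN := le_normalizer_Kr π r X (hKX s hs hb)
        have h2 : b * a⁻¹ * b⁻¹ ∈ Kr π r X :=
          (mem_normalizer_iff.1 hbN a⁻¹).1 ((Kr π r X).inv_mem ha)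
        have e : a * b * a⁻¹ * b⁻¹ = a * (b * a⁻¹ * b⁻¹) := by group
        rw [e]; exact (Kr π r X).mul_mem ha h2
      · have haN := le_normalizer_Kr π s X (hKX r hr ha)
        have h2 : a * b * a⁻¹ ∈ Kr π s X := (mem_normalizer_iff.1 haN b).1 hb
        exact (Kr π s X).mul_mem h2 ((Kr π s X).inv_mem hb)
    rw [hbot, mem_bot] at h1
    have e : b * a = (a * b * a⁻¹ * b⁻¹)⁻¹ * (a * b) := by group
    rw [e, h1, inv_one, one_mul]
  intro r hr
  refine ⟨?_, hWK r hr⟩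
  obtain ⟨s, hs, hsr⟩ := hex r hr
  calc Kr π r X ≤ centralizer (Kr π s X : Set G) := hcomm r hr s hs (Ne.symm hsr)
    _ ≤ centralizer (W s : Set G) := centralizer_le (hWK s hs)
    _ ≤ normalizer (W s : Set G) := centralizer_le_normalizer _
    _ = Y := hNW s hs

end Cfsg.Agent.Lead.Bender
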