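import Mathlib
import Cfsg.Agent.Lead.Bender2

set_option autoImplicit false
set_option linter.unusedSectionVars false
set_option linter.unusedVariables false
set_option linter.style.haveILetI false

/-! # Bender's maximal subgroup theorem: the uniqueness statement -/

namespace Cfsg.Agent.Lead.Bender

open Subgroup Cfsg
open Cfsg.Agent.Lead.TT (le_normalizer_map_subtype_of_normal normalizer_ne_top_of_simple)
open Cfsg.Agent.Helper1 (centerIn centerIn_ne_bot normalizer_le_normalizer_centerIn)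

variable {G : Type*} [Group G] [Finite G]

theorem fittingOf_eq_iSup (H : Subgroup G) :
    fittingOf H = ⨆ p : Nat.Primes, pCoreOf (p : ℕ) H := by
  unfold fittingOf pCoreOf
  rw [Cfsg.Agent.Helper7.fittingSubgroup_eq_pCoreSup]
  unfold Cfsg.Agent.Helper7.pCoreSup
  rw [Subgroup.map_iSup]

theorem pCoreOf_le_fittingOf (H : Subgroup G) (p : ℕ) [hp : Fact p.Prime] :
    pCoreOf p H ≤ fittingOf H := by
  rw [fittingOf_eq_iSup]
  exact le_iSup (fun q : Nat.Primes => pCoreOf (q : ℕ) H) ⟨p, hp.out⟩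

theorem pCoreOf_le_centralizer_of_ne (H : Subgroup G) {p q : ℕ} [Fact p.Prime] [Fact q.Prime]
    (hne : p ≠ q) : pCoreOf p H ≤ centralizer (pCoreOf q H : Set G) := by
  have h := Cfsg.Agent.Helper7.pCore_commute_of_ne (G := H) hne
  rw [commutator_eq_bot_iff_le_centralizer] at h
  rintro _ ⟨a, ha, rfl⟩
  rw [mem_centralizer_iff]
  rintro _ ⟨b, hb, rfl⟩
  have h1 := mem_centralizer_iff.1 (h ha) b hb
  have h2 := congrArg Subtype.val h1
  simpa using h2

theorem pCoreOf_ne_bot_of_dvd (H : Subgroup G) {r : ℕ} [hr : Fact r.Prime]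
    (hdvd : r ∣ Nat.card (fittingOf H)) : pCoreOf r H ≠ ⊥ := by
  intro hbot
  have hbot' : pCore r ↥H = ⊥ := by
    unfold pCoreOf at hbot
    exact (Subgroup.map_eq_bot_iff_of_injective _ H.subtype_injective).1 hbot
  have hcard : Nat.card (fittingOf H) = Nat.card (fittingSubgroup ↥H) := by
    unfold fittingOf
    exact (Nat.card_congr ((fittingSubgroup ↥H).equivMapOfInjective H.subtype
      H.subtype_injective).toEquiv).symm
  rw [hcard, Cfsg.Agent.Helper7.fittingSubgroup_eq_pCoreSup] at hdvd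
  unfold Cfsg.Agent.Helper7.pCoreSup at hdvd
  have key : ¬ r ∣ Nat.card (sSup (Set.range fun p : Nat.Primes => pCore (p : ℕ) ↥H) :
      Subgroup ↥H) := by
    apply Cfsg.Agent.Helper19.card_sSup_normal_of_mul (P := fun n => ¬ r ∣ n)
    · intro h; exact hr.out.one_lt.ne' (Nat.dvd_one.1 h)
    · intro m n hm hn h
      rcases (Nat.Prime.dvd_mul hr.out).1 h with h | h
      exacts [hm h, hn h]
    · intro m n hmn hn h
      exact hn (h.trans hmn)
    · rintro N ⟨p, rfl⟩
      haveI : Fact (p : ℕ).Prime := ⟨p.2⟩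
      refine ⟨Cfsg.Agent.Helper14.pCore_normal (p : ℕ), ?_⟩
      show ¬ r ∣ Nat.card (pCore (p : ℕ) ↥H)
      by_cases hpr : (p : ℕ) = r
      · rw [hpr, hbot', Subgroup.card_bot]
        intro h; exact hr.out.one_lt.ne' (Nat.dvd_one.1 h)
      · obtain ⟨k, hk⟩ := IsPGroup.iff_card.1 (Cfsg.Agent.Helper14.pCore_isPGroup (G := ↥H) (p : ℕ))
        rw [hk]
        intro h
        have := hr.out.dvd_of_dvd_pow h
        exact hpr ((Nat.prime_dvd_prime_iff_eq hr.out p.2).1 this).symm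
  apply key
  rw [sSup_range]
  exact hdvd

theorem centerIn_pCoreOf_le (H : Subgroup G) (r : ℕ) [hr : Fact r.Prime] :
    centerIn (pCoreOf r H) ≤ fittingOf H ⊓ centralizer (fittingOf H : Set G) := by
  refine le_inf (inf_le_left.trans (pCoreOf_le_fittingOf H r)) ?_
  rw [le_centralizer_iff, fittingOf_eq_iSup]
  apply iSup_le
  intro p
  haveI : Fact (p : ℕ).Prime := ⟨p.2⟩
  by_cases hpr : (p : ℕ) = r
  · rw [hpr]
    rw [← le_centralizer_iff]
    exact inf_le_right
  · exact (pCoreOf_le_centralizer_of_ne H hpr).trans (centralizer_le inf_le_left)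

theorem le_normalizer_fittingOf (H : Subgroup G) : H ≤ normalizer (fittingOf H : Set G) := by
  unfold fittingOf
  exact le_normalizer_map_subtype_of_normal H _

/-- `O_{π(F)'}(H) = 1` for solvable `H` -/
theorem eq_bot_of_coprime_fittingOf {H N : Subgroup G} (hH : Group.IsSolvable H) (hNH : N ≤ H)
    (hHN : H ≤ normalizer (N : Set G))
    (hcop : (Nat.card N).Coprime (Nat.card (fittingOf H))) : N = ⊥ := by
  have hFH : fittingOf H ≤ H := by unfold fittingOf; exact map_subtype_le _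
  have hdisj : N ⊓ fittingOf H = ⊥ := (disjoint_of_coprime_natCard hcop).eq_bot
  have hcomm : ∀ n ∈ N, ∀ f ∈ fittingOf H, f * n = n * f := by
    intro n hn f hf
    have h1 : n * f * n⁻¹ * f⁻¹ ∈ N ⊓ fittingOf H := by
      refine mem_inf.2 ⟨?_, ?_⟩
      · have h2 : f * n⁻¹ * f⁻¹ ∈ N :=
          (mem_normalizer_iff.1 (hHN (hFH hf)) n⁻¹).1 (N.inv_mem hn)
        have e : n * f * n⁻¹ * f⁻¹ = n * (f * n⁻¹ * f⁻¹) := by group
        rw [e]; exact N.mul_mem hn h2
      · have h2 : n * f * n⁻¹ ∈ fittingOf H :=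
          (mem_normalizer_iff.1 (le_normalizer_fittingOf H (hNH hn)) f).1 hf
        exact (fittingOf H).mul_mem h2 ((fittingOf H).inv_mem hf)
    rw [hdisj, mem_bot] at h1
    have e : f * n = (n * f * n⁻¹ * f⁻¹)⁻¹ * (n * f) := by group
    rw [e, h1, inv_one, one_mul]
  have hle : N ≤ fittingOf H := by
    intro n hn
    have h1 : (⟨n, hNH hn⟩ : H) ∈ centralizer (fittingSubgroup ↥H : Set ↥H) := by
      rw [mem_centralizer_iff]
      intro f hf
      apply Subtype.ext
      have hfG : (f : G) ∈ fittingOf H := ⟨f, hf, rfl⟩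
      simpa using hcomm n hn f hfG
    haveI := hH
    have h2 := Cfsg.Agent.S0044.result (G := ↥H) h1
    exact ⟨⟨n, hNH hn⟩, h2, rfl⟩
  rw [eq_bot_iff, ← hdisj]
  exact le_inf le_rfl hle

theorem coprime_of_forall_primeFactors {m n : ℕ} (hn : n ≠ 0)
    (h : ∀ q ∈ n.primeFactors, m.Coprime q) : m.Coprime n := by
  by_contra hcon
  obtain ⟨p, hp, h1, h2⟩ := Nat.Prime.not_coprime_iff_dvd.1 hcon
  have hpπ : p ∈ n.primeFactors := Nat.mem_primeFactors.2 ⟨hp, h2, hn⟩
  have := (h p hpπ).symm.eq_one_of_dvd h1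
  exact hp.one_lt.ne' this

/-- **Bender's maximal subgroup theorem**, uniqueness form. -/
theorem bender_unique (hS : IsSimpleGroup G)
    (hsolv : ∀ X : Subgroup G, X ≠ ⊤ → Group.IsSolvable X)
    {H L : Subgroup G} (hH : IsCoatom H) (hL : IsCoatom L)
    (hF2 : 2 ≤ (Nat.card (fittingOf H)).primeFactors.card)
    (hZL : fittingOf H ⊓ centralizer (fittingOf H : Set G) ≤ L)
    (hOL : ∀ N : Subgroup G, N ≤ L → L ≤ normalizer (N : Set G) →
      (Nat.card N).Coprime (Nat.card (fittingOf H)) → N = ⊥) : L = H := by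
  obtain ⟨π, hπdef⟩ : ∃ π : Finset ℕ, π = (Nat.card (fittingOf H)).primeFactors := ⟨_, rfl⟩
  have hπ : ∀ r ∈ π, r.Prime := fun r hr => Nat.prime_of_mem_primeFactors (hπdef ▸ hr)
  have hπ2 : 2 ≤ π.card := hπdef ▸ hF2
  have hn0 : Nat.card (fittingOf H) ≠ 0 := Nat.card_pos.ne'
  have hdvd : ∀ r ∈ π, r ∣ Nat.card (fittingOf H) := fun r hr =>
    Nat.dvd_of_mem_primeFactors (hπdef ▸ hr)
  have hcopconv : ∀ N : Subgroup G, (∀ q ∈ π, (Nat.card N).Coprime q) →
      (Nat.card N).Coprime (Nat.card (fittingOf H)) := by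
    intro N h
    apply coprime_of_forall_primeFactors hn0
    intro q hq
    exact h q (hπdef ▸ hq)
  have hLsolv : Group.IsSolvable L := hsolv L hL.1
  have hHsolv : Group.IsSolvable H := hsolv H hH.1
  have hOL' : ∀ N : Subgroup G, N ≤ L → L ≤ normalizer (N : Set G) →
      (∀ q ∈ π, (Nat.card N).Coprime q) → N = ⊥ :=
    fun N h1 h2 h3 => hOL N h1 h2 (hcopconv N h3)
  have hOH' : ∀ N : Subgroup G, N ≤ H → H ≤ normalizer (N : Set G) →
      (∀ q ∈ π, (Nat.card N).Coprime q) → N = ⊥ :=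
    fun N h1 h2 h3 => eq_bot_of_coprime_fittingOf hHsolv h1 h2 (hcopconv N h3)
  have hex : ∀ r ∈ π, ∃ s ∈ π, s ≠ r := fun r hr => Finset.exists_mem_ne hπ2 r
  -- the three families
  have hFp : ∀ r ∈ π, IsPGroup r (pCoreOf r H) := fun r _ => Cfsg.Agent.Helper14.pCoreOf_isPGroup r H
  have hDp : ∀ r ∈ π, IsPGroup r (pCoreOf r L) := fun r _ => Cfsg.Agent.Helper14.pCoreOf_isPGroup r L
  have hF1 : ∀ r ∈ π, pCoreOf r H ≠ ⊥ := by
    intro r hr
    haveI : Fact r.Prime := ⟨hπ r hr⟩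
    exact pCoreOf_ne_bot_of_dvd H (hdvd r hr)
  have hFH : ∀ r, pCoreOf r H ≤ H := fun r => Cfsg.Agent.Helper14.pCoreOf_le r H
  have hDL : ∀ r, pCoreOf r L ≤ L := fun r => Cfsg.Agent.Helper14.pCoreOf_le r L
  have hHF : ∀ r, H ≤ normalizer (pCoreOf r H : Set G) :=
    fun r => Cfsg.Agent.Helper14.le_normalizer_pCoreOf r H
  have hLD : ∀ r, L ≤ normalizer (pCoreOf r L : Set G) :=
    fun r => Cfsg.Agent.Helper14.le_normalizer_pCoreOf r L
  -- step 1
  have app1 := half_step hS hLsolv hH π hπ hπ2 hOL' (fun r => centerIn (pCoreOf r H))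
    (fun r hr => (hFp r hr).to_le inf_le_left)
    (fun r hr => by
      haveI : Fact r.Prime := ⟨hπ r hr⟩
      exact centerIn_ne_bot (hFp r hr) (hF1 r hr))
    (fun r hr => by
      haveI : Fact r.Prime := ⟨hπ r hr⟩
      exact (centerIn_pCoreOf_le H r).trans hZL)
    (fun r hr => inf_le_left.trans (hFH r))
    (fun r hr => (hHF r).trans (normalizer_le_normalizer_centerIn _))
  have hKL : ∀ r ∈ π, Kr π r L ≤ L := by
    intro r hr
    obtain ⟨s, hs, hsr⟩ := hex r hr
    exact Kr_le L hs hsr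
  have hKH : ∀ r ∈ π, Kr π r H ≤ H := by
    intro r hr
    obtain ⟨s, hs, hsr⟩ := hex r hr
    exact Kr_le H hs hsr
  have hDK : ∀ r ∈ π, pCoreOf r L ≤ Kr π r L := by
    intro r hr
    haveI : Fact r.Prime := ⟨hπ r hr⟩
    exact le_Kr_of_normal hπ (hDL r) (hLD r) (hDp r hr)
  have hDH : ∀ r ∈ π, pCoreOf r L ≤ H := fun r hr => (hDK r hr).trans (app1 r hr).1
  have hZD : ∀ r ∈ π, centerIn (pCoreOf r H) ≤ pCoreOf r L := by
    intro r hr
    haveI : Fact r.Prime := ⟨hπ r hr⟩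
    exact le_pCoreOf_of_normal_normal (app1 r hr).2
      ((app1 r hr).1.trans ((hHF r).trans (normalizer_le_normalizer_centerIn _)))
      (hKL r hr) (le_normalizer_Kr π r L) ((hFp r hr).to_le inf_le_left)
  have hD1 : ∀ r ∈ π, pCoreOf r L ≠ ⊥ := by
    intro r hr hbot
    haveI : Fact r.Prime := ⟨hπ r hr⟩
    have h1 := hZD r hr
    rw [hbot, le_bot_iff] at h1
    exact centerIn_ne_bot (hFp r hr) (hF1 r hr) h1
  -- step 2
  have app2 := half_step hS hHsolv hL π hπ hπ2 hOH' (fun r => pCoreOf r L) hDp hD1 hDH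
    (fun r _ => hDL r) (fun r _ => hLD r)
  have hFK : ∀ r ∈ π, pCoreOf r H ≤ Kr π r H := by
    intro r hr
    haveI : Fact r.Prime := ⟨hπ r hr⟩
    exact le_Kr_of_normal hπ (hFH r) (hHF r) (hFp r hr)
  have hFL : ∀ r ∈ π, pCoreOf r H ≤ L := fun r hr => (hFK r hr).trans (app2 r hr).1
  have hDF : ∀ r ∈ π, pCoreOf r L ≤ pCoreOf r H := by
    intro r hr
    haveI : Fact r.Prime := ⟨hπ r hr⟩
    exact le_pCoreOf_of_normal_normal (app2 r hr).2 ((app2 r hr).1.trans (hLD r))
      (hKH r hr) (le_normalizer_Kr π r H) (hDp r hr)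
  -- step 3
  have app3 := half_step hS hLsolv hH π hπ hπ2 hOL' (fun r => pCoreOf r H) hFp hF1 hFL
    (fun r _ => hFH r) (fun r _ => hHF r)
  have hFD : ∀ r ∈ π, pCoreOf r H ≤ pCoreOf r L := by
    intro r hr
    haveI : Fact r.Prime := ⟨hπ r hr⟩
    exact le_pCoreOf_of_normal_normal (app3 r hr).2 ((app3 r hr).1.trans (hHF r))
      (hKL r hr) (le_normalizer_Kr π r L) (hFp r hr)
  -- conclusion
  have hne : π.Nonempty := by
    rw [← Finset.card_pos]; omega
  obtain ⟨r, hr⟩ := hne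
  have heq : pCoreOf r L = pCoreOf r H := le_antisymm (hDF r hr) (hFD r hr)
  have hN : normalizer (pCoreOf r H : Set G) = H :=
    normalizer_eq_of_coatom hS hH (hF1 r hr) (hFH r) (hHF r)
  have hLH : L ≤ H := by
    have := hLD r
    rw [heq, hN] at this
    exact this
  rcases hL.le_iff.1 hLH with h | h
  · exact absurd h hH.1
  · exact h.symm

end Cfsg.Agent.Lead.Bender
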