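import Mathlib
import Cfsg.Agent.Lead.TT7

set_option autoImplicit false
set_option linter.unusedSectionVars false

/-! # Bender–Glauberman Theorems 7.4 and 7.5: transitivity when the centre of `A` has rank at
least three, or rank two and `q` divides `|C_G(A)|` -/

namespace Cfsg.Agent.Lead.TT

open Subgroup
open scoped Pointwise

variable {G : Type*} [Group G] [Finite G]

/-- from a failure of `PRankLE p k` to an elementary abelian subgroup of order at least
`p ^ (k + 1)` -/
theorem exists_elementary_of_not_pRankLE' {p : ℕ} [hp : Fact p.Prime] (k : ℕ) (E : Subgroup G)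
    (hE : ¬ Cfsg.PRankLE p k E) :
    ∃ F : Subgroup G, F ≤ E ∧ Cfsg.IsElementaryAbelian p F ∧ p ^ (k + 1) ≤ Nat.card F := by
  unfold Cfsg.PRankLE at hE
  push Not at hE
  obtain ⟨A, hAc, hAp, hAcard⟩ := hE
  refine ⟨A.map E.subtype, map_subtype_le A, ⟨?_, ?_⟩, ?_⟩
  · refine ⟨⟨?_⟩⟩
    rintro ⟨_, a, ha, rfl⟩ ⟨_, b, hb, rfl⟩
    apply Subtype.ext
    have := hAc.is_comm.comm (⟨a, ha⟩ : A) ⟨b, hb⟩
    have := congrArg (fun x : A => ((x : E) : G)) this
    simpa using this
  · rintro _ ⟨a, ha, rfl⟩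
    have := hAp a ha
    have := congrArg (Subtype.val : E → G) this
    simpa using this
  · have hcard : Nat.card (A.map E.subtype) = Nat.card A :=
      (Nat.card_congr (A.equivMapOfInjective E.subtype E.subtype_injective).toEquiv).symm
    rw [hcard]
    have hAg : IsPGroup p A := by
      intro a
      refine ⟨1, ?_⟩
      rw [pow_one]
      apply Subtype.ext
      have := hAp a.1 a.2
      simpa using this
    obtain ⟨j, hj⟩ := IsPGroup.iff_card.mp hAg
    rw [hj] at hAcard ⊢
    have : k < j := (Nat.pow_lt_pow_iff_right hp.out.one_lt).mp hAcard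
    exact Nat.pow_le_pow_right hp.out.pos this

/-- a nonidentity element of `Z(A)` has a proper centralizer containing `A` -/
theorem centralizer_singleton_ne_top (hS : IsSimpleGroup G) {A : Subgroup G} (hAtop : A ≠ ⊤)
    {a : G} (haA : a ∈ A) (ha1 : a ≠ 1) : centralizer ({a} : Set G) ≠ ⊤ := by
  intro h
  have hcen : a ∈ center G := by
    rw [mem_center_iff]
    intro g
    have : g ∈ centralizer ({a} : Set G) := by rw [h]; exact mem_top g
    exact (mem_centralizer_singleton_iff.mp this)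
  have hn : (zpowers a).Normal := by
    refine ⟨fun x hx g => ?_⟩
    obtain ⟨n, rfl⟩ := hx
    have hcn : a ^ n ∈ center G := (center G).zpow_mem hcen n
    have : g * a ^ n * g⁻¹ = a ^ n := by
      rw [(mem_center_iff.mp hcn g)]; group
    rw [this]; exact ⟨n, rfl⟩
  rcases hn.eq_bot_or_eq_top with h1 | h1
  · apply ha1
    have : a ∈ zpowers a := mem_zpowers a
    rwa [h1, mem_bot] at this
  · apply hAtop
    rw [eq_top_iff, ← h1]
    exact zpowers_le.mpr haA

theorem le_centralizer_singleton_of_mem_centralizer {A : Subgroup G} {a : G}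
    (ha : a ∈ centralizer (A : Set G)) : A ≤ centralizer ({a} : Set G) := by
  intro x hx
  rw [mem_centralizer_singleton_iff]
  exact (mem_centralizer_iff.mp ha) x hx

/-- an invariant subgroup `R ≠ 1` of order prime to `p` has nontrivial fixed points under some
nonidentity element of a noncyclic elementary abelian `p`-group acting on it -/
theorem exists_centralizer_inf_ne_bot {p : ℕ} [hp : Fact p.Prime]
    (F : Subgroup G) (hF : Cfsg.IsElementaryAbelian p F) (hFcard : p ^ 2 ≤ Nat.card F)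
    (R : Subgroup G) (hR : (Nat.card R).Coprime p) (hFR : F ≤ normalizer (R : Set G))
    (hRne : R ≠ ⊥) :
    ∃ a ∈ F, a ≠ 1 ∧ centralizer ({a} : Set G) ⊓ R ≠ ⊥ := by
  have hnd : ¬ p ∣ Nat.card R := fun h => by
    have := Nat.Coprime.eq_one_of_dvd hR.symm h
    exact hp.out.one_lt.ne' this
  have key : ∃ B : Subgroup G, B ≤ F ∧ B.relIndex F ≤ p ∧
      ¬ (R ⊓ centralizer (B : Set G) ≤ ⊥) := by
    by_contra hcon
    push Not at hcon
    apply hRne
    rw [eq_bot_iff, Cfsg.Agent.Helper7.eq_iSup_inf_centralizer_hyperplane p F R hF hnd hFR]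
    exact iSup_le fun B => hcon B.1 B.2.1 B.2.2
  obtain ⟨B, hBF, hBi, hB⟩ := key
  have hBne : B ≠ ⊥ := by
    intro hbot
    have h4 := Cfsg.Agent.Helper7.card_mul_relIndex_of_le hBF
    rw [hbot, card_bot, one_mul] at h4
    rw [hbot, h4] at hBi
    have : p < p ^ 2 := by
      have := hp.out.one_lt
      calc p = p * 1 := by ring
        _ < p * p := Nat.mul_lt_mul_of_pos_left this hp.out.pos
        _ = p ^ 2 := by ring
    omega
  obtain ⟨a, ha, ha1⟩ : ∃ a ∈ B, a ≠ 1 := by
    by_contra hcon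
    push Not at hcon
    exact hBne ((eq_bot_iff_forall _).mpr hcon)
  refine ⟨a, hBF ha, ha1, ?_⟩
  intro h
  apply hB
  rw [← h]
  refine le_inf ?_ inf_le_left
  exact inf_le_right.trans (centralizer_le (Set.singleton_subset_iff.mpr ha))

/-- **B&G Theorem 7.4** -/
theorem transitivity_rank_three (hS : IsSimpleGroup G) {A : Subgroup G}
    (hsolvA : Group.IsSolvable A) (hT : Cfsg.TransitivityHypothesis A) {p : ℕ} [hp : Fact p.Prime]
    (F : Subgroup G) (hFA : F ≤ A) (hFC : F ≤ centralizer (A : Set G))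
    (hF : Cfsg.IsElementaryAbelian p F) (hFcard : p ^ 3 ≤ Nat.card F)
    {q : ℕ} [hq : Fact q.Prime]
    (hqA : ¬ q ∣ Nat.card A) {Q₁ Q₂ : Subgroup G} (h₁ : IsMaxInv q A Q₁) (h₂ : IsMaxInv q A Q₂) :
    ∃ c ∈ Cfsg.piCoreOf (Cfsg.primesNotDvd (Nat.card A)) (centralizer (A : Set G)),
      Q₂ = Q₁.map (MulAut.conj c).toMonoidHom := by
  set O : Subgroup G := Cfsg.piCoreOf (Cfsg.primesNotDvd (Nat.card A)) (centralizer (A : Set G))
    with hO
  by_cases hb₁ : Q₁ = ⊥
  · have := h₁.2.2 Q₂ h₂.1 h₂.2.1 (by rw [hb₁]; exact bot_le)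
    exact ⟨1, O.one_mem, by rw [map_conj_one, this]⟩
  by_cases hb₂ : Q₂ = ⊥
  · have := h₂.2.2 Q₁ h₁.1 h₁.2.1 (by rw [hb₂]; exact bot_le)
    exact ⟨1, O.one_mem, by rw [map_conj_one, this]⟩
  -- `p` divides `|A|`, so `q ≠ p`
  have hpA : p ∣ Nat.card A := by
    have h1 : Nat.card F ∣ Nat.card A := card_dvd_of_le hFA
    have h2 : p ∣ Nat.card F := by
      have hFp : IsPGroup p F := by
        intro a
        refine ⟨1, ?_⟩
        rw [pow_one]
        apply Subtype.ext
        have := hF.2 a.1 a.2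
        simpa using this
      obtain ⟨j, hj⟩ := IsPGroup.iff_card.mp hFp
      rw [hj] at hFcard ⊢
      have : j ≠ 0 := by
        rintro rfl
        have h3 := Nat.one_lt_pow (n := 3) (by norm_num) hp.out.one_lt
        rw [pow_zero] at hFcard
        omega
      exact dvd_pow_self p this
    exact h2.trans h1
  have hqp : q ≠ p := fun h => hqA (h ▸ hpA)
  obtain ⟨a, haF, ha1, haQ₁, haQ₂⟩ := exists_common_centralizer F hF hFcard Q₁ Q₂ ⊥
    (coprime_card_of_isPGroup hqp h₁.1) (coprime_card_of_isPGroup hqp h₂.1)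
    (hFA.trans h₁.2.1) (hFA.trans h₂.2.1) (fun h => hb₁ (le_bot_iff.mp h))
    (fun h => hb₂ (le_bot_iff.mp h))
  have hH : centralizer ({a} : Set G) ≠ ⊤ :=
    centralizer_singleton_ne_top hS hT.2.1 (hFA haF) ha1
  have hAH : A ≤ centralizer ({a} : Set G) :=
    le_centralizer_singleton_of_mem_centralizer (hFC haF)
  refine transitivity_common_overgroup hS hsolvA hT hqA h₁ h₂ hH hAH ?_ ?_
  · intro h
    apply haQ₁
    rw [inf_comm, h]
  · intro h
    apply haQ₂
    rw [inf_comm, h]

/-- **B&G Theorem 7.5** -/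
theorem transitivity_rank_two (hS : IsSimpleGroup G) {A : Subgroup G}
    (hsolvA : Group.IsSolvable A) (hT : Cfsg.TransitivityHypothesis A) {p : ℕ} [hp : Fact p.Prime]
    (F : Subgroup G) (hFA : F ≤ A) (hFC : F ≤ centralizer (A : Set G))
    (hF : Cfsg.IsElementaryAbelian p F) (hFcard : p ^ 2 ≤ Nat.card F)
    {q : ℕ} [hq : Fact q.Prime]
    (hqA : ¬ q ∣ Nat.card A) (hqC : q ∣ Nat.card (centralizer (A : Set G)))
    {Q₁ Q₂ : Subgroup G} (h₁ : IsMaxInv q A Q₁) (h₂ : IsMaxInv q A Q₂) :
    ∃ c ∈ Cfsg.piCoreOf (Cfsg.primesNotDvd (Nat.card A)) (centralizer (A : Set G)),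
      Q₂ = Q₁.map (MulAut.conj c).toMonoidHom := by
  set O : Subgroup G := Cfsg.piCoreOf (Cfsg.primesNotDvd (Nat.card A)) (centralizer (A : Set G))
    with hO
  have hpA : p ∣ Nat.card A := by
    have h1 : Nat.card F ∣ Nat.card A := card_dvd_of_le hFA
    have h2 : p ∣ Nat.card F := by
      have hFp : IsPGroup p F := by
        intro a
        refine ⟨1, ?_⟩
        rw [pow_one]
        apply Subtype.ext
        have := hF.2 a.1 a.2
        simpa using this
      obtain ⟨j, hj⟩ := IsPGroup.iff_card.mp hFp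
      rw [hj] at hFcard ⊢
      have : j ≠ 0 := by
        rintro rfl
        have h3 := Nat.one_lt_pow (n := 2) (by norm_num) hp.out.one_lt
        rw [pow_zero] at hFcard
        omega
      exact dvd_pow_self p this
    exact h2.trans h1
  have hqp : q ≠ p := fun h => hqA (h ▸ hpA)
  -- an element of order `q` centralizing `A`
  obtain ⟨x, hx⟩ := exists_prime_orderOf_dvd_card' (G := centralizer (A : Set G)) q hqC
  have hx1 : (x : G) ≠ 1 := by
    intro h
    have : x = 1 := Subtype.ext h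
    rw [this, orderOf_one] at hx
    exact hq.out.one_lt.ne hx
  set T : Subgroup G := zpowers (x : G) with hTdef
  have hTq : IsPGroup q T := by
    apply IsPGroup.of_card (n := 1)
    rw [hTdef, Nat.card_zpowers, Subgroup.orderOf_coe, hx, pow_one]
  have hTC : T ≤ centralizer (A : Set G) := zpowers_le.mpr x.2
  have hAT : A ≤ normalizer (T : Set G) :=
    (le_centralizer_iff.mp hTC).trans (centralizer_le_normalizer (T : Set G))
  obtain ⟨Q, hTQ, hQ⟩ := exists_isMaxInv_ge A T hTq hAT
  have hxQ : (x : G) ∈ Q := hTQ (mem_zpowers _)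
  have claim : ∀ Q' : Subgroup G, IsMaxInv q A Q' →
      ∃ c ∈ O, Q' = Q.map (MulAut.conj c).toMonoidHom := by
    intro Q' h'
    have hQ'ne : Q' ≠ ⊥ := by
      intro hb
      have := h'.2.2 Q hQ.1 hQ.2.1 (by rw [hb]; exact bot_le)
      rw [this, hb, mem_bot] at hxQ
      exact hx1 hxQ
    obtain ⟨a, haF, ha1, haQ'⟩ := exists_centralizer_inf_ne_bot F hF hFcard Q'
      (coprime_card_of_isPGroup hqp h'.1) (hFA.trans h'.2.1) hQ'ne
    have hH : centralizer ({a} : Set G) ≠ ⊤ :=
      centralizer_singleton_ne_top hS hT.2.1 (hFA haF) ha1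
    have hAH : A ≤ centralizer ({a} : Set G) :=
      le_centralizer_singleton_of_mem_centralizer (hFC haF)
    refine transitivity_common_overgroup hS hsolvA hT hqA hQ h' hH hAH ?_ haQ'
    intro h
    apply hx1
    have : (x : G) ∈ centralizer ({a} : Set G) ⊓ Q := by
      refine Subgroup.mem_inf.mpr ⟨?_, hxQ⟩
      rw [mem_centralizer_singleton_iff]
      exact ((mem_centralizer_iff.mp x.2) a (hFA haF)).symm
    rwa [h, mem_bot] at this
  obtain ⟨c₁, hc₁O, hc₁⟩ := claim Q₁ h₁
  obtain ⟨c₂, hc₂O, hc₂⟩ := claim Q₂ h₂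
  refine ⟨c₂ * c₁⁻¹, O.mul_mem hc₂O (O.inv_mem hc₁O), ?_⟩
  rw [hc₁, map_conj_map_conj, inv_mul_cancel_right, hc₂]

end Cfsg.Agent.Lead.TT
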