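import Mathlib
import Cfsg.Agent.Lead.TT8
import Cfsg.Agent.Lead.Coprime3

set_option autoImplicit false
set_option linter.unusedSectionVars false

/-! # Bender–Glauberman §7: transitivity passes from `A` to a `π(A)`-overgroup in which `A` is
subnormal -/

namespace Cfsg.Agent.Lead.TT

open Subgroup
open scoped Pointwise

variable {G : Type*} [Group G] [Finite G]

/-- `N(B) ≤ N(C(B))` -/
theorem normalizer_le_normalizer_centralizer (B : Subgroup G) :
    normalizer (B : Set G) ≤ normalizer ((centralizer (B : Set G) : Subgroup G) : Set G) := by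
  intro m hm
  rw [mem_normalizer_iff]
  have key : ∀ n ∈ normalizer (B : Set G), ∀ x ∈ centralizer (B : Set G),
      n * x * n⁻¹ ∈ centralizer (B : Set G) := by
    intro n hn x hx
    rw [mem_centralizer_iff] at hx ⊢
    intro e he
    have he' : n⁻¹ * e * n ∈ B := by
      have := (mem_normalizer_iff.mp (inv_mem hn) e).mp he
      simpa using this
    have := hx _ he'
    calc e * (n * x * n⁻¹) = n * ((n⁻¹ * e * n) * x) * n⁻¹ := by group
      _ = n * (x * (n⁻¹ * e * n)) * n⁻¹ := by rw [this]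
      _ = n * x * n⁻¹ * e := by group
  intro x
  constructor
  · exact key m hm x
  · intro hx
    have := key m⁻¹ (inv_mem hm) _ hx
    have e2 : m⁻¹ * (m * x * m⁻¹) * m⁻¹⁻¹ = x := by group
    rwa [e2] at this

theorem card_map_conj (W : Subgroup G) (h : G) :
    Nat.card (W.map (MulAut.conj h).toMonoidHom) = Nat.card W :=
  (Nat.card_congr (W.equivMapOfInjective _ (MulAut.conj h).injective).toEquiv).symm

/-- an element normalizing `X` normalizes `O_{π'}(X)` -/
theorem normalizer_le_normalizer_piCoreOf (n : ℕ) (X : Subgroup G) :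
    normalizer (X : Set G) ≤
      normalizer ((Cfsg.piCoreOf (Cfsg.primesNotDvd n) X : Subgroup G) : Set G) := by
  intro g hg
  set W : Subgroup G := Cfsg.piCoreOf (Cfsg.primesNotDvd n) X with hW
  have key : W.map (MulAut.conj g).toMonoidHom ≤ W := by
    apply le_piCoreOf_of_normal
    · rintro _ ⟨w, hw, rfl⟩
      exact (mem_normalizer_iff.mp hg w).mp (piCoreOf_le _ _ hw)
    · intro x hx
      have hx' : g⁻¹ * x * g ∈ X := by
        have := (mem_normalizer_iff.mp (inv_mem hg) x).mp hx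
        simpa using this
      have hn := le_normalizer_piCoreOf (Cfsg.primesNotDvd n) X hx'
      have h2 := Subgroup.map_equiv_normalizer_eq W (MulAut.conj g)
      have h3 : x ∈ (normalizer (W : Set G)).map (MulAut.conj g).toMonoidHom := by
        refine ⟨g⁻¹ * x * g, hn, ?_⟩
        simp only [MulEquiv.coe_toMonoidHom, MulAut.conj_apply]
        group
      rw [h2] at h3
      exact h3
    · rw [card_map_conj]; exact piCoreOf_coprime n X
  have heq : W.map (MulAut.conj g).toMonoidHom = W :=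
    eq_of_le_of_card_ge key (by rw [card_map_conj])
  rw [mem_normalizer_iff_map_conj_eq]
  exact heq

theorem IsMaxInv.map_conj' {q : ℕ} {E Q : Subgroup G} (h : IsMaxInv q E Q) {c : G}
    (hc : c ∈ normalizer (E : Set G)) : IsMaxInv q E (Q.map (MulAut.conj c).toMonoidHom) := by
  have hinv : ∀ (R : Subgroup G) (d : G), d ∈ normalizer (E : Set G) →
      E ≤ normalizer (R : Set G) →
      E ≤ normalizer ((R.map (MulAut.conj d).toMonoidHom : Subgroup G) : Set G) := by
    intro R d hd hR e he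
    have he' : d⁻¹ * e * d ∈ E := by
      have := (mem_normalizer_iff.mp (inv_mem hd) e).mp he
      simpa using this
    have h2 := Subgroup.map_equiv_normalizer_eq R (MulAut.conj d)
    have h3 : e ∈ (normalizer (R : Set G)).map (MulAut.conj d).toMonoidHom := by
      refine ⟨d⁻¹ * e * d, hR he', ?_⟩
      simp only [MulEquiv.coe_toMonoidHom, MulAut.conj_apply]
      group
    rw [h2] at h3
    exact h3
  refine ⟨h.1.map _, hinv Q c hc h.2.1, ?_⟩
  intro R hRq hER hle
  have hc' : c⁻¹ ∈ normalizer (E : Set G) := inv_mem hc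
  have h1 : Q ≤ R.map (MulAut.conj c⁻¹).toMonoidHom := by
    have := Subgroup.map_mono (f := (MulAut.conj c⁻¹).toMonoidHom) hle
    rwa [map_conj_map_conj, inv_mul_cancel, map_conj_one] at this
  have h2 := h.2.2 _ (hRq.map _) (hinv R c⁻¹ hc' hER) h1
  have h3 := congrArg (fun S : Subgroup G => S.map (MulAut.conj c).toMonoidHom) h2
  simp only [map_conj_map_conj, mul_inv_cancel, map_conj_one] at h3
  exact h3

theorem card_le_card_sylow_map {q : ℕ} [hq : Fact q.Prime] {X : Subgroup G} (P : Sylow q X)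
    {R : Subgroup G} (hRX : R ≤ X) (hR : IsPGroup q R) :
    Nat.card R ≤ Nat.card ((P : Subgroup X).map X.subtype) := by
  have hR' : IsPGroup q (R.subgroupOf X) := hR.comap_subtype
  obtain ⟨P', hP'⟩ := hR'.exists_le_sylow
  have h1 : Nat.card R = Nat.card (R.subgroupOf X) :=
    (Nat.card_congr (subgroupOfEquivOfLe hRX).toEquiv).symm
  have h2 : Nat.card ((P : Subgroup X).map X.subtype) = Nat.card (P : Subgroup X) :=
    (Nat.card_congr ((P : Subgroup X).equivMapOfInjective X.subtype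
      X.subtype_injective).toEquiv).symm
  rw [h1, h2, P.card_eq_multiplicity, ← P'.card_eq_multiplicity]
  exact card_le_of_le hP'

theorem mem_maxInvSubgroups_of_isMaxInv {q : ℕ} [hq : Fact q.Prime] {E Q : Subgroup G}
    (h : IsMaxInv q E Q) : Q ∈ Cfsg.maxInvSubgroups ⊤ E {q} := by
  refine ⟨⟨le_top, (isPGroup_iff_forall_prime_dvd Q).mp h.1, h.2.1⟩, ?_⟩
  rintro R ⟨_, hR2, hR3⟩ hle
  exact h.2.2 R ((isPGroup_iff_forall_prime_dvd R).mpr hR2) hR3 hle

/-- `O_{π'}(C_G(A)) ∩ C_G(P) = O_{π'}(C_G(P))` for `A ≤ P` -/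
theorem piCoreOf_centralizer_inf (hS : IsSimpleGroup G) {A : Subgroup G}
    (hT : Cfsg.TransitivityHypothesis A) {P : Subgroup G} (hAP : A ≤ P) :
    Cfsg.piCoreOf (Cfsg.primesNotDvd (Nat.card A)) (centralizer (A : Set G)) ⊓
        centralizer (P : Set G) =
      Cfsg.piCoreOf (Cfsg.primesNotDvd (Nat.card A)) (centralizer (P : Set G)) := by
  have hCPA : centralizer (P : Set G) ≤ centralizer (A : Set G) :=
    centralizer_le (by exact_mod_cast hAP)
  apply le_antisymm
  · apply le_piCoreOf_of_normal inf_le_right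
    · apply le_normalizer_inf'
      · exact hCPA.trans (le_normalizer_piCoreOf _ _)
      · exact le_normalizer
    · exact Nat.Coprime.coprime_dvd_left (card_dvd_of_le inf_le_left) (piCoreOf_coprime _ _)
  · apply le_inf _ (piCoreOf_le _ _)
    exact coprime_le_piCoreOf_centralizer hS hT ((piCoreOf_le _ _).trans hCPA)
      (piCoreOf_coprime _ _)

/-- the data carried along a subnormal chain from `A` to `P` -/
def TransOn (q : ℕ) (A B : Subgroup G) : Prop :=
  (∀ Q₁ Q₂ : Subgroup G, IsMaxInv q B Q₁ → IsMaxInv q B Q₂ →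
    ∃ k ∈ Cfsg.piCoreOf (Cfsg.primesNotDvd (Nat.card A)) (centralizer (B : Set G)),
      Q₂ = Q₁.map (MulAut.conj k).toMonoidHom) ∧
  ∀ Q : Subgroup G, IsMaxInv q B Q → IsMaxInv q A Q

theorem transOn_step (hS : IsSimpleGroup G)
    (hsolv : ∀ H : Subgroup G, H ≠ ⊤ → Group.IsSolvable H)
    {A : Subgroup G} (hT : Cfsg.TransitivityHypothesis A) {q : ℕ} [hq : Fact q.Prime]
    (hqA : ¬ q ∣ Nat.card A)
    {B B' : Subgroup G} (hAB : A ≤ B) (hBB' : B ≤ B') (hB'N : B' ≤ normalizer (B : Set G))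
    (hB'top : B' ≠ ⊤) (hB'π : ∀ r : ℕ, r.Prime → r ∣ Nat.card B' → r ∣ Nat.card A)
    (hB : TransOn q A B) : TransOn q A B' := by
  set π' := Cfsg.primesNotDvd (Nat.card A) with hπ'
  set KA : Subgroup G := Cfsg.piCoreOf π' (centralizer (A : Set G)) with hKA
  set KB : Subgroup G := Cfsg.piCoreOf π' (centralizer (B : Set G)) with hKB
  set KB' : Subgroup G := Cfsg.piCoreOf π' (centralizer (B' : Set G)) with hKB'
  have hcopB' : ∀ Y : Subgroup G, (Nat.card Y).Coprime (Nat.card A) →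
      (Nat.card B').Coprime (Nat.card Y) := by
    intro Y hY
    by_contra hcon
    obtain ⟨r, hr, hrB, hrY⟩ := Nat.Prime.not_coprime_iff_dvd.mp hcon
    exact Nat.Prime.not_coprime_iff_dvd.mpr ⟨r, hr, hrY, hB'π r hr hrB⟩ hY
  have hB'solv : Group.IsSolvable B' := hsolv B' hB'top
  have hKBC : KB ≤ centralizer (B : Set G) := piCoreOf_le _ _
  have hB'KB : B' ≤ normalizer (KB : Set G) :=
    hB'N.trans ((normalizer_le_normalizer_centralizer B).trans
      (normalizer_le_normalizer_piCoreOf _ _))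
  have hcop : (Nat.card B').Coprime (Nat.card KB) := hcopB' KB (piCoreOf_coprime _ _)
  have hKBA : KB ≤ KA := by
    rw [hKB, ← piCoreOf_centralizer_inf hS hT hAB]; exact inf_le_left
  have hKBB' : KB ⊓ centralizer (B' : Set G) ≤ KB' := by
    rw [hKB', ← piCoreOf_centralizer_inf hS hT (hAB.trans hBB')]
    exact inf_le_inf_right _ hKBA
  let _ := conjSubgroupAction G
  set Ω : Set (Subgroup G) := {Q | IsMaxInv q B Q} with hΩ
  have hKB'N : KB ⊔ B' ≤ normalizer (B : Set G) :=
    sup_le (hKBC.trans (centralizer_le_normalizer _)) hB'N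
  have hgl := glauberman_rel KB B' hB'KB hcop (Or.inl hB'solv) Ω
    (fun g hg Q hQ => IsMaxInv.map_conj' hQ (hKB'N hg))
    (fun Q₁ hQ₁ Q₂ hQ₂ => by
      obtain ⟨k, hk, h⟩ := hB.1 Q₁ Q₂ hQ₁ hQ₂
      exact ⟨k, hk, h.symm⟩)
  have hΩne : Ω.Nonempty := by
    obtain ⟨Q, _, hQ⟩ := exists_isMaxInv_ge B ⊥ IsPGroup.of_bot
      (by intro b _; rw [mem_normalizer_iff]; intro x; simp)
    exact ⟨Q, hQ⟩
  obtain ⟨Q₀, hQ₀Ω, hQ₀fix⟩ := hgl.1 hΩne
  have hfix_iff : ∀ Q : Subgroup G, (∀ a ∈ B', a • Q = Q) ↔ B' ≤ normalizer (Q : Set G) := by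
    intro Q
    constructor
    · intro h a ha
      exact (conj_smul_eq_self_iff_mem_normalizer a Q).mp (h a ha)
    · intro h a ha
      exact (conj_smul_eq_self_iff_mem_normalizer a Q).mpr (h ha)
  have hQ₀B' : B' ≤ normalizer (Q₀ : Set G) := (hfix_iff Q₀).mp hQ₀fix
  have claimX : ∀ Q' : Subgroup G, IsMaxInv q B' Q' → IsMaxInv q B Q' := by
    intro Q' hQ'
    obtain ⟨Q₁, hQ'Q₁, hQ₁⟩ := exists_isMaxInv_ge B Q' hQ'.1 (hBB'.trans hQ'.2.1)
    by_cases heq : Q' = Q₁
    · rw [heq]; exact hQ₁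
    exfalso
    have hlt : Q' < Q₁ := lt_of_le_of_ne hQ'Q₁ heq
    by_cases hbot : Q' = ⊥
    · have h0 : Q₀ = Q' := hQ'.2.2 Q₀ hQ₀Ω.1 hQ₀B' (by rw [hbot]; exact bot_le)
      have h1 : Q₁ = Q₀ := hQ₀Ω.2.2 Q₁ hQ₁.1 hQ₁.2.1 (by rw [h0, hbot]; exact bot_le)
      rw [h1, h0] at hlt
      exact lt_irrefl _ hlt
    · have htop : Q' ≠ ⊤ := ne_top_of_lt hlt
      set H : Subgroup G := normalizer (Q' : Set G) with hHdef
      have hH : H ≠ ⊤ := normalizer_ne_top_of_simple hS hbot htop
      have hB'H : B' ≤ H := hQ'.2.1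
      have hAH : A ≤ H := (hAB.trans hBB').trans hB'H
      set R : Subgroup G := Q₁ ⊓ H with hR
      have hQ'R : Q' < R := Cfsg.Agent.Helper11.lt_inf_normalizer Q₁ Q' hQ₁.1 hlt
      have hAR : A ≤ normalizer (R : Set G) :=
        le_normalizer_inf' (hAB.trans hQ₁.2.1) (le_normalizer_normalizer hAH)
      have hRq : IsPGroup q R := hQ₁.1.to_le inf_le_left
      set X : Subgroup G := Cfsg.piCoreOf π' H with hX
      have hRX : R ≤ X :=
        inv_le_piCoreOf hT hH hAH inf_le_right (coprime_card_of_isPGroup' hqA hRq) hAR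
      have hQ'X : Q' ≤ X := hQ'R.le.trans hRX
      have hB'X : B' ≤ normalizer (X : Set G) := hB'H.trans (le_normalizer_piCoreOf π' H)
      have hcopX : (Nat.card B').Coprime (Nat.card X) := hcopB' X (piCoreOf_coprime _ H)
      obtain ⟨P, hQ'P, hB'P⟩ := coprime_invariant_pgroup_le_sylow B' X hB'X hcopX
        (Or.inl hB'solv) q Q' hQ'X hQ'.1 hQ'.2.1
      have hPQ' : (P : Subgroup X).map X.subtype = Q' :=
        hQ'.2.2 _ (P.isPGroup'.map _) hB'P hQ'P
      have h1 : Nat.card R ≤ Nat.card ((P : Subgroup X).map X.subtype) :=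
        card_le_card_sylow_map P hRX hRq
      rw [hPQ'] at h1
      have h2 := card_lt_card_of_lt hQ'R
      omega
  refine ⟨?_, fun Q hQ => hB.2 Q (claimX Q hQ)⟩
  intro Q₁ Q₂ h₁ h₂
  obtain ⟨c, hc, hcQ⟩ := hgl.2 Q₁ (claimX Q₁ h₁) Q₂ (claimX Q₂ h₂)
    ((hfix_iff Q₁).mpr h₁.2.1) ((hfix_iff Q₂).mpr h₂.2.1)
  exact ⟨c, hKBB' hc, hcQ.symm⟩

end Cfsg.Agent.Lead.TT
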