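import Mathlib
import Cfsg.Agent.Lead.TT10

set_option autoImplicit false
set_option linter.unusedSectionVars false

/-! # Bender–Glauberman §7: transitivity passes to a `π(A)`-overgroup `P` with `A` subnormal in
`P`; Frattini argument and the focal consequence -/

namespace Cfsg.Agent.Lead.TT

open Subgroup
open scoped Pointwise commutatorElement

variable {G : Type*} [Group G] [Finite G]

theorem transOn_chain (hS : IsSimpleGroup G)
    (hsolv : ∀ H : Subgroup G, H ≠ ⊤ → Group.IsSolvable H)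
    {A : Subgroup G} (hT : Cfsg.TransitivityHypothesis A) {q : ℕ} [hq : Fact q.Prime]
    (hqA : ¬ q ∣ Nat.card A)
    (P : Subgroup G) (hPtop : P ≠ ⊤)
    (hPπ : ∀ r : ℕ, r.Prime → r ∣ Nat.card P → r ∣ Nat.card A)
    (f : ℕ → Subgroup G) (hmono : Monotone f)
    (hnorm : ∀ i, f (i + 1) ≤ normalizer (f i : Set G))
    (h0 : f 0 = A) (hfP : ∀ i, f i ≤ P) (hA0 : TransOn q A A) : ∀ i, TransOn q A (f i) := by
  intro i
  induction i with
  | zero => rw [h0]; exact hA0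
  | succ i ih =>
    refine transOn_step hS hsolv hT hqA ?_ (hmono (Nat.le_succ i)) (hnorm i) ?_ ?_ ih
    · rw [← h0]; exact hmono (Nat.zero_le i)
    · intro h
      apply hPtop
      rw [eq_top_iff, ← h]
      exact hfP (i + 1)
    · intro r hr hdvd
      exact hPπ r hr (hdvd.trans (card_dvd_of_le (hfP (i + 1))))

theorem exists_chain_of_isSubnormal {A P : Subgroup G} (hAP : A ≤ P)
    (hsn : (A.subgroupOf P).IsSubnormal) :
    ∃ n : ℕ, ∃ f : ℕ → Subgroup G, Monotone f ∧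
      (∀ i, f (i + 1) ≤ normalizer (f i : Set G)) ∧ f 0 = A ∧ f n = P ∧ ∀ i, f i ≤ P := by
  obtain ⟨n, f, hmono, hnormal, hf0, hfn⟩ := IsSubnormal.isSubnormal_iff.mp hsn
  refine ⟨n, fun i => (f i).map P.subtype, ?_, ?_, ?_, ?_, ?_⟩
  · intro i j hij
    exact Subgroup.map_mono (hmono hij)
  · intro i
    have hN := hnormal i
    have key : ∀ x ∈ (f (i + 1)).map P.subtype, ∀ y ∈ (f i).map P.subtype,
        x * y * x⁻¹ ∈ (f i).map P.subtype := by
      rintro _ ⟨x, hx, rfl⟩ _ ⟨y, hy, rfl⟩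
      have hy' : y ∈ f (i + 1) := hmono (Nat.le_succ i) hy
      have := hN.conj_mem ⟨y, hy'⟩ (mem_subgroupOf.mpr hy) ⟨x, hx⟩
      rw [mem_subgroupOf] at this
      exact ⟨x * y * x⁻¹, by simpa using this, by simp⟩
    intro x hx
    rw [mem_normalizer_iff]
    intro y
    constructor
    · exact key x hx y
    · intro hy
      have := key x⁻¹ (inv_mem hx) _ hy
      have e2 : x⁻¹ * (x * y * x⁻¹) * x⁻¹⁻¹ = y := by group
      rwa [e2] at this
  · simp only
    rw [hf0]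
    exact map_subgroupOf_eq_of_le hAP
  · simp only
    rw [hfn, ← MonoidHom.range_eq_map, range_subtype]
  · intro i
    exact map_subtype_le _

/-- Frattini argument for a transitive normal subgroup -/
theorem normalizer_eq_sup_of_transitive {q : ℕ} {P Q K : Subgroup G}
    (hKC : K ≤ centralizer (P : Set G))
    (htrans : ∀ Q₁ Q₂ : Subgroup G, IsMaxInv q P Q₁ → IsMaxInv q P Q₂ →
      ∃ k ∈ K, Q₂ = Q₁.map (MulAut.conj k).toMonoidHom)
    (hQ : IsMaxInv q P Q) :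
    normalizer (P : Set G) = K ⊔ (normalizer (P : Set G) ⊓ normalizer (Q : Set G)) := by
  have hKN : K ≤ normalizer (P : Set G) := hKC.trans (centralizer_le_normalizer _)
  apply le_antisymm
  · intro n hn
    obtain ⟨k, hk, hkQ⟩ := htrans Q _ hQ (hQ.map_conj' hn)
    have h1 : k⁻¹ * n ∈ normalizer (Q : Set G) := by
      have heq : Q.map (MulAut.conj (k⁻¹ * n)).toMonoidHom = Q := by
        rw [← map_conj_map_conj, hkQ, map_conj_map_conj, inv_mul_cancel, map_conj_one]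
      rw [mem_normalizer_iff_map_conj_eq]
      exact heq
    have h2 : k⁻¹ * n ∈ normalizer (P : Set G) := mul_mem (inv_mem (hKN hk)) hn
    have : n = k * (k⁻¹ * n) := by group
    rw [this]
    exact mul_mem_sup hk ⟨h2, h1⟩
  · exact sup_le hKN inf_le_left

/-- focal-type consequence of a coprime normal factorization -/
theorem inf_commutator_le_of_factorization {P K N N₁ : Subgroup G}
    (hNK : N ≤ normalizer (K : Set G)) (hN₁N : N₁ ≤ N)
    (hfac : ∀ n ∈ N, ∃ k ∈ K, ∃ n₁ ∈ N₁, n = k * n₁)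
    (hPN₁ : P ≤ N₁) (hcop : (Nat.card P).Coprime (Nat.card K)) :
    P ⊓ ⁅N, N⁆ ≤ ⁅N₁, N₁⁆ := by
  set D : Subgroup G := ⁅N₁, N₁⁆ with hD
  have hDN₁ : D ≤ N₁ := commutator_le_of_le_normalizer le_normalizer
  have hDN : D ≤ N := hDN₁.trans hN₁N
  have hN₁D : N₁ ≤ normalizer (D : Set G) := le_normalizer_commutator_left N₁ N₁
  have hconjK : ∀ n ∈ N, ∀ k ∈ K, n * k * n⁻¹ ∈ K := fun n hn k hk =>
    (mem_normalizer_iff.mp (hNK hn) k).mp hk
  have hconjK' : ∀ n ∈ N, ∀ k ∈ K, n⁻¹ * k * n ∈ K := fun n hn k hk => by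
    have := hconjK n⁻¹ (inv_mem hn) k hk
    simpa using this
  -- the subgroup `K * D`
  let S : Subgroup G :=
    { carrier := {y | ∃ k ∈ K, ∃ d ∈ D, y = k * d}
      one_mem' := ⟨1, K.one_mem, 1, D.one_mem, by simp⟩
      mul_mem' := by
        rintro _ _ ⟨k, hk, d, hd, rfl⟩ ⟨k', hk', d', hd', rfl⟩
        refine ⟨k * (d * k' * d⁻¹), K.mul_mem hk (hconjK d (hDN hd) k' hk'), d * d',
          D.mul_mem hd hd', by group⟩
      inv_mem' := by
        rintro _ ⟨k, hk, d, hd, rfl⟩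
        refine ⟨d⁻¹ * k⁻¹ * d, hconjK' d (hDN hd) k⁻¹ (K.inv_mem hk), d⁻¹, D.inv_mem hd,
          by group⟩ }
  have hS : ⁅N, N⁆ ≤ S := by
    rw [commutator_le]
    intro a ha b hb
    obtain ⟨k₁, hk₁, n₁, hn₁, rfl⟩ := hfac a ha
    obtain ⟨k₂, hk₂, n₂, hn₂, rfl⟩ := hfac b hb
    have hn₁N := hN₁N hn₁
    have hn₂N := hN₁N hn₂
    refine ⟨k₁ * (n₁ * k₂ * n₁⁻¹) * ((n₁ * n₂ * n₁⁻¹) * k₁⁻¹ * (n₁ * n₂ * n₁⁻¹)⁻¹) *
      ((n₁ * n₂ * n₁⁻¹ * n₂⁻¹) * k₂⁻¹ * (n₁ * n₂ * n₁⁻¹ * n₂⁻¹)⁻¹), ?_, ⁅n₁, n₂⁆,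
      commutator_mem_commutator hn₁ hn₂, ?_⟩
    · refine K.mul_mem (K.mul_mem (K.mul_mem hk₁ (hconjK n₁ hn₁N k₂ hk₂)) ?_) ?_
      · exact hconjK _ (N.mul_mem (N.mul_mem hn₁N hn₂N) (N.inv_mem hn₁N)) _ (K.inv_mem hk₁)
      · exact hconjK _ (N.mul_mem (N.mul_mem (N.mul_mem hn₁N hn₂N) (N.inv_mem hn₁N))
          (N.inv_mem hn₂N)) _ (K.inv_mem hk₂)
    · rw [commutatorElement_def, commutatorElement_def]
      group
  rintro x ⟨hxP, hxC⟩
  obtain ⟨k, hk, d, hd, hxkd⟩ := hS hxC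
  have hxN₁ : x ∈ N₁ := hPN₁ hxP
  have hkN₁ : k ∈ N₁ := by
    have : k = x * d⁻¹ := by rw [hxkd]; group
    rw [this]
    exact N₁.mul_mem hxN₁ (N₁.inv_mem (hDN₁ hd))
  have hpow : ∀ j : ℕ, ∃ e ∈ D, (k * d) ^ j = k ^ j * e := by
    intro j
    induction j with
    | zero => exact ⟨1, D.one_mem, by simp⟩
    | succ j ih =>
      obtain ⟨e, he, hej⟩ := ih
      have hconj : k⁻¹ * e * k ∈ D := by
        have := (mem_normalizer_iff.mp (hN₁D (N₁.inv_mem hkN₁)) e).mp he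
        simpa using this
      refine ⟨k⁻¹ * e * k * d, D.mul_mem hconj hd, ?_⟩
      rw [pow_succ, hej, pow_succ]
      group
  obtain ⟨e, he, hem⟩ := hpow (Nat.card K)
  have hkm : k ^ Nat.card K = 1 := by
    have h1 : (⟨k, hk⟩ : K) ^ Nat.card K = 1 := pow_card_eq_one'
    have h2 := congrArg (Subtype.val : K → G) h1
    simp only [SubmonoidClass.coe_pow, OneMemClass.coe_one] at h2
    exact h2
  rw [hkm, one_mul, ← hxkd] at hem
  have hord : (Nat.card K).Coprime (orderOf x) :=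
    (Nat.Coprime.coprime_dvd_left (Subgroup.orderOf_dvd_natCard P hxP) hcop).symm
  obtain ⟨t, ht⟩ := exists_pow_eq_self_of_coprime hord
  rw [← ht, hem]
  exact D.pow_mem he t

/-- **B&G Theorem 7.7-style**: transitivity for `A` passes to `P`. -/
theorem transitivity_overgroup (hS : IsSimpleGroup G)
    (hsolv : ∀ H : Subgroup G, H ≠ ⊤ → Group.IsSolvable H)
    {A : Subgroup G} (hT : Cfsg.TransitivityHypothesis A) {q : ℕ} [hq : Fact q.Prime]
    (hqA : ¬ q ∣ Nat.card A)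
    (P : Subgroup G) (hPtop : P ≠ ⊤)
    (hPπ : ∀ r : ℕ, r.Prime → r ∣ Nat.card P → r ∣ Nat.card A) (hAP : A ≤ P)
    (hsn : (A.subgroupOf P).IsSubnormal) (hA0 : TransOn q A A) :
    TransOn q A P ∧ ∀ Q : Subgroup G, IsMaxInv q P Q →
      P ⊓ ⁅normalizer (P : Set G), normalizer (P : Set G)⁆ ≤
          ⁅normalizer (Q : Set G), normalizer (Q : Set G)⁆ ∧
        normalizer (P : Set G) =
          Cfsg.piCoreOf (Cfsg.primesNotDvd (Nat.card A)) (centralizer (P : Set G)) ⊔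
            (normalizer (P : Set G) ⊓ normalizer (Q : Set G)) := by
  obtain ⟨n, f, hmono, hnorm, h0, hn, hfP⟩ := exists_chain_of_isSubnormal hAP hsn
  have hP : TransOn q A P := by
    have := transOn_chain hS hsolv hT hqA P hPtop hPπ f hmono hnorm h0 hfP hA0 n
    rwa [hn] at this
  refine ⟨hP, ?_⟩
  intro Q hQ
  set K : Subgroup G := Cfsg.piCoreOf (Cfsg.primesNotDvd (Nat.card A)) (centralizer (P : Set G))
    with hK
  have hKC : K ≤ centralizer (P : Set G) := piCoreOf_le _ _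
  have hfr := normalizer_eq_sup_of_transitive hKC hP.1 hQ
  refine ⟨?_, hfr⟩
  set N : Subgroup G := normalizer (P : Set G) with hN
  set N₁ : Subgroup G := N ⊓ normalizer (Q : Set G) with hN₁
  have hKN : K ≤ N := hKC.trans (centralizer_le_normalizer _)
  have hNK : N ≤ normalizer (K : Set G) :=
    (normalizer_le_normalizer_centralizer P).trans (normalizer_le_normalizer_piCoreOf _ _)
  have hfac : ∀ n ∈ N, ∃ k ∈ K, ∃ n₁ ∈ N₁, n = k * n₁ := by
    intro n hn
    obtain ⟨k, hk, hkQ⟩ := hP.1 Q _ hQ (hQ.map_conj' hn)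
    have h1 : k⁻¹ * n ∈ normalizer (Q : Set G) := by
      have heq : Q.map (MulAut.conj (k⁻¹ * n)).toMonoidHom = Q := by
        rw [← map_conj_map_conj, hkQ, map_conj_map_conj, inv_mul_cancel, map_conj_one]
      rw [mem_normalizer_iff_map_conj_eq]
      exact heq
    exact ⟨k, hk, k⁻¹ * n, Subgroup.mem_inf.mpr ⟨N.mul_mem (N.inv_mem (hKN hk)) hn, h1⟩,
      by group⟩
  have hPN₁ : P ≤ N₁ := le_inf le_normalizer hQ.2.1
  have hcop : (Nat.card P).Coprime (Nat.card K) := by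
    by_contra hcon
    obtain ⟨r, hr, hrP, hrK⟩ := Nat.Prime.not_coprime_iff_dvd.mp hcon
    exact Nat.Prime.not_coprime_iff_dvd.mpr ⟨r, hr, hrK, hPπ r hr hrP⟩ (piCoreOf_coprime _ _)
  exact (inf_commutator_le_of_factorization hNK inf_le_left hfac hPN₁ hcop).trans
    (commutator_mono inf_le_right inf_le_right)

end Cfsg.Agent.Lead.TT
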