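import Mathlib
import Cfsg.Agent.Lead.Bender3
import Cfsg.Agent.Lead.TT8
import Cfsg.Agent.Lead.TT11
import Cfsg.Agent.Lead.CoprimeSylow
import Cfsg.Agent.Helper7.NilpotentPQ
import Cfsg.Agent.Helper10.CosetFixed
import Cfsg.Agent.S0067

set_option autoImplicit false
set_option linter.unusedSectionVars false
set_option linter.unusedVariables false
set_option linter.style.haveILetI false

/-! # B&G Theorem 8.1(a): `C_F(A₀)` is a uniqueness subgroup when `F(M)` is not a `p`-group -/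

namespace Cfsg.Agent.Lead.BG8

open Subgroup Cfsg
open Cfsg.Agent.Lead.Bender
open Cfsg.Agent.Lead.TT
open Cfsg.Agent.Helper1 (centerIn centerIn_ne_bot normalizer_le_normalizer_centerIn)

variable {G : Type*} [Group G] [Finite G]

theorem fittingOf_le (M : Subgroup G) : fittingOf M ≤ M := by
  unfold fittingOf; exact map_subtype_le _

theorem fittingOf_isNilpotent (M : Subgroup G) : Group.IsNilpotent (fittingOf M) := by
  unfold fittingOf
  haveI : Group.IsNilpotent (fittingSubgroup ↥M) := Cfsg.Agent.Helper7.fittingSubgroup_isNilpotent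
  exact Group.nilpotent_of_surjective
    ((fittingSubgroup ↥M).equivMapOfInjective M.subtype M.subtype_injective).toMonoidHom
    (MulEquiv.surjective _)

theorem inf_centralizer_fittingOf_le {M : Subgroup G} (hM : Group.IsSolvable M) :
    M ⊓ centralizer (fittingOf M : Set G) ≤ fittingOf M := by
  intro n hn
  obtain ⟨hnM, hnC⟩ := mem_inf.1 hn
  have h1 : (⟨n, hnM⟩ : M) ∈ centralizer (fittingSubgroup ↥M : Set ↥M) := by
    rw [mem_centralizer_iff]
    intro f hf
    apply Subtype.ext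
    have hfG : (f : G) ∈ fittingOf M := ⟨f, hf, rfl⟩
    have := mem_centralizer_iff.1 hnC (f : G) hfG
    simpa using this
  haveI := hM
  exact ⟨⟨n, hnM⟩, Cfsg.Agent.S0044.result (G := ↥M) h1, rfl⟩

theorem coprime_iff_of_same_primes {a b : ℕ} (h : ∀ r : ℕ, r.Prime → (r ∣ a ↔ r ∣ b)) (n : ℕ) :
    n.Coprime a ↔ n.Coprime b := by
  constructor
  · intro hc
    by_contra hcon
    obtain ⟨r, hr, h1, h2⟩ := Nat.Prime.not_coprime_iff_dvd.1 hcon
    exact Nat.Prime.not_coprime_iff_dvd.2 ⟨r, hr, h1, (h r hr).2 h2⟩ hc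
  · intro hc
    by_contra hcon
    obtain ⟨r, hr, h1, h2⟩ := Nat.Prime.not_coprime_iff_dvd.1 hcon
    exact Nat.Prime.not_coprime_iff_dvd.2 ⟨r, hr, h1, (h r hr).1 h2⟩ hc

/-- the centre of `O_r(M)` has normalizer `M`, so its centralizer lies in `M` -/
theorem centralizer_centerIn_le (hS : IsSimpleGroup G) {M : Subgroup G} (hM : IsCoatom M)
    {r : ℕ} [hr : Fact r.Prime] (hdvd : r ∣ Nat.card (fittingOf M)) :
    normalizer (centerIn (pCoreOf r M) : Set G) = M := by
  apply normalizer_eq_of_coatom hS hM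
  · exact centerIn_ne_bot (Cfsg.Agent.Helper14.pCoreOf_isPGroup r M) (pCoreOf_ne_bot_of_dvd M hdvd)
  · exact inf_le_left.trans (Cfsg.Agent.Helper14.pCoreOf_le r M)
  · exact (Cfsg.Agent.Helper14.le_normalizer_pCoreOf r M).trans
      (normalizer_le_normalizer_centerIn _)

section Ctx

variable (hS : IsSimpleGroup G) (hsolv : ∀ X : Subgroup G, X ≠ ⊤ → Group.IsSolvable X)
  {M : Subgroup G} (hM : IsCoatom M) {p : ℕ} [hp : Fact p.Prime] {A₀ : Subgroup G}
  (hA₀ : A₀ ≤ fittingOf M) (hA₀e : IsElementaryAbelian p A₀) (hA₀3 : p ^ 3 ≤ Nat.card A₀)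

theorem A₀_le_centralizer (hA₀e : IsElementaryAbelian p A₀) : A₀ ≤ centralizer (A₀ : Set G) := by
  intro a ha
  rw [mem_centralizer_iff]
  intro b hb
  have := hA₀e.1.is_comm.comm ⟨b, hb⟩ ⟨a, ha⟩
  exact congrArg Subtype.val this

theorem A₀_le_A (hA₀ : A₀ ≤ fittingOf M) (hA₀e : IsElementaryAbelian p A₀) :
    A₀ ≤ fittingOf M ⊓ centralizer (A₀ : Set G) := le_inf hA₀ (A₀_le_centralizer hA₀e)

theorem A₀_isPGroup (hA₀e : IsElementaryAbelian p A₀) : IsPGroup p A₀ := by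
  intro a
  refine ⟨1, ?_⟩
  apply Subtype.ext
  simpa using hA₀e.2 a a.2

theorem p_dvd_card_A₀ (hA₀e : IsElementaryAbelian p A₀) (hA₀3 : p ^ 3 ≤ Nat.card A₀) :
    p ∣ Nat.card A₀ := by
  obtain ⟨k, hk⟩ := IsPGroup.iff_card.1 (A₀_isPGroup hA₀e)
  rw [hk]
  rcases k with _ | k
  · rw [hk, pow_zero] at hA₀3
    have := hp.out.two_le
    have : 8 ≤ p ^ 3 := by
      calc 8 = 2 ^ 3 := by norm_num
        _ ≤ p ^ 3 := Nat.pow_le_pow_left this 3
    omega
  · exact dvd_pow_self p (Nat.succ_ne_zero k)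

theorem p_dvd_card_F (hA₀ : A₀ ≤ fittingOf M) (hA₀e : IsElementaryAbelian p A₀)
    (hA₀3 : p ^ 3 ≤ Nat.card A₀) : p ∣ Nat.card (fittingOf M) :=
  (p_dvd_card_A₀ hA₀e hA₀3).trans (card_dvd_of_le hA₀)

theorem A₀_ne_bot (hA₀e : IsElementaryAbelian p A₀) (hA₀3 : p ^ 3 ≤ Nat.card A₀) : A₀ ≠ ⊥ := by
  intro h
  have := p_dvd_card_A₀ hA₀e hA₀3
  rw [h, Subgroup.card_bot] at this
  exact hp.out.one_lt.ne' (Nat.dvd_one.1 this)

/-- `Z(O_r(M)) ≤ A` -/
theorem centerIn_le_A (hA₀ : A₀ ≤ fittingOf M) (r : ℕ) [Fact r.Prime] :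
    centerIn (pCoreOf r M) ≤ fittingOf M ⊓ centralizer (A₀ : Set G) := by
  have h := centerIn_pCoreOf_le M r
  exact le_inf (h.trans inf_le_left) ((h.trans inf_le_right).trans (centralizer_le hA₀))

theorem centralizer_A_le (hS : IsSimpleGroup G) (hM : IsCoatom M) (hA₀ : A₀ ≤ fittingOf M)
    (hA₀e : IsElementaryAbelian p A₀) (hA₀3 : p ^ 3 ≤ Nat.card A₀) :
    centralizer ((fittingOf M ⊓ centralizer (A₀ : Set G) : Subgroup G) : Set G) ≤ M := by
  have h1 := centralizer_centerIn_le hS hM (r := p) (p_dvd_card_F hA₀ hA₀e hA₀3)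
  calc centralizer ((fittingOf M ⊓ centralizer (A₀ : Set G) : Subgroup G) : Set G)
      ≤ centralizer (centerIn (pCoreOf p M) : Set G) := centralizer_le (centerIn_le_A hA₀ p)
    _ ≤ normalizer (centerIn (pCoreOf p M) : Set G) := centralizer_le_normalizer _
    _ = M := h1

/-- the `A × B`-lemma consequence: a subgroup of `C(A)` of order coprime to `|F|` is trivial -/
theorem eq_bot_of_le_centralizer_A (hS : IsSimpleGroup G)
    (hsolv : ∀ X : Subgroup G, X ≠ ⊤ → Group.IsSolvable X) (hM : IsCoatom M)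
    (hA₀ : A₀ ≤ fittingOf M)
    (hA₀e : IsElementaryAbelian p A₀) (hA₀3 : p ^ 3 ≤ Nat.card A₀) {D : Subgroup G}
    (hD : D ≤ centralizer ((fittingOf M ⊓ centralizer (A₀ : Set G) : Subgroup G) : Set G))
    (hcop : (Nat.card D).Coprime (Nat.card (fittingOf M))) : D = ⊥ := by
  set F := fittingOf M with hF
  set A := F ⊓ centralizer (A₀ : Set G) with hA
  have hDM : D ≤ M := hD.trans (centralizer_A_le hS hM hA₀ hA₀e hA₀3)
  have hDF : D ≤ normalizer (F : Set G) := hDM.trans (le_normalizer_fittingOf M)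
  have hAD : A ≤ centralizer (D : Set G) := le_centralizer_iff.1 hD
  have hC : F ⊓ centralizer (A : Set G) ≤ centralizer (D : Set G) := by
    refine le_trans ?_ hAD
    exact le_inf inf_le_left (inf_le_right.trans (centralizer_le (A₀_le_A hA₀ hA₀e)))
  have h1 := Cfsg.Agent.Helper7.nilpotent_PQ F D A (fittingOf_isNilpotent M) hcop hDF inf_le_left
    hAD hC
  have h2 : D ≤ F := (le_inf hDM h1).trans (inf_centralizer_fittingOf_le (hsolv M hM.1))
  have h3 : D ⊓ F = ⊥ := (disjoint_of_coprime_natCard hcop).eq_bot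
  rw [eq_bot_iff, ← h3]
  exact le_inf le_rfl h2

/-- `π(A) = π(F)` -/
theorem dvd_card_A_iff (hA₀ : A₀ ≤ fittingOf M) {r : ℕ} (hr : r.Prime) :
    r ∣ Nat.card (fittingOf M ⊓ centralizer (A₀ : Set G) : Subgroup G) ↔
      r ∣ Nat.card (fittingOf M) := by
  constructor
  · intro h
    exact h.trans (card_dvd_of_le inf_le_left)
  · intro h
    haveI : Fact r.Prime := ⟨hr⟩
    have hne : centerIn (pCoreOf r M) ≠ ⊥ :=
      centerIn_ne_bot (Cfsg.Agent.Helper14.pCoreOf_isPGroup r M) (pCoreOf_ne_bot_of_dvd M h)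
    have hpg : IsPGroup r (centerIn (pCoreOf r M)) :=
      (Cfsg.Agent.Helper14.pCoreOf_isPGroup r M).to_le inf_le_left
    obtain ⟨k, hk⟩ := IsPGroup.iff_card.1 hpg
    have hk0 : k ≠ 0 := by
      intro h0
      rw [h0, pow_zero] at hk
      exact hne ((Subgroup.card_eq_one).1 hk)
    have h1 : r ∣ Nat.card (centerIn (pCoreOf r M)) := by rw [hk]; exact dvd_pow_self r hk0
    exact h1.trans (card_dvd_of_le (centerIn_le_A hA₀ r))

theorem coprime_A_iff (hA₀ : A₀ ≤ fittingOf M) (n : ℕ) :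
    n.Coprime (Nat.card (fittingOf M ⊓ centralizer (A₀ : Set G) : Subgroup G)) ↔
      n.Coprime (Nat.card (fittingOf M)) :=
  coprime_iff_of_same_primes (fun r hr => dvd_card_A_iff hA₀ hr) n

end Ctx

end Cfsg.Agent.Lead.BG8
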