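import Mathlib
import Cfsg.Agent.Lead.BG8a

set_option autoImplicit false
set_option linter.unusedSectionVars false
set_option linter.unusedVariables false
set_option linter.style.haveILetI false

/-! # B&G Theorem 8.1(a), continued: the transitivity hypothesis for `A = C_F(A₀)` -/

namespace Cfsg.Agent.Lead.BG8

open Subgroup Cfsg
open Cfsg.Agent.Lead.Bender
open Cfsg.Agent.Lead.TT
open Cfsg.Agent.Helper1 (centerIn centerIn_ne_bot normalizer_le_normalizer_centerIn)

variable {G : Type*} [Group G] [Finite G]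

theorem isSolvable_of_isPGroup {r : ℕ} [Fact r.Prime] {T : Subgroup G} (hT : IsPGroup r T) :
    Group.IsSolvable T := by
  haveI := hT.isNilpotent
  exact IsNilpotent.to_isSolvable

theorem coprime_card_of_isPGroup_of_ne {r q : ℕ} (hr : r.Prime) (hq : q.Prime) (hne : r ≠ q)
    {T : Subgroup G} (hT : IsPGroup r T) : (Nat.card T).Coprime q := by
  haveI : Fact r.Prime := ⟨hr⟩
  obtain ⟨k, hk⟩ := IsPGroup.iff_card.1 hT
  rw [hk]
  exact Nat.Coprime.pow_left _ ((Nat.coprime_primes hr hq).2 hne)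

/-- the normed-constrained core: an `A`-invariant `π'`-subgroup of a proper overgroup `X` of `A`
lies in `O_{q'}(X)` for each `q ∈ π` -/
theorem inv_le_Oc (hS : IsSimpleGroup G)
    (hsolv : ∀ X : Subgroup G, X ≠ ⊤ → Group.IsSolvable X) {M : Subgroup G} (hM : IsCoatom M)
    {p : ℕ} [hp : Fact p.Prime] {A₀ : Subgroup G}
    (hA₀ : A₀ ≤ fittingOf M) (hA₀e : IsElementaryAbelian p A₀) (hA₀3 : p ^ 3 ≤ Nat.card A₀)
    (hF2 : 2 ≤ (Nat.card (fittingOf M)).primeFactors.card)
    {X Y : Subgroup G} (hX : X ≠ ⊤) (hAX : fittingOf M ⊓ centralizer (A₀ : Set G) ≤ X)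
    (hYX : Y ≤ X) (hYcop : (Nat.card Y).Coprime (Nat.card (fittingOf M)))
    (hAY : fittingOf M ⊓ centralizer (A₀ : Set G) ≤ normalizer (Y : Set G))
    {q : ℕ} (hq : q ∈ (Nat.card (fittingOf M)).primeFactors) : Y ≤ Oc q X := by
  set F := fittingOf M with hF
  set A := F ⊓ centralizer (A₀ : Set G) with hA
  have hqp : q.Prime := Nat.prime_of_mem_primeFactors hq
  haveI : Fact q.Prime := ⟨hqp⟩
  obtain ⟨r, hr, hrq⟩ := Finset.exists_mem_ne hF2 q
  have hrp : r.Prime := Nat.prime_of_mem_primeFactors hr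
  haveI : Fact r.Prime := ⟨hrp⟩
  have hqF : q ∣ Nat.card F := Nat.dvd_of_mem_primeFactors hq
  have hrF : r ∣ Nat.card F := Nat.dvd_of_mem_primeFactors hr
  have hXsolv : Group.IsSolvable X := hsolv X hX
  have hFM : F ≤ M := fittingOf_le M
  have hAM : A ≤ M := inf_le_left.trans hFM
  -- the subgroups
  set Fr := pCoreOf r M with hFr
  have hFrp : IsPGroup r Fr := Cfsg.Agent.Helper14.pCoreOf_isPGroup r M
  have hFrM : Fr ≤ M := Cfsg.Agent.Helper14.pCoreOf_le r M
  have hMFr : M ≤ normalizer (Fr : Set G) := Cfsg.Agent.Helper14.le_normalizer_pCoreOf r M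
  have hFrF : Fr ≤ F := pCoreOf_le_fittingOf M r
  set Zq := centerIn (pCoreOf q M) with hZq
  have hNZq : normalizer (Zq : Set G) = M := centralizer_centerIn_le hS hM hqF
  have hZqA : Zq ≤ A := centerIn_le_A hA₀ q
  have hZqp : IsPGroup q Zq := (Cfsg.Agent.Helper14.pCoreOf_isPGroup q M).to_le inf_le_left
  set Zr := centerIn (pCoreOf r M) with hZr
  have hNZr : normalizer (Zr : Set G) = M := centralizer_centerIn_le hS hM hrF
  have hZrA : Zr ≤ A := centerIn_le_A hA₀ r
  -- `T = F_r ∩ X ≤ O_{q'}(X)`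
  set O := Oc q X with hO
  have hTO : Fr ⊓ X ≤ O := by
    apply le_Oc_of_local hXsolv (hZqA.trans hAX) hZqp inf_le_right
    · rw [hNZq]; exact inf_le_left.trans hFrM
    · rw [hNZq]
      apply Cfsg.Agent.Lead.le_normalizer_inf'
      · exact inf_le_right.trans hMFr
      · exact inf_le_left.trans le_normalizer
    · exact coprime_card_of_isPGroup_of_ne hrp hqp hrq (hFrp.to_le inf_le_left)
  set Ar := Fr ⊓ centralizer (A₀ : Set G) with hAr
  have hArA : Ar ≤ A := le_inf (inf_le_left.trans hFrF) inf_le_right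
  have hArO : Ar ≤ O := (le_inf inf_le_left (hArA.trans hAX)).trans hTO
  have hZrAr : Zr ≤ Ar := le_inf inf_le_left (hZrA.trans inf_le_right)
  have hArp : IsPGroup r Ar := hFrp.to_le inf_le_left
  -- `A` normalizes `A_r`
  have hAAr : A ≤ normalizer (Ar : Set G) := by
    apply Cfsg.Agent.Lead.le_normalizer_inf'
    · exact hAM.trans hMFr
    · exact inf_le_right.trans le_normalizer
  have hXO : X ≤ normalizer (O : Set G) := le_normalizer_Oc q X
  have hYF : Y ⊓ F = ⊥ := (disjoint_of_coprime_natCard hYcop).eq_bot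
  -- `D = C_Y(A_r)` is trivial
  have hD : Y ⊓ centralizer (Ar : Set G) = ⊥ := by
    apply eq_bot_of_le_centralizer_A hS hsolv hM hA₀ hA₀e hA₀3
    · intro d hd
      obtain ⟨hdY, hdC⟩ := mem_inf.1 hd
      have hdM : d ∈ M := by
        have : d ∈ normalizer (Zr : Set G) :=
          centralizer_le_normalizer _ (centralizer_le hZrAr hdC)
        rwa [hNZr] at this
      rw [mem_centralizer_iff]
      intro a ha
      -- the commutator lies in `Y ∩ F`
      have haN : a ∈ normalizer ((Y ⊓ centralizer (Ar : Set G) : Subgroup G) : Set G) := by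
        apply Cfsg.Agent.Lead.le_normalizer_inf' hAY _ ha
        exact hAAr.trans (TT.normalizer_le_normalizer_centralizer Ar)
      have h1 : a * d * a⁻¹ * d⁻¹ ∈ Y ⊓ F := by
        refine mem_inf.2 ⟨?_, ?_⟩
        · have h2 : a * d * a⁻¹ ∈ Y ⊓ centralizer (Ar : Set G) := (mem_normalizer_iff.1 haN d).1 hd
          exact Y.mul_mem (mem_inf.1 h2).1 (Y.inv_mem hdY)
        · have haF : a ∈ F := (mem_inf.1 ha).1
          have h2 : d * a⁻¹ * d⁻¹ ∈ F :=
            (mem_normalizer_iff.1 (le_normalizer_fittingOf M hdM) a⁻¹).1 (F.inv_mem haF)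
          have e : a * d * a⁻¹ * d⁻¹ = a * (d * a⁻¹ * d⁻¹) := by group
          rw [e]; exact F.mul_mem haF h2
      rw [hYF, mem_bot] at h1
      have e : a * d = (a * d * a⁻¹ * d⁻¹) * (d * a) := by group
      rw [e, h1, one_mul]
    · exact Nat.Coprime.coprime_dvd_left (card_dvd_of_le inf_le_left) hYcop
  -- coprime action: `Y = C_Y(A_r) (Y ∩ O)`
  intro y hy
  have hYO : Y ≤ normalizer ((Y ⊓ O : Subgroup G) : Set G) :=
    Cfsg.Agent.Lead.le_normalizer_inf' le_normalizer (hYX.trans hXO)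
  have hArYO : Ar ≤ normalizer ((Y ⊓ O : Subgroup G) : Set G) :=
    Cfsg.Agent.Lead.le_normalizer_inf' (hArA.trans hAY) ((hArA.trans hAX).trans hXO)
  have hcop : (Nat.card Ar).Coprime (Nat.card (Y ⊓ O : Subgroup G)) := by
    have h1 : Nat.card Ar ∣ Nat.card F := card_dvd_of_le (inf_le_left.trans hFrF)
    have h2 : Nat.card (Y ⊓ O : Subgroup G) ∣ Nat.card Y := card_dvd_of_le inf_le_left
    exact (Nat.Coprime.coprime_dvd_left h2 (Nat.Coprime.coprime_dvd_right h1 hYcop)).symm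
  have hfix : ∀ a ∈ Ar, ∀ k ∈ Y, a * k * a⁻¹ * k⁻¹ ∈ Y ⊓ O := by
    intro a ha k hk
    refine mem_inf.2 ⟨?_, ?_⟩
    · have h2 : a * k * a⁻¹ ∈ Y := (mem_normalizer_iff.1 (hAY (hArA ha)) k).1 hk
      exact Y.mul_mem h2 (Y.inv_mem hk)
    · have haO : a ∈ O := hArO ha
      have h2 : k * a⁻¹ * k⁻¹ ∈ O := (mem_normalizer_iff.1 (hXO (hYX hk)) a⁻¹).1 (O.inv_mem haO)
      have e : a * k * a⁻¹ * k⁻¹ = a * (k * a⁻¹ * k⁻¹) := by group
      rw [e]; exact O.mul_mem haO h2
  obtain ⟨c, hc, hyc⟩ := Cfsg.Agent.Helper10.exists_centralizing_in_coset (inf_le_left : Y ⊓ O ≤ Y)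
    hYO hArYO hcop (Or.inl (isSolvable_of_isPGroup hArp)) hfix hy
  rw [hD, mem_bot] at hc
  rw [hc, mul_one] at hyc
  have := (mem_inf.1 hyc).2
  have h3 := O.inv_mem this
  rwa [inv_inv] at h3

end Cfsg.Agent.Lead.BG8
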