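import Mathlib
import Cfsg.Agent.Lead.BG8b

set_option autoImplicit false
set_option linter.unusedSectionVars false
set_option linter.unusedVariables false
set_option linter.style.haveILetI false

/-! # B&G Theorem 8.1(a): conclusion -/

namespace Cfsg.Agent.Lead.BG8

open Subgroup Cfsg
open Cfsg.Agent.Lead.Bender
open Cfsg.Agent.Lead.TT
open Cfsg.Agent.Helper1 (centerIn centerIn_ne_bot normalizer_le_normalizer_centerIn)

variable {G : Type*} [Group G] [Finite G]

/-- `A = C_F(A₀)` satisfies the transitivity hypothesis (B&G Hypothesis 7.1) -/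
theorem transitivityHypothesis_A (hS : IsSimpleGroup G)
    (hsolv : ∀ X : Subgroup G, X ≠ ⊤ → Group.IsSolvable X) {M : Subgroup G} (hM : IsCoatom M)
    {p : ℕ} [hp : Fact p.Prime] {A₀ : Subgroup G}
    (hA₀ : A₀ ≤ fittingOf M) (hA₀e : IsElementaryAbelian p A₀) (hA₀3 : p ^ 3 ≤ Nat.card A₀)
    (hF2 : 2 ≤ (Nat.card (fittingOf M)).primeFactors.card) :
    Cfsg.TransitivityHypothesis (fittingOf M ⊓ centralizer (A₀ : Set G)) := by
  set F := fittingOf M with hF
  set A := F ⊓ centralizer (A₀ : Set G) with hA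
  have hAM : A ≤ M := inf_le_left.trans (fittingOf_le M)
  refine ⟨?_, ?_, ?_⟩
  · intro h
    apply A₀_ne_bot hA₀e hA₀3
    rw [eq_bot_iff, ← h]
    exact A₀_le_A hA₀ hA₀e
  · intro h
    apply hM.1
    rw [eq_top_iff, ← h]; exact hAM
  · intro X hX hAX
    apply le_antisymm
    · apply sSup_le
      rintro Y ⟨hYX, hYπ, hAY⟩
      have hYcopA : (Nat.card Y).Coprime (Nat.card A) :=
        (forall_prime_mem_primesNotDvd_iff _ _).mp hYπ
      have hYcop : (Nat.card Y).Coprime (Nat.card F) := (coprime_A_iff hA₀ _).1 hYcopA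
      -- `Y ≤ ⋂_{q ∈ π} O_{q'}(X) ≤ O_{π'}(X)`
      set π := (Nat.card F).primeFactors with hπ
      have hπp : ∀ r ∈ π, r.Prime := fun r hr => Nat.prime_of_mem_primeFactors hr
      have h0 : (0 : ℕ) ∉ π := fun h => Nat.not_prime_zero (hπp 0 h)
      have hYK : Y ≤ Kr π 0 X := by
        apply le_Kr
        intro q hq _
        exact inv_le_Oc hS hsolv hM hA₀ hA₀e hA₀3 hF2 hX hAX hYX hYcop hAY hq
      refine hYK.trans ?_
      have hpπ : p ∈ π := Nat.mem_primeFactors.2
        ⟨hp.out, p_dvd_card_F hA₀ hA₀e hA₀3, Nat.card_pos.ne'⟩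
      have hp0 : p ≠ 0 := hp.out.ne_zero
      show Kr π 0 X ≤ Oc (Nat.card A) X
      apply le_Oc (Kr_le X hpπ hp0) (le_normalizer_Kr π 0 X)
      rw [coprime_A_iff hA₀]
      apply coprime_of_forall_primeFactors Nat.card_pos.ne'
      intro q hq
      exact Kr_coprime X hq (fun h => h0 (h ▸ hq))
    · apply le_sSup
      refine ⟨piCoreOf_le _ X, ?_, hAX.trans (le_normalizer_piCoreOf _ X)⟩
      exact (forall_prime_mem_primesNotDvd_iff _ _).mpr (piCoreOf_coprime _ X)

/-- every `A`-invariant `q`-subgroup (`q ∉ π(F)`) is trivial -/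
theorem inv_eq_bot (hS : IsSimpleGroup G)
    (hsolv : ∀ X : Subgroup G, X ≠ ⊤ → Group.IsSolvable X) {M : Subgroup G} (hM : IsCoatom M)
    {p : ℕ} [hp : Fact p.Prime] {A₀ : Subgroup G}
    (hA₀ : A₀ ≤ fittingOf M) (hA₀e : IsElementaryAbelian p A₀) (hA₀3 : p ^ 3 ≤ Nat.card A₀)
    (hF2 : 2 ≤ (Nat.card (fittingOf M)).primeFactors.card)
    {q : ℕ} [hq : Fact q.Prime] (hqF : ¬ q ∣ Nat.card (fittingOf M)) {R : Subgroup G}
    (hRq : IsPGroup q R)
    (hAR : fittingOf M ⊓ centralizer (A₀ : Set G) ≤ normalizer (R : Set G)) : R = ⊥ := by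
  set F := fittingOf M with hF
  set A := F ⊓ centralizer (A₀ : Set G) with hA
  have hT := transitivityHypothesis_A hS hsolv hM hA₀ hA₀e hA₀3 hF2
  have hAM : A ≤ M := inf_le_left.trans (fittingOf_le M)
  have hAtop : A ≠ ⊤ := hT.2.1
  have hsolvA : Group.IsSolvable A := hsolv A hAtop
  have hqA : ¬ q ∣ Nat.card A := fun h => hqF ((dvd_card_A_iff hA₀ hq.out).1 h)
  have hA₀A : A₀ ≤ A := A₀_le_A hA₀ hA₀e
  have hA₀C : A₀ ≤ centralizer (A : Set G) := le_centralizer_iff.1 inf_le_right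
  -- `O_{π'}(C(A)) = 1`
  have hK : Cfsg.piCoreOf (Cfsg.primesNotDvd (Nat.card A)) (centralizer (A : Set G)) = ⊥ := by
    apply eq_bot_of_le_centralizer_A hS hsolv hM hA₀ hA₀e hA₀3 (piCoreOf_le _ _)
    rw [← coprime_A_iff hA₀]
    exact piCoreOf_coprime _ _
  have huniq : ∀ Q₁ Q₂ : Subgroup G, IsMaxInv q A Q₁ → IsMaxInv q A Q₂ → Q₂ = Q₁ := by
    intro Q₁ Q₂ h₁ h₂
    obtain ⟨c, hc, hcQ⟩ := transitivity_rank_three hS hsolvA hT A₀ hA₀A hA₀C hA₀e hA₀3 hqA h₁ h₂
    rw [hK, mem_bot] at hc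
    rw [hcQ, hc, map_conj_one]
  have hA0 : TransOn q A A := by
    refine ⟨?_, fun Q h => h⟩
    intro Q₁ Q₂ h₁ h₂
    exact transitivity_rank_three hS hsolvA hT A₀ hA₀A hA₀C hA₀e hA₀3 hqA h₁ h₂
  have hFtop : F ≠ ⊤ := by
    intro h
    apply hM.1
    rw [eq_top_iff, ← h]; exact fittingOf_le M
  haveI : Group.IsNilpotent F := fittingOf_isNilpotent M
  have hsn : (A.subgroupOf F).IsSubnormal :=
    Cfsg.Agent.S0067.isSubnormal_of_isNilpotent (G := ↥F) _ (A.subgroupOf F) rfl
  have hover := transitivity_overgroup hS hsolv hT hqA F hFtop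
    (fun r hr h => (dvd_card_A_iff hA₀ hr).2 h) inf_le_left hsn hA0
  -- a maximal `F`-invariant `q`-subgroup
  obtain ⟨Q, -, hQ⟩ := exists_isMaxInv_ge (q := q) F ⊥ (IsPGroup.of_bot) (by
    intro f _
    rw [mem_normalizer_iff]
    intro x
    simp only [mem_bot]
    constructor
    · intro h; rw [h]; group
    · intro h
      have e : x = f⁻¹ * (f * x * f⁻¹) * f := by group
      rw [e, h]; group)
  have hQA : IsMaxInv q A Q := hover.1.2 Q hQ
  have hMQ : M ≤ normalizer (Q : Set G) := by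
    intro m hm
    have h1 := hQ.map_conj' (le_normalizer_fittingOf M hm)
    have h2 := huniq Q _ hQA (hover.1.2 _ h1)
    rw [mem_normalizer_iff_map_conj_eq]
    exact h2
  have hQbot : Q = ⊥ := by
    by_contra hne
    have hQtop : Q ≠ ⊤ := by
      intro h
      have h1 : Nat.card A ∣ Nat.card Q := card_dvd_of_le (h ▸ le_top)
      obtain ⟨k, hk⟩ := IsPGroup.iff_card.1 hQ.1
      rw [hk] at h1
      obtain ⟨j, -, hj⟩ := (Nat.dvd_prime_pow hq.out).1 h1
      rcases j with _ | j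
      · rw [pow_zero] at hj
        exact hT.1 ((Subgroup.card_eq_one).1 hj)
      · exact hqA (hj ▸ dvd_pow_self q (Nat.succ_ne_zero j))
    have hN := normalizer_ne_top_of_simple hS hne hQtop
    have hNM : normalizer (Q : Set G) = M := by
      rcases hM.le_iff.1 hMQ with h | h
      · exact absurd h hN
      · exact h
    have hQM : Q ≤ M := by rw [← hNM]; exact le_normalizer
    have hQF : Q ≤ F :=
      (Cfsg.Agent.Helper14.le_pCoreOf q hQM hMQ hQ.1).trans (pCoreOf_le_fittingOf M q)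
    obtain ⟨k, hk⟩ := IsPGroup.iff_card.1 hQ.1
    have hk0 : k ≠ 0 := by
      intro h0
      rw [h0, pow_zero] at hk
      exact hne ((Subgroup.card_eq_one).1 hk)
    apply hqF
    calc q ∣ q ^ k := dvd_pow_self q hk0
      _ = Nat.card Q := hk.symm
      _ ∣ Nat.card F := card_dvd_of_le hQF
  -- every invariant `q`-subgroup lies in a maximal one, which is trivial
  obtain ⟨Q', hRQ', hQ'⟩ := exists_isMaxInv_ge (q := q) A R hRq hAR
  have := huniq Q Q' hQA hQ'
  rw [this, hQbot] at hRQ'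
  exact le_bot_iff.1 hRQ'

/-- **B&G Theorem 8.1(a)**: uniqueness for `C_F(A₀)` when `F(M)` is not a `p`-group. -/
theorem unique_of_not_isPGroup (hS : IsSimpleGroup G)
    (hsolv : ∀ X : Subgroup G, X ≠ ⊤ → Group.IsSolvable X) {M : Subgroup G} (hM : IsCoatom M)
    {p : ℕ} [hp : Fact p.Prime] {A₀ : Subgroup G}
    (hA₀ : A₀ ≤ fittingOf M) (hA₀e : IsElementaryAbelian p A₀) (hA₀3 : p ^ 3 ≤ Nat.card A₀)
    (hnp : ¬ IsPGroup p (fittingOf M)) {L : Subgroup G} (hL : IsCoatom L)
    (hAL : fittingOf M ⊓ centralizer (A₀ : Set G) ≤ L) : L = M := by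
  set F := fittingOf M with hF
  -- at least two primes divide `|F|`
  have hF2 : 2 ≤ (Nat.card F).primeFactors.card := by
    by_contra hlt
    push Not at hlt
    apply hnp
    have hpπ : p ∈ (Nat.card F).primeFactors := Nat.mem_primeFactors.2
      ⟨hp.out, p_dvd_card_F hA₀ hA₀e hA₀3, Nat.card_pos.ne'⟩
    have hsub : (Nat.card F).primeFactors = {p} := by
      apply Finset.eq_singleton_iff_unique_mem.2
      refine ⟨hpπ, ?_⟩
      intro x hx
      by_contra hxp
      have : 2 ≤ (Nat.card F).primeFactors.card := by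
        rw [Nat.succ_le_iff, Finset.one_lt_card]
        exact ⟨x, hx, p, hpπ, hxp⟩
      omega
    have hcard : Nat.card F = p ^ (Nat.card F).primeFactorsList.length :=
      Nat.eq_prime_pow_of_unique_prime_dvd Nat.card_pos.ne' (fun {d} hd hdvd => by
        have : d ∈ (Nat.card F).primeFactors := Nat.mem_primeFactors.2 ⟨hd, hdvd, Nat.card_pos.ne'⟩
        rw [hsub, Finset.mem_singleton] at this
        exact this)
    exact IsPGroup.of_card hcard
  apply bender_unique hS hsolv hM hL hF2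
  · refine le_trans ?_ hAL
    exact le_inf inf_le_left (inf_le_right.trans (centralizer_le hA₀))
  · intro N hNL hLN hcop
    by_contra hne
    -- a prime `q` dividing `|N|`
    have hcard : Nat.card N ≠ 1 := fun h => hne ((Subgroup.card_eq_one).1 h)
    obtain ⟨q, hq, hqN⟩ := Nat.exists_prime_and_dvd hcard
    haveI : Fact q.Prime := ⟨hq⟩
    have hqF : ¬ q ∣ Nat.card F := by
      intro h
      have := Nat.Coprime.eq_one_of_dvd (Nat.Coprime.coprime_dvd_left hqN hcop) h
      exact hq.one_lt.ne' this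
    have hAN : F ⊓ centralizer (A₀ : Set G) ≤ normalizer (N : Set G) := hAL.trans hLN
    have hcopA : (Nat.card (F ⊓ centralizer (A₀ : Set G) : Subgroup G)).Coprime (Nat.card N) :=
      ((coprime_A_iff hA₀ _).2 hcop).symm
    have hNsolv : Group.IsSolvable N := by
      apply hsolv
      intro h
      apply hL.1
      rw [eq_top_iff, ← h]; exact hNL
    obtain ⟨P, hP⟩ := Cfsg.Agent.Lead.coprime_exists_invariant_sylow
      (F ⊓ centralizer (A₀ : Set G)) N hAN hcopA (Or.inr hNsolv) q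
    have hPq : IsPGroup q ((P : Subgroup N).map N.subtype) := P.isPGroup'.map _
    have hbot := inv_eq_bot hS hsolv hM hA₀ hA₀e hA₀3 hF2 hqF hPq hP
    have hPbot : (P : Subgroup N) = ⊥ :=
      (Subgroup.map_eq_bot_iff_of_injective _ N.subtype_injective).1 hbot
    have hdvd : q ∣ Nat.card (P : Subgroup N) := by
      have h1 := P.card_eq_multiplicity
      rw [h1]
      have h2 : (Nat.card N).factorization q ≠ 0 := by
        have := (hq.factorization_pos_of_dvd Nat.card_pos.ne' hqN)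
        omega
      exact dvd_pow_self q h2
    rw [hPbot, Subgroup.card_bot] at hdvd
    exact hq.one_lt.ne' (Nat.dvd_one.1 hdvd)

end Cfsg.Agent.Lead.BG8
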