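import Mathlib
import Cfsg.Agent.Lead.BG8c

set_option autoImplicit false
set_option linter.unusedSectionVars false
set_option linter.unusedVariables false
set_option linter.style.haveILetI false

/-! # Uniqueness context: invariant `π'`-subgroups are trivial -/

namespace Cfsg.Agent.Lead.BG8

open Subgroup Cfsg
open Cfsg.Agent.Lead.Bender
open Cfsg.Agent.Lead.TT

variable {G : Type*} [Group G] [Finite G]

/-- the common context of both halves of B&G Theorem 8.1 -/
structure UCtx (M A F₀ : Subgroup G) (p : ℕ) : Prop where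
  coatom : IsCoatom M
  le : A ≤ fittingOf M
  cent : fittingOf M ⊓ centralizer (A : Set G) ≤ A
  centM : centralizer (A : Set G) ≤ M
  primes : ∀ r : ℕ, r.Prime → r ∣ Nat.card (fittingOf M) → r ∣ Nat.card A
  trans : Cfsg.TransitivityHypothesis A
  f₀le : F₀ ≤ A
  f₀cent : F₀ ≤ centralizer (A : Set G)
  f₀elem : IsElementaryAbelian p F₀
  f₀card : p ^ 3 ≤ Nat.card F₀

variable {M A F₀ : Subgroup G} {p : ℕ} [hp : Fact p.Prime]

theorem UCtx.dvd_iff (h : UCtx M A F₀ p) {r : ℕ} (hr : r.Prime) :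
    r ∣ Nat.card A ↔ r ∣ Nat.card (fittingOf M) :=
  ⟨fun h1 => h1.trans (card_dvd_of_le h.le), h.primes r hr⟩

theorem UCtx.coprime_iff (h : UCtx M A F₀ p) (n : ℕ) :
    n.Coprime (Nat.card A) ↔ n.Coprime (Nat.card (fittingOf M)) :=
  coprime_iff_of_same_primes (fun r hr => h.dvd_iff hr) n

theorem UCtx.eq_bot_of_le_centralizer
    (hsolv : ∀ X : Subgroup G, X ≠ ⊤ → Group.IsSolvable X) (h : UCtx M A F₀ p) {D : Subgroup G}
    (hD : D ≤ centralizer (A : Set G))
    (hcop : (Nat.card D).Coprime (Nat.card (fittingOf M))) : D = ⊥ := by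
  set F := fittingOf M with hF
  have hDM : D ≤ M := hD.trans h.centM
  have hDF : D ≤ normalizer (F : Set G) := hDM.trans (le_normalizer_fittingOf M)
  have hAD : A ≤ centralizer (D : Set G) := le_centralizer_iff.1 hD
  have hC : F ⊓ centralizer (A : Set G) ≤ centralizer (D : Set G) := h.cent.trans hAD
  have h1 := Cfsg.Agent.Helper7.nilpotent_PQ F D A (fittingOf_isNilpotent M) hcop hDF h.le hAD hC
  have h2 : D ≤ F := (le_inf hDM h1).trans (inf_centralizer_fittingOf_le (hsolv M h.coatom.1))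
  have h3 : D ⊓ F = ⊥ := (disjoint_of_coprime_natCard hcop).eq_bot
  rw [eq_bot_iff, ← h3]
  exact le_inf le_rfl h2

/-- every `A`-invariant `q`-subgroup (`q ∉ π(F)`) is trivial -/
theorem UCtx.inv_eq_bot (hS : IsSimpleGroup G)
    (hsolv : ∀ X : Subgroup G, X ≠ ⊤ → Group.IsSolvable X) (h : UCtx M A F₀ p)
    {q : ℕ} [hq : Fact q.Prime] (hqF : ¬ q ∣ Nat.card (fittingOf M)) {R : Subgroup G}
    (hRq : IsPGroup q R) (hAR : A ≤ normalizer (R : Set G)) : R = ⊥ := by
  set F := fittingOf M with hF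
  have hM := h.coatom
  have hT := h.trans
  have hAM : A ≤ M := h.le.trans (fittingOf_le M)
  have hAtop : A ≠ ⊤ := hT.2.1
  have hsolvA : Group.IsSolvable A := hsolv A hAtop
  have hqA : ¬ q ∣ Nat.card A := fun h1 => hqF ((h.dvd_iff hq.out).1 h1)
  -- `O_{π'}(C(A)) = 1`
  have hK : Cfsg.piCoreOf (Cfsg.primesNotDvd (Nat.card A)) (centralizer (A : Set G)) = ⊥ := by
    apply h.eq_bot_of_le_centralizer hsolv (piCoreOf_le _ _)
    rw [← h.coprime_iff]
    exact piCoreOf_coprime _ _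
  have huniq : ∀ Q₁ Q₂ : Subgroup G, IsMaxInv q A Q₁ → IsMaxInv q A Q₂ → Q₂ = Q₁ := by
    intro Q₁ Q₂ h₁ h₂
    obtain ⟨c, hc, hcQ⟩ := transitivity_rank_three hS hsolvA hT F₀ h.f₀le h.f₀cent h.f₀elem
      h.f₀card hqA h₁ h₂
    rw [hK, mem_bot] at hc
    rw [hcQ, hc, map_conj_one]
  have hA0 : TransOn q A A := by
    refine ⟨?_, fun Q h => h⟩
    intro Q₁ Q₂ h₁ h₂
    exact transitivity_rank_three hS hsolvA hT F₀ h.f₀le h.f₀cent h.f₀elem h.f₀card hqA h₁ h₂
  have hFtop : F ≠ ⊤ := by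
    intro h1
    apply hM.1
    rw [eq_top_iff, ← h1]; exact fittingOf_le M
  haveI : Group.IsNilpotent F := fittingOf_isNilpotent M
  have hsn : (A.subgroupOf F).IsSubnormal :=
    Cfsg.Agent.S0067.isSubnormal_of_isNilpotent (G := ↥F) _ (A.subgroupOf F) rfl
  have hover := transitivity_overgroup hS hsolv hT hqA F hFtop
    (fun r hr h1 => (h.dvd_iff hr).2 h1) h.le hsn hA0
  -- a maximal `F`-invariant `q`-subgroup
  obtain ⟨Q, -, hQ⟩ := exists_isMaxInv_ge (q := q) F ⊥ (IsPGroup.of_bot) (by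
    intro f _
    rw [mem_normalizer_iff]
    intro x
    simp only [mem_bot]
    constructor
    · intro h; rw [h]; group
    · intro h
      have e : x = f⁻¹ * (f * x * f⁻¹) * f := by group
      rw [e, h]; group)
  have hQA : IsMaxInv q A Q := hover.1.2 Q hQ
  have hMQ : M ≤ normalizer (Q : Set G) := by
    intro m hm
    have h1 := hQ.map_conj' (le_normalizer_fittingOf M hm)
    have h2 := huniq Q _ hQA (hover.1.2 _ h1)
    rw [mem_normalizer_iff_map_conj_eq]
    exact h2
  have hQbot : Q = ⊥ := by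
    by_contra hne
    have hQtop : Q ≠ ⊤ := by
      intro h0
      have h1 : Nat.card A ∣ Nat.card Q := card_dvd_of_le (h0 ▸ le_top)
      obtain ⟨k, hk⟩ := IsPGroup.iff_card.1 hQ.1
      rw [hk] at h1
      obtain ⟨j, -, hj⟩ := (Nat.dvd_prime_pow hq.out).1 h1
      rcases j with _ | j
      · rw [pow_zero] at hj
        exact hT.1 ((Subgroup.card_eq_one).1 hj)
      · exact hqA (hj ▸ dvd_pow_self q (Nat.succ_ne_zero j))
    have hN := normalizer_ne_top_of_simple hS hne hQtop
    have hNM : normalizer (Q : Set G) = M := by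
      rcases hM.le_iff.1 hMQ with h0 | h0
      · exact absurd h0 hN
      · exact h0
    have hQM : Q ≤ M := by rw [← hNM]; exact le_normalizer
    have hQF : Q ≤ F :=
      (Cfsg.Agent.Helper14.le_pCoreOf q hQM hMQ hQ.1).trans (pCoreOf_le_fittingOf M q)
    obtain ⟨k, hk⟩ := IsPGroup.iff_card.1 hQ.1
    have hk0 : k ≠ 0 := by
      intro h0
      rw [h0, pow_zero] at hk
      exact hne ((Subgroup.card_eq_one).1 hk)
    apply hqF
    calc q ∣ q ^ k := dvd_pow_self q hk0
      _ = Nat.card Q := hk.symm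
      _ ∣ Nat.card F := card_dvd_of_le hQF
  obtain ⟨Q', hRQ', hQ'⟩ := exists_isMaxInv_ge (q := q) A R hRq hAR
  have := huniq Q Q' hQA hQ'
  rw [this, hQbot] at hRQ'
  exact le_bot_iff.1 hRQ'

/-- every solvable `A`-invariant subgroup of order coprime to `|F|` is trivial -/
theorem UCtx.inv_coprime_eq_bot (hS : IsSimpleGroup G)
    (hsolv : ∀ X : Subgroup G, X ≠ ⊤ → Group.IsSolvable X) (h : UCtx M A F₀ p)
    {N : Subgroup G} (hAN : A ≤ normalizer (N : Set G)) (hNsolv : Group.IsSolvable N)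
    (hcop : (Nat.card N).Coprime (Nat.card (fittingOf M))) : N = ⊥ := by
  by_contra hne
  have hcard : Nat.card N ≠ 1 := fun h1 => hne ((Subgroup.card_eq_one).1 h1)
  obtain ⟨q, hq, hqN⟩ := Nat.exists_prime_and_dvd hcard
  haveI : Fact q.Prime := ⟨hq⟩
  have hqF : ¬ q ∣ Nat.card (fittingOf M) := by
    intro h1
    have := Nat.Coprime.eq_one_of_dvd (Nat.Coprime.coprime_dvd_left hqN hcop) h1
    exact hq.one_lt.ne' this
  have hcopA : (Nat.card A).Coprime (Nat.card N) := ((h.coprime_iff _).2 hcop).symm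
  obtain ⟨P, hP⟩ := Cfsg.Agent.Lead.coprime_exists_invariant_sylow A N hAN hcopA (Or.inr hNsolv) q
  have hPq : IsPGroup q ((P : Subgroup N).map N.subtype) := P.isPGroup'.map _
  have hbot := h.inv_eq_bot hS hsolv hqF hPq hP
  have hPbot : (P : Subgroup N) = ⊥ :=
    (Subgroup.map_eq_bot_iff_of_injective _ N.subtype_injective).1 hbot
  have hdvd : q ∣ Nat.card (P : Subgroup N) := by
    have h1 := P.card_eq_multiplicity
    rw [h1]
    have h2 : (Nat.card N).factorization q ≠ 0 := by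
      have := (hq.factorization_pos_of_dvd Nat.card_pos.ne' hqN)
      omega
    exact dvd_pow_self q h2
  rw [hPbot, Subgroup.card_bot] at hdvd
  exact hq.one_lt.ne' (Nat.dvd_one.1 hdvd)

end Cfsg.Agent.Lead.BG8
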