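import Mathlib
import Cfsg.Agent.Lead.BG8d
import Cfsg.Agent.Lead.TNC11
import Cfsg.Agent.Helper26.QuadStable2
import Cfsg.Agent.Helper26.ZJInst
import Cfsg.Agent.Helper14.SylowIn
import Cfsg.Agent.Helper11.SylowInter

set_option autoImplicit false
set_option linter.unusedSectionVars false
set_option linter.unusedVariables false
set_option linter.style.haveILetI false

/-! # The ZJ-theorem for solvable groups of odd order (ambient form), and Sylow lemmas -/

namespace Cfsg.Agent.Lead.BG8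

open Subgroup Cfsg
open scoped commutatorElement
open Cfsg.Agent.Lead.TT (le_normalizer_map_subtype_of_normal)
open Cfsg.Agent.Helper14 (IsSylowIn)

universe u

/-- odd-order type `p`-stability in the quotient-free form -/
theorem stabHyp_of_ab2 {X : Type*} [Group X] [Finite X] {p : ℕ} [Fact p.Prime] (hp2 : p ≠ 2)
    (h2 : Cfsg.Agent.Helper26.Ab2 X) : Cfsg.Agent.Helper26.StabHyp p X := by
  intro P hPn hPp
  haveI := hPn
  refine ⟨(Cfsg.pCore p (X ⧸ centralizer (P : Set X))).comap
    (QuotientGroup.mk' (centralizer (P : Set X))), ?_, ?_, ?_, ?_⟩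
  · exact Subgroup.Normal.comap (Cfsg.Agent.Helper14.pCore_normal p) _
  · intro c hc
    rw [mem_comap]
    have : (QuotientGroup.mk' (centralizer (P : Set X))) c = 1 :=
      (QuotientGroup.eq_one_iff c).mpr hc
    rw [this]
    exact one_mem _
  · intro x hx
    rw [mem_comap] at hx
    obtain ⟨k, hk⟩ := (Cfsg.Agent.Helper14.pCore_isPGroup p) ⟨_, hx⟩
    refine ⟨k, ?_⟩
    have h3 := congrArg Subtype.val hk
    simp only [SubmonoidClass.coe_pow, OneMemClass.coe_one] at h3
    rw [← map_pow, QuotientGroup.mk'_apply, QuotientGroup.eq_one_iff] at h3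
    exact h3
  · intro a ha
    have hq : ∀ x ∈ P, ⁅⁅x, a⁆, a⁆ ∈ (frattini ↥P).map P.subtype := by
      intro x hx
      have h1 : ⁅⁅x, a⁆, a⁆ ∈ ⁅⁅P, zpowers a⁆, zpowers a⁆ :=
        commutator_mem_commutator (commutator_mem_commutator hx (mem_zpowers a)) (mem_zpowers a)
      rw [ha, mem_bot] at h1
      rw [h1]; exact one_mem _
    obtain ⟨D, hDn, hD1, hD2, hD3⟩ :=
      Cfsg.Agent.Helper26.exists_normal_of_quad_frat' hp2 P hPp h2 a hq
    rw [mem_comap]
    have hmapn : (D.map (QuotientGroup.mk' (centralizer (P : Set X)))).Normal :=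
      hDn.map _ (QuotientGroup.mk'_surjective _)
    have hmapp : IsPGroup p (D.map (QuotientGroup.mk' (centralizer (P : Set X)))) := by
      rintro ⟨_, d, hd, rfl⟩
      obtain ⟨k, hk⟩ := hD2 d hd
      refine ⟨k, ?_⟩
      apply Subtype.ext
      simp only [SubmonoidClass.coe_pow, OneMemClass.coe_one]
      rw [← map_pow, QuotientGroup.mk'_apply, QuotientGroup.eq_one_iff]
      exact hk
    exact Cfsg.Agent.Helper14.le_pCore p hmapn hmapp ⟨a, hD3, rfl⟩

/-- Glauberman's ZJ-theorem for solvable groups of odd order with `O_{p'} = 1`. -/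
theorem centerThompsonAOf_normal {X : Type u} [Group X] [Finite X] {p : ℕ} [Fact p.Prime]
    (hp2 : p ≠ 2) (hsolv : Group.IsSolvable X) (hodd : Odd (Nat.card X))
    (hO : Cfsg.pPrimeCore p X = ⊥) (S : Sylow p X) :
    (Cfsg.centerThompsonAOf (S : Subgroup X)).Normal := by
  have h2 := Cfsg.Agent.Helper26.ab2_of_odd hodd
  have hst := (stabHyp_of_ab2 (p := p) hp2 h2).toSub
  have hps := Cfsg.Agent.Helper10.isPSolvable_of_isSolvable p hsolv
  have hc : centralizer (Cfsg.pCore p X : Set X) ≤ Cfsg.pCore p X :=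
    Cfsg.Agent.Helper23.centralizer_pCore_le_of_isPSolvable hps hO
  have hn := (Cfsg.Agent.Helper26.zjFamily_famEl hp2 0 (Or.inl rfl)).normal_sInf' hst hc S
  rwa [← Cfsg.Agent.Helper26.centerThompsonAOf_eq] at hn

variable {G : Type u} [Group G] [Finite G] {p : ℕ} [hp : Fact p.Prime]

/-- ambient form of the ZJ-theorem -/
theorem le_normalizer_centerThompsonAOf (hp2 : p ≠ 2) (hodd : Odd (Nat.card G))
    {X T : Subgroup G} (hXsolv : Group.IsSolvable X)
    (hO : ∀ N : Subgroup G, N ≤ X → X ≤ normalizer (N : Set G) → (Nat.card N).Coprime p → N = ⊥)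
    (hT : IsSylowIn p T X) : X ≤ normalizer (Cfsg.centerThompsonAOf T : Set G) := by
  have hmap : ((hT.toSylow : Sylow p ↥X) : Subgroup ↥X).map X.subtype = T := hT.toSylow_map
  have hOX : Cfsg.pPrimeCore p ↥X = ⊥ := by
    have h1 := hO ((Cfsg.pPrimeCore p ↥X).map X.subtype) (map_subtype_le _)
      (le_normalizer_map_subtype_of_normal X _) (by
        rw [Nat.card_congr ((pPrimeCore p ↥X).equivMapOfInjective X.subtype
          X.subtype_injective).toEquiv.symm]
        exact Cfsg.Agent.Helper19.pPrimeCore_coprime p)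
    exact (Subgroup.map_eq_bot_iff_of_injective _ X.subtype_injective).1 h1
  have hoddX : Odd (Nat.card X) := Odd.of_dvd_nat hodd (card_subgroup_dvd_card X)
  haveI := centerThompsonAOf_normal hp2 hXsolv hoddX hOX hT.toSylow
  have hW : Cfsg.centerThompsonAOf T =
      (Cfsg.centerThompsonAOf ((hT.toSylow : Sylow p ↥X) : Subgroup ↥X)).map X.subtype := by
    have := (Cfsg.Agent.Lead.TNC.zjAFunctor p).map X.subtype
      ((hT.toSylow : Sylow p ↥X) : Subgroup ↥X) (X.subtype_injective.injOn)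
    rw [hmap] at this
    exact this
  rw [hW]
  exact le_normalizer_map_subtype_of_normal X _

theorem centerThompsonAOf_ne_bot {T : Subgroup G} (hT : IsPGroup p T) (hne : T ≠ ⊥) :
    Cfsg.centerThompsonAOf T ≠ ⊥ :=
  (Cfsg.Agent.Lead.TNC.zjAFunctor p).ne_bot T hT hne

theorem centerThompsonAOf_le' (T : Subgroup G) : Cfsg.centerThompsonAOf T ≤ T :=
  (Cfsg.Agent.Lead.TNC.zjAFunctor 2).le T

theorem normalizer_le_normalizer_centerThompsonAOf (T : Subgroup G) :
    normalizer (T : Set G) ≤ normalizer (Cfsg.centerThompsonAOf T : Set G) :=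
  (Cfsg.Agent.Lead.TNC.zjAFunctor 2).normalizer_le T

/-- a Sylow subgroup of `K` whose normalizer in `X ≥ K` lies in `K` is Sylow in `X` -/
theorem isSylowIn_of_normalizer_le {R K X : Subgroup G} (hR : IsSylowIn p R K) (hKX : K ≤ X)
    (hN : X ⊓ normalizer (R : Set G) ≤ K) : IsSylowIn p R X := by
  refine ⟨hR.1.trans hKX, hR.2.1, ?_⟩
  intro Q hQX hQp hRQ
  by_contra hne
  have hlt : R < Q := lt_of_le_of_ne hRQ (Ne.symm hne)
  have h1 := Cfsg.Agent.Helper11.lt_inf_normalizer Q R hQp hlt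
  have h2 : Q ⊓ normalizer (R : Set G) ≤ K :=
    (le_inf (inf_le_left.trans hQX) inf_le_right).trans hN
  have h3 := hR.2.2 (Q ⊓ normalizer (R : Set G)) h2 (hQp.to_le inf_le_left) h1.le
  exact h1.ne h3.symm

theorem IsSylowIn.card_eq {R K : Subgroup G} (hR : IsSylowIn p R K) :
    Nat.card R = p ^ (Nat.card K).factorization p := by
  have h1 := (hR.toSylow : Sylow p ↥K).card_eq_multiplicity
  have h2 := Cfsg.Agent.Helper14.card_map_subtype ((hR.toSylow : Sylow p ↥K) : Subgroup ↥K)
  rw [hR.toSylow_map] at h2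
  rw [h2, h1]

theorem card_dvd_of_isPGroup_le {Q K : Subgroup G} (hQ : IsPGroup p Q) (hQK : Q ≤ K) :
    Nat.card Q ∣ p ^ (Nat.card K).factorization p := by
  obtain ⟨j, hj⟩ := IsPGroup.iff_card.1 hQ
  rw [hj]
  apply pow_dvd_pow
  have h1 : p ^ j ∣ Nat.card K := hj ▸ card_dvd_of_le hQK
  exact (hp.out.pow_dvd_iff_le_factorization Nat.card_pos.ne').1 h1

/-- a Sylow subgroup of `M` with `N_G(T) ≤ M` has index prime to `p` in `G` -/
theorem not_dvd_index_of_isSylowIn_top {T : Subgroup G} (hT : IsSylowIn p T ⊤) :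
    ¬ p ∣ T.index := by
  obtain ⟨Q, hQ⟩ := hT.2.1.exists_le_sylow
  have h1 := hT.2.2 (Q : Subgroup G) le_top Q.isPGroup' hQ
  rw [← h1]
  exact Q.not_dvd_index

end Cfsg.Agent.Lead.BG8
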