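import Mathlib
import Cfsg.Agent.Lead.BG8e
import Cfsg.Agent.Lead.TT8

set_option autoImplicit false
set_option linter.unusedSectionVars false
set_option linter.unusedVariables false
set_option linter.style.haveILetI false

/-! # B&G Theorem 8.1(b): basic facts when `F(M)` is a `p`-group -/

namespace Cfsg.Agent.Lead.BG8

open Subgroup Cfsg
open Cfsg.Agent.Lead.Bender
open Cfsg.Agent.Lead.TT
open Cfsg.Agent.Helper14 (IsSylowIn)

universe u

variable {G : Type u} [Group G] [Finite G] {p : ℕ} [hp : Fact p.Prime]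

theorem le_of_isSylowIn_of_normal {T M F : Subgroup G} (hT : IsSylowIn p T M) (hFM : F ≤ M)
    (hMF : M ≤ normalizer (F : Set G)) (hFp : IsPGroup p F) : F ≤ T := by
  have h1 : IsPGroup p (T ⊔ F : Subgroup G) :=
    IsPGroup.to_sup_of_normal_right' hT.2.1 hFp (hT.1.trans hMF)
  have h2 := hT.2.2 (T ⊔ F) (sup_le hT.1 hFM) h1 le_sup_left
  rw [← h2]; exact le_sup_right

/-- `O_{p'}(M) = 1` when `F(M)` is a `p`-group -/
theorem eq_bot_of_coprime_of_fitting_isPGroup {M N : Subgroup G} (hMsolv : Group.IsSolvable M)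
    (hFp : IsPGroup p (fittingOf M)) (hNM : N ≤ M) (hMN : M ≤ normalizer (N : Set G))
    (hcop : (Nat.card N).Coprime p) : N = ⊥ := by
  obtain ⟨k, hk⟩ := IsPGroup.iff_card.1 hFp
  apply eq_bot_of_coprime_fittingOf hMsolv hNM hMN
  rw [hk]
  exact Nat.Coprime.pow_right k hcop

theorem ne_two_of_dvd_card_of_odd (hodd : Odd (Nat.card G)) {F : Subgroup G}
    (hpF : p ∣ Nat.card F) : p ≠ 2 := by
  rintro rfl
  have h1 : 2 ∣ Nat.card G := hpF.trans (card_subgroup_dvd_card F)
  exact (Nat.not_even_iff_odd.mpr hodd) (even_iff_two_dvd.mpr h1)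

theorem ne_bot_of_dvd_card {F : Subgroup G} (hpF : p ∣ Nat.card F) : F ≠ ⊥ := by
  rintro rfl
  rw [Subgroup.card_bot] at hpF
  exact hp.out.one_lt.ne' (Nat.dvd_one.1 hpF)

section ctx

variable (hS : IsSimpleGroup G) (hsolv : ∀ X : Subgroup G, X ≠ ⊤ → Group.IsSolvable X)
  (hodd : Odd (Nat.card G)) {M : Subgroup G} (hM : IsCoatom M)
  (hFp : IsPGroup p (fittingOf M)) (hpF : p ∣ Nat.card (fittingOf M))

include hS hsolv hodd hM hFp hpF

/-- the normalizer of `Z(J(T))` is `M` for a Sylow `p`-subgroup `T` of `M` -/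
theorem normalizer_ZJ_eq {T : Subgroup G} (hT : IsSylowIn p T M) :
    normalizer (Cfsg.centerThompsonAOf T : Set G) = M := by
  have hp2 : p ≠ 2 := ne_two_of_dvd_card_of_odd hodd hpF
  have hMsolv := hsolv M hM.1
  have hFT : fittingOf M ≤ T :=
    le_of_isSylowIn_of_normal hT (fittingOf_le M) (le_normalizer_fittingOf M) hFp
  have hTne : T ≠ ⊥ := by
    intro h
    rw [h, le_bot_iff] at hFT
    exact ne_bot_of_dvd_card hpF hFT
  have h1 : M ≤ normalizer (Cfsg.centerThompsonAOf T : Set G) :=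
    le_normalizer_centerThompsonAOf hp2 hodd hMsolv
      (fun N hNM hMN hcop => eq_bot_of_coprime_of_fitting_isPGroup hMsolv hFp hNM hMN hcop) hT
  exact normalizer_eq_of_coatom hS hM (centerThompsonAOf_ne_bot hT.2.1 hTne)
    ((centerThompsonAOf_le' T).trans hT.1) h1

theorem normalizer_sylow_le {T : Subgroup G} (hT : IsSylowIn p T M) :
    normalizer (T : Set G) ≤ M := by
  rw [← normalizer_ZJ_eq hS hsolv hodd hM hFp hpF hT]
  exact normalizer_le_normalizer_centerThompsonAOf T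

theorem isSylowIn_top {T : Subgroup G} (hT : IsSylowIn p T M) : IsSylowIn p T ⊤ :=
  isSylowIn_of_normalizer_le hT le_top
    (inf_le_right.trans (normalizer_sylow_le hS hsolv hodd hM hFp hpF hT))

theorem not_dvd_index {T : Subgroup G} (hT : IsSylowIn p T M) : ¬ p ∣ T.index :=
  not_dvd_index_of_isSylowIn_top (isSylowIn_top hS hsolv hodd hM hFp hpF hT)

/-- uniqueness in case (b): every maximal subgroup containing `A` is `M` -/
theorem unique_of_isPGroup {A F₀ : Subgroup G} (hU : UCtx M A F₀ p) (hAp : IsPGroup p A) :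
    ∀ L : Subgroup G, IsCoatom L → A ≤ L → L = M := by
  have hp2 : p ≠ 2 := ne_two_of_dvd_card_of_odd hodd hpF
  have hAne : A ≠ ⊥ := hU.trans.1
  have hAM : A ≤ M := hU.le.trans (fittingOf_le M)
  -- `O_{p'}(L) = 1`
  have hOL : ∀ L : Subgroup G, IsCoatom L → A ≤ L → ∀ N : Subgroup G, N ≤ L →
      L ≤ normalizer (N : Set G) → (Nat.card N).Coprime p → N = ⊥ := by
    intro L hL hAL N hNL hLN hcop
    have hNtop : N ≠ ⊤ := fun h => hL.1 (eq_top_iff.2 (h ▸ hNL))
    obtain ⟨k, hk⟩ := IsPGroup.iff_card.1 hFp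
    apply hU.inv_coprime_eq_bot hS hsolv (hAL.trans hLN) (hsolv N hNtop)
    rw [hk]; exact Nat.Coprime.pow_right k hcop
  by_contra hcon
  push Not at hcon
  set 𝒮 : Set (Subgroup G) := {L | IsCoatom L ∧ A ≤ L ∧ L ≠ M} with h𝒮
  have hne : 𝒮.Nonempty := by
    obtain ⟨L, h1, h2, h3⟩ := hcon
    exact ⟨L, h1, h2, h3⟩
  obtain ⟨L, ⟨hL, hAL, hLM⟩, hmax⟩ := Set.exists_max_image 𝒮
    (fun L => (Nat.card (L ⊓ M : Subgroup G)).factorization p) (Set.toFinite _) hne
  obtain ⟨R, hR, hAR⟩ := Cfsg.Agent.Helper14.exists_isSylowIn_ge (le_inf hAL hAM) hAp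
  obtain ⟨P₁, hP₁, hRP₁⟩ :=
    Cfsg.Agent.Helper14.exists_isSylowIn_ge (hR.1.trans inf_le_right) hR.2.1
  have hRne : R ≠ ⊥ := fun h => hAne (le_bot_iff.1 (h ▸ hAR))
  have hRtop : R ≠ ⊤ := fun h => hL.1 (eq_top_iff.2 (h ▸ hR.1.trans inf_le_left))
  have hNP₁ := normalizer_ZJ_eq hS hsolv hodd hM hFp hpF hP₁
  have hP₁top := isSylowIn_top hS hsolv hodd hM hFp hpF hP₁
  -- Claim 1: `R` is a Sylow subgroup of `L`
  have hRL : IsSylowIn p R L := by
    by_cases hRP : R = P₁
    · refine ⟨hR.1.trans inf_le_left, hR.2.1, ?_⟩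
      intro Q _ hQp hRQ
      rw [hRP] at hRQ ⊢
      exact hP₁top.2.2 Q le_top hQp hRQ
    · have hlt : R < P₁ := lt_of_le_of_ne hRP₁ hRP
      have h1 := Cfsg.Agent.Helper11.lt_inf_normalizer P₁ R hP₁.2.1 hlt
      have hNtop := normalizer_ne_top_of_simple hS hRne hRtop
      obtain ⟨D, hD, hND⟩ :=
        (eq_top_or_exists_le_coatom (normalizer (R : Set G))).resolve_left hNtop
      have hDM : D = M := by
        by_contra hDM
        have hD𝒮 : D ∈ 𝒮 := ⟨hD, hAR.trans (le_normalizer.trans hND), hDM⟩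
        have h2 := hmax D hD𝒮
        have h3 : Nat.card (P₁ ⊓ normalizer (R : Set G) : Subgroup G) ∣
            p ^ (Nat.card (D ⊓ M : Subgroup G)).factorization p :=
          card_dvd_of_isPGroup_le (hP₁.2.1.to_le inf_le_left)
            (le_inf (inf_le_right.trans hND) (inf_le_left.trans hP₁.1))
        have h4 : Nat.card R = p ^ (Nat.card (L ⊓ M : Subgroup G)).factorization p :=
          Cfsg.Agent.Lead.BG8.IsSylowIn.card_eq hR
        have h5 : Nat.card R < Nat.card (P₁ ⊓ normalizer (R : Set G) : Subgroup G) := by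
          by_contra h
          push Not at h
          exact h1.ne (Subgroup.eq_of_le_of_card_ge h1.le h)
        have h6 := Nat.le_of_dvd (pow_pos hp.out.pos _) h3
        have h7 : p ^ (Nat.card (D ⊓ M : Subgroup G)).factorization p ≤
            p ^ (Nat.card (L ⊓ M : Subgroup G)).factorization p :=
          Nat.pow_le_pow_right hp.out.pos h2
        omega
      have hNM : normalizer (R : Set G) ≤ M := hDM ▸ hND
      exact isSylowIn_of_normalizer_le hR inf_le_left
        (le_inf inf_le_left (inf_le_right.trans hNM))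
  -- Claim 2: `N(Z(J(R))) = L`
  have hNR : normalizer (Cfsg.centerThompsonAOf R : Set G) = L := by
    have h1 : L ≤ normalizer (Cfsg.centerThompsonAOf R : Set G) :=
      le_normalizer_centerThompsonAOf hp2 hodd (hsolv L hL.1) (hOL L hL hAL) hRL
    exact normalizer_eq_of_coatom hS hL (centerThompsonAOf_ne_bot hR.2.1 hRne)
      ((centerThompsonAOf_le' R).trans hRL.1) h1
  -- Claim 3
  by_cases hRP : R = P₁
  · apply hLM
    rw [← hNR, hRP, hNP₁]
  · have hlt : R < P₁ := lt_of_le_of_ne hRP₁ hRP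
    have h1 := Cfsg.Agent.Helper11.lt_inf_normalizer P₁ R hP₁.2.1 hlt
    have h2 : P₁ ⊓ normalizer (R : Set G) ≤ L ⊓ M := by
      refine le_inf ?_ (inf_le_left.trans hP₁.1)
      rw [← hNR]
      exact inf_le_right.trans (normalizer_le_normalizer_centerThompsonAOf R)
    have h3 := hR.2.2 _ h2 (hP₁.2.1.to_le inf_le_left) h1.le
    exact h1.ne h3.symm

end ctx

end Cfsg.Agent.Lead.BG8
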