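import Mathlib
import Cfsg.Agent.Lead.TT7
import Cfsg.Agent.Helper7.Signalizer2
import Cfsg.Agent.Helper7.Basic

set_option autoImplicit false
set_option linter.unusedSectionVars false

/-! # Criteria for the transitivity hypothesis (Bender–Glauberman Theorem 7.6 style) -/

namespace Cfsg.Agent.Lead.TT

open Subgroup
open scoped Pointwise

variable {G : Type*} [Group G] [Finite G] {p : ℕ} [hp : Fact p.Prime]

/-- a self-centralizing normal abelian subgroup of a Sylow `p`-subgroup contains every `p`-element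
of its centralizer -/
theorem mem_of_mem_centralizer_of_scn (P : Sylow p G) (B : Subgroup G)
    (hBab : ∀ a ∈ B, ∀ b ∈ B, a * b = b * a)
    (hPN : (P : Subgroup G) ≤ normalizer (B : Set G))
    (hBc : (P : Subgroup G) ⊓ centralizer (B : Set G) = B) :
    ∀ x ∈ centralizer (B : Set G), IsPGroup p (zpowers x) → x ∈ B := by
  have hBP : B ≤ (P : Subgroup G) := by rw [← hBc]; exact inf_le_left
  have hBp : IsPGroup p B := P.isPGroup'.to_le hBP
  intro x hxC hxp
  set B₁ : Subgroup G := zpowers x ⊔ B with hB₁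
  have hxN : zpowers x ≤ normalizer (B : Set G) :=
    (zpowers_le.mpr hxC).trans (centralizer_le_normalizer (B : Set G))
  have hB₁p : IsPGroup p B₁ := IsPGroup.to_sup_of_normal_right' hxp hBp hxN
  have hB₁C : B₁ ≤ centralizer (B : Set G) :=
    sup_le (zpowers_le.mpr hxC) (le_centralizer_iff.mp (fun b hb => by
      rw [mem_centralizer_iff]; intro c hc; exact hBab c hc b hb))
  have hB₁N : B₁ ≤ normalizer (B : Set G) :=
    hB₁C.trans (centralizer_le_normalizer (B : Set G))
  obtain ⟨h, hhN, hh⟩ := Cfsg.Agent.Helper7.exists_conj_mem_sylow_of_le P hPN hB₁N hB₁p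
  have hconj : B₁.map (MulAut.conj h).toMonoidHom ≤ B := by
    rintro _ ⟨y, hy, rfl⟩
    have hmem : h * y * h⁻¹ ∈ (P : Subgroup G) ⊓ centralizer (B : Set G) := by
      refine mem_inf.mpr ⟨hh y hy, ?_⟩
      have hyC := hB₁C hy
      rw [mem_centralizer_iff] at hyC ⊢
      intro b hb
      have hb' : h⁻¹ * b * h ∈ B := by
        have := (mem_normalizer_iff.mp (inv_mem hhN) b).mp hb
        simpa using this
      have := hyC _ hb'
      calc b * (h * y * h⁻¹) = h * ((h⁻¹ * b * h) * y) * h⁻¹ := by group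
        _ = h * (y * (h⁻¹ * b * h)) * h⁻¹ := by rw [this]
        _ = h * y * h⁻¹ * b := by group
    rw [hBc] at hmem
    simpa using hmem
  have hcard : Nat.card B₁ ≤ Nat.card B := by
    have h1 : Nat.card (B₁.map (MulAut.conj h).toMonoidHom) = Nat.card B₁ :=
      (Nat.card_congr (B₁.equivMapOfInjective _ (MulAut.conj h).injective).toEquiv).symm
    rw [← h1]
    exact card_le_of_le hconj
  have hBB₁ : B ≤ B₁ := le_sup_right
  have := eq_of_le_of_card_ge hBB₁ hcard
  rw [this]
  exact (le_sup_left : zpowers x ≤ B₁) (mem_zpowers x)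

/-- **criterion for the transitivity hypothesis**: `p` odd, all proper subgroups solvable, `A` a
nontrivial proper `p`-subgroup containing every element of order `p` of its centralizer. -/
theorem transitivityHypothesis_of_omega (hp2 : p ≠ 2)
    (hsolv : ∀ H : Subgroup G, H ≠ ⊤ → Group.IsSolvable H)
    (A : Subgroup G) (hAp : IsPGroup p A) (hAbot : A ≠ ⊥) (hAtop : A ≠ ⊤)
    (hΩ : ∀ x ∈ centralizer (A : Set G), orderOf x = p → x ∈ A) :
    Cfsg.TransitivityHypothesis A := by
  refine ⟨hAbot, hAtop, ?_⟩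
  intro X hX hAX
  obtain ⟨k, hk⟩ := IsPGroup.iff_card.mp hAp
  have hk0 : k ≠ 0 := by
    rintro rfl
    rw [pow_zero] at hk
    exact hAbot ((card_eq_one).mp hk)
  set π' := Cfsg.primesNotDvd (Nat.card A) with hπ'
  apply le_antisymm
  · apply sSup_le
    rintro Y ⟨hYX, hYπ, hAY⟩
    have hYcA : (Nat.card Y).Coprime (Nat.card A) :=
      (forall_prime_mem_primesNotDvd_iff _ _).mp hYπ
    have hYc : (Nat.card Y).Coprime p :=
      Nat.Coprime.coprime_dvd_right (hk ▸ dvd_pow_self p hk0) hYcA
    set AX : Subgroup X := A.subgroupOf X with hAXdef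
    set YX : Subgroup X := Y.subgroupOf X with hYXdef
    have hXc : Cfsg.IsPConstrained p ↥X := by
      have : Group.IsSolvable ↥X := hsolv X hX
      exact Cfsg.Agent.Helper7.isPConstrained_iff.mpr
        (Cfsg.Agent.Helper7.pLayer_eq_bot_of_isSolvable p)
    have hfin : YX ≤ Cfsg.pPrimeCore p ↥X := by
      refine le_pPrimeCore_of_omega hp2 hXc AX YX hAp.comap_subtype ?_ ?_ ?_
      · intro x hxC hxo
        rw [hAXdef, mem_subgroupOf]
        apply hΩ
        · rw [mem_centralizer_iff]
          intro e he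
          have := (mem_centralizer_iff.mp hxC) ⟨e, hAX he⟩ (mem_subgroupOf.mpr he)
          have := congrArg Subtype.val this
          simpa using this
        · rw [Subgroup.orderOf_coe]; exact hxo
      · rw [hYXdef, Nat.card_congr (subgroupOfEquivOfLe hYX).toEquiv]; exact hYc
      · intro e he
        rw [mem_normalizer_iff]
        intro x
        rw [hYXdef, mem_subgroupOf, mem_subgroupOf]
        have := mem_normalizer_iff.mp (hAY (mem_subgroupOf.mp he)) (x : G)
        simpa using this
    have hcore : Cfsg.pPrimeCore p ↥X ≤ Cfsg.piCore π' ↥X := by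
      apply Cfsg.Agent.Helper19.le_piCore (Cfsg.pPrimeCore_normal p ↥X)
      unfold Cfsg.Agent.Helper19.IsPiNum
      rw [forall_prime_mem_primesNotDvd_iff, hk]
      exact Nat.Coprime.pow_right k (Cfsg.Agent.Helper19.pPrimeCore_coprime p)
    intro y hy
    exact ⟨⟨y, hYX hy⟩, hcore (hfin (mem_subgroupOf.mpr hy)), rfl⟩
  · apply le_sSup
    refine ⟨piCoreOf_le _ _, ?_, hAX.trans (le_normalizer_piCoreOf _ _)⟩
    rw [forall_prime_mem_primesNotDvd_iff]
    exact piCoreOf_coprime _ X

end Cfsg.Agent.Lead.TT
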