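import Mathlib
import Cfsg.Agent.Lead.BG8f
import Cfsg.Agent.S1396
import Cfsg.Agent.S1457

set_option autoImplicit false
set_option linter.unusedSectionVars false
set_option linter.unusedVariables false
set_option linter.style.haveILetI false

/-! # B&G Theorem 8.1(b): the `SCN_3` subgroups -/

namespace Cfsg.Agent.Lead.BG8

open Subgroup Cfsg
open Cfsg.Agent.Lead.Bender
open Cfsg.Agent.Lead.TT
open Cfsg.Agent.Helper14 (IsSylowIn)
open Cfsg.Agent.Helper1 (centerIn)

universe u

variable {G : Type u} [Group G] [Finite G] {p : ℕ} [hp : Fact p.Prime]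

theorem pPrimeCore_eq_bot_of {X : Subgroup G}
    (hO : ∀ N : Subgroup G, N ≤ X → X ≤ normalizer (N : Set G) → (Nat.card N).Coprime p → N = ⊥) :
    Cfsg.pPrimeCore p ↥X = ⊥ := by
  have h1 := hO ((Cfsg.pPrimeCore p ↥X).map X.subtype) (map_subtype_le _)
    (le_normalizer_map_subtype_of_normal X _) (by
      rw [Nat.card_congr ((pPrimeCore p ↥X).equivMapOfInjective X.subtype
        X.subtype_injective).toEquiv.symm]
      exact Cfsg.Agent.Helper19.pPrimeCore_coprime p)
  exact (Subgroup.map_eq_bot_iff_of_injective _ X.subtype_injective).1 h1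

theorem pPrimePCore_le_pCore {X : Type*} [Group X] [Finite X] (hO : Cfsg.pPrimeCore p X = ⊥) :
    Cfsg.pPrimePCore p X ≤ Cfsg.pCore p X := by
  haveI hn : (Cfsg.pPrimeCore p X).Normal := by rw [hO]; infer_instance
  have hinj : Function.Injective (QuotientGroup.mk' (Cfsg.pPrimeCore p X)) := by
    rw [← MonoidHom.ker_eq_bot_iff, QuotientGroup.ker_mk', hO]
  apply Cfsg.Agent.Helper14.le_pCore p
  · unfold Cfsg.pPrimePCore
    exact Subgroup.Normal.comap inferInstance _
  · unfold Cfsg.pPrimePCore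
    exact (Cfsg.Agent.Helper14.pCore_isPGroup p).comap_of_injective _ hinj

/-- an abelian normal subgroup of a Sylow `p`-subgroup of `M` lies in `F(M)` when `F(M)` is a
`p`-group (`M` solvable of odd order) -/
theorem scn_le_fitting {M : Subgroup G} (hMsolv : Group.IsSolvable M) (hoddM : Odd (Nat.card M))
    (hFp : IsPGroup p (fittingOf M)) {T A : Subgroup G} (hT : IsSylowIn p T M) (hAT : A ≤ T)
    (hTA : T ≤ normalizer (A : Set G)) (hAc : IsMulCommutative A) : A ≤ fittingOf M := by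
  haveI := hMsolv
  have hO : pPrimeCore p ↥M = ⊥ := pPrimeCore_eq_bot_of
    (fun N hNM hMN hcop => eq_bot_of_coprime_of_fitting_isPGroup hMsolv hFp hNM hMN hcop)
  have hc : IsMulCommutative (A.subgroupOf M) := by
    haveI := hAc
    infer_instance
  have h1 := Cfsg.Agent.S1457.result (G := ↥M) hoddM p hT.toSylow (A.subgroupOf M)
    (Subgroup.comap_mono hAT) hc (by
      intro x hx
      have hx' : (x : G) ∈ normalizer (A : Set G) := hTA hx
      rw [mem_normalizer_iff] at hx' ⊢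
      intro y
      rw [mem_subgroupOf, mem_subgroupOf]
      exact hx' y)
  have h2 := h1.trans (pPrimePCore_le_pCore hO)
  have h3 : (A.subgroupOf M).map M.subtype = A :=
    Cfsg.Agent.Helper14.map_subtype_subgroupOf (hAT.trans hT.1)
  rw [← h3]
  calc (A.subgroupOf M).map M.subtype ≤ (pCore p ↥M).map M.subtype := Subgroup.map_mono h2
    _ = pCoreOf p M := rfl
    _ ≤ fittingOf M := pCoreOf_le_fittingOf M p

theorem pRankLE_mono {X : Type*} [Group X] {j k : ℕ} (hjk : j ≤ k) (h : PRankLE p j X) :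
    PRankLE p k X := by
  intro B hB1 hB2
  exact (h B hB1 hB2).trans (Nat.pow_le_pow_right hp.out.pos hjk)

theorem scn_uctx (hG : Cfsg.IsMinSimpleOddOrder G) {M : Subgroup G} (hM : IsCoatom M)
    (hFp : IsPGroup p (fittingOf M)) (hpF : p ∣ Nat.card (fittingOf M)) {T A : Subgroup G}
    (hT : IsSylowIn p T M) (hscn : IsSCN T A) (hrank : ¬ PRankLE p 2 A) :
    A ≤ fittingOf M ∧ IsPGroup p A ∧ ∃ F₀, UCtx M A F₀ p := by
  have hS := hG.2.1
  have hsolv := hG.2.2.2
  have hodd := hG.1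
  obtain ⟨hAT, hTA, hCA⟩ := hscn
  have hAcent : A ≤ centralizer (A : Set G) := by
    conv_lhs => rw [← hCA]
    exact inf_le_right
  have hAc : IsMulCommutative A := by
    refine ⟨⟨fun a b => ?_⟩⟩
    apply Subtype.ext
    exact (mem_centralizer_iff.1 (hAcent b.2)) a a.2
  have hAp : IsPGroup p A := hT.2.1.to_le hAT
  have hMsolv := hsolv M hM.1
  have hoddM : Odd (Nat.card M) := Odd.of_dvd_nat hodd (card_subgroup_dvd_card M)
  have hAF : A ≤ fittingOf M := scn_le_fitting hMsolv hoddM hFp hT hAT hTA hAc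
  obtain ⟨F₀, hF₀A, hF₀e, hF₀3⟩ := exists_elementary_of_not_pRankLE' 2 A hrank
  have hpG : p ∣ Nat.card G := hpF.trans (card_subgroup_dvd_card _)
  have hTtop := isSylowIn_top hS hsolv hodd hM hFp hpF hT
  let P'' : Sylow p G :=
    { toSubgroup := T
      isPGroup' := hT.2.1
      is_maximal' := fun {Q} hQ hle => hTtop.2.2 Q le_top hQ hle }
  have hrank1 : ¬ PRankLE p 1 A := fun h => hrank (pRankLE_mono (by norm_num) h)
  have htrans : TransitivityHypothesis A :=
    Cfsg.Agent.S1396.result hG p hpG A hAp hAc (Or.inr ⟨P'', ⟨hAT, hTA, hCA⟩, hrank1⟩)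
  have hFT : fittingOf M ≤ T :=
    le_of_isSylowIn_of_normal hT (fittingOf_le M) (le_normalizer_fittingOf M) hFp
  have hcent : fittingOf M ⊓ centralizer (A : Set G) ≤ A := by
    conv_rhs => rw [← hCA]
    exact inf_le_inf_right _ hFT
  have hpA : p ∣ Nat.card A := (p_dvd_card_A₀ hF₀e hF₀3).trans (card_dvd_of_le hF₀A)
  refine ⟨hAF, hAp, F₀, ⟨hM, hAF, hcent, ?_, ?_, htrans, hF₀A, hF₀A.trans hAcent, hF₀e, hF₀3⟩⟩
  · -- `C(A) ≤ M`
    have h1 := centralizer_centerIn_le hS hM (r := p) hpF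
    have h2 : centerIn (pCoreOf p M) ≤ A := by
      refine le_trans ?_ hcent
      have h := centerIn_pCoreOf_le M p
      exact le_inf (h.trans inf_le_left) ((h.trans inf_le_right).trans (centralizer_le hAF))
    calc centralizer (A : Set G) ≤ centralizer (centerIn (pCoreOf p M) : Set G) :=
          centralizer_le h2
      _ ≤ normalizer (centerIn (pCoreOf p M) : Set G) := centralizer_le_normalizer _
      _ = M := h1
  · intro r hr hrF
    obtain ⟨k, hk⟩ := IsPGroup.iff_card.1 hFp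
    rw [hk] at hrF
    have := (Nat.prime_dvd_prime_iff_eq hr hp.out).1 (hr.dvd_of_dvd_pow hrF)
    rw [this]
    exact hpA

/-- **B&G Theorem 8.1(b)** -/
theorem partB (hG : Cfsg.IsMinSimpleOddOrder G) {M : Subgroup G} (hM : IsCoatom M)
    (hFp : IsPGroup p (fittingOf M)) (hpF : p ∣ Nat.card (fittingOf M)) (P : Sylow p M) :
    ¬ p ∣ ((P : Subgroup M).map M.subtype).index ∧
      ∀ A : Subgroup G, Cfsg.IsSCN ((P : Subgroup M).map M.subtype) A → ¬ Cfsg.PRankLE p 2 ↥A →
        A ≤ Cfsg.fittingOf M ∧ Cfsg.InUniqueMaximal A := by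
  have hS := hG.2.1
  have hsolv := hG.2.2.2
  have hodd := hG.1
  have hT : IsSylowIn p ((P : Subgroup M).map M.subtype) M :=
    Cfsg.Agent.Helper14.isSylowIn_of_sylow P
  refine ⟨not_dvd_index hS hsolv hodd hM hFp hpF hT, ?_⟩
  intro A hscn hrank
  obtain ⟨hAF, hAp, F₀, hU⟩ := scn_uctx hG hM hFp hpF hT hscn hrank
  refine ⟨hAF, M, ⟨hM, hAF.trans (fittingOf_le M)⟩, ?_⟩
  rintro L ⟨hL, hAL⟩
  exact unique_of_isPGroup hS hsolv hodd hM hFp hpF hU hAp L hL hAL

end Cfsg.Agent.Lead.BG8
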