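import Mathlib

set_option autoImplicit false
set_option linter.style.haveILetI false

/-!
# Abstract setting for Glauberman's ZJ theorem

For a predicate `X` on subgroups of `G` (a "class" of abelian subgroups), `amax X P` is the set of
members of `X` contained in `P` of largest order, and `wsub X P` is their intersection.
For `X` = "abelian", `wsub X P = Z(J(P))`; for `X` = "elementary abelian", it is `Ω₁(Z(J_e(P)))`.
-/

namespace Cfsg.Agent.Lead.ZJ

open Subgroup

variable {G : Type*} [Group G]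

/-- members of the class `X` inside `P` of largest possible order -/
def amax (X : Subgroup G → Prop) (P : Subgroup G) : Set (Subgroup G) :=
  {A | A ≤ P ∧ X A ∧ ∀ Y : Subgroup G, Y ≤ P → X Y → Nat.card Y ≤ Nat.card A}

/-- the intersection of the members of `amax X P` -/
def wsub (X : Subgroup G → Prop) (P : Subgroup G) : Subgroup G := sInf (amax X P)

theorem amax_nonempty [Finite G] {X : Subgroup G → Prop} (hbot : X ⊥) (P : Subgroup G) :
    (amax X P).Nonempty := by
  classical
  let C : Set (Subgroup G) := {A | A ≤ P ∧ X A}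
  have hC : C.Nonempty := ⟨⊥, bot_le, hbot⟩
  obtain ⟨A, ⟨hAP, hAX⟩, hmax⟩ := Set.exists_max_image C (fun A => Nat.card A) (Set.toFinite C) hC
  exact ⟨A, hAP, hAX, fun Y hY hYX => hmax Y ⟨hY, hYX⟩⟩

theorem wsub_le_of_mem {X : Subgroup G → Prop} {P A : Subgroup G} (hA : A ∈ amax X P) :
    wsub X P ≤ A := sInf_le hA

theorem wsub_le [Finite G] {X : Subgroup G → Prop} (hbot : X ⊥) (P : Subgroup G) :
    wsub X P ≤ P := by
  obtain ⟨A, hA⟩ := amax_nonempty hbot P
  exact (wsub_le_of_mem hA).trans hA.1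

theorem le_wsub {X : Subgroup G → Prop} {P B : Subgroup G} (h : ∀ A ∈ amax X P, B ≤ A) :
    B ≤ wsub X P := le_sInf h

theorem mem_amax_of_le {X : Subgroup G → Prop} {P P1 A : Subgroup G} (hA : A ∈ amax X P)
    (hAP1 : A ≤ P1) (hP1 : P1 ≤ P) : A ∈ amax X P1 :=
  ⟨hAP1, hA.2.1, fun Y hY hYX => hA.2.2 Y (hY.trans hP1) hYX⟩

theorem amax_subset_of_le {X : Subgroup G → Prop} {P P1 A : Subgroup G} (hA : A ∈ amax X P)
    (hAP1 : A ≤ P1) (hP1 : P1 ≤ P) : amax X P1 ⊆ amax X P := by
  intro A' hA'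
  refine ⟨hA'.1.trans hP1, hA'.2.1, fun Y hY hYX => ?_⟩
  exact (hA.2.2 Y hY hYX).trans (hA'.2.2 A hAP1 hA.2.1)

theorem wsub_le_wsub_of_le {X : Subgroup G → Prop} {P P1 A : Subgroup G} (hA : A ∈ amax X P)
    (hAP1 : A ≤ P1) (hP1 : P1 ≤ P) : wsub X P ≤ wsub X P1 :=
  sInf_le_sInf (amax_subset_of_le hA hAP1 hP1)

/-- the class `X` is invariant under the automorphism `φ` -/
def AutInv (X : Subgroup G → Prop) : Prop :=
  ∀ (φ : G ≃* G) (A : Subgroup G), X A → X (A.map φ.toMonoidHom)

theorem map_mem_amax {X : Subgroup G → Prop} (hX : AutInv X) (φ : G ≃* G) {P A : Subgroup G}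
    (hA : A ∈ amax X P) : A.map φ.toMonoidHom ∈ amax X (P.map φ.toMonoidHom) := by
  refine ⟨map_mono hA.1, hX φ A hA.2.1, fun Y hY hYX => ?_⟩
  have h1 : Y.map φ.symm.toMonoidHom ≤ P := by
    rintro _ ⟨y, hy, rfl⟩
    obtain ⟨x, hx, hxy⟩ := hY hy
    have : φ.symm y = x := by rw [← hxy]; simp
    simpa [this] using hx
  have h2 := hA.2.2 _ h1 (hX φ.symm Y hYX)
  rw [card_map_of_injective φ.symm.injective] at h2
  rw [card_map_of_injective φ.injective]
  exact h2

theorem map_symm_map (φ : G ≃* G) (A : Subgroup G) :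
    (A.map φ.symm.toMonoidHom).map φ.toMonoidHom = A := by
  ext x
  constructor
  · rintro ⟨_, ⟨y, hy, rfl⟩, rfl⟩
    simpa using hy
  · intro hx
    exact ⟨φ.symm x, ⟨x, hx, rfl⟩, by simp⟩

theorem map_map_symm (φ : G ≃* G) (A : Subgroup G) :
    (A.map φ.toMonoidHom).map φ.symm.toMonoidHom = A := by
  have := map_symm_map φ.symm A
  simpa using this

theorem wsub_map {X : Subgroup G → Prop} (hX : AutInv X) (φ : G ≃* G) (P : Subgroup G) :
    wsub X (P.map φ.toMonoidHom) = (wsub X P).map φ.toMonoidHom := by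
  ext x
  constructor
  · intro hx
    refine ⟨φ.symm x, ?_, by simp⟩
    show φ.symm x ∈ sInf (amax X P)
    rw [mem_sInf]
    intro A hA
    have h1 := map_mem_amax hX φ hA
    have h2 : x ∈ A.map φ.toMonoidHom := (mem_sInf.mp hx) _ h1
    obtain ⟨a, ha, rfl⟩ := h2
    simpa using ha
  · rintro ⟨y, hy, rfl⟩
    show φ.toMonoidHom y ∈ sInf (amax X (P.map φ.toMonoidHom))
    rw [mem_sInf]
    intro A hA
    have h1 := map_mem_amax hX φ.symm hA
    rw [map_map_symm] at h1
    have h2 : y ∈ A.map φ.symm.toMonoidHom := (mem_sInf.mp hy) _ h1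
    obtain ⟨a, ha, hay⟩ := h2
    have : φ y = a := by rw [← hay]; simp
    simpa [this] using ha

/-- `N_G(P)` normalizes `wsub X P`. -/
theorem normalizer_le_normalizer_wsub {X : Subgroup G → Prop} (hX : AutInv X) (P : Subgroup G) :
    normalizer (P : Set G) ≤ normalizer (wsub X P : Set G) := by
  intro g hg
  have hP : P.map (MulAut.conj g).toMonoidHom = P := by
    ext x
    constructor
    · rintro ⟨y, hy, rfl⟩
      exact (mem_normalizer_iff.mp hg y).mp hy
    · intro hx
      refine ⟨g⁻¹ * x * g, ?_, by simp [MulAut.conj_apply, mul_assoc]⟩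
      have := (mem_normalizer_iff.mp (inv_mem hg) x).mp hx
      simpa using this
  have h := wsub_map hX (MulAut.conj g) P
  rw [hP] at h
  rw [mem_normalizer_iff]
  intro x
  constructor
  · intro hx
    rw [h]
    exact ⟨x, hx, by simp [MulAut.conj_apply]⟩
  · intro hx
    rw [h] at hx
    obtain ⟨y, hy, hyx⟩ := hx
    have : y = x := by
      have h3 : g * y * g⁻¹ = g * x * g⁻¹ := by simpa [MulAut.conj_apply] using hyx
      exact mul_left_cancel (mul_right_cancel h3)
    rwa [← this]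

end Cfsg.Agent.Lead.ZJ
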