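import Mathlib
import Cfsg.Prelude.Def_PLocal
import Cfsg.Agent.Lead.ZJ1
import Cfsg.Agent.Lead.PiHallNormal
import Cfsg.Agent.Lead.Compl
import Cfsg.Agent.Helper14.PCore

set_option autoImplicit false
set_option linter.style.haveILetI false

/-!
# Glauberman's ZJ theorem, abstract form

`wsub X S` is normal (indeed characteristic) in `G` when `X` is a class of abelian subgroups with
the Glauberman replacement property, `C_G(O_p(G)) ≤ O_p(G)` and `G` acts `p`-stably on its normal
`p`-subgroups.
-/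

namespace Cfsg.Agent.Lead.ZJ

open Subgroup Cfsg Cfsg.Agent.Helper14
open scoped commutatorElement

variable {G : Type*} [Group G]

/-- members of `X` are abelian -/
def Comm (X : Subgroup G → Prop) : Prop :=
  ∀ A : Subgroup G, X A → ∀ a ∈ A, ∀ b ∈ A, a * b = b * a

/-- Glauberman replacement property of the class `X` for `p`-subgroups of `G` -/
def Repl (p : ℕ) (X : Subgroup G → Prop) : Prop :=
  ∀ P : Subgroup G, IsPGroup p P → ∀ B : Subgroup G, B ≤ P → P ≤ normalizer (B : Set G) →
    ∀ U ∈ amax X P, ⁅B, B⁆ ≤ U → ¬ B ≤ U →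
      ∃ A ∈ amax X P, ¬ B ≤ A ∧ B ≤ normalizer (A : Set G)

/-- Frattini argument for `P ∩ L`, `L` normal. -/
theorem frattini_inf [Finite G] {p : ℕ} [Fact p.Prime] (S : Sylow p G) (L : Subgroup G)
    [L.Normal] : L ⊔ normalizer (((S : Subgroup G) ⊓ L : Subgroup G) : Set G) = ⊤ := by
  set P1 : Subgroup G := (S : Subgroup G) ⊓ L with hP1
  have h1 : IsPGroup p (P1.subgroupOf L) := (S.isPGroup'.to_le inf_le_left).comap_subtype
  have h2 : ¬ p ∣ (P1.subgroupOf L).index := by
    show ¬ p ∣ P1.relIndex L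
    rw [hP1, inf_relIndex_right, ← Cfsg.Agent.Lead.relIndex_sup_of_normal_right]
    intro h
    exact S.not_dvd_index (h.trans (relIndex_dvd_index_of_le le_sup_left))
  have h3 := Sylow.normalizer_sup_eq_top (h1.toSylow h2)
  have h4 : ((h1.toSylow h2 : Sylow p L) : Subgroup L).map L.subtype = P1 := by
    show (P1.subgroupOf L).map L.subtype = P1
    exact map_subgroupOf_eq_of_le inf_le_right
  rw [h4, sup_comm] at h3
  exact h3

theorem quad_of_normalizes {X : Subgroup G → Prop} (hXc : Comm X) {A B : Subgroup G} (hA : X A)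
    (hBNA : B ≤ normalizer (A : Set G)) : ⁅⁅B, A⁆, A⁆ = ⊥ := by
  have h1 : ⁅B, A⁆ ≤ A := by
    rw [commutator_le]
    intro b hb a ha
    have := (mem_normalizer_iff.mp (hBNA hb) a).mp ha
    have e : ⁅b, a⁆ = (b * a * b⁻¹) * a⁻¹ := by simp [commutatorElement_def]
    rw [e]
    exact mul_mem this (inv_mem ha)
  rw [eq_bot_iff]
  calc ⁅⁅B, A⁆, A⁆ ≤ ⁅A, A⁆ := commutator_mono h1 le_rfl
    _ = ⊥ := by
      rw [commutator_eq_bot_iff_le_centralizer]
      intro a ha
      rw [mem_centralizer_iff]
      intro b hb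
      exact hXc A hA b hb a ha

theorem quad_zpowers {A B : Subgroup G} (h : ⁅⁅B, A⁆, A⁆ = ⊥) {a : G} (ha : a ∈ A) :
    ⁅⁅B, zpowers a⁆, zpowers a⁆ = ⊥ := by
  rw [eq_bot_iff, ← h]
  exact commutator_mono (commutator_mono le_rfl (zpowers_le.mpr ha)) (zpowers_le.mpr ha)

theorem inf_normal_aux [Finite G] {p : ℕ} [Fact p.Prime] {X : Subgroup G → Prop}
    (hXc : Comm X) (hXa : AutInv X) (hrepl : Repl p X)
    (hst : ∀ (P : Subgroup G) [P.Normal], IsPGroup p P → Cfsg.IsPStableOn p P) (S : Sylow p G) :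
    ∀ n : ℕ, ∀ B : Subgroup G, B.Normal → IsPGroup p B → Nat.card B = n →
      (wsub X (S : Subgroup G) ⊓ B).Normal := by
  intro n
  induction n using Nat.strong_induction_on with
  | _ n ih =>
  intro B hBn hBp hcard
  by_contra hnot
  have hBP : B ≤ (S : Subgroup G) := hBp.le_sylow_of_normal S
  have hPNZ : (S : Subgroup G) ≤ normalizer (wsub X (S : Subgroup G) : Set G) :=
    le_normalizer.trans (normalizer_le_normalizer_wsub hXa _)
  -- Step 1: `B` is the normal closure of `Z ∩ B`
  have hB1 : normalClosure ((wsub X (S : Subgroup G) ⊓ B : Subgroup G) : Set G) = B := by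
    have hle : normalClosure ((wsub X (S : Subgroup G) ⊓ B : Subgroup G) : Set G) ≤ B :=
      normalClosure_le_normal inf_le_right
    by_contra hne
    have hlt : Nat.card (normalClosure ((wsub X (S : Subgroup G) ⊓ B : Subgroup G) : Set G))
        < Nat.card B := by
      by_contra h
      push Not at h
      exact hne (eq_of_le_of_card_ge hle h)
    have h2 := ih _ (hcard ▸ hlt) _ normalClosure_normal (hBp.to_le hle) rfl
    have h3 : wsub X (S : Subgroup G) ⊓
        normalClosure ((wsub X (S : Subgroup G) ⊓ B : Subgroup G) : Set G) =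
        wsub X (S : Subgroup G) ⊓ B :=
      le_antisymm (inf_le_inf_left _ hle) (le_inf inf_le_left le_normalClosure)
    rw [h3] at h2
    exact hnot h2
  -- Step 2: `[B, B] ≤ Z`
  have hBne : B ≠ ⊥ := by
    rintro rfl
    apply hnot
    rw [inf_bot_eq]
    infer_instance
  have hDn : (⁅B, B⁆ : Subgroup G).Normal := commutator_normal B B
  have hDB : ⁅B, B⁆ ≤ B := commutator_le_self B
  have hDlt : Nat.card (⁅B, B⁆ : Subgroup G) < Nat.card B := by
    by_contra h
    push Not at h
    have h1 := eq_of_le_of_card_ge hDB h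
    haveI : Nontrivial B := (nontrivial_iff_ne_bot B).mpr hBne
    haveI : Group.IsNilpotent B := hBp.isNilpotent
    have h2 := Group.IsSolvable.commutator_lt_top_of_nontrivial B
    have h3 : (_root_.commutator B).map B.subtype = (⊤ : Subgroup B).map B.subtype := by
      rw [map_subtype_commutator, h1, ← MonoidHom.range_eq_map, range_subtype]
    exact h2.ne (map_injective B.subtype_injective h3)
  have hN : (wsub X (S : Subgroup G) ⊓ ⁅B, B⁆).Normal :=
    ih _ (hcard ▸ hDlt) _ hDn (hBp.to_le hDB) rfl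
  have key : ∀ x ∈ B, ∀ b ∈ B, ⁅x, b⁆ ∈ wsub X (S : Subgroup G) ⊓ ⁅B, B⁆ := by
    intro x hx
    rw [← hB1] at hx
    refine closure_induction
      (p := fun x _ => ∀ b ∈ B, ⁅x, b⁆ ∈ wsub X (S : Subgroup G) ⊓ ⁅B, B⁆) ?_ ?_ ?_ ?_ hx
    · intro x hx b hb
      obtain ⟨z, hz, hzx⟩ := Group.mem_conjugatesOfSet_iff.mp hx
      obtain ⟨g, hg⟩ := isConj_iff.mp hzx
      subst hg
      have hz' : z ∈ wsub X (S : Subgroup G) ⊓ B := hz
      have hb' : g⁻¹ * b * g ∈ B := by simpa using hBn.conj_mem b hb g⁻¹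
      have h1 : ⁅z, g⁻¹ * b * g⁆ ∈ wsub X (S : Subgroup G) ⊓ ⁅B, B⁆ := by
        refine mem_inf.mpr ⟨?_, commutator_mem_commutator (mem_inf.mp hz').2 hb'⟩
        have hc : (g⁻¹ * b * g) * z⁻¹ * (g⁻¹ * b * g)⁻¹ ∈ wsub X (S : Subgroup G) :=
          (mem_normalizer_iff.mp (hPNZ (hBP hb')) _).mp (inv_mem (mem_inf.mp hz').1)
        have e : ⁅z, g⁻¹ * b * g⁆ = z * ((g⁻¹ * b * g) * z⁻¹ * (g⁻¹ * b * g)⁻¹) := by
          simp [commutatorElement_def, mul_assoc]
        rw [e]
        exact mul_mem (mem_inf.mp hz').1 hc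
      have h2 := hN.conj_mem _ h1 g
      have e : g * ⁅z, g⁻¹ * b * g⁆ * g⁻¹ = ⁅g * z * g⁻¹, b⁆ := by
        simp only [commutatorElement_def]; group
      rwa [e] at h2
    · intro b _
      rw [commutatorElement_one_left]
      exact one_mem _
    · intro x y _ _ hx hy b hb
      have e : ⁅x * y, b⁆ = (x * ⁅y, b⁆ * x⁻¹) * ⁅x, b⁆ := by
        simp only [commutatorElement_def]; group
      rw [e]
      exact mul_mem (hN.conj_mem _ (hy b hb) x) (hx b hb)
    · intro x _ hx b hb
      have e : ⁅x⁻¹, b⁆ = x⁻¹ * (⁅x, b⁆)⁻¹ * x⁻¹⁻¹ := by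
        simp only [commutatorElement_def]; group
      rw [e]
      exact hN.conj_mem _ (inv_mem (hx b hb)) x⁻¹
  have hDZ : ⁅B, B⁆ ≤ wsub X (S : Subgroup G) :=
    ((commutator_le).mpr key).trans inf_le_left
  -- Step 3: every member of `amax X P` contains `B`
  have hall : ∀ U ∈ amax X (S : Subgroup G), B ≤ U := by
    intro U hU
    by_contra hBU
    obtain ⟨A, hA, hBA, hBNA⟩ := hrepl (S : Subgroup G) S.isPGroup' B hBP
      (by rw [normalizer_eq_top_iff.mpr hBn]; exact le_top) U hU
      (hDZ.trans (wsub_le_of_mem hU)) hBU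
    have hBAA : ⁅⁅B, A⁆, A⁆ = ⊥ := quad_of_normalizes hXc hA.2.1 hBNA
    have hAL : A ≤ (pCore p (G ⧸ centralizer (B : Set G))).comap
        (QuotientGroup.mk' (centralizer (B : Set G))) := by
      intro a ha
      exact hst B hBp a (quad_zpowers hBAA ha)
    set C : Subgroup G := centralizer (B : Set G) with hC
    set L : Subgroup G := (pCore p (G ⧸ C)).comap (QuotientGroup.mk' C) with hL
    have hCL : C ≤ L := by
      intro c hc
      show QuotientGroup.mk' C c ∈ pCore p (G ⧸ C)
      have : QuotientGroup.mk' C c = 1 := (QuotientGroup.eq_one_iff c).mpr hc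
      rw [this]
      exact one_mem _
    have hAP1 : A ≤ (S : Subgroup G) ⊓ L := le_inf hA.1 hAL
    have hLle : L ≤ ((S : Subgroup G) ⊓ L) ⊔ C := by
      intro l hl
      have hT : pCore p (G ⧸ C) ≤
          (S.mapSurjective (QuotientGroup.mk'_surjective C) : Subgroup (G ⧸ C)) :=
        pCore_le_sylow p _
      have h1 : QuotientGroup.mk' C l ∈ (S : Subgroup G).map (QuotientGroup.mk' C) := by
        rw [← Sylow.coe_mapSurjective]
        exact hT hl
      obtain ⟨x, hx, hxl⟩ := h1
      have hc : x⁻¹ * l ∈ C := QuotientGroup.eq.mp hxl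
      have hxL : x ∈ L := by
        have e : x = l * (x⁻¹ * l)⁻¹ := by group
        rw [e]
        exact mul_mem hl (inv_mem (hCL hc))
      have e : l = x * (x⁻¹ * l) := by group
      rw [e]
      exact mul_mem_sup (mem_inf.mpr ⟨hx, hxL⟩) hc
    have htop : C ⊔ normalizer (((S : Subgroup G) ⊓ L : Subgroup G) : Set G) = ⊤ := by
      have h1 := frattini_inf S L
      rw [eq_top_iff, ← h1]
      apply sup_le
      · exact hLle.trans (sup_le (le_normalizer.trans le_sup_right) le_sup_left)
      · exact le_sup_right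
    have hX'n : (wsub X ((S : Subgroup G) ⊓ L) ⊓ B).Normal := by
      rw [← normalizer_eq_top_iff, eq_top_iff, ← htop]
      apply sup_le
      · intro c hc
        rw [mem_normalizer_iff]
        intro x
        have hcomm : ∀ y ∈ B, c * y * c⁻¹ = y := by
          intro y hy
          have := (mem_centralizer_iff.mp hc) y hy
          rw [← this]; group
        constructor
        · intro hx
          rw [hcomm x (mem_inf.mp hx).2]
          exact hx
        · intro hx
          have hxB : x ∈ B := by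
            have := hBn.conj_mem _ (mem_inf.mp hx).2 c⁻¹
            simpa [mul_assoc] using this
          rw [hcomm x hxB] at hx
          exact hx
      · intro g hg
        have h1 := normalizer_le_normalizer_wsub hXa _ hg
        rw [mem_normalizer_iff] at h1 ⊢
        intro x
        have h2 : x ∈ B ↔ g * x * g⁻¹ ∈ B :=
          ⟨fun h => hBn.conj_mem x h g, fun h => by
            have := hBn.conj_mem _ h g⁻¹
            simpa [mul_assoc] using this⟩
        rw [mem_inf, mem_inf, ← h1 x, ← h2]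
    have hZZs : wsub X (S : Subgroup G) ≤ wsub X ((S : Subgroup G) ⊓ L) :=
      wsub_le_wsub_of_le hA hAP1 inf_le_left
    have h5 : normalClosure ((wsub X (S : Subgroup G) ⊓ B : Subgroup G) : Set G) ≤
        wsub X ((S : Subgroup G) ⊓ L) ⊓ B :=
      normalClosure_le_normal (inf_le_inf_right _ hZZs)
    have hAmem : A ∈ amax X ((S : Subgroup G) ⊓ L) := mem_amax_of_le hA hAP1 inf_le_left
    exact hBA ((hB1.ge.trans h5).trans (inf_le_left.trans (wsub_le_of_mem hAmem)))
  apply hnot
  have h6 : wsub X (S : Subgroup G) ⊓ B = B := inf_eq_right.mpr (le_wsub hall)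
  rw [h6]
  exact hBn


/-- **Glauberman's ZJ theorem**, abstract form: `wsub X S` is normal in `G`. -/
theorem wsub_normal [Finite G] {p : ℕ} [Fact p.Prime] {X : Subgroup G → Prop}
    (hXc : Comm X) (hXa : AutInv X) (hXb : X ⊥) (hrepl : Repl p X)
    (hc : centralizer (pCore p G : Set G) ≤ pCore p G)
    (hst : ∀ (P : Subgroup G) [P.Normal], IsPGroup p P → Cfsg.IsPStableOn p P) (S : Sylow p G) :
    (wsub X (S : Subgroup G)).Normal := by
  have hQp : IsPGroup p (pCore p G) := pCore_isPGroup p
  have h1 := inf_normal_aux hXc hXa hrepl hst S _ (pCore p G) inferInstance hQp rfl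
  suffices h : wsub X (S : Subgroup G) ≤ pCore p G by rwa [inf_eq_left.mpr h] at h1
  have hQP : pCore p G ≤ (S : Subgroup G) := pCore_le_sylow p S
  have hPNZ : (S : Subgroup G) ≤ normalizer (wsub X (S : Subgroup G) : Set G) :=
    le_normalizer.trans (normalizer_le_normalizer_wsub hXa _)
  have hQZZ : ⁅⁅pCore p G, wsub X (S : Subgroup G)⁆, wsub X (S : Subgroup G)⁆ = ⊥ := by
    have h1 : ⁅pCore p G, wsub X (S : Subgroup G)⁆ ≤ wsub X (S : Subgroup G) := by
      rw [commutator_le]
      intro q hq z hz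
      have := (mem_normalizer_iff.mp (hPNZ (hQP hq)) z).mp hz
      have e : ⁅q, z⁆ = (q * z * q⁻¹) * z⁻¹ := by simp [commutatorElement_def]
      rw [e]
      exact mul_mem this (inv_mem hz)
    rw [eq_bot_iff]
    calc ⁅⁅pCore p G, wsub X (S : Subgroup G)⁆, wsub X (S : Subgroup G)⁆
        ≤ ⁅wsub X (S : Subgroup G), wsub X (S : Subgroup G)⁆ := commutator_mono h1 le_rfl
      _ = ⊥ := by
        rw [commutator_eq_bot_iff_le_centralizer]
        intro a ha
        rw [mem_centralizer_iff]
        intro b hb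
        obtain ⟨A, hA⟩ := amax_nonempty hXb (S : Subgroup G)
        exact hXc A hA.2.1 b (wsub_le_of_mem hA hb) a (wsub_le_of_mem hA ha)
  have hLp : IsPGroup p ((pCore p (G ⧸ centralizer (pCore p G : Set G))).comap
      (QuotientGroup.mk' (centralizer (pCore p G : Set G)))) := by
    refine (pCore_isPGroup p).comap_of_ker_isPGroup _ ?_
    rw [QuotientGroup.ker_mk']
    exact hQp.to_le hc
  have hLQ : (pCore p (G ⧸ centralizer (pCore p G : Set G))).comap
      (QuotientGroup.mk' (centralizer (pCore p G : Set G))) ≤ pCore p G :=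
    le_pCore p inferInstance hLp
  intro z hz
  apply hLQ
  exact hst (pCore p G) hQp z (quad_zpowers hQZZ hz)

/-- **Glauberman's ZJ theorem**, abstract form: `wsub X S` is characteristic in `G`. -/
theorem wsub_characteristic [Finite G] {p : ℕ} [Fact p.Prime] {X : Subgroup G → Prop}
    (hXc : Comm X) (hXa : AutInv X) (hXb : X ⊥) (hrepl : Repl p X)
    (hc : centralizer (pCore p G : Set G) ≤ pCore p G)
    (hst : ∀ (P : Subgroup G) [P.Normal], IsPGroup p P → Cfsg.IsPStableOn p P) (S : Sylow p G) :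
    (wsub X (S : Subgroup G)).Characteristic := by
  haveI hn := wsub_normal hXc hXa hXb hrepl hc hst S
  rw [characteristic_iff_map_eq]
  intro φ
  rw [← wsub_map hXa φ]
  obtain ⟨g, hg⟩ := MulAction.exists_smul_eq G S
    (S.mapSurjective (f := φ.toMonoidHom) φ.surjective)
  have h1 : (S : Subgroup G).map φ.toMonoidHom =
      (S : Subgroup G).map (MulAut.conj g).toMonoidHom := by
    rw [← Sylow.coe_mapSurjective (f := φ.toMonoidHom) φ.surjective, ← hg,
      Sylow.coe_subgroup_smul, Cfsg.Agent.Lead.conj_smul_eq_map]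
  rw [h1, wsub_map hXa, ← Cfsg.Agent.Lead.conj_smul_eq_map, Normal.conj_smul_eq_self]

end Cfsg.Agent.Lead.ZJ
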