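import Mathlib
import Cfsg.Agent.Lead.BG8g
import Cfsg.Agent.Lead.Bender2
import Cfsg.Agent.Lead.ZJ2
import Cfsg.Agent.Lead.TT10
import Cfsg.Agent.Helper26.ZJeNPC
import Cfsg.Agent.Helper14.PReduced4
import Cfsg.Agent.S1458
import Cfsg.Agent.S1452
import Cfsg.Agent.S1450
import Cfsg.Agent.S1455
import Cfsg.Agent.Helper7.RankGraph
import Cfsg.Agent.Helper7.RankSylow
import Cfsg.Agent.Helper10.PConstrained

set_option autoImplicit false
set_option linter.unusedSectionVars false
set_option linter.unusedVariables false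
set_option linter.style.haveILetI false

/-! # Generic lemmas for Bender–Glauberman §9: invariant `p'`-subgroups under a Sylow subgroup,
the general `ZJ`-factorization in ambient form -/

namespace Cfsg.Agent.Lead.BG9

open Subgroup Cfsg
open Cfsg.Agent.Helper14 (IsSylowIn cj)
open Cfsg.Agent.Lead.Bender (Oc Oc_le le_normalizer_Oc Oc_coprime le_Oc)
open Cfsg.Agent.Lead.TT (le_normalizer_map_subtype_of_normal)

universe u

section typelevel

variable {X : Type*} [Group X] [Finite X] {p : ℕ} [hp : Fact p.Prime]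

/-- In a `p`-constrained group, every `p'`-subgroup normalized by a Sylow `p`-subgroup lies in
`O_{p'}`. -/
theorem le_pPrimeCore_of_sylow (hX : Cfsg.IsPConstrained p X) (P : Sylow p X)
    (K : Subgroup X) (hK : (Nat.card K).Coprime p)
    (hPK : (P : Subgroup X) ≤ normalizer (K : Set X)) : K ≤ Cfsg.pPrimeCore p X := by
  set N₀ : Subgroup X := Cfsg.pPrimeCore p X with hN₀
  set π : X →* X ⧸ N₀ := QuotientGroup.mk' N₀ with hπ
  have hπs : Function.Surjective π := QuotientGroup.mk'_surjective N₀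
  set R : Subgroup (X ⧸ N₀) := Cfsg.pCore p (X ⧸ N₀) with hR
  have hRp : IsPGroup p R := Cfsg.Agent.Helper14.pCore_isPGroup p
  have hRP : R ≤ (P : Subgroup X).map π := by
    have := Cfsg.Agent.Lead.le_sylow_of_normal_isPGroup (P.mapSurjective hπs) R hRp
    rwa [Sylow.coe_mapSurjective] at this
  apply Cfsg.Agent.Lead.TT.le_pPrimeCore_of_map_eq_bot
  have hKc : (Nat.card (K.map π)).Coprime p := Cfsg.Agent.Lead.TT.coprime_card_map π hK
  have hRK : R ≤ normalizer ((K.map π : Subgroup (X ⧸ N₀)) : Set (X ⧸ N₀)) :=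
    hRP.trans (Cfsg.Agent.Lead.TT.map_le_normalizer_map π hPK)
  have hcent : K.map π ≤ centralizer (R : Set (X ⧸ N₀)) := by
    intro k hk
    rw [mem_centralizer_iff]
    intro r hr
    exact Cfsg.Agent.Lead.TT.commute_of_mem_normal_of_mem_normalizer hRp hKc hr (hRK hr) hk
  have hKR : K.map π ≤ R :=
    hcent.trans (Cfsg.Agent.Lead.TT.centralizer_pCore_quotient_le hX)
  exact Cfsg.Agent.Lead.TT.eq_bot_of_le_of_coprime hRp hKc hKR

end typelevel

variable {G : Type u} [Group G] [Finite G] {p : ℕ} [hp : Fact p.Prime]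

/-- ambient form: in a solvable subgroup `X`, a `p'`-subgroup normalized by a Sylow `p`-subgroup
of `X` lies in `O_{p'}(X)` -/
theorem inv_sylow_le_Oc {X P Y : Subgroup G} (hX : Group.IsSolvable X) (hP : IsSylowIn p P X)
    (hYX : Y ≤ X) (hY : (Nat.card Y).Coprime p) (hPY : P ≤ normalizer (Y : Set G)) :
    Y ≤ Oc p X := by
  have hXc : Cfsg.IsPConstrained p ↥X :=
    Cfsg.Agent.Helper7.isPConstrained_iff.mpr (Cfsg.Agent.Helper7.pLayer_eq_bot_of_isSolvable p)
  have hcard : Nat.card (Y.subgroupOf X) = Nat.card Y :=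
    Nat.card_congr (subgroupOfEquivOfLe hYX).toEquiv
  have h1 : Y.subgroupOf X ≤ Cfsg.pPrimeCore p ↥X := by
    refine le_pPrimeCore_of_sylow hXc hP.toSylow (Y.subgroupOf X) (by rw [hcard]; exact hY) ?_
    intro e he
    rw [mem_normalizer_iff]
    intro x
    rw [mem_subgroupOf, mem_subgroupOf]
    have he' : (e : G) ∈ P := by
      have : e ∈ P.subgroupOf X := he
      exact mem_subgroupOf.mp this
    have := mem_normalizer_iff.mp (hPY he') (x : G)
    simpa using this
  have h2 : (Cfsg.pPrimeCore p ↥X).map X.subtype ≤ Oc p X := by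
    apply le_Oc (Cfsg.Agent.Helper14.map_subtype_le _) (le_normalizer_map_subtype_of_normal X _)
    rw [Cfsg.Agent.Helper14.card_map_subtype]
    exact Cfsg.Agent.Helper19.pPrimeCore_coprime p
  intro y hy
  exact h2 ⟨⟨y, hYX hy⟩, h1 (mem_subgroupOf.mpr hy), rfl⟩

/-- A subgroup containing a Sylow `q`-subgroup of `Y` for every prime `q` contains `Y`. -/
theorem le_of_forall_sylow_le {Y H : Subgroup G}
    (h : ∀ q : ℕ, ∀ hq : Fact q.Prime, ∃ S : Sylow q Y, (S : Subgroup Y).map Y.subtype ≤ H) :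
    Y ≤ H := by
  have hdvd : Nat.card Y ∣ Nat.card (Y ⊓ H : Subgroup G) := by
    rw [Nat.dvd_iff_prime_pow_dvd_dvd]
    intro q k hq hqk
    haveI : Fact q.Prime := ⟨hq⟩
    obtain ⟨S, hS⟩ := h q ⟨hq⟩
    have h1 : Nat.card ((S : Subgroup Y).map Y.subtype) = q ^ (Nat.card Y).factorization q := by
      rw [Cfsg.Agent.Helper14.card_map_subtype]
      exact S.card_eq_multiplicity
    have h2 : (S : Subgroup Y).map Y.subtype ≤ Y ⊓ H :=
      le_inf (Cfsg.Agent.Helper14.map_subtype_le _) hS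
    have h3 : q ^ (Nat.card Y).factorization q ∣ Nat.card (Y ⊓ H : Subgroup G) :=
      h1 ▸ card_dvd_of_le h2
    have h4 : k ≤ (Nat.card Y).factorization q :=
      (hq.pow_dvd_iff_le_factorization Nat.card_pos.ne').1 hqk
    exact (pow_dvd_pow q h4).trans h3
  have hle : Nat.card Y ≤ Nat.card (Y ⊓ H : Subgroup G) := Nat.le_of_dvd Nat.card_pos hdvd
  have := eq_of_le_of_card_ge (inf_le_left : Y ⊓ H ≤ Y) hle
  exact inf_eq_left.mp this

/-- a `p`-subgroup lies in every normal subgroup of index prime to `p` -/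
theorem le_of_isPGroup_of_index_coprime {X : Type*} [Group X] [Finite X] {Q N : Subgroup X}
    [N.Normal] (hQ : IsPGroup p Q) (hN : N.index.Coprime p) : Q ≤ N := by
  intro x hx
  obtain ⟨k, hk⟩ := hQ ⟨x, hx⟩
  have hk' : x ^ p ^ k = 1 := by
    have := congrArg Subtype.val hk
    simpa using this
  have h1 : orderOf (QuotientGroup.mk' N x) ∣ p ^ k := by
    apply orderOf_dvd_of_pow_eq_one
    rw [← map_pow, hk', map_one]
  have h2 : orderOf (QuotientGroup.mk' N x) ∣ N.index := by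
    rw [Subgroup.index_eq_card]
    exact orderOf_dvd_natCard _
  have h3 : orderOf (QuotientGroup.mk' N x) = 1 :=
    Nat.eq_one_of_dvd_coprimes (Nat.Coprime.pow_right k hN) h2 h1
  rw [orderOf_eq_one_iff, QuotientGroup.mk'_apply, QuotientGroup.eq_one_iff] at h3
  exact h3

/-- general `ZJ`-factorization of a solvable subgroup of odd order, ambient form -/
theorem zj_factor (hodd : Odd (Nat.card G)) {X R : Subgroup G} (hXsolv : Group.IsSolvable X)
    (hR : IsSylowIn p R X) :
    X ≤ Oc p X ⊔ (X ⊓ normalizer (Cfsg.centerThompsonOf p R : Set G)) := by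
  haveI := hXsolv
  have hoddX : Odd (Nat.card X) := Odd.of_dvd_nat hodd (card_subgroup_dvd_card X)
  set S : Sylow p ↥X := hR.toSylow with hS
  have hmap : (S : Subgroup ↥X).map X.subtype = R := hR.toSylow_map
  set W₀ : Subgroup ↥X := Cfsg.centerThompsonOf p (S : Subgroup ↥X) with hW₀
  set N₀ : Subgroup ↥X := Cfsg.pPrimeCore p ↥X with hN₀
  haveI hn : (W₀ ⊔ N₀).Normal := Cfsg.Agent.S1458.result hoddX p S
  have hW₀S : W₀ ≤ S := (Cfsg.Agent.Helper26.zjEFunctor p).le _
  have hinf : (S : Subgroup ↥X) ⊓ (W₀ ⊔ N₀) = W₀ := by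
    apply le_antisymm
    · rintro x ⟨hxS, hxL⟩
      have hx' : x ∈ ((W₀ ⊔ N₀ : Subgroup ↥X) : Set ↥X) := hxL
      rw [Subgroup.mul_normal] at hx'
      obtain ⟨w, hw, n, hn', rfl⟩ := Set.mem_mul.mp hx'
      have hnS : n ∈ (S : Subgroup ↥X) := by
        have : n = w⁻¹ * (w * n) := by group
        rw [this]
        exact mul_mem (inv_mem (hW₀S hw)) hxS
      have hn1 : n = 1 := by
        have : n ∈ (S : Subgroup ↥X) ⊓ Cfsg.pPrimeCore p ↥X := ⟨hnS, hn'⟩
        rw [Cfsg.Agent.Helper10.sylow_inf_pPrimeCore, mem_bot] at this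
        exact this
      rw [hn1, mul_one]
      exact hw
    · exact le_inf hW₀S le_sup_left
  have hfr := Cfsg.Agent.Lead.ZJ.frattini_inf S (W₀ ⊔ N₀)
  rw [hinf] at hfr
  have htop : N₀ ⊔ normalizer (W₀ : Set ↥X) = ⊤ := by
    rw [eq_top_iff, ← hfr]
    exact sup_le (sup_le (le_normalizer.trans le_sup_right) le_sup_left) le_sup_right
  have hW : Cfsg.centerThompsonOf p R = W₀.map X.subtype := by
    have := (Cfsg.Agent.Helper26.zjEFunctor p).map X.subtype (S : Subgroup ↥X)
      (X.subtype_injective.injOn)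
    rw [hmap] at this
    exact this
  intro x hx
  have hxtop : (⟨x, hx⟩ : ↥X) ∈ N₀ ⊔ normalizer (W₀ : Set ↥X) := by rw [htop]; trivial
  have hx2 : x ∈ (N₀ ⊔ normalizer (W₀ : Set ↥X)).map X.subtype := ⟨⟨x, hx⟩, hxtop, rfl⟩
  rw [Subgroup.map_sup] at hx2
  have hle : N₀.map X.subtype ⊔ (normalizer (W₀ : Set ↥X)).map X.subtype ≤
      Oc p X ⊔ (X ⊓ normalizer (Cfsg.centerThompsonOf p R : Set G)) := by
    apply sup_le_sup
    · apply le_Oc (Cfsg.Agent.Helper14.map_subtype_le _)
        (le_normalizer_map_subtype_of_normal X _)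
      rw [Cfsg.Agent.Helper14.card_map_subtype]
      exact Cfsg.Agent.Helper19.pPrimeCore_coprime p
    · rintro _ ⟨y, hy, rfl⟩
      refine ⟨y.2, ?_⟩
      rw [hW]
      exact (le_normalizer_map X.subtype) ⟨y, hy, rfl⟩
  exact hle hx2


/-- for odd `p`, a `p`-subgroup of rank at least `3` has a self-centralizing normal subgroup of
rank at least `3` -/
theorem exists_scn3 (hp2 : p ≠ 2) {P : Subgroup G} (hPp : IsPGroup p P)
    (hr : ¬ Cfsg.PRankLE p 2 ↥P) :
    ∃ A : Subgroup G, Cfsg.IsSCN P A ∧ ¬ Cfsg.PRankLE p 2 ↥A := by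
  obtain ⟨E, hEn, hEe, hEc⟩ :=
    Cfsg.Agent.Helper7.exists_normal_elemAb_sq_of_not_pRankLE p hPp hr
  haveI := hEn
  obtain ⟨A', hEA, hAn, hAC, hA3⟩ := Cfsg.Agent.S1452.result p hp2 hPp hr E hEe hEc
  haveI := hAn
  refine ⟨A'.map P.subtype, ⟨Cfsg.Agent.Helper14.map_subtype_le _,
    le_normalizer_map_subtype_of_normal P A', ?_⟩, ?_⟩
  · ext x
    constructor
    · rintro ⟨hxP, hxC⟩
      have hx' : (⟨x, hxP⟩ : ↥P) ∈ centralizer (A' : Set ↥P) := by
        rw [mem_centralizer_iff]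
        intro a ha
        apply Subtype.ext
        have := (mem_centralizer_iff.mp hxC) (a : G) ⟨a, ha, rfl⟩
        simpa using this
      rw [hAC] at hx'
      exact ⟨_, hx', rfl⟩
    · rintro ⟨a, ha, rfl⟩
      refine ⟨a.2, mem_centralizer_iff.mpr ?_⟩
      rintro _ ⟨b, hb, rfl⟩
      have ha' : a ∈ centralizer (A' : Set ↥P) := by rw [hAC]; exact ha
      have := (mem_centralizer_iff.mp ha') b hb
      have := congrArg Subtype.val this
      simpa using this
  · intro h
    apply hA3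
    exact Cfsg.Agent.Helper7.PRankLE.of_injective
      ((A'.equivMapOfInjective P.subtype P.subtype_injective).toMonoidHom)
      (A'.equivMapOfInjective P.subtype P.subtype_injective).injective h

/-- if the Sylow `p`-subgroups of the solvable subgroup `X` of odd order have rank at most `2`,
every `p`-subgroup of `X` lies in `O_{p',p}(X)` -/
theorem le_pPrimePCore_of_rank_two (hodd : Odd (Nat.card G)) {X P Q : Subgroup G}
    (hXsolv : Group.IsSolvable X) (hP : IsSylowIn p P X) (hPne : P ≠ ⊥)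
    (hr : Cfsg.PRankLE p 2 ↥P) (hQX : Q ≤ X) (hQp : IsPGroup p Q) :
    Q ≤ (Cfsg.pPrimePCore p ↥X).map X.subtype := by
  haveI := hXsolv
  have hoddX : Odd (Nat.card X) := Odd.of_dvd_nat hodd (card_subgroup_dvd_card X)
  have hpX : p ∣ Nat.card ↥X := by
    obtain ⟨k, hk⟩ := IsPGroup.iff_card.mp hP.2.1
    have hk0 : k ≠ 0 := by
      rintro rfl
      rw [pow_zero] at hk
      exact hPne (card_eq_one.mp hk)
    have h1 : Nat.card P ∣ Nat.card X := card_dvd_of_le hP.1
    rw [hk] at h1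
    exact (dvd_pow_self p hk0).trans h1
  have hrS : Cfsg.PRankLE p 2 ↥((hP.toSylow : Sylow p ↥X) : Subgroup ↥X) :=
    Cfsg.Agent.Helper7.PRankLE.of_injective ((subgroupOfEquivOfLe hP.1).toMonoidHom)
      (subgroupOfEquivOfLe hP.1).injective hr
  have hrX : Cfsg.PRankLE p 2 ↥X := Cfsg.Agent.S1455.pRankLE_of_sylow hP.toSylow hrS
  obtain ⟨_, _, _, _, _, hidx⟩ := Cfsg.Agent.S1450.result hoddX p hpX hrX
  have h1 : Q.subgroupOf X ≤ Cfsg.pPrimePCore p ↥X :=
    le_of_isPGroup_of_index_coprime (hQp.comap_subtype) hidx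
  intro x hx
  exact ⟨⟨x, hQX hx⟩, h1 (mem_subgroupOf.mpr hx), rfl⟩

end Cfsg.Agent.Lead.BG9
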