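import Mathlib
import Cfsg.Agent.Lead.BG9a

set_option autoImplicit false
set_option linter.unusedSectionVars false
set_option linter.unusedVariables false
set_option linter.style.haveILetI false

/-! # Bender–Glauberman Theorem 9.1: reduction to the residual configuration -/

namespace Cfsg.Agent.Lead.BG9

open Subgroup Cfsg
open Cfsg.Agent.Helper14 (IsSylowIn cj)
open Cfsg.Agent.Lead.Bender (Oc Oc_le le_normalizer_Oc Oc_coprime le_Oc)
open Cfsg.Agent.Lead.TT (le_normalizer_map_subtype_of_normal normalizer_ne_top_of_simple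
  card_map_conj)

universe u
variable {G : Type u} [Group G] [Finite G] {p : ℕ} [hp : Fact p.Prime]

/-- standing hypotheses of B&G Theorem 9.1(b): `B` is a nontrivial `p`-subgroup of the maximal
subgroup `M` such that every `B`-invariant `p'`-subgroup of `G` lies in `M` -/
structure Ctx (M B : Subgroup G) (p : ℕ) : Prop where
  hG : Cfsg.IsMinSimpleOddOrder G
  hM : IsCoatom M
  hBM : B ≤ M
  hBp : IsPGroup p B
  hBne : B ≠ ⊥
  hinv : ∀ Y : Subgroup G, (Nat.card Y).Coprime p → B ≤ normalizer (Y : Set G) → Y ≤ M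

theorem eq_of_coatom_le {M X : Subgroup G} (hM : IsCoatom M) (hMX : M ≤ X) (hX : X ≠ ⊤) :
    X = M := by
  by_contra hne
  exact hX (hM.2 X (lt_of_le_of_ne hMX (Ne.symm hne)))

theorem W_ne_bot {R : Subgroup G} (hRp : IsPGroup p R) (hR : R ≠ ⊥) :
    Cfsg.centerThompsonOf p R ≠ ⊥ :=
  (Cfsg.Agent.Helper26.zjEFunctor p).ne_bot R hRp hR

theorem W_le (R : Subgroup G) : Cfsg.centerThompsonOf p R ≤ R :=
  (Cfsg.Agent.Helper26.zjEFunctor p).le R

theorem normalizer_le_normalizer_W (R : Subgroup G) :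
    normalizer (R : Set G) ≤ normalizer (Cfsg.centerThompsonOf p R : Set G) :=
  (Cfsg.Agent.Helper26.zjEFunctor p).normalizer_le R

/-- the exponent of the `p`-part of `|H ∩ M|` -/
noncomputable def pPart (p : ℕ) (M H : Subgroup G) : ℕ :=
  (Nat.card (H ⊓ M : Subgroup G)).factorization p

variable {M B : Subgroup G}

namespace Ctx

theorem hS (h : Ctx M B p) : IsSimpleGroup G := h.hG.2.1

theorem hodd (h : Ctx M B p) : Odd (Nat.card G) := h.hG.1

theorem hsolv (h : Ctx M B p) {H : Subgroup G} (hH : H ≠ ⊤) : Group.IsSolvable H :=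
  h.hG.2.2.2 H hH

theorem hMtop (h : Ctx M B p) : M ≠ ⊤ := h.hM.1

theorem hp2 (h : Ctx M B p) : p ≠ 2 := by
  rintro rfl
  obtain ⟨k, hk⟩ := IsPGroup.iff_card.mp h.hBp
  have hk0 : k ≠ 0 := by
    rintro rfl
    rw [pow_zero] at hk
    exact h.hBne (card_eq_one.mp hk)
  have h1 : 2 ∣ Nat.card G := (dvd_pow_self 2 hk0).trans (hk ▸ card_subgroup_dvd_card B)
  exact (Nat.not_even_iff_odd.mpr h.hodd) (even_iff_two_dvd.mpr h1)

theorem ne_bot_of_le (h : Ctx M B p) {R : Subgroup G} (hBR : B ≤ R) : R ≠ ⊥ := by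
  rintro rfl
  exact h.hBne (le_bot_iff.mp hBR)

theorem ne_top_of_le (h : Ctx M B p) {R : Subgroup G} (hRM : R ≤ M) : R ≠ ⊤ := by
  rintro rfl
  exact h.hMtop (top_le_iff.mp hRM)

theorem normalizer_ne_top (h : Ctx M B p) {R : Subgroup G} (hBR : B ≤ R) (hRM : R ≤ M) :
    normalizer (R : Set G) ≠ ⊤ :=
  normalizer_ne_top_of_simple h.hS (h.ne_bot_of_le hBR) (h.ne_top_of_le hRM)

theorem normalizer_W_ne_top (h : Ctx M B p) {R : Subgroup G} (hRp : IsPGroup p R) (hBR : B ≤ R)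
    (hRM : R ≤ M) : normalizer (Cfsg.centerThompsonOf p R : Set G) ≠ ⊤ :=
  normalizer_ne_top_of_simple h.hS (W_ne_bot hRp (h.ne_bot_of_le hBR))
    (h.ne_top_of_le ((W_le R).trans hRM))

theorem Oc_le_M (h : Ctx M B p) {H : Subgroup G} (hBH : B ≤ H) : Oc p H ≤ M :=
  h.hinv _ (Oc_coprime p H) (hBH.trans (le_normalizer_Oc p H))

/-- `O_{p'}(M)` contains every `p'`-subgroup of `G` normalized by a Sylow `p`-subgroup of `M`
containing `B` -/
theorem inv_le_K (h : Ctx M B p) {P : Subgroup G} (hP : IsSylowIn p P M) (hBP : B ≤ P)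
    {Y : Subgroup G} (hY : (Nat.card Y).Coprime p) (hPY : P ≤ normalizer (Y : Set G)) :
    Y ≤ Oc p M :=
  inv_sylow_le_Oc (h.hsolv h.hMtop) hP (h.hinv Y hY (hBP.trans hPY)) hY hPY

theorem normalizer_sylow_le (h : Ctx M B p) {P : Subgroup G} (hP : IsSylowIn p P M)
    (hBP : B ≤ P) : normalizer (P : Set G) ≤ M := by
  by_cases hK : Oc p M = ⊥
  · have h1 := zj_factor h.hodd (h.hsolv h.hMtop) hP
    rw [hK, bot_sup_eq] at h1
    have h2 : M ≤ normalizer (Cfsg.centerThompsonOf p P : Set G) := h1.trans inf_le_right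
    have h3 := eq_of_coatom_le h.hM h2 (h.normalizer_W_ne_top hP.2.1 hBP hP.1)
    exact (normalizer_le_normalizer_W P).trans h3.le
  · have hKtop : Oc p M ≠ ⊤ := h.ne_top_of_le (Oc_le p M)
    have h2 : M ≤ normalizer (Oc p M : Set G) := le_normalizer_Oc p M
    have h3 := eq_of_coatom_le h.hM h2 (normalizer_ne_top_of_simple h.hS hK hKtop)
    refine le_trans ?_ h3.le
    apply Cfsg.Agent.Helper14.le_normalizer_of_map_cj_le
    intro g hg
    apply h.inv_le_K hP hBP
    · rw [card_map_conj]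
      exact Oc_coprime p M
    · have hPg : P.map (cj g) = P := Cfsg.Agent.Helper14.mem_normalizer_iff_map_cj.mp hg
      rw [← Cfsg.Agent.Helper14.map_cj_normalizer]
      calc P = P.map (cj g) := hPg.symm
        _ ≤ (normalizer (Oc p M : Set G)).map (cj g) := Subgroup.map_mono (hP.1.trans h2)

theorem isSylowIn_top (h : Ctx M B p) {P : Subgroup G} (hP : IsSylowIn p P M) (hBP : B ≤ P) :
    IsSylowIn p P ⊤ :=
  Cfsg.Agent.Lead.BG8.isSylowIn_of_normalizer_le hP le_top
    (inf_le_right.trans (h.normalizer_sylow_le hP hBP))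

theorem max_principle (h : Ctx M B p) {H : Subgroup G}
    (hmax : ∀ L : Subgroup G, IsCoatom L → B ≤ L → L ≠ M → pPart p M L ≤ pPart p M H)
    {Y Q : Subgroup G} (hY : Y ≠ ⊤) (hBY : B ≤ Y) (hQY : Q ≤ Y) (hQM : Q ≤ M)
    (hQp : IsPGroup p Q) (hcard : p ^ pPart p M H < Nat.card Q) : Y ≤ M := by
  obtain ⟨L, hL, hYL⟩ := (eq_top_or_exists_le_coatom Y).resolve_left hY
  by_cases hLM : L = M
  · exact hLM ▸ hYL
  · exfalso
    have h1 := hmax L hL (hBY.trans hYL) hLM
    have h2 : Nat.card Q ∣ p ^ pPart p M L :=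
      Cfsg.Agent.Lead.BG8.card_dvd_of_isPGroup_le hQp (le_inf (hQY.trans hYL) hQM)
    have h3 : Nat.card Q ≤ p ^ pPart p M L := Nat.le_of_dvd (pow_pos hp.out.pos _) h2
    have h4 : p ^ pPart p M L ≤ p ^ pPart p M H := Nat.pow_le_pow_right hp.out.pos h1
    omega

/-- a second maximal subgroup over `B` leads to the residual configuration: a Sylow
`p`-subgroup `P ≥ B` of `M` and a maximal subgroup `H' ≠ M` containing `N_G(Z(J(P)))` -/
theorem exists_residual (h : Ctx M B p)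
    (hex : ∃ H : Subgroup G, IsCoatom H ∧ B ≤ H ∧ H ≠ M) :
    ∃ P H' : Subgroup G, IsSylowIn p P M ∧ B ≤ P ∧ IsCoatom H' ∧ H' ≠ M ∧ P ≤ H' ∧
      normalizer (Cfsg.centerThompsonOf p P : Set G) ≤ H' := by
  obtain ⟨H₀, hH₀⟩ := hex
  obtain ⟨H, ⟨hH, hBH, hHM⟩, hmax⟩ :=
    Set.exists_max_image {H : Subgroup G | IsCoatom H ∧ B ≤ H ∧ H ≠ M}
      (fun H => pPart p M H) (Set.toFinite _) ⟨H₀, hH₀⟩
  have hmax' : ∀ L : Subgroup G, IsCoatom L → B ≤ L → L ≠ M → pPart p M L ≤ pPart p M H :=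
    fun L h1 h2 h3 => hmax L ⟨h1, h2, h3⟩
  obtain ⟨R, hR, hBR⟩ := Cfsg.Agent.Helper14.exists_isSylowIn_ge (le_inf hBH h.hBM) h.hBp
  have hRcard : Nat.card R = p ^ pPart p M H := Cfsg.Agent.Lead.BG8.IsSylowIn.card_eq hR
  have hRM : R ≤ M := hR.1.trans inf_le_right
  obtain ⟨P, hP, hRP⟩ := Cfsg.Agent.Helper14.exists_isSylowIn_ge hRM hR.2.1
  have hBP := hBR.trans hRP
  have hbig : R ≠ P → ∀ Y : Subgroup G, Y ≠ ⊤ → normalizer (R : Set G) ≤ Y → Y ≤ M := by
    intro hne Y hY hNY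
    have hlt : R < P := lt_of_le_of_ne hRP hne
    have hQ := Cfsg.Agent.Helper11.lt_inf_normalizer P R hP.2.1 hlt
    apply h.max_principle hmax' hY ((hBR.trans le_normalizer).trans hNY)
      (inf_le_right.trans hNY) (inf_le_left.trans hP.1) (hP.2.1.to_le inf_le_left)
    rw [← hRcard]
    by_contra hcon
    push Not at hcon
    exact hQ.ne (eq_of_le_of_card_ge hQ.le hcon)
  have hNR : normalizer (R : Set G) ≤ M := by
    by_cases hne : R = P
    · rw [hne]; exact h.normalizer_sylow_le hP hBP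
    · exact hbig hne _ (h.normalizer_ne_top hBR hRM) le_rfl
  have hRH : IsSylowIn p R H :=
    Cfsg.Agent.Lead.BG8.isSylowIn_of_normalizer_le hR inf_le_left
      (le_inf inf_le_left (inf_le_right.trans hNR))
  have hfac := zj_factor h.hodd (h.hsolv hH.1) hRH
  have hOc : Oc p H ≤ M := h.Oc_le_M hBH
  have hnotle : ¬ H ≤ M := fun hle => hHM (eq_of_coatom_le hH hle h.hMtop).symm
  have hNW : ¬ normalizer (Cfsg.centerThompsonOf p R : Set G) ≤ M := by
    intro hle
    exact hnotle (hfac.trans (sup_le hOc (inf_le_right.trans hle)))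
  have hRP' : R = P := by
    by_contra hne
    exact hNW (hbig hne _ (h.normalizer_W_ne_top hR.2.1 hBR hRM) (normalizer_le_normalizer_W R))
  subst hRP'
  obtain ⟨H', hH', hle⟩ := (eq_top_or_exists_le_coatom _).resolve_left
    (h.normalizer_W_ne_top hP.2.1 hBP hP.1)
  refine ⟨R, H', hP, hBP, hH', ?_, ?_, hle⟩
  · rintro rfl
    exact hNW hle
  · exact (le_normalizer.trans (normalizer_le_normalizer_W R)).trans hle

end Ctx

end Cfsg.Agent.Lead.BG9
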