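import Mathlib
import Cfsg.Agent.Lead.BG9b
import Cfsg.Agent.Lead.CoprimeSylow
import Cfsg.Agent.S1393
import Cfsg.Agent.S1395
import Cfsg.Agent.S1396
import Cfsg.Agent.S1457

set_option autoImplicit false
set_option linter.unusedSectionVars false
set_option linter.unusedVariables false
set_option linter.style.haveILetI false

/-! # Bender–Glauberman Theorem 9.1: the residual configuration -/

namespace Cfsg.Agent.Lead.BG9

open Subgroup Cfsg
open Cfsg.Agent.Helper14 (IsSylowIn cj map_cj_le_iff map_cj_mul map_cj_one map_cj_normalizer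
  mem_normalizer_iff_map_cj map_cj_eq_self_of_mem le_normalizer_of_map_cj_le)
open Cfsg.Agent.Lead.Bender (Oc Oc_le le_normalizer_Oc Oc_coprime le_Oc)
open Cfsg.Agent.Lead.TT (le_normalizer_map_subtype_of_normal normalizer_ne_top_of_simple
  card_map_conj piCoreOf_coprime normalizer_le_normalizer_centralizer
  normalizer_le_normalizer_piCoreOf)

universe u
variable {G : Type u} [Group G] [Finite G] {p : ℕ} [hp : Fact p.Prime] {M B : Subgroup G}

namespace Ctx

/-- the final contradiction: a `p`-subgroup `E ≤ P` inside `O_{p',p}(H')` all of whose invariant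
`p'`-subgroups lie in `M` -/
theorem endgame (h : Ctx M B p) {P H' E : Subgroup G} (hP : IsSylowIn p P M) (hBP : B ≤ P)
    (hH' : IsCoatom H') (hne : H' ≠ M) (hPH' : P ≤ H')
    (hNW : normalizer (Cfsg.centerThompsonOf p P : Set G) ≤ H') (hEP : E ≤ P)
    (hE1 : E ≤ (Cfsg.pPrimePCore p ↥H').map H'.subtype)
    (hE2 : ∀ Y : Subgroup G, (Nat.card Y).Coprime p → E ≤ normalizer (Y : Set G) → Y ≤ M) :
    False := by
  haveI := h.hS
  set K := Oc p M with hK
  have hfacM := zj_factor h.hodd (h.hsolv h.hMtop) hP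
  have hMK : M ≤ K ⊔ H' := hfacM.trans (sup_le_sup le_rfl (inf_le_right.trans hNW))
  have hPtop := h.isSylowIn_top hP hBP
  have hP' : IsSylowIn p P H' :=
    ⟨hPH', hP.2.1, fun Q _ hQp hPQ => hPtop.2.2 Q le_top hQp hPQ⟩
  set L' : Subgroup G := (Cfsg.pPrimePCore p ↥H').map H'.subtype with hL'
  have hL'H : L' ≤ H' := Cfsg.Agent.Helper14.map_subtype_le _
  have hH'L : H' ≤ normalizer (L' : Set G) := le_normalizer_map_subtype_of_normal H' _
  set K' : Subgroup G := (Cfsg.pPrimeCore p ↥H').map H'.subtype with hK'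
  have hK'M : K' ≤ M := by
    apply hE2
    · rw [Cfsg.Agent.Helper14.card_map_subtype]
      exact Cfsg.Agent.Helper19.pPrimeCore_coprime p
    · exact (hEP.trans hPH').trans (le_normalizer_map_subtype_of_normal H' _)
  have hL'M : L' ≤ M := by
    rintro _ ⟨x, hx, rfl⟩
    obtain ⟨s, hs, k, hk, rfl⟩ :=
      Cfsg.Agent.Helper10.exists_mul_of_mem_pPrimePCore hP'.toSylow hx
    have hs' : (s : G) ∈ P := by
      have : s ∈ P.subgroupOf H' := hs
      exact mem_subgroupOf.mp this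
    have hk' : (k : G) ∈ K' := ⟨k, hk, rfl⟩
    have e : H'.subtype (s * k) = (s : G) * (k : G) := by simp
    rw [e]
    exact M.mul_mem (hP.1 hs') (hK'M hk')
  have hSylL : IsSylowIn p (P ⊓ L') L' :=
    Cfsg.Agent.Helper14.sylow_inf_isSylowIn hP' hL'H hH'L
  have hMNK : M ≤ normalizer (K : Set G) := le_normalizer_Oc p M
  have hEp : IsPGroup p E := hP.2.1.to_le hEP
  have hconj : ∀ x ∈ H', K.map (cj x⁻¹) ≤ M := by
    intro x hx
    have h1 : E.map (cj x) ≤ L' := by
      have : L'.map (cj x) = L' := mem_normalizer_iff_map_cj.mp (hH'L hx)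
      rw [← this]
      exact Subgroup.map_mono hE1
    obtain ⟨U, hU, hEU⟩ := Cfsg.Agent.Helper14.exists_isSylowIn_ge h1 (hEp.map _)
    obtain ⟨g, hgL, rfl⟩ := hSylL.exists_conj hU
    have hgM : g ∈ M := hL'M hgL
    have h2 : E.map (cj x) ≤ P.map (cj g) := hEU.trans (Subgroup.map_mono inf_le_left)
    have h3 : E ≤ P.map (cj (x⁻¹ * g)) := by
      have := (map_cj_le_iff _ _ _).mp h2
      rwa [map_cj_mul] at this
    have h4 : K.map (cj (x⁻¹ * g)) ≤ M := by
      apply hE2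
      · rw [card_map_conj]
        exact Oc_coprime p M
      · refine h3.trans ?_
        rw [← map_cj_normalizer]
        exact Subgroup.map_mono (hP.1.trans hMNK)
    have h5 : K.map (cj g) = K := mem_normalizer_iff_map_cj.mp (hMNK hgM)
    rw [← map_cj_mul, h5] at h4
    exact h4
  have hconj' : ∀ x ∈ H', K.map (cj x) ≤ M := fun x hx => by
    have := hconj x⁻¹ (H'.inv_mem hx)
    rwa [inv_inv] at this
  set Y : Subgroup G := ⨆ x : ↥H', K.map (cj (x : G)) with hY
  have hYM : Y ≤ M := iSup_le fun x => hconj' x x.2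
  have hKY : K ≤ Y := by
    have := le_iSup (fun x : ↥H' => K.map (cj (x : G))) 1
    simp only [OneMemClass.coe_one] at this
    rwa [map_cj_one] at this
  have hH'Y : H' ≤ normalizer (Y : Set G) := by
    apply le_normalizer_of_map_cj_le
    intro g hg
    rw [hY, Subgroup.map_iSup]
    apply iSup_le
    intro x
    rw [map_cj_mul]
    exact le_iSup (fun x : ↥H' => K.map (cj (x : G))) (⟨g, hg⟩ * x)
  have hKNY : K ≤ normalizer (Y : Set G) := hKY.trans le_normalizer
  have htop : normalizer (Y : Set G) = ⊤ := by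
    have h1 : M ≤ normalizer (Y : Set G) := hMK.trans (sup_le hKNY hH'Y)
    by_contra hne'
    have h2 := eq_of_coatom_le h.hM h1 hne'
    have h3 := eq_of_coatom_le hH' hH'Y hne'
    exact hne (h3.symm.trans h2)
  have hYn : Y.Normal := normalizer_eq_top_iff.mp htop
  rcases hYn.eq_bot_or_eq_top with h1 | h1
  · have hKbot : K = ⊥ := le_bot_iff.mp (h1 ▸ hKY)
    rw [hKbot, bot_sup_eq] at hMK
    exact hne (eq_of_coatom_le h.hM hMK hH'.1)
  · exact h.hMtop (top_le_iff.mp (h1 ▸ hYM))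

/-- if `r(P) ≥ 3` and `A ∈ SCN_3(P)`, every `A`-invariant `p'`-subgroup of `G` lies in `M` -/
theorem inv_le_of_scn3 (h : Ctx M B p) {P A : Subgroup G} (hP : IsSylowIn p P M) (hBP : B ≤ P)
    (hA : Cfsg.IsSCN P A) (hA3 : ¬ Cfsg.PRankLE p 2 ↥A) {Y : Subgroup G}
    (hY : (Nat.card Y).Coprime p) (hAY : A ≤ normalizer (Y : Set G)) : Y ≤ M := by
  have hPtop := h.isSylowIn_top hP hBP
  obtain ⟨S, hS⟩ := hPtop.2.1.exists_le_sylow
  have hSP : (S : Subgroup G) = P := hPtop.2.2 S le_top S.isPGroup' hS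
  have hAp : IsPGroup p A := hP.2.1.to_le hA.1
  have hAab : ∀ a ∈ A, ∀ b ∈ A, a * b = b * a := by
    intro a ha b hb
    have hb' : b ∈ P ⊓ centralizer (A : Set G) := by rw [hA.2.2]; exact hb
    exact mem_centralizer_iff.mp hb'.2 a ha
  have hAc : IsMulCommutative A := ⟨⟨fun a b => Subtype.ext (hAab a a.2 b b.2)⟩⟩
  have hpG : p ∣ Nat.card G := by
    obtain ⟨k, hk⟩ := IsPGroup.iff_card.mp h.hBp
    have hk0 : k ≠ 0 := by
      rintro rfl
      rw [pow_zero] at hk
      exact h.hBne (card_eq_one.mp hk)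
    exact (dvd_pow_self p hk0).trans (hk ▸ card_subgroup_dvd_card B)
  have hA1 : ¬ Cfsg.PRankLE p 1 ↥A :=
    fun h1 => hA3 (Cfsg.Agent.Lead.BG8.pRankLE_mono (by norm_num) h1)
  have hscn : Cfsg.IsSCN (S : Subgroup G) A := by rw [hSP]; exact hA
  have hT : Cfsg.TransitivityHypothesis A :=
    Cfsg.Agent.S1396.result h.hG p hpG A hAp hAc (Or.inr ⟨S, hscn, hA1⟩)
  have hZ : ¬ Cfsg.RankLE 2 ↥(A ⊓ centralizer (A : Set G)) := by
    have hAC : A ⊓ centralizer (A : Set G) = A :=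
      inf_eq_left.mpr (fun a ha => mem_centralizer_iff.mpr (fun b hb => hAab b hb a ha))
    rw [hAC]
    intro hr
    exact hA3 (hr p hp.out)
  obtain ⟨k, hk⟩ := IsPGroup.iff_card.mp hAp
  have hk0 : k ≠ 0 := by
    rintro rfl
    rw [pow_zero] at hk
    exact hT.1 (card_eq_one.mp hk)
  have hpA : p ∣ Nat.card A := hk ▸ dvd_pow_self p hk0
  set OA := Cfsg.piCoreOf (Cfsg.primesNotDvd (Nat.card A)) (centralizer (A : Set G)) with hOA
  have hOAc : (Nat.card OA).Coprime p :=
    Nat.Coprime.coprime_dvd_right hpA (piCoreOf_coprime (Nat.card A) _)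
  have hPOA : P ≤ normalizer (OA : Set G) :=
    hA.2.1.trans ((normalizer_le_normalizer_centralizer A).trans
      (normalizer_le_normalizer_piCoreOf _ _))
  have hOAK : OA ≤ Oc p M := h.inv_le_K hP hBP hOAc hPOA
  have hmaxK : ∀ q : ℕ, q.Prime → q ≠ p → ∀ Q ∈ Cfsg.maxInvSubgroups ⊤ A {q}, Q ≤ Oc p M := by
    intro q hq hqp Q hQ
    haveI : Fact q.Prime := ⟨hq⟩
    have hqA : ¬ q ∣ Nat.card A := by
      rw [hk]
      intro hd
      exact hqp ((Nat.prime_dvd_prime_iff_eq hq hp.out).mp (hq.dvd_of_dvd_pow hd))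
    have htr := Cfsg.Agent.S1393.result h.hG A hT hZ q hq hqA
    have hPπ : ∀ r : ℕ, r.Prime → r ∣ Nat.card P → r ∣ Nat.card A := by
      intro r hr hrP
      obtain ⟨j, hj⟩ := IsPGroup.iff_card.mp hP.2.1
      rw [hj] at hrP
      have : r = p := (Nat.prime_dvd_prime_iff_eq hr hp.out).mp (hr.dvd_of_dvd_pow hrP)
      rw [this]
      exact hpA
    have hsn : (A.subgroupOf P).IsSubnormal := by
      have : (A.subgroupOf P).Normal := (normal_subgroupOf_iff_le_normalizer hA.1).mpr hA.2.1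
      exact this.isSubnormal
    have h395 := Cfsg.Agent.S1395.result h.hG A hT q hq hqA P (h.ne_top_of_le hP.1) hPπ hA.1
      hsn htr
    obtain ⟨QP, _, hQP⟩ := Cfsg.Agent.Lead.TT.exists_isMaxInv_ge (q := q) P ⊥
      (IsPGroup.of_bot) (by
        rw [normalizer_eq_top_iff.mpr (inferInstance : (⊥ : Subgroup G).Normal)]
        exact le_top)
    have hQPm : QP ∈ Cfsg.maxInvSubgroups ⊤ P {q} :=
      Cfsg.Agent.Lead.TT.mem_maxInvSubgroups_of_isMaxInv hQP
    have hQPA := h395.2.2.1 hQPm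
    have hQPK : QP ≤ Oc p M :=
      h.inv_le_K hP hBP (Cfsg.Agent.Lead.TT.coprime_card_of_isPGroup hqp hQP.1) hQP.2.1
    obtain ⟨c, hc, rfl⟩ := htr QP hQPA Q hQ
    have hcK : c ∈ Oc p M := hOAK hc
    calc QP.map (MulAut.conj c).toMonoidHom ≤ (Oc p M).map (cj c) := Subgroup.map_mono hQPK
      _ = Oc p M := map_cj_eq_self_of_mem hcK
  refine le_trans ?_ (Oc_le p M)
  apply le_of_forall_sylow_le
  intro q hq
  haveI := hq
  by_cases hqp : q = p
  · subst hqp
    obtain ⟨S'⟩ : Nonempty (Sylow q Y) := inferInstance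
    refine ⟨S', ?_⟩
    have hbot : (S' : Subgroup Y).map Y.subtype = ⊥ := by
      apply Cfsg.Agent.Lead.TT.eq_bot_of_le_of_coprime (S'.isPGroup'.map Y.subtype) ?_ le_rfl
      exact Nat.Coprime.coprime_dvd_left
        (card_dvd_of_le (Cfsg.Agent.Helper14.map_subtype_le _)) hY
    rw [hbot]
    exact bot_le
  · have hAYc : (Nat.card A).Coprime (Nat.card Y) := by
      rw [hk]
      exact Nat.Coprime.pow_left k hY.symm
    obtain ⟨S', hS'⟩ := Cfsg.Agent.Lead.coprime_exists_invariant_sylow A Y hAY hAYc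
      (Or.inl (h.hsolv hT.2.1)) q
    refine ⟨S', ?_⟩
    obtain ⟨Q, hS'Q, hQ⟩ := Cfsg.Agent.Lead.TT.exists_isMaxInv_ge A
      ((S' : Subgroup Y).map Y.subtype) (S'.isPGroup'.map _) hS'
    exact hS'Q.trans (hmaxK q hq.out hqp Q
      (Cfsg.Agent.Lead.TT.mem_maxInvSubgroups_of_isMaxInv hQ))

/-- **B&G Theorem 9.1(b)** -/
theorem unique (h : Ctx M B p) : ∀ H : Subgroup G, IsCoatom H → B ≤ H → H = M := by
  intro H hH hBH
  by_contra hne
  obtain ⟨P, H', hP, hBP, hH', hne', hPH', hNW⟩ := h.exists_residual ⟨H, hH, hBH, hne⟩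
  have hPtop := h.isSylowIn_top hP hBP
  have hP' : IsSylowIn p P H' :=
    ⟨hPH', hP.2.1, fun Q _ hQp hPQ => hPtop.2.2 Q le_top hQp hPQ⟩
  by_cases hr : Cfsg.PRankLE p 2 ↥P
  · apply h.endgame hP hBP hH' hne' hPH' hNW hBP ?_ h.hinv
    exact le_pPrimePCore_of_rank_two h.hodd (h.hsolv hH'.1) hP' (h.ne_bot_of_le hBP) hr
      (hBP.trans hPH') h.hBp
  · obtain ⟨A, hA, hA3⟩ := exists_scn3 h.hp2 hP.2.1 hr
    apply h.endgame hP hBP hH' hne' hPH' hNW hA.1 ?_
      (fun Y hY hAY => h.inv_le_of_scn3 hP hBP hA hA3 hY hAY)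
    haveI := h.hsolv hH'.1
    have hoddH : Odd (Nat.card H') := Odd.of_dvd_nat h.hodd (card_subgroup_dvd_card H')
    have hAab : ∀ a ∈ A, ∀ b ∈ A, a * b = b * a := by
      intro a ha b hb
      have hb' : b ∈ P ⊓ centralizer (A : Set G) := by rw [hA.2.2]; exact hb
      exact mem_centralizer_iff.mp hb'.2 a ha
    have h1 : A.subgroupOf H' ≤ Cfsg.pPrimePCore p ↥H' := by
      refine Cfsg.Agent.S1457.result hoddH p hP'.toSylow (A.subgroupOf H') ?_ ?_ ?_
      · intro x hx
        exact mem_subgroupOf.mpr (hA.1 (mem_subgroupOf.mp hx))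
      · refine ⟨⟨fun a b => ?_⟩⟩
        apply Subtype.ext
        apply Subtype.ext
        exact hAab _ (mem_subgroupOf.mp a.2) _ (mem_subgroupOf.mp b.2)
      · intro x hx
        have hx' : (x : G) ∈ P := mem_subgroupOf.mp hx
        rw [mem_normalizer_iff]
        intro y
        rw [mem_subgroupOf, mem_subgroupOf]
        have := mem_normalizer_iff.mp (hA.2.1 hx') (y : G)
        simpa using this
    intro a ha
    exact ⟨⟨a, hPH' (hA.1 ha)⟩, h1 (mem_subgroupOf.mpr ha), rfl⟩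

end Ctx

end Cfsg.Agent.Lead.BG9
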