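import Mathlib
import Cfsg.Agent.S1398
import Cfsg.Agent.Lead.BG9c
import Cfsg.Agent.Helper7.Hyperplane
import Cfsg.Agent.Helper9.NormalPSq

set_option autoImplicit false
set_option linter.unusedSectionVars false
set_option linter.unusedVariables false
set_option linter.style.haveILetI false

/-! # Bender–Glauberman Corollary 9.2 and Lemma 9.3 -/

namespace Cfsg.Agent.Lead.BG9

open Subgroup Cfsg
open Cfsg.Agent.Helper14 (IsSylowIn cj map_cj_le_iff map_cj_mul map_cj_one map_cj_normalizer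
  mem_normalizer_iff_map_cj map_cj_eq_self_of_mem le_normalizer_of_map_cj_le)

universe u
variable {G : Type u} [Group G] [Finite G]

theorem inUniqueMaximal_of {X M : Subgroup G} (hM : IsCoatom M) (hXM : X ≤ M)
    (h : ∀ L : Subgroup G, IsCoatom L → X ≤ L → L = M) : Cfsg.InUniqueMaximal X :=
  ⟨M, ⟨hM, hXM⟩, fun L hL => h L hL.1 hL.2⟩

theorem InUniqueMaximal.mono {X Y : Subgroup G} (h : Cfsg.InUniqueMaximal X) (hXY : X ≤ Y)
    (hY : Y ≠ ⊤) : Cfsg.InUniqueMaximal Y := by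
  obtain ⟨M, ⟨hM, hXM⟩, huniq⟩ := h
  obtain ⟨L, hL, hYL⟩ := (eq_top_or_exists_le_coatom Y).resolve_left hY
  have hLM : L = M := huniq L ⟨hL, hXY.trans hYL⟩
  subst hLM
  exact inUniqueMaximal_of hL hYL (fun L' hL' hYL' => huniq L' ⟨hL', hXY.trans hYL'⟩)

theorem isCoatom_map_cj {L : Subgroup G} (hL : IsCoatom L) (g : G) : IsCoatom (L.map (cj g)) := by
  have h := (MulEquiv.mapSubgroup (MulAut.conj g)).isCoatom_iff (a := L)
  exact h.mpr hL

theorem InUniqueMaximal.map_cj {X : Subgroup G} (h : Cfsg.InUniqueMaximal X) (g : G) :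
    Cfsg.InUniqueMaximal (X.map (cj g)) := by
  obtain ⟨M, ⟨hM, hXM⟩, huniq⟩ := h
  refine inUniqueMaximal_of (isCoatom_map_cj hM g) (Subgroup.map_mono hXM) ?_
  intro L hL hXL
  have h1 : X ≤ L.map (cj g⁻¹) := (map_cj_le_iff _ _ _).mp hXL
  have h2 := huniq (L.map (cj g⁻¹)) ⟨isCoatom_map_cj hL g⁻¹, h1⟩
  rw [← h2, Cfsg.Agent.Helper14.map_cj_inv_map_cj]

theorem ne_top_of_commute (hG : Cfsg.IsMinSimpleOddOrder G) {X : Subgroup G}
    (h : ∀ a ∈ X, ∀ b ∈ X, a * b = b * a) : X ≠ ⊤ := by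
  rintro rfl
  exact hG.2.2.1 ⟨⟨fun a b => h a (mem_top a) b (mem_top b)⟩⟩

theorem not_inUniqueMaximal_bot (hG : Cfsg.IsMinSimpleOddOrder G) :
    ¬ Cfsg.InUniqueMaximal (⊥ : Subgroup G) := by
  rintro ⟨M, ⟨hM, _⟩, huniq⟩
  obtain ⟨g, -, hg⟩ := SetLike.exists_of_lt (lt_top_iff_ne_top.mpr hM.1)
  have hz : zpowers g ≠ ⊤ := by
    apply ne_top_of_commute hG
    intro a ha b hb
    obtain ⟨i, rfl⟩ := mem_zpowers_iff.mp ha
    obtain ⟨j, rfl⟩ := mem_zpowers_iff.mp hb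
    exact (Commute.zpow_zpow_self g i j).eq
  obtain ⟨L, hL, hzL⟩ := (eq_top_or_exists_le_coatom (zpowers g)).resolve_left hz
  have := huniq L ⟨hL, bot_le⟩
  rw [this] at hzL
  exact hg (hzL (mem_zpowers g))

/-- **B&G Corollary 9.2** -/
theorem uniq_of_centralizes (hG : Cfsg.IsMinSimpleOddOrder G) {p : ℕ} [hp : Fact p.Prime]
    {L K E : Subgroup G} (hL : Cfsg.InUniqueMaximal L) (hK : K ≤ centralizer (L : Set G))
    (hEK : E ≤ K) (hE : Cfsg.IsElementaryAbelian p E) (hEnc : ¬ IsCyclic E) :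
    Cfsg.InUniqueMaximal K := by
  have hLbot : L ≠ ⊥ := by
    rintro rfl
    exact not_inUniqueMaximal_bot hG hL
  obtain ⟨M, ⟨hM, hLM⟩, huniq⟩ := hL
  have hEtop : E ≠ ⊤ := ne_top_of_commute hG (fun a ha b hb => Cfsg.Agent.Helper7.IsElementaryAbelian.commute hE ha hb)
  have hcent : ∀ b ∈ E, b ≠ 1 → centralizer ({b} : Set G) ≤ M := by
    intro b hb hb1
    have h1 : centralizer ({b} : Set G) ≠ ⊤ :=
      Cfsg.Agent.Lead.TT.centralizer_singleton_ne_top hG.2.1 hEtop hb hb1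
    obtain ⟨L', hL', hle⟩ := (eq_top_or_exists_le_coatom _).resolve_left h1
    have hLC : L ≤ centralizer ({b} : Set G) := by
      intro x hx
      rw [mem_centralizer_singleton_iff]
      exact ((mem_centralizer_iff.mp (hK (hEK hb))) x hx)
    have := huniq L' ⟨hL', hLC.trans hle⟩
    rw [this] at hle
    exact hle
  have hEne : ∃ b ∈ E, b ≠ 1 := by
    by_contra hcon
    push Not at hcon
    apply hEnc
    have : E = ⊥ := (Subgroup.eq_bot_iff_forall E).mpr hcon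
    rw [this]
    infer_instance
  obtain ⟨b₀, hb₀, hb₀1⟩ := hEne
  have hEM : E ≤ M := by
    refine le_trans ?_ (hcent b₀ hb₀ hb₀1)
    intro x hx
    rw [mem_centralizer_singleton_iff]
    exact Cfsg.Agent.Helper7.IsElementaryAbelian.commute hE hx hb₀
  have hEU : Cfsg.InUniqueMaximal E :=
    Cfsg.Agent.S1398.result hG M hM p E hEM hE hEnc (Or.inl hcent)
  have hKtop : K ≠ ⊤ := by
    obtain ⟨x, hx, hx1⟩ : ∃ x ∈ L, x ≠ 1 := by
      by_contra hcon
      push Not at hcon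
      exact hLbot ((Subgroup.eq_bot_iff_forall L).mpr hcon)
    have hLtop : L ≠ ⊤ := by
      rintro rfl
      exact hM.1 (top_le_iff.mp hLM)
    have h1 := Cfsg.Agent.Lead.TT.centralizer_singleton_ne_top hG.2.1 hLtop hx hx1
    intro hK'
    apply h1
    rw [eq_top_iff, ← hK']
    intro k hk
    rw [mem_centralizer_singleton_iff]
    exact ((mem_centralizer_iff.mp (hK hk)) x hx).symm
  exact InUniqueMaximal.mono hEU hEK hKtop

end Cfsg.Agent.Lead.BG9
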