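import Mathlib
import Cfsg.Agent.Lead.BG9d
import Cfsg.Agent.Helper9.NormalElemAb
import Cfsg.Agent.Lead.PiHallNormal

set_option autoImplicit false
set_option linter.unusedSectionVars false
set_option linter.unusedVariables false
set_option linter.style.haveILetI false

/-! # Bender–Glauberman Lemma 9.3 -/

namespace Cfsg.Agent.Lead.BG9

open Subgroup Cfsg
open Cfsg.Agent.Helper14 (IsSylowIn cj map_cj_le_iff map_cj_mul map_cj_one map_cj_normalizer
  mem_normalizer_iff_map_cj map_cj_eq_self_of_mem le_normalizer_of_map_cj_le)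

universe u
variable {G : Type u} [Group G] [Finite G] {p : ℕ} [hp : Fact p.Prime]

/-- an elementary abelian subgroup of order at least `p ^ 2` is noncyclic -/
theorem not_isCyclic_of_sq_le {X : Subgroup G} (hX : Cfsg.IsElementaryAbelian p X)
    (h : p ^ 2 ≤ Nat.card X) : ¬ IsCyclic X := by
  apply Cfsg.Agent.Helper7.IsElementaryAbelian.not_isCyclic hX
  calc p < p ^ 2 := by
        have := hp.out.one_lt
        nlinarith
    _ ≤ Nat.card X := h

/-- if `E₀` is a normal subgroup of order `p ^ 2` of the `p`-group `P`, every elementary abelian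
subgroup of `P` of order at least `p ^ 3` has a noncyclic subgroup centralizing `E₀` -/
theorem exists_noncyclic_centralizing {P E₀ X : Subgroup G} (hP : IsPGroup p P) (hE₀P : E₀ ≤ P)
    (hPE₀ : P ≤ normalizer (E₀ : Set G)) (hE₀ : Nat.card E₀ = p ^ 2) (hXP : X ≤ P)
    (hX : Cfsg.IsElementaryAbelian p X) (hXcard : p ^ 3 ≤ Nat.card X) :
    ∃ X₀ : Subgroup G, X₀ ≤ X ∧ X₀ ≤ centralizer (E₀ : Set G) ∧
      Cfsg.IsElementaryAbelian p X₀ ∧ ¬ IsCyclic X₀ := by
  haveI : (E₀.subgroupOf P).Normal := (normal_subgroupOf_iff_le_normalizer hE₀P).mpr hPE₀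
  have hcardE : Nat.card (E₀.subgroupOf P) = p ^ 2 := by
    rw [Nat.card_congr (subgroupOfEquivOfLe hE₀P).toEquiv]
    exact hE₀
  obtain ⟨Z0, φ, hZ0, hker⟩ :=
    Cfsg.Agent.Helper9.exists_hom_ker_le_centralizer (P := ↥P) hP (E₀.subgroupOf P) hcardE
  set X' : Subgroup ↥P := X.subgroupOf P with hX'
  set D : Subgroup ↥P := X' ⊓ φ.ker with hD
  have hcardX' : Nat.card X' = Nat.card X := Nat.card_congr (subgroupOfEquivOfLe hXP).toEquiv
  have h1 : Nat.card X' = D.relIndex X' * Nat.card D :=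
    Cfsg.Agent.Lead.card_eq_relIndex_mul_card (inf_le_left : D ≤ X')
  have h2 : D.relIndex X' ∣ p := by
    rw [hD, inf_relIndex_left]
    refine (relIndex_dvd_index_of_normal (H := φ.ker) (K := X')).trans ?_
    rw [index_ker, ← hZ0]
    have := Subgroup.card_subgroup_dvd_card φ.range
    exact this
  have h3 : D.relIndex X' ≤ p := Nat.le_of_dvd hp.out.pos h2
  have h4 : p ^ 2 ≤ Nat.card D := by
    have h5 : p ^ 3 ≤ p * Nat.card D := by
      calc p ^ 3 ≤ Nat.card X' := by rw [hcardX']; exact hXcard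
        _ = D.relIndex X' * Nat.card D := h1
        _ ≤ p * Nat.card D := Nat.mul_le_mul_right _ h3
    have hp0 : 0 < p := hp.out.pos
    have : p * p ^ 2 ≤ p * Nat.card D := by
      calc p * p ^ 2 = p ^ 3 := by ring
        _ ≤ p * Nat.card D := h5
    exact Nat.le_of_mul_le_mul_left this hp0
  set X₀ : Subgroup G := D.map P.subtype with hX₀
  have hX₀X : X₀ ≤ X := by
    rintro _ ⟨d, hd, rfl⟩
    exact mem_subgroupOf.mp hd.1
  have hX₀e : Cfsg.IsElementaryAbelian p X₀ := Cfsg.Agent.Helper7.IsElementaryAbelian.mono hX hX₀X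
  refine ⟨X₀, hX₀X, ?_, hX₀e, ?_⟩
  · rintro _ ⟨d, hd, rfl⟩
    have hdC := hker hd.2
    rw [mem_centralizer_iff]
    intro e he
    have := (mem_centralizer_iff.mp hdC) ⟨e, hE₀P he⟩ (mem_subgroupOf.mpr he)
    have := congrArg Subtype.val this
    simpa using this
  · apply not_isCyclic_of_sq_le hX₀e
    rw [hX₀, Cfsg.Agent.Helper14.card_map_subtype]
    exact h4

/-- **B&G Lemma 9.3** -/
theorem uniq_of_rank_three (hG : Cfsg.IsMinSimpleOddOrder G) {A B : Subgroup G}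
    (hAp : IsPGroup p A) (hAab : ∀ a ∈ A, ∀ b ∈ A, a * b = b * a)
    (hA3 : ¬ Cfsg.PRankLE p 2 ↥A) (hAU : Cfsg.InUniqueMaximal A) (hBp : IsPGroup p B)
    (hBnc : ¬ IsCyclic B) (hB3 : ¬ Cfsg.PRankLE p 2 ↥(centralizer (B : Set G))) :
    Cfsg.InUniqueMaximal B := by
  obtain ⟨FA, hFAA, hFAe, hFAcard⟩ := Cfsg.Agent.Lead.TT.exists_elementary_of_not_pRankLE' 2 A hA3
  have hAne : A ≠ ⊥ := by
    rintro rfl
    exact not_inUniqueMaximal_bot hG hAU
  have hp2 : p ≠ 2 := by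
    apply Cfsg.Agent.Lead.BG8.ne_two_of_dvd_card_of_odd hG.1 (F := A)
    obtain ⟨k, hk⟩ := IsPGroup.iff_card.mp hAp
    have hk0 : k ≠ 0 := by
      rintro rfl
      rw [pow_zero] at hk
      exact hAne (card_eq_one.mp hk)
    rw [hk]
    exact dvd_pow_self p hk0
  obtain ⟨S, hAS⟩ := hAp.exists_le_sylow
  set P : Subgroup G := (S : Subgroup G) with hP
  have hPp : IsPGroup p P := S.isPGroup'
  have hPnc : ¬ IsCyclic ↥P := by
    intro hc
    have hFAnc := not_isCyclic_of_sq_le hFAe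
      ((Nat.pow_le_pow_right hp.out.pos (by norm_num : 2 ≤ 3)).trans hFAcard)
    apply hFAnc
    have hle : FA ≤ P := hFAA.trans hAS
    have : IsCyclic ↥(FA.subgroupOf P) := inferInstance
    exact (subgroupOfEquivOfLe hle).isCyclic.mp this
  obtain ⟨E₀', hE₀n, hE₀e, hE₀c⟩ := Cfsg.Agent.Helper9.exists_normal_elemAb_sq hp2 hPp hPnc
  set E₀ : Subgroup G := E₀'.map P.subtype with hE₀
  have hE₀P : E₀ ≤ P := Cfsg.Agent.Helper14.map_subtype_le _
  have hPE₀ : P ≤ normalizer (E₀ : Set G) := by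
    haveI := hE₀n
    exact Cfsg.Agent.Lead.TT.le_normalizer_map_subtype_of_normal P E₀'
  have hE₀card : Nat.card E₀ = p ^ 2 := by
    rw [hE₀, Cfsg.Agent.Helper14.card_map_subtype]
    exact hE₀c
  have hE₀el : Cfsg.IsElementaryAbelian p E₀ := by
    refine ⟨⟨⟨?_⟩⟩, ?_⟩
    · rintro ⟨_, a, ha, rfl⟩ ⟨_, b, hb, rfl⟩
      apply Subtype.ext
      have := hE₀e.1.is_comm.comm (⟨a, ha⟩ : E₀') ⟨b, hb⟩
      have := congrArg (fun x : E₀' => ((x : ↥P) : G)) this
      simpa using this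
    · rintro _ ⟨a, ha, rfl⟩
      have := hE₀e.2 a ha
      have := congrArg Subtype.val this
      simpa using this
  have hE₀nc : ¬ IsCyclic E₀ := not_isCyclic_of_sq_le hE₀el hE₀card.ge
  -- (i) `A₀ ∈ 𝒰`
  obtain ⟨A₀, hA₀FA, hA₀C, hA₀e, hA₀nc⟩ :=
    exists_noncyclic_centralizing hPp hE₀P hPE₀ hE₀card (hFAA.trans hAS) hFAe hFAcard
  have hA₀A : A₀ ≤ A := hA₀FA.trans hFAA
  have hA₀U : Cfsg.InUniqueMaximal A₀ := by
    refine uniq_of_centralizes hG hAU ?_ le_rfl hA₀e hA₀nc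
    intro x hx
    rw [mem_centralizer_iff]
    intro a ha
    exact hAab a ha x (hA₀A hx)
  -- (ii) `E₀ ∈ 𝒰`
  have hE₀U : Cfsg.InUniqueMaximal E₀ := by
    refine uniq_of_centralizes hG hA₀U ?_ le_rfl hE₀el hE₀nc
    exact le_centralizer_iff.mp hA₀C
  -- (iii) conjugate `B F` into `P`
  obtain ⟨F, hFC, hFe, hFcard⟩ :=
    Cfsg.Agent.Lead.TT.exists_elementary_of_not_pRankLE' 2 (centralizer (B : Set G)) hB3
  have hFp : IsPGroup p F := Cfsg.Agent.Helper7.IsElementaryAbelian.isPGroup hFe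
  have hFB : F ≤ normalizer (B : Set G) := hFC.trans (centralizer_le_normalizer (B : Set G))
  have hBFp : IsPGroup p (F ⊔ B : Subgroup G) := IsPGroup.to_sup_of_normal_right' hFp hBp hFB
  obtain ⟨S', hS'⟩ := hBFp.exists_le_sylow
  obtain ⟨g, hg⟩ := MulAction.exists_smul_eq G S' S
  have hconj : ∀ x ∈ (S' : Subgroup G), g * x * g⁻¹ ∈ P := by
    intro x hx
    rw [hP, ← hg]
    change g * x * g⁻¹ ∈ (g • S' : Sylow p G)
    rw [Cfsg.Agent.Helper14.mem_sylow_smul]
    have : g⁻¹ * (g * x * g⁻¹) * g = x := by group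
    rw [this]
    exact hx
  set B' : Subgroup G := B.map (cj g) with hB'
  set F' : Subgroup G := F.map (cj g) with hF'
  have hF'P : F' ≤ P := by
    rintro _ ⟨x, hx, rfl⟩
    exact hconj x (hS' (le_sup_left (a := F) (b := B) hx))
  have hF'e : Cfsg.IsElementaryAbelian p F' := by
    refine ⟨⟨⟨?_⟩⟩, ?_⟩
    · rintro ⟨_, a, ha, rfl⟩ ⟨_, b, hb, rfl⟩
      apply Subtype.ext
      show cj g a * cj g b = cj g b * cj g a
      rw [← map_mul, ← map_mul, Cfsg.Agent.Helper7.IsElementaryAbelian.commute hFe ha hb]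
    · rintro _ ⟨a, ha, rfl⟩
      rw [← map_pow, hFe.2 a ha, map_one]
  have hF'card : p ^ 3 ≤ Nat.card F' := by
    rw [hF', Cfsg.Agent.Lead.TT.card_map_conj]
    exact hFcard
  obtain ⟨F₀, hF₀F', hF₀C, hF₀e, hF₀nc⟩ :=
    exists_noncyclic_centralizing hPp hE₀P hPE₀ hE₀card hF'P hF'e hF'card
  have hF₀U : Cfsg.InUniqueMaximal F₀ :=
    uniq_of_centralizes hG hE₀U hF₀C le_rfl hF₀e hF₀nc
  have hB'p : IsPGroup p B' := hBp.map _
  have hB'nc : ¬ IsCyclic ↥B' := by
    intro hc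
    apply hBnc
    exact (B.equivMapOfInjective (cj g) (Cfsg.Agent.Helper14.cj_injective g)).isCyclic.mpr hc
  obtain ⟨EB', hEBn, hEBe, hEBc⟩ := Cfsg.Agent.Helper9.exists_normal_elemAb_sq hp2 hB'p hB'nc
  set EB : Subgroup G := EB'.map B'.subtype with hEB
  have hEBB' : EB ≤ B' := Cfsg.Agent.Helper14.map_subtype_le _
  have hEBel : Cfsg.IsElementaryAbelian p EB := by
    refine ⟨⟨⟨?_⟩⟩, ?_⟩
    · rintro ⟨_, a, ha, rfl⟩ ⟨_, b, hb, rfl⟩
      apply Subtype.ext
      have := hEBe.1.is_comm.comm (⟨a, ha⟩ : EB') ⟨b, hb⟩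
      have := congrArg (fun x : EB' => ((x : ↥B') : G)) this
      simpa using this
    · rintro _ ⟨a, ha, rfl⟩
      have := hEBe.2 a ha
      have := congrArg Subtype.val this
      simpa using this
  have hEBnc : ¬ IsCyclic EB := by
    apply not_isCyclic_of_sq_le hEBel
    rw [hEB, Cfsg.Agent.Helper14.card_map_subtype, hEBc]
  have hB'F' : B' ≤ centralizer (F' : Set G) := by
    rw [hB', hF', ← Cfsg.Agent.Helper14.map_cj_centralizer]
    exact Subgroup.map_mono (le_centralizer_iff.mp hFC)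
  have hB'U : Cfsg.InUniqueMaximal B' := by
    refine uniq_of_centralizes hG hF₀U ?_ hEBB' hEBel hEBnc
    exact hB'F'.trans (centralizer_le (by exact_mod_cast hF₀F'))
  have := InUniqueMaximal.map_cj hB'U g⁻¹
  rwa [hB', Cfsg.Agent.Helper14.map_cj_map_cj_inv] at this

end Cfsg.Agent.Lead.BG9
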