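import Mathlib
import Cfsg.Agent.Lead.BG9e
import Cfsg.Agent.S1397

set_option autoImplicit false
set_option linter.unusedSectionVars false
set_option linter.unusedVariables false
set_option linter.style.haveILetI false

/-! # Bender–Glauberman Lemma 9.4 -/

namespace Cfsg.Agent.Lead.BG9

open Subgroup Cfsg
open Cfsg.Agent.Helper14 (IsSylowIn cj)

universe u
variable {G : Type u} [Group G] [Finite G] {p : ℕ} [hp : Fact p.Prime]

/-- the `p`-rank of a subgroup bounds that of its overgroups -/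
theorem not_pRankLE_of_le {k : ℕ} {X Y : Subgroup G} (hXY : X ≤ Y)
    (h : ¬ Cfsg.PRankLE p k ↥X) : ¬ Cfsg.PRankLE p k ↥Y := fun hY =>
  h (Cfsg.Agent.Helper7.PRankLE.of_injective (Subgroup.inclusion hXY)
    (Subgroup.inclusion_injective hXY) hY)

theorem not_pRankLE_of_elementary {k : ℕ} {X F : Subgroup G} (hFX : F ≤ X)
    (hF : Cfsg.IsElementaryAbelian p F) (hcard : p ^ k < Nat.card F) :
    ¬ Cfsg.PRankLE p k ↥X := by
  intro h
  have h1 := h (F.subgroupOf X) ?_ ?_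
  · rw [Nat.card_congr (subgroupOfEquivOfLe hFX).toEquiv] at h1
    omega
  · refine ⟨⟨fun a b => ?_⟩⟩
    apply Subtype.ext
    apply Subtype.ext
    exact Cfsg.Agent.Helper7.IsElementaryAbelian.commute hF (mem_subgroupOf.mp a.2)
      (mem_subgroupOf.mp b.2)
  · intro a ha
    apply Subtype.ext
    have := hF.2 (a : G) (mem_subgroupOf.mp ha)
    simpa using this

/-- a group of `p`-rank at least `1`... is not cyclic when its `p`-rank is at least `2` -/
theorem not_isCyclic_of_not_pRankLE {X : Subgroup G} (h : ¬ Cfsg.PRankLE p 1 ↥X) :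
    ¬ IsCyclic ↥X := by
  obtain ⟨F, hFX, hFe, hFcard⟩ := Cfsg.Agent.Lead.TT.exists_elementary_of_not_pRankLE' 1 X h
  intro hc
  apply not_isCyclic_of_sq_le hFe hFcard
  have : IsCyclic ↥(F.subgroupOf X) := inferInstance
  exact (subgroupOfEquivOfLe hFX).isCyclic.mp this

/-- **B&G Lemma 9.4** -/
theorem uniq_of_fitting_rank_three (hG : Cfsg.IsMinSimpleOddOrder G) {M : Subgroup G}
    (hM : IsCoatom M) (hF : ¬ Cfsg.PRankLE p 2 ↥(Cfsg.fittingOf M)) {A : Subgroup G}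
    (hAp : IsPGroup p A) (hAab : ∀ a ∈ A, ∀ b ∈ A, a * b = b * a)
    (hA3 : ¬ Cfsg.PRankLE p 2 ↥A) : Cfsg.InUniqueMaximal A := by
  obtain ⟨F₁, hF₁F, hF₁e, hF₁card⟩ :=
    Cfsg.Agent.Lead.TT.exists_elementary_of_not_pRankLE' 2 (Cfsg.fittingOf M) hF
  obtain ⟨A₀, ⟨hA₀F, hA₀e, hF₁A₀⟩, hmax⟩ :=
    Set.exists_max_image
      {B : Subgroup G | B ≤ Cfsg.fittingOf M ∧ Cfsg.IsElementaryAbelian p B ∧ F₁ ≤ B}
      (fun B => Nat.card B) (Set.toFinite _) ⟨F₁, hF₁F, hF₁e, le_rfl⟩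
  have hA₀3 : p ^ 3 ≤ Nat.card A₀ := hF₁card.trans (card_le_of_le hF₁A₀)
  have hA₀max : ∀ B : Subgroup G, B ≤ Cfsg.fittingOf M → Cfsg.IsElementaryAbelian p B →
      A₀ ≤ B → B = A₀ := by
    intro B hBF hBe hle
    exact (eq_of_le_of_card_ge hle (hmax B ⟨hBF, hBe, hF₁A₀.trans hle⟩)).symm
  have hA₀p : IsPGroup p A₀ := Cfsg.Agent.Helper7.IsElementaryAbelian.isPGroup hA₀e
  have hA₀ne : A₀ ≠ ⊥ := by
    rintro rfl
    rw [Subgroup.card_bot] at hA₀3
    have := hp.out.one_lt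
    have : 1 < p ^ 3 := Nat.one_lt_pow (by norm_num) this
    omega
  have hp2 : p ≠ 2 := by
    apply Cfsg.Agent.Lead.BG8.ne_two_of_dvd_card_of_odd hG.1 (F := A₀)
    obtain ⟨k, hk⟩ := IsPGroup.iff_card.mp hA₀p
    have hk0 : k ≠ 0 := by
      rintro rfl
      rw [pow_zero] at hk
      exact hA₀ne (card_eq_one.mp hk)
    rw [hk]
    exact dvd_pow_self p hk0
  have hA₀nc : ¬ IsCyclic A₀ :=
    not_isCyclic_of_sq_le hA₀e ((Nat.pow_le_pow_right hp.out.pos (by norm_num : 2 ≤ 3)).trans hA₀3)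
  have h97 := Cfsg.Agent.S1397.result hG M hM p A₀ hA₀F hA₀e hA₀3 hA₀max
  -- an abelian `p`-subgroup of rank `≥ 3` in `𝒰`
  have hex : ∃ A' : Subgroup G, IsPGroup p A' ∧ (∀ a ∈ A', ∀ b ∈ A', a * b = b * a) ∧
      ¬ Cfsg.PRankLE p 2 ↥A' ∧ Cfsg.InUniqueMaximal A' := by
    by_cases hFp : IsPGroup p ↥(Cfsg.fittingOf M)
    · obtain ⟨P⟩ : Nonempty (Sylow p ↥M) := inferInstance
      set Pm : Subgroup G := (P : Subgroup M).map M.subtype with hPm
      have hPmS : IsSylowIn p Pm M := Cfsg.Agent.Helper14.isSylowIn_of_sylow P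
      have hFPm : Cfsg.fittingOf M ≤ Pm :=
        Cfsg.Agent.Lead.BG8.le_of_isSylowIn_of_normal hPmS (Cfsg.Agent.Helper14.map_subtype_le _)
          (Cfsg.Agent.Lead.TT.le_normalizer_map_subtype_of_normal M _) hFp
      have hPm3 : ¬ Cfsg.PRankLE p 2 ↥Pm := not_pRankLE_of_le hFPm hF
      obtain ⟨A', hA', hA'3⟩ := exists_scn3 hp2 hPmS.2.1 hPm3
      have h1 := (h97.2 hFp P).2 A' hA' hA'3
      refine ⟨A', hPmS.2.1.to_le hA'.1, ?_, hA'3, h1.2⟩
      intro a ha b hb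
      have hb' : b ∈ Pm ⊓ centralizer (A' : Set G) := by rw [hA'.2.2]; exact hb
      exact mem_centralizer_iff.mp hb'.2 a ha
    · have hU := h97.1 hFp
      have hA₀U : Cfsg.InUniqueMaximal A₀ := by
        refine uniq_of_centralizes hG hU ?_ le_rfl hA₀e hA₀nc
        intro x hx
        rw [mem_centralizer_iff]
        intro u hu
        exact ((mem_centralizer_iff.mp hu.2) x hx).symm
      refine ⟨A₀, hA₀p, fun a ha b hb => Cfsg.Agent.Helper7.IsElementaryAbelian.commute hA₀e ha hb,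
        ?_, hA₀U⟩
      apply not_pRankLE_of_elementary le_rfl hA₀e
      calc p ^ 2 < p ^ 3 := Nat.pow_lt_pow_right hp.out.one_lt (by norm_num)
        _ ≤ Nat.card A₀ := hA₀3
  obtain ⟨A', hA'p, hA'ab, hA'3, hA'U⟩ := hex
  have hAC : A ≤ centralizer (A : Set G) := fun a ha =>
    mem_centralizer_iff.mpr (fun b hb => hAab b hb a ha)
  refine uniq_of_rank_three hG hA'p hA'ab hA'3 hA'U hAp ?_ (not_pRankLE_of_le hAC hA3)
  exact not_isCyclic_of_not_pRankLE (fun h => hA3 (Cfsg.Agent.Lead.BG8.pRankLE_mono (by norm_num) h))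

end Cfsg.Agent.Lead.BG9
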