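import Mathlib
import Cfsg.Agent.Lead.Compl

set_option autoImplicit false
open Pointwise

/-! Preparations for Carter subgroups: nilpotency criteria and normal Hall subgroups. -/

namespace Cfsg.Agent.Lead

open Subgroup

theorem isNilpotent_of_injective {G H : Type*} [Group G] [Group H] [hH : Group.IsNilpotent H]
    (f : G →* H) (hf : Function.Injective f) : Group.IsNilpotent G := by
  have : Group.IsNilpotent f.range := inferInstance
  exact Group.nilpotent_of_mulEquiv (MonoidHom.ofInjective hf).symm

/-- If `G` maps to two nilpotent groups with trivially intersecting kernels, `G` is nilpotent. -/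
theorem isNilpotent_of_two_homs {G H₁ H₂ : Type*} [Group G] [Group H₁] [Group H₂]
    [Group.IsNilpotent H₁] [Group.IsNilpotent H₂] (f₁ : G →* H₁) (f₂ : G →* H₂)
    (h : f₁.ker ⊓ f₂.ker = ⊥) : Group.IsNilpotent G := by
  apply isNilpotent_of_injective (f₁.prod f₂)
  rw [← MonoidHom.ker_eq_bot_iff, MonoidHom.ker_prod, h]

variable {G : Type*} [Group G]

/-- In a finite group, an element of a subgroup `M` killed by `|Q|`, where `Q` is a normal Hall
subgroup of `M`, lies in `Q`. -/
theorem mem_of_pow_card_eq_one_of_normal_hall [Finite G] (Q : Subgroup G) [Q.Normal]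
    (hQ : (Nat.card Q).Coprime Q.index) {z : G} (hz : z ^ Nat.card Q = 1) : z ∈ Q := by
  rw [← QuotientGroup.eq_one_iff]
  have hcop : (Nat.card (G ⧸ Q)).Coprime (Nat.card Q) := by
    rw [← index_eq_card]; exact hQ.symm
  apply (powCoprime hcop).injective
  rw [powCoprime_apply, powCoprime_apply, one_pow, ← QuotientGroup.mk_pow, hz]
  rfl

/-- The normalizer of a Hall subgroup is self-normalizing. -/
theorem normalizer_normalizer_of_coprime [Finite G] (Q : Subgroup G)
    (hQ : (Nat.card Q).Coprime Q.index) :
    normalizer ((normalizer (Q : Set G) : Subgroup G) : Set G) = normalizer (Q : Set G) := by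
  apply le_antisymm _ le_normalizer
  set M := normalizer (Q : Set G) with hM
  have hQM : Q ≤ M := le_normalizer
  have hnorm : (Q.subgroupOf M).Normal := normal_in_normalizer
  have hcard : Nat.card (Q.subgroupOf M) = Nat.card Q :=
    Nat.card_congr (subgroupOfEquivOfLe hQM).toEquiv
  have hcop : (Nat.card (Q.subgroupOf M)).Coprime (Q.subgroupOf M).index := by
    rw [hcard]
    exact hQ.coprime_dvd_right (relIndex_dvd_index_of_le hQM)
  have key : ∀ x ∈ normalizer (M : Set G), ∀ y ∈ Q, x * y * x⁻¹ ∈ Q := by
    intro x hx y hy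
    have hzM : x * y * x⁻¹ ∈ M := (mem_normalizer_iff.mp hx y).mp (hQM hy)
    have hpow : (⟨x * y * x⁻¹, hzM⟩ : M) ^ Nat.card (Q.subgroupOf M) = 1 := by
      apply Subtype.ext
      rw [hcard, Subgroup.coe_pow, Subgroup.coe_one]
      change (x * y * x⁻¹) ^ Nat.card Q = 1
      rw [conj_pow]
      have : y ^ Nat.card Q = 1 := by
        have := pow_card_eq_one' (G := Q) (x := ⟨y, hy⟩)
        exact congrArg Subtype.val this
      rw [this]; group
    exact mem_of_pow_card_eq_one_of_normal_hall (Q.subgroupOf M) hcop hpow
  intro x hx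
  rw [mem_normalizer_iff]
  intro y
  constructor
  · exact key x hx y
  · intro h
    have := key x⁻¹ (inv_mem hx) _ h
    have e : x⁻¹ * (x * y * x⁻¹) * x⁻¹⁻¹ = y := by group
    rwa [e] at this

/-- A Hall subgroup of a finite nilpotent group is normal. -/
theorem normal_of_coprime_of_isNilpotent [Finite G] [Group.IsNilpotent G] (Q : Subgroup G)
    (hQ : (Nat.card Q).Coprime Q.index) : Q.Normal := by
  rw [← normalizer_eq_top_iff]
  by_contra hne
  have hlt : normalizer (Q : Set G) < ⊤ := lt_top_iff_ne_top.mpr hne
  have := Group.normalizerCondition_of_isNilpotent (G := G) _ hlt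
  rw [normalizer_normalizer_of_coprime Q hQ] at this
  exact lt_irrefl _ this

/-- In a finite nilpotent group, a self-normalizing subgroup is the whole group. -/
theorem eq_top_of_normalizer_eq_of_isNilpotent [Group.IsNilpotent G] (C : Subgroup G)
    (hC : normalizer (C : Set G) = C) : C = ⊤ := by
  by_contra hne
  have hlt : C < ⊤ := lt_top_iff_ne_top.mpr hne
  have := Group.normalizerCondition_of_isNilpotent (G := G) _ hlt
  rw [hC] at this
  exact lt_irrefl _ this

end Cfsg.Agent.Lead
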