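import Mathlib
import Cfsg.Prelude.Def_Transfer
import Cfsg.Agent.Lead.Coprime
import Cfsg.Agent.Lead.Compl
import Cfsg.Agent.Lead.CoprimeSylow2
import Cfsg.Agent.Lead.PiHall2
import Cfsg.Agent.Helper10.PGroupBasic

set_option autoImplicit false
open Pointwise

/-! Conjugacy of `p`-nilpotent complements of a normal `p`-subgroup acting fixed-point-freely. -/

namespace Cfsg.Agent.Lead

open Subgroup

variable {G : Type*} [Group G]

/-- Structure of a subgroup with a normal `p`-complement, in ambient form. -/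
theorem exists_pcomplement_ambient [Finite G] {p : ℕ} [hp : Fact p.Prime] (A : Subgroup G)
    (hAp : Cfsg.HasNormalPComplement p A) :
    ∃ K P : Subgroup G, K ≤ A ∧ P ≤ A ∧ A ≤ normalizer (K : Set G) ∧ IsPGroup p P ∧
      (Nat.card K).Coprime p ∧ Nat.card K * Nat.card P = Nat.card A ∧ K ⊔ P = A ∧
      Nat.card K = Nat.card A / p ^ (Nat.card A).factorization p := by
  obtain ⟨P', M, hMn, hMP⟩ := hAp
  refine ⟨M.map A.subtype, (P' : Subgroup A).map A.subtype, map_subtype_le _, map_subtype_le _,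
    ?_, P'.2.map _, ?_, ?_, ?_, ?_⟩
  · have h1 : (M.map A.subtype).subgroupOf A = M :=
      comap_map_eq_self_of_injective (subtype_injective _) _
    have h2 : ((M.map A.subtype).subgroupOf A).Normal := by rw [h1]; exact hMn
    exact (normal_subgroupOf_iff_le_normalizer (map_subtype_le _)).mp h2
  · rw [card_map_of_injective (subtype_injective _)]
    have h1 := hMP.card_mul_card
    rw [Sylow.card_eq_multiplicity] at h1
    have h2 : Nat.card M = Nat.card A / p ^ (Nat.card A).factorization p :=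
      (Nat.div_eq_of_eq_mul_left (pow_pos hp.out.pos _) h1.symm).symm
    rw [h2]
    exact (Nat.coprime_ordCompl hp.out Nat.card_pos.ne').symm
  · rw [card_map_of_injective (subtype_injective _), card_map_of_injective (subtype_injective _)]
    exact hMP.card_mul_card
  · rw [← Subgroup.map_sup, hMP.sup_eq_top, ← MonoidHom.range_eq_map, A.range_subtype]
  · rw [card_map_of_injective (subtype_injective _)]
    have h1 := hMP.card_mul_card
    rw [Sylow.card_eq_multiplicity] at h1
    exact (Nat.div_eq_of_eq_mul_left (pow_pos hp.out.pos _) h1.symm).symm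

/-- If `A` normalizes `X` and `Y` then it normalizes `X ⊔ Y`. -/
theorem le_normalizer_sup' {A X Y : Subgroup G} (hX : A ≤ normalizer (X : Set G))
    (hY : A ≤ normalizer (Y : Set G)) : A ≤ normalizer ((X ⊔ Y : Subgroup G) : Set G) := by
  have key : ∀ a ∈ A, ∀ x ∈ X ⊔ Y, a * x * a⁻¹ ∈ X ⊔ Y := by
    intro a ha
    have : X ⊔ Y ≤ (X ⊔ Y).comap (MulAut.conj a).toMonoidHom := by
      refine sup_le ?_ ?_
      · intro x hx
        rw [mem_comap]
        exact mem_sup_left ((mem_normalizer_iff.mp (hX ha) x).mp hx)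
      · intro y hy
        rw [mem_comap]
        exact mem_sup_right ((mem_normalizer_iff.mp (hY ha) y).mp hy)
    intro x hx
    exact this hx
  intro a ha
  rw [mem_normalizer_iff]
  intro x
  constructor
  · exact key a ha x
  · intro hx
    have := key a⁻¹ (A.inv_mem ha) _ hx
    have e : a⁻¹ * (a * x * a⁻¹) * a⁻¹⁻¹ = x := by group
    rwa [e] at this

/-- Two `p`-nilpotent complements of a normal `p`-subgroup `N`, the second acting
fixed-point-freely on `N`, are conjugate under `N`. -/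
theorem conj_of_pnilpotent_fpf_complements [Finite G] {p : ℕ} [hp : Fact p.Prime]
    (N : Subgroup G) [hNn : N.Normal] (hN : IsPGroup p N) (A A₁ : Subgroup G)
    (hA : A.IsComplement' N) (hA₁ : A₁.IsComplement' N)
    (hAp : Cfsg.HasNormalPComplement p A) (hA₁p : Cfsg.HasNormalPComplement p A₁)
    (hC₁ : ∀ n : G, n ∈ N → (∀ a : G, a ∈ A₁ → a * n * a⁻¹ = n) → n = 1) :
    ∃ n : G, n ∈ N ∧ A₁ = A.map (MulAut.conj n).toMonoidHom := by
  obtain ⟨K, P, hKA, hPA, hAK, hPp, hKp, hKP, hKPsup, hKcard⟩ := exists_pcomplement_ambient A hAp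
  obtain ⟨K₁, P₁, hK₁A, hP₁A, hAK₁, hP₁p, hK₁p, hKP₁, hKP₁sup, hK₁card⟩ :=
    exists_pcomplement_ambient A₁ hA₁p
  have hNnorm : ∀ S : Subgroup G, S ≤ normalizer (N : Set G) := by
    intro S; rw [normalizer_eq_top]; exact le_top
  have hcardA : Nat.card A = Nat.card A₁ := by
    have h1 := hA.card_mul_card
    have h2 := hA₁.card_mul_card
    exact Nat.eq_of_mul_eq_mul_right Nat.card_pos (h1.trans h2.symm)
  have hcardK : Nat.card K₁ = Nat.card K := by rw [hKcard, hK₁card, hcardA]
  obtain ⟨k, hk⟩ := hN.exists_card_eq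
  have hcopKN : (Nat.card K).Coprime (Nat.card N) := by
    rw [hk]; exact hKp.pow_right k
  have hcopK₁N : (Nat.card K₁).Coprime (Nat.card N) := by rw [hcardK]; exact hcopKN
  -- Step 1: `K₁ ≤ N ⊔ K`
  set M₀ : Subgroup G := N ⊔ K with hM₀
  have hM₀n : M₀.Normal := by
    rw [← normalizer_eq_top_iff, eq_top_iff, ← hA.sup_eq_top]
    refine sup_le ?_ ((le_sup_left : N ≤ M₀).trans le_normalizer)
    exact le_normalizer_sup' (hNnorm A) hAK
  have hKidx : K.index * Nat.card K = Nat.card K * (Nat.card P * Nat.card N) := by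
    rw [mul_comm K.index, card_mul_index, ← mul_assoc, hKP, hA.card_mul_card]
  have hKidx' : K.index = Nat.card P * Nat.card N := by
    rw [mul_comm] at hKidx
    exact Nat.eq_of_mul_eq_mul_left Nat.card_pos hKidx
  have hK₁M₀ : K₁ ≤ M₀ := by
    rw [← relIndex_eq_one]
    have h1 : M₀.relIndex K₁ ∣ K.index :=
      (relIndex_dvd_index_of_normal M₀ K₁).trans (index_dvd_of_le le_sup_right)
    have h2 : M₀.relIndex K₁ ∣ Nat.card K₁ := relIndex_dvd_card _ _
    obtain ⟨j, hj⟩ := hPp.exists_card_eq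
    rw [hKidx', hj, hk, ← pow_add] at h1
    exact Nat.eq_one_of_dvd_coprimes (hK₁p.pow_right _) h2 h1
  -- Step 2: Schur–Zassenhaus
  have hNsolv : Group.IsSolvable N := by
    have : Group.IsNilpotent N := hN.isNilpotent
    infer_instance
  obtain ⟨n, hnN, hn⟩ := sz_conj_rel (hNnorm K) hcopKN (Or.inr hNsolv) hK₁M₀ hcardK
  refine ⟨n, hnN, ?_⟩
  rw [← conj_smul_eq_map]
  set A' : Subgroup G := MulAut.conj n • A with hA'
  -- `A'` normalizes `K₁`
  have hA'K₁ : A' ≤ normalizer (K₁ : Set G) := by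
    intro x hx
    rw [hA', mem_conj_smul_iff] at hx
    have h1 := hAK hx
    rw [mem_normalizer_iff] at h1 ⊢
    intro y
    rw [← hn, mem_conj_smul_iff, mem_conj_smul_iff, h1 (n⁻¹ * y * n)]
    have e : n⁻¹ * x * n * (n⁻¹ * y * n) * (n⁻¹ * x * n)⁻¹ = n⁻¹ * (x * y * x⁻¹) * n := by group
    rw [e]
  have hNK₁ : N ⊓ K₁ = ⊥ := (disjoint_of_coprime_natCard hcopK₁N.symm).eq_bot
  -- `D = C_N(K₁)` is trivial
  set D : Subgroup G := N ⊓ centralizer (K₁ : Set G) with hD
  have hDbot : D = ⊥ := by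
    by_contra hDne
    have hP₁A₁ : P₁ ≤ A₁ := hP₁A
    have hP₁D : P₁ ≤ normalizer (D : Set G) :=
      le_normalizer_inf' (hNnorm P₁)
        ((hP₁A.trans hAK₁).trans (normalizer_le_normalizer_centralizer K₁))
    have hDp : IsPGroup p D := hN.to_le inf_le_left
    set T : Subgroup G := P₁ ⊔ D with hT
    have hTp : IsPGroup p T := IsPGroup.to_sup_of_normal_right' hP₁p hDp hP₁D
    have hDT : D ≤ T := le_sup_right
    have hTD : T ≤ normalizer (D : Set G) := sup_le hP₁D le_normalizer
    have hDn : (D.subgroupOf T).Normal := (normal_subgroupOf_iff_le_normalizer hDT).mpr hTD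
    have hDne' : D.subgroupOf T ≠ ⊥ := by
      intro h
      apply hDne
      rw [eq_bot_iff]
      intro d hd
      have : (⟨d, hDT hd⟩ : T) ∈ D.subgroupOf T := by rw [mem_subgroupOf]; exact hd
      rw [h, mem_bot] at this
      rw [mem_bot]
      exact congrArg Subtype.val this
    obtain ⟨z, hzD, hz1, hzc⟩ :=
      Cfsg.Agent.Helper10.exists_ne_one_mem_inf_center hTp (D.subgroupOf T) hDne'
    rw [mem_subgroupOf] at hzD
    apply hz1
    apply Subtype.ext
    apply hC₁ (z : G) hzD.1
    -- `z` commutes with `K₁ ⊔ P₁ = A₁`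
    have hcz : A₁ ≤ centralizer ({(z : G)} : Set G) := by
      rw [← hKP₁sup]
      refine sup_le ?_ ?_
      · intro x hx
        rw [mem_centralizer_singleton_iff]
        have h1 : (z : G) ∈ centralizer (K₁ : Set G) := hzD.2
        rw [mem_centralizer_iff] at h1
        exact h1 x hx
      · intro x hx
        rw [mem_centralizer_singleton_iff]
        rw [mem_center_iff] at hzc
        have h1 := hzc ⟨x, (le_sup_left : P₁ ≤ T) hx⟩
        exact congrArg Subtype.val h1
    intro a ha
    have h1 := hcz ha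
    rw [mem_centralizer_singleton_iff] at h1
    rw [h1, mul_inv_cancel_right]
  -- `A' ≤ A₁`
  have hA'A₁ : A' ≤ A₁ := by
    intro x hx
    obtain ⟨⟨a₁, m⟩, ham⟩ := hA₁.2 x
    have ham' : (a₁ : G) * (m : G) = x := ham
    have hmK₁ : (m : G) ∈ normalizer (K₁ : Set G) := by
      have : (m : G) = (a₁ : G)⁻¹ * x := by rw [← ham']; group
      rw [this]
      exact mul_mem (inv_mem (hAK₁ a₁.2)) (hA'K₁ hx)
    have hmD : (m : G) ∈ D := by
      refine ⟨m.2, ?_⟩
      change (m : G) ∈ centralizer (K₁ : Set G)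
      rw [mem_centralizer_iff]
      intro y hy
      have h1 : (m : G) * y * (m : G)⁻¹ * y⁻¹ ∈ N ⊓ K₁ := by
        constructor
        · have := hNn.conj_mem _ (N.inv_mem m.2) y
          have e : (m : G) * y * (m : G)⁻¹ * y⁻¹ = (m : G) * (y * (m : G)⁻¹ * y⁻¹) := by group
          rw [e]
          exact N.mul_mem m.2 this
        · exact K₁.mul_mem ((mem_normalizer_iff.mp hmK₁ y).mp hy) (K₁.inv_mem hy)
      rw [hNK₁, mem_bot] at h1
      calc y * (m : G) = ((m : G) * y * (m : G)⁻¹ * y⁻¹)⁻¹ * ((m : G) * y) := by group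
        _ = (m : G) * y := by rw [h1, inv_one, one_mul]
    rw [hDbot, mem_bot] at hmD
    rw [← ham', hmD, mul_one]
    exact a₁.2
  have hcardA' : Nat.card A' = Nat.card A₁ := by rw [hA', card_conj_smul, hcardA]
  exact (eq_of_le_of_card_ge hA'A₁ hcardA'.ge).symm

end Cfsg.Agent.Lead

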