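import Mathlib
import Cfsg.Agent.Helper1.MinNormal
import Cfsg.Agent.Lead.PiHallNormal
import Cfsg.Agent.Lead.PNilpConj

/-! Sylow numbers and quotients: `n_p(G) = n_p(G/N) * [N : N ∩ N_G(P)]`. -/

namespace Cfsg.Agent.Lead

open Subgroup

variable {G : Type*} [Group G] [Finite G]

/-- `n_p(G/N) = [G : N_G(PN)]`. -/
theorem card_sylow_quotient (p : ℕ) [Fact p.Prime] (N : Subgroup G) [N.Normal] (P : Sylow p G) :
    Nat.card (Sylow p (G ⧸ N)) =
      (normalizer (((P : Subgroup G) ⊔ N : Subgroup G) : Set G)).index := by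
  have hf : Function.Surjective (QuotientGroup.mk' N) := QuotientGroup.mk'_surjective N
  rw [(P.mapSurjective hf).card_eq_index_normalizer]
  have h1 := Subgroup.comap_normalizer_eq_of_surjective
    ((P : Subgroup G).map (QuotientGroup.mk' N)) hf
  rw [Subgroup.comap_map_eq, QuotientGroup.ker_mk'] at h1
  rw [← h1, Subgroup.index_comap_of_surjective _ hf]
  rfl

/-- Frattini: `N_G(PN) = N_G(P) N`. -/
theorem normalizer_sup_normal_eq (p : ℕ) [Fact p.Prime] (N : Subgroup G) [N.Normal]
    (P : Sylow p G) :
    normalizer (((P : Subgroup G) ⊔ N : Subgroup G) : Set G) =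
      normalizer ((P : Subgroup G) : Set G) ⊔ N := by
  apply le_antisymm
  · set L := normalizer (((P : Subgroup G) ⊔ N : Subgroup G) : Set G) with hL
    have hML : (P : Subgroup G) ⊔ N ≤ L := le_normalizer
    have hPL : (P : Subgroup G) ≤ L := le_sup_left.trans hML
    have hn : (((P : Subgroup G) ⊔ N).subgroupOf L).Normal :=
      (normal_subgroupOf_iff_le_normalizer hML).mpr le_rfl
    have hle : (P.subtype hPL : Subgroup L) ≤ ((P : Subgroup G) ⊔ N).subgroupOf L := by
      rw [Sylow.coe_subtype]
      exact comap_mono le_sup_left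
    have h1 := Sylow.normalizer_sup_eq_top' (P.subtype hPL) hle
    have h1' : (normalizer ((P : Subgroup G) : Set G)).subgroupOf L ⊔
        ((P : Subgroup G) ⊔ N).subgroupOf L = ⊤ := by
      rw [subgroupOf_normalizer_eq hPL]
      exact h1
    intro g hg
    have h2 : (⟨g, hg⟩ : L) ∈ (normalizer ((P : Subgroup G) : Set G)).subgroupOf L ⊔
        ((P : Subgroup G) ⊔ N).subgroupOf L := by
      rw [h1']; trivial
    have h3 : (normalizer ((P : Subgroup G) : Set G)).subgroupOf L ⊔
        ((P : Subgroup G) ⊔ N).subgroupOf L ≤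
        (normalizer ((P : Subgroup G) : Set G) ⊔ N).subgroupOf L := by
      apply sup_le
      · exact comap_mono le_sup_left
      · exact comap_mono (sup_le (le_normalizer.trans le_sup_left) le_sup_right)
    exact h3 h2
  · apply sup_le
    · exact le_normalizer_sup' le_rfl le_normalizer_of_normal
    · exact le_sup_right.trans le_normalizer

/-- `n_p(G) = n_p(G/N) * [N : N ∩ N_G(P)]`. -/
theorem card_sylow_eq_mul (p : ℕ) [Fact p.Prime] (N : Subgroup G) [N.Normal] (P : Sylow p G) :
    Nat.card (Sylow p G) =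
      Nat.card (Sylow p (G ⧸ N)) * (normalizer ((P : Subgroup G) : Set G)).relIndex N := by
  rw [card_sylow_quotient p N P, P.card_eq_index_normalizer, normalizer_sup_normal_eq p N P,
    ← relIndex_sup_of_normal_right (normalizer ((P : Subgroup G) : Set G)) N, mul_comm]
  exact (relIndex_mul_index le_sup_left).symm

/-- In a solvable group, each prime-power part of `n_p(G)` is `≡ 1 (mod p)` (P. Hall). -/
theorem sylow_number_prime_part_modEq_one (p : ℕ) [Fact p.Prime] :
    ∀ (n : ℕ) (G : Type*) [Group G] [Finite G], Group.IsSolvable G → Nat.card G = n →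
      ∀ ℓ : ℕ, ℓ.Prime → ℓ ^ (Nat.card (Sylow p G)).factorization ℓ ≡ 1 [MOD p] := by
  intro n
  induction n using Nat.strong_induction_on with
  | _ n ih =>
    intro G _ _ hsol hcard ℓ hℓ
    rcases subsingleton_or_nontrivial G with hG | hG
    · have : Nat.card (Sylow p G) = 1 := by
        rw [Nat.card_eq_one_iff_unique]
        refine ⟨⟨fun P Q => ?_⟩, inferInstance⟩
        apply Sylow.ext
        exact Subsingleton.elim _ _
      rw [this]; simp [Nat.ModEq]
    · obtain ⟨q, N, hq, hNn, hNne, hNq, -, -⟩ :=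
        Cfsg.Agent.Helper1.exists_normal_pgroup_of_solvable (G := G)
      have P : Sylow p G := default
      have hmul := card_sylow_eq_mul p N P
      set r := (normalizer ((P : Subgroup G) : Set G)).relIndex N with hr
      have hlt : Nat.card (G ⧸ N) < n := by
        have h1 := Subgroup.card_eq_card_quotient_mul_card_subgroup N
        have h2 : 1 < Nat.card N := (Subgroup.one_lt_card_iff_ne_bot N).mpr hNne
        have h3 : 0 < Nat.card (G ⧸ N) := Nat.card_pos
        rw [← hcard, h1]
        nlinarith
      have ih' := ih _ hlt (G ⧸ N) inferInstance rfl ℓ hℓ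
      have hrq : ∃ a, r = q ^ a := by
        have := Fact.mk hq
        obtain ⟨k, hk⟩ := hNq.exists_card_eq
        have hdvd : r ∣ Nat.card N := Subgroup.relIndex_dvd_card _ _
        rw [hk] at hdvd
        obtain ⟨a, -, ha⟩ := (Nat.dvd_prime_pow hq).mp hdvd
        exact ⟨a, ha⟩
      obtain ⟨a, ha⟩ := hrq
      have h1 : Nat.card (Sylow p G) ≡ 1 [MOD p] := card_sylow_modEq_one p G
      have h2 : Nat.card (Sylow p (G ⧸ N)) ≡ 1 [MOD p] := card_sylow_modEq_one p (G ⧸ N)
      rw [ha] at hmul
      have h3 : q ^ a ≡ 1 [MOD p] := by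
        have h4 : Nat.card (Sylow p (G ⧸ N)) * q ^ a ≡ 1 * q ^ a [MOD p] := h2.mul_right _
        rw [← hmul, one_mul] at h4
        exact h4.symm.trans h1
      rw [hmul, Nat.factorization_mul (Nat.card_pos.ne') (pow_ne_zero _ hq.ne_zero),
        Finsupp.add_apply, pow_add]
      have h5 : ℓ ^ (q ^ a).factorization ℓ ≡ 1 [MOD p] := by
        rw [Nat.Prime.factorization_pow hq]
        by_cases hlq : ℓ = q
        · subst hlq
          simpa using h3
        · rw [Finsupp.single_apply, if_neg (Ne.symm hlq)]
          simp [Nat.ModEq]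
      simpa using ih'.mul h5

end Cfsg.Agent.Lead
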