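import Mathlib
import Cfsg.Agent.Lead.SylowNumber

/-! M. Hall's factorization of the Sylow number:
`n_p(G) = n_p(G/K) * n_p(K) * n_p(N_{PK}(P ∩ K)/(P ∩ K))`. -/

namespace Cfsg.Agent.Lead

open Subgroup

variable {G : Type*} [Group G] [Finite G]


/-- `n_p(K) = [K : N_K(P ∩ K)]` for `K` normal. -/
theorem card_sylow_normal (p : ℕ) [Fact p.Prime] (K : Subgroup G) [K.Normal] (P : Sylow p G) :
    Nat.card (Sylow p K) =
      (normalizer (((P : Subgroup G) ⊓ K : Subgroup G) : Set G)).relIndex K := by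
  have hQp : IsPGroup p (((P : Subgroup G) ⊓ K).subgroupOf K) :=
    (P.isPGroup'.to_le inf_le_left).comap_subtype
  have hidx : ¬ p ∣ (((P : Subgroup G) ⊓ K).subgroupOf K).index := by
    intro h
    apply P.not_dvd_index
    have h1 : (((P : Subgroup G) ⊓ K).subgroupOf K).index = (P : Subgroup G).relIndex K := by
      change ((P : Subgroup G) ⊓ K).relIndex K = _
      exact inf_relIndex_right _ _
    rw [h1, ← relIndex_sup_of_normal_right (P : Subgroup G) K] at h
    exact h.trans (relIndex_dvd_index_of_le le_sup_left)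
  rw [(hQp.toSylow hidx).card_eq_index_normalizer]
  change (normalizer ((((P : Subgroup G) ⊓ K).subgroupOf K : Subgroup K) : Set K)).index = _
  rw [← subgroupOf_normalizer_eq (inf_le_right : (P : Subgroup G) ⊓ K ≤ K)]
  rfl



/-- For `Q ≤ P` normal in `N ≥ P`: `n_p(N/Q) = [N : N_N(P)]`. -/
theorem card_sylow_quotient_of_le (p : ℕ) [Fact p.Prime] (P : Sylow p G) (Q N : Subgroup G)
    (hQP : Q ≤ (P : Subgroup G)) (hPN : (P : Subgroup G) ≤ N) [hn : (Q.subgroupOf N).Normal] :
    Nat.card (Sylow p (N ⧸ Q.subgroupOf N)) =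
      (normalizer ((P : Subgroup G) : Set G)).relIndex N := by
  have hle : Q.subgroupOf N ≤ (P : Subgroup G).subgroupOf N := comap_mono hQP
  rw [card_sylow_quotient p (Q.subgroupOf N) (P.subtype hPN), Sylow.coe_subtype,
    sup_of_le_left hle, ← subgroupOf_normalizer_eq hPN]
  rfl

/-- Hall's factorization of the Sylow number, index form. -/
theorem relIndex_normalizer_sylow_normal (p : ℕ) [Fact p.Prime] (K : Subgroup G) [K.Normal]
    (P : Sylow p G) :
    (normalizer ((P : Subgroup G) : Set G)).relIndex K =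
      (normalizer (((P : Subgroup G) ⊓ K : Subgroup G) : Set G)).relIndex K *
      (normalizer ((P : Subgroup G) : Set G)).relIndex
        (((P : Subgroup G) ⊔ K) ⊓ normalizer (((P : Subgroup G) ⊓ K : Subgroup G) : Set G)) := by
  set NP := normalizer ((P : Subgroup G) : Set G) with hNP
  set NQ := normalizer (((P : Subgroup G) ⊓ K : Subgroup G) : Set G) with hNQ
  set N := ((P : Subgroup G) ⊔ K) ⊓ NQ with hN
  set X := NQ ⊓ K with hX
  have hNPQ : NP ≤ NQ := le_normalizer_inf' le_rfl le_normalizer_of_normal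
  have hPNQ : (P : Subgroup G) ≤ NQ := le_normalizer.trans hNPQ
  have hPN : (P : Subgroup G) ≤ N := le_inf le_sup_left hPNQ
  have hXN : X ≤ N := le_inf (inf_le_right.trans le_sup_right) inf_le_left
  -- step 1: [K : N_K(P)] = [K : N_K(Q)] * [N_K(Q) : N_K(P)]
  have h1 : NP.relIndex K = NQ.relIndex K * NP.relIndex X := by
    have h2 := relIndex_mul_relIndex (NP ⊓ K) X K (inf_le_inf_right K hNPQ) inf_le_right
    rw [inf_relIndex_right, inf_relIndex_right] at h2
    rw [← h2, mul_comm]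
    congr 1
    rw [← inf_relIndex_right NP X, ← inf_relIndex_right (NP ⊓ K) X]
    congr 1
    rw [inf_assoc, inf_eq_right.mpr (inf_le_right : X ≤ K)]
  rw [h1]
  congr 1
  -- step 2: [N_K(Q) : N_K(P)] = [N : N_N(P)], inside N
  have hXn : (X.subgroupOf N).Normal := by
    have : X = K ⊓ N := by
      rw [hX, hN, inf_comm NQ K, ← inf_assoc, inf_eq_left.mpr (le_sup_right : K ≤ (P : Subgroup G) ⊔ K)]
    rw [this, inf_subgroupOf_right]
    infer_instance
  have htop : NP.subgroupOf N ⊔ X.subgroupOf N = ⊤ := by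
    rw [eq_top_iff]
    rintro ⟨g, hg⟩ -
    have hg1 : g ∈ (P : Subgroup G) ⊔ K := hg.1
    have hg2 : g ∈ NQ := hg.2
    rw [← SetLike.mem_coe, mul_normal, Set.mem_mul] at hg1
    obtain ⟨a, ha, k, hk, rfl⟩ := hg1
    have ha' : a ∈ (P : Subgroup G) := ha
    have hk' : k ∈ K := hk
    have hkQ : k ∈ NQ := by
      have : k = a⁻¹ * (a * k) := by group
      rw [this]
      exact mul_mem (inv_mem (hPNQ ha')) hg2
    have hkX : k ∈ X := ⟨hkQ, hk'⟩
    have : (⟨a * k, hg⟩ : N) = ⟨a, hPN ha'⟩ * ⟨k, hXN hkX⟩ := rfl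
    rw [this]
    exact mul_mem (mem_sup_left (show (⟨a, hPN ha'⟩ : N) ∈ NP.subgroupOf N from
      mem_subgroupOf.mpr (le_normalizer ha')))
      (mem_sup_right (show (⟨k, hXN hkX⟩ : N) ∈ X.subgroupOf N from mem_subgroupOf.mpr hkX))
  have h3 := relIndex_sup_of_normal_right (NP.subgroupOf N) (X.subgroupOf N)
  rw [htop, relIndex_top_right, relIndex_subgroupOf hXN] at h3
  exact h3.symm


/-- M. Hall: `n_p(G) = n_p(G/K) * n_p(K) * n_p(N_{PK}(P ∩ K)/(P ∩ K))`. -/
theorem card_sylow_hall_factorization (p : ℕ) [Fact p.Prime] (K : Subgroup G) [K.Normal]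
    (P : Sylow p G) (N : Subgroup G)
    (hN : N = ((P : Subgroup G) ⊔ K) ⊓ normalizer (((P : Subgroup G) ⊓ K : Subgroup G) : Set G))
    [hn : (((P : Subgroup G) ⊓ K).subgroupOf N).Normal] :
    Nat.card (Sylow p G) =
      Nat.card (Sylow p (G ⧸ K)) * Nat.card (Sylow p K) *
        Nat.card (Sylow p (N ⧸ ((P : Subgroup G) ⊓ K).subgroupOf N)) := by
  have hPN : (P : Subgroup G) ≤ N := by
    rw [hN]
    exact le_inf le_sup_left (le_normalizer_inf' le_normalizer le_normalizer_of_normal)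
  rw [card_sylow_eq_mul p K P, card_sylow_normal p K P,
    card_sylow_quotient_of_le p P _ N inf_le_left hPN, relIndex_normalizer_sylow_normal p K P,
    ← hN, mul_assoc]

end Cfsg.Agent.Lead
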