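import Mathlib
import Cfsg.Agent.Lead.SylowNumber2
import Cfsg.Agent.Lead.CoprimeSylow2

/-! More on Sylow numbers: for `K` a normal `p'`-subgroup, `[K : N_K(P)]` is a product of prime
powers each `≡ 1 (mod p)`. -/

namespace Cfsg.Agent.Lead

open Subgroup

variable {G : Type*} [Group G] [Finite G]

/-- `[HA : H] = [A : A ∩ H]` when `H` normalizes `A`. -/
theorem relIndex_sup_of_le_normalizer (H A : Subgroup G) (h : H ≤ normalizer (A : Set G)) :
    H.relIndex (H ⊔ A) = H.relIndex A := by
  set L := H ⊔ A with hL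
  have hn : (A.subgroupOf L).Normal :=
    (normal_subgroupOf_iff_le_normalizer (le_sup_right : A ≤ L)).mpr (sup_le h le_normalizer)
  have h1 := relIndex_sup_of_normal_right (H.subgroupOf L) (A.subgroupOf L)
  rw [← subgroupOf_sup (le_sup_left : H ≤ L) (le_sup_right : A ≤ L), subgroupOf_self,
    relIndex_top_right, relIndex_subgroupOf (le_sup_right : A ≤ L)] at h1
  exact h1

/-- `[PA : PA ∩ H] = [A : A ∩ H]` when `P ≤ H` normalizes `A`. -/
theorem relIndex_sup_of_le_of_le_normalizer (H P A : Subgroup G) (hPH : P ≤ H)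
    (hPA : P ≤ normalizer (A : Set G)) : H.relIndex (P ⊔ A) = H.relIndex A := by
  set H' := H ⊓ (P ⊔ A) with hH'
  have h1 : H' ⊔ A = P ⊔ A :=
    le_antisymm (sup_le inf_le_right le_sup_right) (sup_le_sup_right (le_inf hPH le_sup_left) A)
  have h2 := relIndex_sup_of_le_normalizer H' A (inf_le_right.trans (sup_le hPA le_normalizer))
  rw [h1, hH', inf_relIndex_right] at h2
  rw [h2, ← inf_relIndex_right (H ⊓ (P ⊔ A)) A, ← inf_relIndex_right H A, inf_assoc,
    inf_eq_right.mpr (le_sup_right : A ≤ P ⊔ A)]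

/-- If a Sylow `p`-subgroup `P` of `G` normalizes `Q`, then `[Q : N_Q(P)] ≡ 1 (mod p)`. -/
theorem relIndex_normalizer_sylow_modEq_one (p : ℕ) [Fact p.Prime] (P : Sylow p G)
    (Q : Subgroup G) (hPQ : (P : Subgroup G) ≤ normalizer (Q : Set G)) :
    (normalizer ((P : Subgroup G) : Set G)).relIndex Q ≡ 1 [MOD p] := by
  set L := (P : Subgroup G) ⊔ Q with hL
  have hPL : (P : Subgroup G) ≤ L := le_sup_left
  have h0 := card_sylow_modEq_one p L
  rw [(P.subtype hPL).card_eq_index_normalizer] at h0
  have h1 : (normalizer (((P : Subgroup G).subgroupOf L : Subgroup L) : Set L)).index ≡ 1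
      [MOD p] := h0
  rw [← subgroupOf_normalizer_eq hPL] at h1
  have h2 : ((normalizer ((P : Subgroup G) : Set G)).subgroupOf L).index =
      (normalizer ((P : Subgroup G) : Set G)).relIndex L := rfl
  rw [h2, hL, relIndex_sup_of_le_of_le_normalizer _ _ _ le_normalizer hPQ] at h1
  exact h1

/-- If a Sylow `p`-subgroup `P` of `G` normalizes the `p'`-subgroup `K`, then every prime-power
part of `[K : N_K(P)]` is `≡ 1 (mod p)`. -/
theorem prime_part_relIndex_normalizer_modEq_one (p : ℕ) [Fact p.Prime] (P : Sylow p G)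
    (K : Subgroup G) (hPK : (P : Subgroup G) ≤ normalizer (K : Set G)) (hK : ¬ p ∣ Nat.card K)
    (q : ℕ) [Fact q.Prime] :
    q ^ ((normalizer ((P : Subgroup G) : Set G)).relIndex K).factorization q ≡ 1 [MOD p] := by
  have hp : p.Prime := Fact.out
  have hq : q.Prime := Fact.out
  set NP := normalizer ((P : Subgroup G) : Set G) with hNP
  set C := K ⊓ NP with hC
  have hcop : (Nat.card (P : Subgroup G)).Coprime (Nat.card K) := by
    obtain ⟨k, hk⟩ := P.isPGroup'.exists_card_eq
    rw [hk]
    exact Nat.Coprime.pow_left _ ((Nat.Prime.coprime_iff_not_dvd hp).mpr hK)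
  have hPKbot : (P : Subgroup G) ⊓ K = ⊥ := (disjoint_of_coprime_natCard hcop).eq_bot
  -- `P` centralizes `C`
  have hcent : ∀ x ∈ (P : Subgroup G), ∀ c ∈ C, x * c * x⁻¹ = c := by
    intro x hx c hc
    have hcK : c ∈ K := hc.1
    have hcN : c ∈ NP := hc.2
    have h1 : x * c * x⁻¹ * c⁻¹ ∈ (P : Subgroup G) ⊓ K := by
      have ha : x * c * x⁻¹ * c⁻¹ ∈ (P : Subgroup G) := by
        have : x * c * x⁻¹ * c⁻¹ = x * (c * x⁻¹ * c⁻¹) := by group
        rw [this]
        exact mul_mem hx ((mem_normalizer_iff.mp hcN _).mp (inv_mem hx))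
      have hb : x * c * x⁻¹ * c⁻¹ ∈ K :=
        mul_mem ((mem_normalizer_iff.mp (hPK hx) _).mp hcK) (inv_mem hcK)
      exact mem_inf.mpr ⟨ha, hb⟩
    rw [hPKbot, mem_bot] at h1
    exact mul_inv_eq_one.mp h1
  let R0 : Sylow q C := default
  set R : Subgroup G := (R0 : Subgroup C).map C.subtype with hR
  have hRC : R ≤ C := map_subtype_le _
  have hRq : IsPGroup q R := R0.isPGroup'.map _
  have hPR : (P : Subgroup G) ≤ normalizer (R : Set G) := by
    intro x hx
    rw [mem_normalizer_iff]
    intro h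
    constructor
    · intro hh
      rw [hcent x hx h (hRC hh)]; exact hh
    · intro hh
      have h2 := hcent x⁻¹ (inv_mem hx) _ (hRC hh)
      have h3 : x⁻¹ * (x * h * x⁻¹) * x⁻¹⁻¹ = h := by group
      rw [h3] at h2
      rw [h2]; exact hh
  have hsolv : Group.IsSolvable (P : Subgroup G) := by
    have : Group.IsNilpotent (P : Subgroup G) := P.isPGroup'.isNilpotent
    infer_instance
  obtain ⟨Qs, hRQ, hPQ⟩ := coprime_invariant_pgroup_le_sylow (P : Subgroup G) K hPK hcop
    (Or.inl hsolv) q R (hRC.trans inf_le_left) hRq hPR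
  set Q : Subgroup G := (Qs : Subgroup K).map K.subtype with hQ
  have hQK : Q ≤ K := map_subtype_le _
  have hmod := relIndex_normalizer_sylow_modEq_one p P Q hPQ
  have hcardQ : Nat.card Q = q ^ (Nat.card K).factorization q := by
    rw [hQ, card_map_of_injective K.subtype_injective]
    exact Qs.card_eq_multiplicity
  have hcardR : Nat.card R = q ^ (Nat.card C).factorization q := by
    rw [hR, card_map_of_injective C.subtype_injective]
    exact R0.card_eq_multiplicity
  have hQNP : Nat.card (Q ⊓ NP : Subgroup G) = Nat.card R := by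
    apply Nat.dvd_antisymm
    · have hle : Q ⊓ NP ≤ C := inf_le_inf_right NP hQK
      have hQq : IsPGroup q (Q ⊓ NP : Subgroup G) := (Qs.isPGroup'.map K.subtype).to_le inf_le_left
      obtain ⟨k, hk⟩ := hQq.exists_card_eq
      rw [hk, hcardR]
      apply pow_dvd_pow
      rw [← hq.pow_dvd_iff_le_factorization Nat.card_pos.ne', ← hk]
      exact card_dvd_of_le hle
    · exact card_dvd_of_le (le_inf hRQ (hRC.trans inf_le_right))
  have e1 : Nat.card K = NP.relIndex K * Nat.card C := by
    rw [card_eq_relIndex_mul_card (inf_le_left : C ≤ K), hC, inf_relIndex_left]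
  have e2 : Nat.card Q = NP.relIndex Q * Nat.card (Q ⊓ NP : Subgroup G) := by
    rw [card_eq_relIndex_mul_card (inf_le_left : Q ⊓ NP ≤ Q), inf_relIndex_left]
  have hpos : NP.relIndex K ≠ 0 := by
    intro h0; rw [h0, zero_mul] at e1; exact Nat.card_pos.ne' e1
  have e3 : (Nat.card K).factorization q =
      (NP.relIndex K).factorization q + (Nat.card C).factorization q := by
    rw [e1, Nat.factorization_mul hpos Nat.card_pos.ne', Finsupp.add_apply]
  rw [hcardQ, hQNP, hcardR, e3, pow_add] at e2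
  have e4 : NP.relIndex Q = q ^ (NP.relIndex K).factorization q :=
    (Nat.eq_of_mul_eq_mul_right (pow_pos hq.pos _) e2).symm
  rw [← e4]
  exact hmod

end Cfsg.Agent.Lead
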