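import Mathlib
import Cfsg.Agent.Lead.BG9f

set_option autoImplicit false
set_option linter.unusedSectionVars false
set_option linter.unusedVariables false
set_option linter.style.haveILetI false

/-! # Bender–Glauberman Theorem 9.6 (the Uniqueness Theorem) from Lemma 9.5 -/

namespace Cfsg.Agent.Lead.BG9

open Subgroup Cfsg
open Cfsg.Agent.Helper14 (IsSylowIn cj)

universe u
variable {G : Type u} [Group G] [Finite G]

/-- the conclusion of B&G Lemma 9.5 as a hypothesis -/
def SCN3Uniq (G : Type u) [Group G] : Prop :=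
  ∀ (q : ℕ) [Fact q.Prime] (S : Sylow q G) (A : Subgroup G), Cfsg.IsSCN (S : Subgroup G) A →
    ¬ Cfsg.PRankLE q 2 ↥A → Cfsg.InUniqueMaximal A

/-- given Lemma 9.5, every elementary abelian subgroup of order at least `q ^ 3` is a uniqueness
subgroup -/
theorem uniq_of_elementary_cube (hG : Cfsg.IsMinSimpleOddOrder G) (h95 : SCN3Uniq G)
    {q : ℕ} [hq : Fact q.Prime] {F : Subgroup G} (hF : Cfsg.IsElementaryAbelian q F)
    (hcard : q ^ 3 ≤ Nat.card F) : Cfsg.InUniqueMaximal F := by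
  have hFp : IsPGroup q F := Cfsg.Agent.Helper14.isPGroup_of_isElementaryAbelian hF
  obtain ⟨S, hFS⟩ := hFp.exists_le_sylow
  have hlt : q ^ 2 < Nat.card F := by
    have : q ^ 2 < q ^ 3 := Nat.pow_lt_pow_right hq.out.one_lt (by norm_num)
    omega
  have hrS : ¬ Cfsg.PRankLE q 2 ↥(S : Subgroup G) := not_pRankLE_of_elementary hFS hF hlt
  have hq2 : q ≠ 2 := by
    apply Cfsg.Agent.Lead.BG8.ne_two_of_dvd_card_of_odd hG.1 (F := F)
    obtain ⟨k, hk⟩ := IsPGroup.iff_card.mp hFp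
    have hk0 : k ≠ 0 := by
      rintro rfl
      rw [pow_zero] at hk
      have := hq.out.one_lt
      have h1 : 1 < q ^ 3 := Nat.one_lt_pow (by norm_num) this
      omega
    rw [hk]
    exact dvd_pow_self q hk0
  obtain ⟨A, hA, hA3⟩ := exists_scn3 hq2 S.isPGroup' hrS
  have hAU := h95 q S A hA hA3
  have hAp : IsPGroup q A := S.isPGroup'.to_le hA.1
  have hAab : ∀ a ∈ A, ∀ b ∈ A, a * b = b * a := by
    intro a ha b hb
    have hb' : b ∈ (S : Subgroup G) ⊓ centralizer (A : Set G) := by rw [hA.2.2]; exact hb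
    exact mem_centralizer_iff.mp hb'.2 a ha
  have hFC : F ≤ centralizer (F : Set G) := by
    intro x hx
    rw [mem_centralizer_iff]
    intro y hy
    exact Cfsg.Agent.Helper7.IsElementaryAbelian.commute hF hy hx
  exact uniq_of_rank_three hG hAp hAab hA3 hAU hFp
    (not_isCyclic_of_sq_le hF hlt.le) (not_pRankLE_of_elementary hFC hF hlt)

/-- **B&G Theorem 9.6** from Lemma 9.5 -/
theorem uniqueness_of_scn3 (hG : Cfsg.IsMinSimpleOddOrder G) (h95 : SCN3Uniq G)
    (K : Subgroup G) (hK : K ≠ ⊤) (hK2 : ¬ Cfsg.RankLE 1 K)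
    (hK3 : ¬ Cfsg.RankLE 2 K ∨ ¬ Cfsg.RankLE 2 (centralizer (K : Set G))) :
    Cfsg.InUniqueMaximal K := by
  rcases hK3 with h3 | h3
  · unfold Cfsg.RankLE at h3
    push Not at h3
    obtain ⟨q, hq, hr⟩ := h3
    haveI : Fact q.Prime := ⟨hq⟩
    obtain ⟨F, hFK, hFe, hFcard⟩ := Cfsg.Agent.Lead.TT.exists_elementary_of_not_pRankLE' 2 K hr
    exact InUniqueMaximal.mono (uniq_of_elementary_cube hG h95 hFe hFcard) hFK hK
  · unfold Cfsg.RankLE at h3 hK2
    push Not at h3 hK2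
    obtain ⟨q, hq, hr⟩ := h3
    obtain ⟨r, hr', hr1⟩ := hK2
    haveI : Fact q.Prime := ⟨hq⟩
    haveI : Fact r.Prime := ⟨hr'⟩
    obtain ⟨F, hFC, hFe, hFcard⟩ :=
      Cfsg.Agent.Lead.TT.exists_elementary_of_not_pRankLE' 2 (centralizer (K : Set G)) hr
    obtain ⟨E, hEK, hEe, hEcard⟩ := Cfsg.Agent.Lead.TT.exists_elementary_of_not_pRankLE' 1 K hr1
    have hFU := uniq_of_elementary_cube hG h95 hFe hFcard
    have hKF : K ≤ centralizer (F : Set G) := by
      intro k hk
      rw [mem_centralizer_iff]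
      intro f hf
      exact (mem_centralizer_iff.mp (hFC hf) k hk).symm
    exact uniq_of_centralizes hG hFU hKF hEK hEe (not_isCyclic_of_sq_le hEe hEcard)

end Cfsg.Agent.Lead.BG9
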