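import Mathlib
import Cfsg.Prelude.Def_Transfer
import Cfsg.Prelude.Def_CaseTheorems
import Cfsg.Agent.Helper9.PResidual
import Cfsg.Agent.Helper19.RankTwoAut

set_option autoImplicit false
set_option linter.unusedSectionVars false
set_option linter.unusedVariables false
set_option linter.style.haveILetI false

/-! # Abstract transfer lemmas for Bender–Glauberman Lemma 9.5

`NoPIdx p H` : the finite group `H` has no proper normal subgroup of `p`-power index
(i.e. `O^p(H) = H`).  It passes from `H = Y H₀` (`Y` a normal `p'`-subgroup) to `H₀`; under it the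
`p`-elements lie in the derived group, hence act trivially on every `q`-group of rank at most two
(`q ≠ p` odd, `H` of odd order). -/

namespace Cfsg.Agent.Lead.BG95

open Subgroup Cfsg

/-- no proper normal subgroup of `p`-power index -/
def NoPIdx (p : ℕ) (H : Type*) [Group H] : Prop :=
  ∀ N : Subgroup H, N.Normal → N ≠ ⊤ → (∃ k : ℕ, N.index = p ^ k) → False

theorem NoPIdx.of_sup {H : Type*} [Group H] [Finite H] {p : ℕ} [hp : Fact p.Prime]
    (hH : NoPIdx p H) (Y H₀ : Subgroup H) [hYn : Y.Normal] (hY : (Nat.card Y).Coprime p)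
    (hsup : Y ⊔ H₀ = ⊤) : NoPIdx p ↥H₀ := by
  intro N₀ hN₀ hne ⟨k, hk⟩
  haveI := hN₀
  set f : ↥H₀ →* H ⧸ Y := (QuotientGroup.mk' Y).comp H₀.subtype with hf
  have hfs : Function.Surjective f := by
    intro z
    obtain ⟨h, rfl⟩ := QuotientGroup.mk'_surjective Y z
    have hmem : h ∈ ((Y ⊔ H₀ : Subgroup H) : Set H) := by rw [hsup]; trivial
    rw [Subgroup.normal_mul] at hmem
    obtain ⟨y, hy, h₀, hh₀, rfl⟩ := Set.mem_mul.mp hmem
    refine ⟨⟨h₀, hh₀⟩, ?_⟩
    show (QuotientGroup.mk' Y) h₀ = (QuotientGroup.mk' Y) (y * h₀)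
    rw [map_mul]
    have : (QuotientGroup.mk' Y) y = 1 := by
      rw [QuotientGroup.mk'_apply, QuotientGroup.eq_one_iff]; exact hy
    rw [this, one_mul]
  have hcardQ : Nat.card (↥H₀ ⧸ N₀) = p ^ k := by rw [← hk]; rfl
  have hker : f.ker ≤ N₀ := by
    intro x hx
    rw [MonoidHom.mem_ker] at hx
    have hxY : (x : H) ∈ Y := by
      have : (QuotientGroup.mk' Y) (x : H) = 1 := hx
      rwa [QuotientGroup.mk'_apply, QuotientGroup.eq_one_iff] at this
    have h1 : orderOf (QuotientGroup.mk' N₀ x) ∣ p ^ k := by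
      rw [← hcardQ]; exact orderOf_dvd_natCard _
    have h2 : orderOf (QuotientGroup.mk' N₀ x) ∣ Nat.card Y := by
      have h3 : orderOf (QuotientGroup.mk' N₀ x) ∣ orderOf x := orderOf_map_dvd _ x
      have h4 : orderOf x = orderOf (x : H) := (Subgroup.orderOf_coe x).symm
      have h5 : orderOf (x : H) ∣ Nat.card Y := Subgroup.orderOf_dvd_natCard Y hxY
      exact h3.trans (h4 ▸ h5)
    have h6 : orderOf (QuotientGroup.mk' N₀ x) = 1 :=
      Nat.eq_one_of_dvd_coprimes (Nat.Coprime.pow_right k hY) h2 h1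
    rw [orderOf_eq_one_iff, QuotientGroup.mk'_apply, QuotientGroup.eq_one_iff] at h6
    exact h6
  set Nb : Subgroup (H ⧸ Y) := N₀.map f with hNb
  have hNbn : Nb.Normal := Subgroup.Normal.map hN₀ f hfs
  have hidx1 : Nb.index = p ^ k := by
    rw [hNb, Subgroup.index_map_eq N₀ hfs hker, hk]
  set Z : Subgroup H := Nb.comap (QuotientGroup.mk' Y) with hZ
  have hZn : Z.Normal := Subgroup.Normal.comap hNbn _
  have hidx2 : Z.index = p ^ k := by
    rw [hZ, Subgroup.index_comap_of_surjective _ (QuotientGroup.mk'_surjective Y), hidx1]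
  have hk0 : k ≠ 0 := by
    rintro rfl
    rw [pow_zero, Subgroup.index_eq_one] at hk
    exact hne hk
  refine hH Z hZn ?_ ⟨k, hidx2⟩
  intro htop
  rw [htop, Subgroup.index_top] at hidx2
  have : 1 < p ^ k := Nat.one_lt_pow hk0 hp.out.one_lt
  omega

/-- the `p'`-elements of an abelian group form a subgroup -/
def coprimeSub (p : ℕ) [hp : Fact p.Prime] (B : Type*) [CommGroup B] : Subgroup B where
  carrier := {b | (orderOf b).Coprime p}
  one_mem' := by
    show (orderOf (1 : B)).Coprime p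
    rw [orderOf_one]; exact Nat.coprime_one_left p
  mul_mem' := by
    intro a b ha hb
    show (orderOf (a * b)).Coprime p
    have h1 : orderOf (a * b) ∣ Nat.lcm (orderOf a) (orderOf b) :=
      (Commute.all a b).orderOf_mul_dvd_lcm
    have h2 : Nat.lcm (orderOf a) (orderOf b) ∣ orderOf a * orderOf b := Nat.lcm_dvd_mul _ _
    have h3 : (orderOf a * orderOf b).Coprime p := Nat.Coprime.mul_left ha hb
    exact Nat.Coprime.coprime_dvd_left (h1.trans h2) h3
  inv_mem' := by
    intro a ha
    show (orderOf a⁻¹).Coprime p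
    rw [orderOf_inv]; exact ha

theorem NoPIdx.mem_commutator {H : Type*} [Group H] [Finite H] {p : ℕ} [hp : Fact p.Prime]
    (hH : NoPIdx p H) {x : H} (hx : ∃ j : ℕ, x ^ p ^ j = 1) : x ∈ commutator H := by
  have hres : Cfsg.pResidual p H = ⊤ := by
    by_contra hne
    haveI : (Cfsg.pResidual p H).Normal := inferInstance
    obtain ⟨k, hk⟩ := IsPGroup.iff_card.mp (Cfsg.Agent.Helper9.isPGroup_quotient_pResidual (G := H) p)
    refine hH _ inferInstance hne ⟨k, ?_⟩
    rw [Subgroup.index_eq_card]; exact hk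
  have hle : Cfsg.pResidual p H ≤ (coprimeSub p (Abelianization H)).comap Abelianization.of := by
    unfold Cfsg.pResidual
    rw [Subgroup.closure_le]
    intro g hg
    have hg' : (orderOf g).Coprime p := hg
    show (orderOf (Abelianization.of g)).Coprime p
    exact Nat.Coprime.coprime_dvd_left (orderOf_map_dvd _ g) hg'
  have hx1 : (orderOf (Abelianization.of x)).Coprime p := by
    have : x ∈ Cfsg.pResidual p H := by rw [hres]; trivial
    exact hle this
  obtain ⟨j, hj⟩ := hx
  have hx2 : orderOf (Abelianization.of x) ∣ p ^ j := by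
    apply orderOf_dvd_of_pow_eq_one
    rw [← map_pow, hj, map_one]
  have hx3 : orderOf (Abelianization.of x) = 1 :=
    Nat.Coprime.eq_one_of_dvd (Nat.Coprime.pow_right j hx1) hx2
  rw [orderOf_eq_one_iff] at hx3
  have : x ∈ (Abelianization.of (G := H)).ker := hx3
  rwa [Abelianization.ker_of] at this

/-- Under `NoPIdx p H` (`H` of odd order), the `p`-elements of `H` act trivially on every
`q`-group of rank at most two (`q` odd, `q ≠ p`). -/
theorem NoPIdx.rho_eq_one {H U : Type*} [Group H] [Finite H] [Group U] [Finite U] {p q : ℕ}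
    [hp : Fact p.Prime] [hq : Fact q.Prime] (hH : NoPIdx p H) (hq2 : q ≠ 2) (hpq : p ≠ q)
    (hU : IsPGroup q U) (hrk : Cfsg.PRankLE q 2 U) (hodd : Odd (Nat.card H)) (ρ : H →* MulAut U)
    {x : H} (hx : ∃ j : ℕ, x ^ p ^ j = 1) : ρ x = 1 := by
  have hxc : x ∈ commutator H := hH.mem_commutator hx
  obtain ⟨k, hk⟩ := Cfsg.Agent.Helper19.RankTwoAut.commutator_pow_eq_one q hq2 hU hrk hodd ρ x hxc
  obtain ⟨j, hj⟩ := hx
  have h1 : orderOf (ρ x) ∣ q ^ k := orderOf_dvd_of_pow_eq_one hk
  have h2 : orderOf (ρ x) ∣ p ^ j := by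
    apply orderOf_dvd_of_pow_eq_one
    rw [← map_pow, hj, map_one]
  have hcop : (q ^ k).Coprime (p ^ j) :=
    Nat.Coprime.pow k j ((Nat.coprime_primes hq.out hp.out).mpr (Ne.symm hpq))
  have h3 : orderOf (ρ x) = 1 := Nat.eq_one_of_dvd_coprimes hcop h1 h2
  exact orderOf_eq_one_iff.mp h3

end Cfsg.Agent.Lead.BG95
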