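import Mathlib
import Cfsg.Agent.Lead.BG95a
import Cfsg.Agent.Lead.BG9g
import Cfsg.Agent.S1393
import Cfsg.Agent.S1395
import Cfsg.Agent.S1396
import Cfsg.Agent.S1398
import Cfsg.Agent.S1451
import Cfsg.Agent.S0067
import Cfsg.Agent.Helper9.CharPChain

set_option autoImplicit false
set_option linter.unusedSectionVars false
set_option linter.unusedVariables false
set_option linter.style.haveILetI false

/-! # Bender–Glauberman Lemma 9.5, part 1: the standing context and the normalizers of the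
`p`-subgroups containing `A` -/

namespace Cfsg.Agent.Lead.BG95

open Subgroup Cfsg
open Cfsg.Agent.Helper14 (IsSylowIn cj)

universe u
variable {G : Type u} [Group G] [Finite G] {p : ℕ} [hp : Fact p.Prime]

/-- a `t`-subgroup of the Fitting subgroup lies in `O_t` -/
theorem le_pCore_of_le_fittingSubgroup {K : Type u} [Group K] [Finite K] {t : ℕ} [Fact t.Prime]
    {B : Subgroup K} (hB : IsPGroup t B) (hBF : B ≤ Cfsg.fittingSubgroup K) :
    B ≤ Cfsg.pCore t K := by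
  haveI : Group.IsNilpotent ↥(Cfsg.fittingSubgroup K) :=
    Cfsg.Agent.Helper7.fittingSubgroup_isNilpotent
  have h1 : (B.subgroupOf (Cfsg.fittingSubgroup K)).IsSubnormal :=
    Cfsg.Agent.S0067.isSubnormal_of_isNilpotent _ _ rfl
  have h2 := Subgroup.IsSubnormal.trans' h1
    (Subgroup.Normal.isSubnormal (inferInstance : (Cfsg.fittingSubgroup K).Normal))
  rw [Cfsg.Agent.Helper14.map_subtype_subgroupOf hBF] at h2
  exact Cfsg.Agent.Helper7.subnormal_pGroup_le_pCore h2 hB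

theorem le_pCoreOf_of_le_fittingOf {t : ℕ} [Fact t.Prime] {M B : Subgroup G}
    (hB : IsPGroup t B) (hBF : B ≤ Cfsg.fittingOf M) : B ≤ Cfsg.pCoreOf t M := by
  have hBM : B ≤ M := hBF.trans (Cfsg.Agent.Lead.BG8.fittingOf_le M)
  have h1 : B.subgroupOf M ≤ Cfsg.fittingSubgroup ↥M := by
    intro x hx
    rw [mem_subgroupOf] at hx
    obtain ⟨y, hy, hyx⟩ := hBF hx
    have : y = x := Subtype.ext hyx
    rwa [← this]
  have h2 := le_pCore_of_le_fittingSubgroup (hB.comap_subtype (K := M)) h1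
  calc B = (B.subgroupOf M).map M.subtype :=
        (Cfsg.Agent.Helper14.map_subtype_subgroupOf hBM).symm
    _ ≤ (Cfsg.pCore t ↥M).map M.subtype := Subgroup.map_mono h2

theorem isPGroup_ne_top (hG : Cfsg.IsMinSimpleOddOrder G) {q : ℕ} [Fact q.Prime] {R : Subgroup G}
    (hR : IsPGroup q R) : R ≠ ⊤ := by
  intro htop
  haveI := hG.2.1
  have hGp : IsPGroup q G := by
    intro g
    obtain ⟨k, hk⟩ := hR ⟨g, htop ▸ mem_top g⟩
    exact ⟨k, by simpa using congrArg Subtype.val hk⟩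
  haveI : Group.IsNilpotent G := hGp.isNilpotent
  have hsolv : Group.IsSolvable G := inferInstance
  exact hG.2.2.1 ⟨⟨fun a b => IsSimpleGroup.comm_iff_isSolvable.mpr hsolv a b⟩⟩

/-- standing hypotheses for the proof of B&G Lemma 9.5 by contradiction -/
structure C95 (p : ℕ) [Fact p.Prime] (P : Sylow p G) (A : Subgroup G) : Prop where
  hG : Cfsg.IsMinSimpleOddOrder G
  hscn : Cfsg.IsSCN (P : Subgroup G) A
  hrank : ¬ Cfsg.PRankLE p 2 ↥A
  hU : ¬ Cfsg.InUniqueMaximal A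

namespace C95

variable {P : Sylow p G} {A : Subgroup G}

theorem hS (h : C95 p P A) : IsSimpleGroup G := h.hG.2.1

theorem hodd (h : C95 p P A) : Odd (Nat.card G) := h.hG.1

theorem hsolv (h : C95 p P A) {H : Subgroup G} (hH : H ≠ ⊤) : Group.IsSolvable H :=
  h.hG.2.2.2 H hH

theorem hAP (h : C95 p P A) : A ≤ (P : Subgroup G) := h.hscn.1

theorem hPA (h : C95 p P A) : (P : Subgroup G) ≤ normalizer (A : Set G) := h.hscn.2.1

theorem hAcent (h : C95 p P A) : A ≤ centralizer (A : Set G) := by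
  conv_lhs => rw [← h.hscn.2.2]
  exact inf_le_right

theorem comm (h : C95 p P A) : ∀ a ∈ A, ∀ b ∈ A, a * b = b * a := by
  intro a ha b hb
  exact mem_centralizer_iff.1 (h.hAcent hb) a ha

theorem hAc (h : C95 p P A) : IsMulCommutative A :=
  ⟨⟨fun a b => Subtype.ext (h.comm a a.2 b b.2)⟩⟩

theorem hAp (h : C95 p P A) : IsPGroup p A := P.isPGroup'.to_le h.hAP

theorem exists_A₁ (h : C95 p P A) :
    ∃ A₁ : Subgroup G, A₁ ≤ A ∧ Cfsg.IsElementaryAbelian p A₁ ∧ p ^ 3 ≤ Nat.card A₁ :=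
  Cfsg.Agent.Lead.TT.exists_elementary_of_not_pRankLE' 2 A h.hrank

theorem hAbot (h : C95 p P A) : A ≠ ⊥ := by
  intro hb
  obtain ⟨A₁, hA₁A, _, hc⟩ := h.exists_A₁
  have h1 : A₁ = ⊥ := by
    rw [hb] at hA₁A
    exact le_bot_iff.mp hA₁A
  rw [h1, Subgroup.card_bot] at hc
  have h2 : 1 < p ^ 3 := Nat.one_lt_pow (by norm_num) hp.out.one_lt
  omega

theorem hAtop (h : C95 p P A) : A ≠ ⊤ := Cfsg.Agent.Lead.BG9.ne_top_of_commute h.hG h.comm

theorem p_dvd_card_A (h : C95 p P A) : p ∣ Nat.card A := by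
  obtain ⟨k, hk⟩ := IsPGroup.iff_card.mp h.hAp
  have hk0 : k ≠ 0 := by
    rintro rfl
    rw [pow_zero] at hk
    exact h.hAbot (Subgroup.card_eq_one.mp hk)
  rw [hk]; exact dvd_pow_self p hk0

theorem p_dvd_card_G (h : C95 p P A) : p ∣ Nat.card G :=
  h.p_dvd_card_A.trans (card_subgroup_dvd_card A)

theorem hp2 (h : C95 p P A) : p ≠ 2 :=
  Cfsg.Agent.Lead.BG8.ne_two_of_dvd_card_of_odd h.hodd h.p_dvd_card_A

theorem not_dvd_card_A (h : C95 p P A) {q : ℕ} (hq : q.Prime) (hqp : q ≠ p) :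
    ¬ q ∣ Nat.card A := by
  obtain ⟨k, hk⟩ := IsPGroup.iff_card.mp h.hAp
  rw [hk]
  intro hd
  exact hqp ((Nat.prime_dvd_prime_iff_eq hq hp.out).mp (hq.dvd_of_dvd_pow hd))

theorem fit_rank (h : C95 p P A) {M : Subgroup G} (hM : IsCoatom M) :
    Cfsg.PRankLE p 2 ↥(Cfsg.fittingOf M) := by
  by_contra hF
  exact h.hU (Cfsg.Agent.Lead.BG9.uniq_of_fitting_rank_three h.hG hM hF h.hAp h.comm h.hrank)

theorem trans (h : C95 p P A) : Cfsg.TransitivityHypothesis A :=
  Cfsg.Agent.S1396.result h.hG p h.p_dvd_card_G A h.hAp h.hAc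
    (Or.inr ⟨P, h.hscn, fun hr => h.hrank (Cfsg.Agent.Lead.BG8.pRankLE_mono (by norm_num) hr)⟩)

theorem hZ (h : C95 p P A) : ¬ Cfsg.RankLE 2 ↥(A ⊓ centralizer (A : Set G)) := by
  rw [inf_eq_left.mpr h.hAcent]
  intro hr
  exact h.hrank (hr p hp.out)

theorem cent_ne_top (h : C95 p P A) : centralizer (A : Set G) ≠ ⊤ := by
  obtain ⟨a, ha1⟩ := (Subgroup.ne_bot_iff_exists_ne_one).mp h.hAbot
  have ha1' : (a : G) ≠ 1 := fun h1 => ha1 (Subtype.ext h1)
  have h1 := Cfsg.Agent.Lead.TT.centralizer_singleton_ne_top h.hS h.hAtop a.2 ha1'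
  intro htop
  apply h1
  rw [eq_top_iff, ← htop]
  exact centralizer_le (Set.singleton_subset_iff.mpr a.2)

theorem exists_special (h : C95 p P A) {M : Subgroup G} (hM : IsCoatom M) (hAM : A ≤ M) :
    ∃ q : ℕ, q.Prime ∧ q ≠ p ∧ ∃ Q₁ ∈ Cfsg.maxInvSubgroups ⊤ A {q},
      ∀ k ∈ M, normalizer ((Q₁.map (MulAut.conj k).toMonoidHom : Subgroup G) : Set G) ≤ M := by
  have hS := h.hS
  have hMsolv : Group.IsSolvable M := h.hsolv hM.1
  have hoddM : Odd (Nat.card M) := Odd.of_dvd_nat h.hodd (card_subgroup_dvd_card M)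
  by_cases hII : ∃ t : ℕ, t.Prime ∧ ¬ Cfsg.PRankLE t 2 ↥(Cfsg.fittingOf M)
  · obtain ⟨t, ht, hF⟩ := hII
    haveI : Fact t.Prime := ⟨ht⟩
    have htp : t ≠ p := by
      intro htp
      apply hF
      rw [htp]
      exact h.fit_rank hM
    obtain ⟨E, hEF, hEe, hEcard⟩ :=
      Cfsg.Agent.Lead.TT.exists_elementary_of_not_pRankLE' 2 (Cfsg.fittingOf M) hF
    have hEp : IsPGroup t E := Cfsg.Agent.Helper14.isPGroup_of_isElementaryAbelian hEe
    have hEab : ∀ a ∈ E, ∀ b ∈ E, a * b = b * a := fun a ha b hb =>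
      Cfsg.Agent.Helper7.IsElementaryAbelian.commute hEe ha hb
    have hEcard' : t ^ 3 ≤ Nat.card E := hEcard
    have hlt : t ^ 2 < Nat.card E := by
      have : t ^ 2 < t ^ 3 := Nat.pow_lt_pow_right ht.one_lt (by norm_num)
      omega
    have hE3 : ¬ Cfsg.PRankLE t 2 ↥E :=
      Cfsg.Agent.Lead.BG9.not_pRankLE_of_elementary le_rfl hEe hlt
    have hEU : Cfsg.InUniqueMaximal E :=
      Cfsg.Agent.Lead.BG9.uniq_of_fitting_rank_three h.hG hM hF hEp hEab hE3
    have hEM : E ≤ M := hEF.trans (Cfsg.Agent.Lead.BG8.fittingOf_le M)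
    have hEuniq : ∀ L : Subgroup G, IsCoatom L → E ≤ L → L = M := by
      intro L hL hEL
      obtain ⟨M', _, huniq⟩ := hEU
      rw [huniq L ⟨hL, hEL⟩, huniq M ⟨hM, hEM⟩]
    have hEbot : E ≠ ⊥ := by
      intro hb
      rw [hb, Subgroup.card_bot] at hEcard'
      have : 1 < t ^ 3 := Nat.one_lt_pow (by norm_num) ht.one_lt
      omega
    have hET : E ≤ Cfsg.pCoreOf t M := le_pCoreOf_of_le_fittingOf hEp hEF
    have hTp : IsPGroup t (Cfsg.pCoreOf t M) := Cfsg.Agent.Helper14.pCoreOf_isPGroup t M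
    have hMT : M ≤ normalizer (Cfsg.pCoreOf t M : Set G) :=
      Cfsg.Agent.Helper14.le_normalizer_pCoreOf t M
    obtain ⟨Q₁, hTQ, hQ₁⟩ :=
      Cfsg.Agent.Lead.TT.exists_isMaxInv_ge A (Cfsg.pCoreOf t M) hTp (hAM.trans hMT)
    refine ⟨t, ht, htp, Q₁, Cfsg.Agent.Lead.TT.mem_maxInvSubgroups_of_isMaxInv hQ₁, ?_⟩
    intro k hk
    have hEQk : E ≤ Q₁.map (MulAut.conj k).toMonoidHom := by
      have h1 : (Cfsg.pCoreOf t M).map (MulAut.conj k).toMonoidHom = Cfsg.pCoreOf t M :=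
        Cfsg.Agent.Helper14.mem_normalizer_iff_map_cj.1 (hMT hk)
      calc E ≤ Cfsg.pCoreOf t M := hET
        _ = (Cfsg.pCoreOf t M).map (MulAut.conj k).toMonoidHom := h1.symm
        _ ≤ Q₁.map (MulAut.conj k).toMonoidHom := Subgroup.map_mono hTQ
    have hQkp : IsPGroup t (Q₁.map (MulAut.conj k).toMonoidHom) := hQ₁.1.map _
    have hQkbot : Q₁.map (MulAut.conj k).toMonoidHom ≠ ⊥ := by
      intro hb
      rw [hb] at hEQk
      exact hEbot (le_bot_iff.mp hEQk)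
    have hQktop : Q₁.map (MulAut.conj k).toMonoidHom ≠ ⊤ := isPGroup_ne_top h.hG hQkp
    have hNtop := Cfsg.Agent.Lead.TT.normalizer_ne_top_of_simple hS hQkbot hQktop
    obtain ⟨L, hL, hNL⟩ := (eq_top_or_exists_le_coatom _).resolve_left hNtop
    have hLM : L = M := hEuniq L hL (hEQk.trans (le_normalizer.trans hNL))
    rw [← hLM]; exact hNL
  · push Not at hII
    haveI := hMsolv
    have hr : Cfsg.RankLE 2 ↥(Cfsg.fittingSubgroup ↥M) := by
      intro t ht
      refine Cfsg.Agent.Helper7.PRankLE.of_injective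
        (((Cfsg.fittingSubgroup ↥M).equivMapOfInjective M.subtype
          M.subtype_injective).toMonoidHom) ?_ (hII t ht)
      exact MulEquiv.injective _
    obtain ⟨_, _, hHall⟩ := Cfsg.Agent.S1451.result (G := ↥M) hoddM (Or.inr hr)
    have hMbot : M ≠ ⊥ := by
      intro hb
      rw [hb] at hAM
      exact h.hAbot (le_bot_iff.mp hAM)
    have hcardM : 1 < Nat.card M := (Subgroup.one_lt_card_iff_ne_bot M).mpr hMbot
    have hne : (Nat.card M).primeFactors.Nonempty := Nat.nonempty_primeFactors.mpr hcardM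
    obtain ⟨q, hqmem, hqmax⟩ := Finset.exists_max_image _ id hne
    have hq : q.Prime := Nat.prime_of_mem_primeFactors hqmem
    have hqM : q ∣ Nat.card M := Nat.dvd_of_mem_primeFactors hqmem
    haveI : Fact q.Prime := ⟨hq⟩
    obtain ⟨N, hNchar, hN1, hN2⟩ := hHall (q - 1)
    haveI hNn : N.Normal := inferInstance
    have hNq : IsPGroup q N := by
      rw [Cfsg.Agent.Lead.TT.isPGroup_iff_forall_prime_dvd]
      intro r hr hrN
      have h1 := hN1 r hr hrN
      have h2 : r ∣ Nat.card M := hrN.trans (card_subgroup_dvd_card N)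
      have h3 : r ≤ q := hqmax r (Nat.mem_primeFactors.mpr ⟨hr, h2, Nat.card_pos.ne'⟩)
      have h4 : r = q := by
        have := h1.2
        omega
      exact h4
    have hNidx : N.index.Coprime q := by
      have h1 := hN2 q hq ⟨hq, by have := hq.pos; omega⟩
      exact Nat.Coprime.symm ((Nat.Prime.coprime_iff_not_dvd hq).mpr h1)
    set Q₁ : Subgroup G := N.map M.subtype with hQ₁def
    have hQ₁M : Q₁ ≤ M := Cfsg.Agent.Helper14.map_subtype_le N
    have hMQ₁ : M ≤ normalizer (Q₁ : Set G) :=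
      Cfsg.Agent.Lead.TT.le_normalizer_map_subtype_of_normal M N
    have hQ₁p : IsPGroup q Q₁ := hNq.map _
    have hsub : ∀ R : Subgroup G, IsPGroup q R → R ≤ M → R ≤ Q₁ := by
      intro R hR hRM
      have h1 : R.subgroupOf M ≤ N :=
        Cfsg.Agent.Lead.BG9.le_of_isPGroup_of_index_coprime (hR.comap_subtype (K := M)) hNidx
      calc R = (R.subgroupOf M).map M.subtype :=
            (Cfsg.Agent.Helper14.map_subtype_subgroupOf hRM).symm
        _ ≤ Q₁ := Subgroup.map_mono h1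
    have hqp : q ≠ p := by
      intro hqp
      have hAq : IsPGroup q A := by rw [hqp]; exact h.hAp
      have hAQ : A ≤ Q₁ := hsub A hAq hAM
      have hQF : Q₁ ≤ Cfsg.fittingOf M :=
        (Cfsg.Agent.Helper14.le_pCoreOf q hQ₁M hMQ₁ hQ₁p).trans
          (Cfsg.Agent.Lead.Bender.pCoreOf_le_fittingOf M q)
      exact Cfsg.Agent.Lead.BG9.not_pRankLE_of_le (hAQ.trans hQF) h.hrank (h.fit_rank hM)
    have hQ₁bot : Q₁ ≠ ⊥ := by
      intro hb
      have hNbot : N = ⊥ := (Subgroup.map_eq_bot_iff_of_injective _ M.subtype_injective).1 hb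
      have h2 : q ∣ Nat.card N * N.index := by rw [Subgroup.card_mul_index]; exact hqM
      have h3 : q ∣ Nat.card N := (Nat.Coprime.dvd_mul_right hNidx.symm).mp h2
      rw [hNbot, Subgroup.card_bot] at h3
      exact hq.one_lt.ne' (Nat.dvd_one.mp h3)
    have hNormQ₁ : normalizer (Q₁ : Set G) = M :=
      Cfsg.Agent.Lead.Bender.normalizer_eq_of_coatom hS hM hQ₁bot hQ₁M hMQ₁
    have hmax : Cfsg.Agent.Lead.TT.IsMaxInv q A Q₁ := by
      refine ⟨hQ₁p, hAM.trans hMQ₁, ?_⟩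
      intro R hRq _ hle
      by_contra hne
      have hlt : Q₁ < R := lt_of_le_of_ne hle (Ne.symm hne)
      have h1 := Cfsg.Agent.Helper9.lt_inf_normalizer_of_lt hRq hlt
      rw [hNormQ₁] at h1
      have h2 : R ⊓ M ≤ Q₁ := hsub _ (hRq.to_le inf_le_left) inf_le_right
      exact absurd (lt_of_lt_of_le h1 h2) (lt_irrefl _)
    refine ⟨q, hq, hqp, Q₁, Cfsg.Agent.Lead.TT.mem_maxInvSubgroups_of_isMaxInv hmax, ?_⟩
    intro k hk
    have h1 : Q₁.map (MulAut.conj k).toMonoidHom = Q₁ :=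
      Cfsg.Agent.Helper14.mem_normalizer_iff_map_cj.1 (hMQ₁ hk)
    rw [h1, hNormQ₁]

/-- the normalizer of every `p`-subgroup containing `A` lies in every maximal subgroup
containing `C_G(A)` -/
theorem normalizer_le (h : C95 p P A) {M : Subgroup G} (hM : IsCoatom M)
    (hCM : centralizer (A : Set G) ≤ M) {R : Subgroup G} (hR : IsPGroup p R) (hAR : A ≤ R) :
    normalizer (R : Set G) ≤ M := by
  have hAM : A ≤ M := h.hAcent.trans hCM
  obtain ⟨q, hq, hqp, Q₁, hQ₁, hspec⟩ := h.exists_special hM hAM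
  haveI : Fact q.Prime := ⟨hq⟩
  have hqA : ¬ q ∣ Nat.card A := h.not_dvd_card_A hq hqp
  have htr := Cfsg.Agent.S1393.result h.hG A h.trans h.hZ q hq hqA
  have hRtop : R ≠ ⊤ := isPGroup_ne_top h.hG hR
  have hRπ : ∀ r : ℕ, r.Prime → r ∣ Nat.card R → r ∣ Nat.card A := by
    intro r hr hrR
    obtain ⟨k, hk⟩ := IsPGroup.iff_card.mp hR
    rw [hk] at hrR
    have h1 : r = p := (Nat.prime_dvd_prime_iff_eq hr hp.out).mp (hr.dvd_of_dvd_pow hrR)
    rw [h1]; exact h.p_dvd_card_A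
  have hsn : (A.subgroupOf R).IsSubnormal := Cfsg.Agent.Helper14.isSubnormal_of_isPGroup hR _
  obtain ⟨_, _, hsub, hfac⟩ :=
    Cfsg.Agent.S1395.result h.hG A h.trans q hq hqA R hRtop hRπ hAR hsn htr
  have hbotn : R ≤ normalizer (((⊥ : Subgroup G)) : Set G) := by
    rw [Subgroup.normalizer_eq_top_iff.mpr (inferInstance : (⊥ : Subgroup G).Normal)]
    exact le_top
  obtain ⟨Q, _, hQ⟩ := Cfsg.Agent.Lead.TT.exists_isMaxInv_ge (q := q) R ⊥ IsPGroup.of_bot hbotn
  have hQmem : Q ∈ Cfsg.maxInvSubgroups ⊤ R {q} :=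
    Cfsg.Agent.Lead.TT.mem_maxInvSubgroups_of_isMaxInv hQ
  have hQA : Q ∈ Cfsg.maxInvSubgroups ⊤ A {q} := hsub hQmem
  obtain ⟨k, hk, hQk⟩ := htr Q₁ hQ₁ Q hQA
  have hkM : k ∈ M := hCM (Cfsg.Agent.Lead.TT.piCoreOf_le _ _ hk)
  have hNQ : normalizer (Q : Set G) ≤ M := by rw [hQk]; exact hspec k hkM
  obtain ⟨_, hfac2⟩ := hfac Q hQmem
  rw [hfac2]
  apply sup_le
  · exact ((Cfsg.Agent.Lead.TT.piCoreOf_le _ _).trans
      (centralizer_le (SetLike.coe_subset_coe.mpr hAR))).trans hCM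
  · exact inf_le_right.trans hNQ

theorem P_le (h : C95 p P A) {M : Subgroup G} (hM : IsCoatom M)
    (hCM : centralizer (A : Set G) ≤ M) : (P : Subgroup G) ≤ M :=
  h.hPA.trans (h.normalizer_le hM hCM h.hAp le_rfl)

end C95

end Cfsg.Agent.Lead.BG95
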