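import Mathlib
import Cfsg.Prelude.Def_OddOrderLocal
import Cfsg.Prelude.Def_Transfer
import Cfsg.Agent.S0118
import Cfsg.Agent.S1242

set_option autoImplicit false
set_option linter.unusedSectionVars false
set_option linter.unusedVariables false
set_option linter.style.haveILetI false

/-! # A transfer argument in simple groups of odd order

If `G` is a nonabelian simple group of odd order, `P` a Sylow `r`-subgroup, and `M` a subgroup
containing `N_G(Z(J(P)))`, then `M` has no proper normal subgroup of `r`-power index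
(Glauberman's `ZJ`-theorem and the focal subgroup theorem). -/

namespace Cfsg.Agent.Lead.CN

open Subgroup Cfsg
open scoped commutatorElement

universe u
variable {G : Type u} [Group G] [Finite G]

theorem two_dvd_card_sl2 {r : ℕ} [hr : Fact r.Prime] (hr2 : r ≠ 2) :
    2 ∣ Nat.card (Matrix.SpecialLinearGroup (Fin 2) (ZMod r)) := by
  let z : Matrix.SpecialLinearGroup (Fin 2) (ZMod r) :=
    ⟨!![-1, 0; 0, -1], by simp [Matrix.det_fin_two]⟩
  have hz2 : z ^ 2 = 1 := by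
    rw [pow_two]
    apply Subtype.ext
    show (!![-1, 0; 0, -1] : Matrix (Fin 2) (Fin 2) (ZMod r)) * !![-1, 0; 0, -1] = 1
    rw [Matrix.mul_fin_two, Matrix.one_fin_two]
    simp
  have hz1 : z ≠ 1 := by
    intro h
    have h00 : (z.1 0 0 : ZMod r) = (1 : Matrix.SpecialLinearGroup (Fin 2) (ZMod r)).1 0 0 := by
      rw [h]
    simp [z] at h00
    have h2 : ((2 : ℕ) : ZMod r) = 0 := by
      have : (1 : ZMod r) + 1 = 0 := by
        nth_rewrite 1 [← h00]
        ring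
      push_cast
      rw [← this]
      ring
    have := (ZMod.natCast_eq_zero_iff 2 r).mp h2
    exact hr2 ((Nat.prime_dvd_prime_iff_eq hr.out Nat.prime_two).mp this)
  have h2 : orderOf z = 2 := orderOf_eq_prime hz2 hz1
  have h3 := orderOf_dvd_natCard z
  rwa [h2] at h3

theorem sl2_free_of_odd (hodd : Odd (Nat.card G)) {r : ℕ} [Fact r.Prime] (hr2 : r ≠ 2) :
    ¬ ∃ (H K : Subgroup G) (hK : (K.subgroupOf H).Normal),
      Nonempty ((H ⧸ K.subgroupOf H) ≃* Matrix.SpecialLinearGroup (Fin 2) (ZMod r)) := by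
  rintro ⟨H, K, hK, ⟨e⟩⟩
  have h1 : 2 ∣ Nat.card (H ⧸ K.subgroupOf H) := by
    rw [Nat.card_congr e.toEquiv]
    exact two_dvd_card_sl2 hr2
  have h2 : Nat.card (H ⧸ K.subgroupOf H) ∣ Nat.card H := Subgroup.card_quotient_dvd_card _
  have h3 : Nat.card H ∣ Nat.card G := Subgroup.card_subgroup_dvd_card H
  have h4 : 2 ∣ Nat.card G := h1.trans (h2.trans h3)
  rcases hodd with ⟨m, hm⟩
  omega

theorem exists_conj_mem_sylow {r : ℕ} [Fact r.Prime] (P : Sylow r G) {M : Subgroup G}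
    (hPM : (P : Subgroup G) ≤ M) {g : G} (hg : g ∈ M) (hgo : ∃ k, orderOf g = r ^ k) :
    ∃ m ∈ M, m * g * m⁻¹ ∈ (P : Subgroup G) := by
  obtain ⟨k, hk⟩ := hgo
  have hpg : IsPGroup r (zpowers (⟨g, hg⟩ : M)) := by
    apply IsPGroup.of_card (n := k)
    rw [Nat.card_zpowers, Subgroup.orderOf_mk, hk]
  obtain ⟨Q, hQ⟩ := hpg.exists_le_sylow
  obtain ⟨m, hm⟩ := MulAction.exists_smul_eq M Q (P.subtype hPM)
  refine ⟨(m : G), m.2, ?_⟩
  have h1 : (⟨g, hg⟩ : M) ∈ (Q : Subgroup M) := hQ (mem_zpowers _)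
  have h2 : m * (⟨g, hg⟩ : M) * m⁻¹ ∈ ((m • Q : Sylow r M) : Subgroup M) := by
    rw [Sylow.coe_subgroup_smul, Subgroup.mem_smul_pointwise_iff_exists]
    exact ⟨_, h1, by simp [MulAut.smul_def]⟩
  rw [hm, Sylow.coe_subtype, mem_subgroupOf] at h2
  simpa using h2

theorem commutator_eq_top (hS : IsSimpleGroup G) (hnc : ¬ IsMulCommutative G) :
    commutator G = ⊤ := by
  rcases (inferInstance : (commutator G).Normal).eq_bot_or_eq_top with h | h
  · exfalso
    apply hnc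
    refine ⟨⟨fun a b => ?_⟩⟩
    have : ⁅a, b⁆ ∈ commutator G := by
      rw [_root_.commutator_def]
      exact Subgroup.commutator_mem_commutator (mem_top a) (mem_top b)
    rw [h, mem_bot] at this
    exact (commutatorElement_eq_one_iff_commute.mp this).eq
  · exact h

/-- the transfer argument -/
theorem no_normal_rpower_index (hodd : Odd (Nat.card G)) (hS : IsSimpleGroup G)
    (hnc : ¬ IsMulCommutative G) {r : ℕ} [hr : Fact r.Prime] (P : Sylow r G) {M : Subgroup G}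
    (hPM : (P : Subgroup G) ≤ M)
    (hNM : normalizer (Cfsg.centerThompsonOf r (P : Subgroup G) : Set G) ≤ M)
    (Y : Subgroup M) [hYn : Y.Normal] (hY : Y ≠ ⊤) (hidx : ∃ k : ℕ, Y.index = r ^ k) : False := by
  obtain ⟨k, hk⟩ := hidx
  have hk0 : k ≠ 0 := by
    rintro rfl
    rw [pow_zero, Subgroup.index_eq_one] at hk
    exact hY hk
  have hrG : r ∣ Nat.card G := by
    have h1 : r ∣ Y.index := by rw [hk]; exact dvd_pow_self r hk0
    exact h1.trans ((Subgroup.index_dvd_card Y).trans (Subgroup.card_subgroup_dvd_card M))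
  have hr2 : r ≠ 2 := by
    rintro rfl
    rcases hodd with ⟨m, hm⟩
    omega
  have hfree := sl2_free_of_odd hodd (r := r) hr2
  -- fusion control
  have hfus : ∀ g ∈ M, (∃ k : ℕ, orderOf g = r ^ k) → ∀ a : G, a * g * a⁻¹ ∈ M →
      ∃ h ∈ M, h * g * h⁻¹ = a * g * a⁻¹ := by
    intro g hg hgo a hag
    obtain ⟨m₁, hm₁, hg₁⟩ := exists_conj_mem_sylow P hPM hg hgo
    have hgo' : ∃ k : ℕ, orderOf (a * g * a⁻¹) = r ^ k := by
      obtain ⟨k, hk⟩ := hgo
      refine ⟨k, ?_⟩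
      rw [← hk]
      have := (MulAut.conj a).orderOf_eq g
      simpa [MulAut.conj_apply] using this
    obtain ⟨m₂, hm₂, hg₂⟩ := exists_conj_mem_sylow P hPM hag hgo'
    -- t = m₂ a m₁⁻¹ conjugates g₁ to g₂
    have := Cfsg.Agent.S0118.result hr2 hfree P ({m₁ * g * m₁⁻¹} : Set G)
      (Set.singleton_subset_iff.mpr hg₁) ((m₂ * a * m₁⁻¹)⁻¹)
      (by
        rintro _ ⟨x, hx, rfl⟩
        rw [Set.mem_singleton_iff] at hx
        subst hx
        have : (m₂ * a * m₁⁻¹)⁻¹⁻¹ * (m₁ * g * m₁⁻¹) * (m₂ * a * m₁⁻¹)⁻¹ =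
            m₂ * (a * g * a⁻¹) * m₂⁻¹ := by group
        show (m₂ * a * m₁⁻¹)⁻¹⁻¹ * (m₁ * g * m₁⁻¹) * (m₂ * a * m₁⁻¹)⁻¹ ∈ (P : Set G)
        rw [this]
        exact hg₂)
    obtain ⟨n, hn, hn'⟩ := this
    have hn'' := hn' (m₁ * g * m₁⁻¹) rfl
    refine ⟨m₂⁻¹ * n⁻¹ * m₁, M.mul_mem (M.mul_mem (M.inv_mem hm₂) (M.inv_mem (hNM hn))) hm₁, ?_⟩
    calc m₂⁻¹ * n⁻¹ * m₁ * g * (m₂⁻¹ * n⁻¹ * m₁)⁻¹
        = m₂⁻¹ * (n⁻¹ * (m₁ * g * m₁⁻¹) * n) * m₂ := by group
      _ = m₂⁻¹ * ((m₂ * a * m₁⁻¹)⁻¹⁻¹ * (m₁ * g * m₁⁻¹) * (m₂ * a * m₁⁻¹)⁻¹) * m₂ := by rw [hn'']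
      _ = a * g * a⁻¹ := by group
  have hidxM : Nat.Coprime r M.index := by
    have h1 : M.index ∣ (P : Subgroup G).index := Subgroup.index_dvd_of_le hPM
    have h2 : ¬ r ∣ (P : Subgroup G).index := P.not_dvd_index
    exact (Nat.Prime.coprime_iff_not_dvd hr.out).mpr (fun h => h2 (h.trans h1))
  have hfoc := Cfsg.Agent.S1242.result M hidxM hfus
  rw [commutator_eq_top hS hnc, sup_top_eq, top_inf_eq] at hfoc
  -- so O^r(M) M' = M
  have htop : Cfsg.pResidual r M ⊔ commutator M = ⊤ := by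
    rw [eq_top_iff]
    intro m _
    obtain ⟨y, hy, hym⟩ := hfoc.le m.2
    have : y = m := Subtype.ext hym
    rw [← this]
    exact hy
  -- the quotient M / Y
  have hcardQ : Nat.card (M ⧸ Y) = r ^ k := by rw [← hk]; rfl
  have hQp : IsPGroup r (M ⧸ Y) := IsPGroup.of_card hcardQ
  haveI : Group.IsNilpotent (M ⧸ Y) := hQp.isNilpotent
  haveI : Nontrivial (M ⧸ Y) := by
    rw [← Finite.one_lt_card_iff_nontrivial, hcardQ]
    exact Nat.one_lt_pow hk0 hr.out.one_lt
  have hlt : commutator (M ⧸ Y) < ⊤ := Group.IsSolvable.commutator_lt_top_of_nontrivial (M ⧸ Y)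
  have hle : Cfsg.pResidual r M ⊔ commutator M ≤ (commutator (M ⧸ Y)).comap (QuotientGroup.mk' Y) := by
    apply sup_le
    · unfold Cfsg.pResidual
      rw [closure_le]
      intro g hg
      have hg' : (orderOf g).Coprime r := hg
      show QuotientGroup.mk' Y g ∈ commutator (M ⧸ Y)
      have h1 : orderOf (QuotientGroup.mk' Y g) ∣ orderOf g := orderOf_map_dvd _ g
      have h2 : orderOf (QuotientGroup.mk' Y g) ∣ r ^ k := by
        rw [← hcardQ]
        exact orderOf_dvd_natCard _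
      have h3 : orderOf (QuotientGroup.mk' Y g) = 1 :=
        Nat.Coprime.eq_one_of_dvd (Nat.Coprime.coprime_dvd_left h1 (hg'.pow_right k)) h2
      rw [orderOf_eq_one_iff] at h3
      rw [h3]
      exact one_mem _
    · rw [_root_.commutator_def, Subgroup.commutator_le]
      intro a _ b _
      show QuotientGroup.mk' Y ⁅a, b⁆ ∈ commutator (M ⧸ Y)
      rw [map_commutatorElement, _root_.commutator_def]
      exact Subgroup.commutator_mem_commutator (mem_top _) (mem_top _)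
  rw [htop] at hle
  have : (commutator (M ⧸ Y)) = ⊤ := by
    rw [eq_top_iff]
    intro q _
    obtain ⟨m, rfl⟩ := QuotientGroup.mk'_surjective Y q
    exact hle (mem_top m)
  exact hlt.ne this

end Cfsg.Agent.Lead.CN
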