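import Mathlib
import Cfsg.Agent.Lead.BG95b
import Cfsg.Agent.Lead.CN3
import Cfsg.Agent.S1457
import Cfsg.Agent.Helper7.PConstrained
import Cfsg.Agent.Helper7.QConstrained
import Cfsg.Agent.Helper10.Trace

set_option autoImplicit false
set_option linter.unusedSectionVars false
set_option linter.unusedVariables false
set_option linter.style.haveILetI false

/-! # Bender–Glauberman Lemma 9.5, part 2: `A` centralizes the `(M ∩ L)`-invariant `q`-subgroups
of rank at most two -/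

namespace Cfsg.Agent.Lead.BG95

open Subgroup Cfsg
open Cfsg.Agent.Helper14 (IsSylowIn cj)

universe u
variable {G : Type u} [Group G] [Finite G] {p : ℕ} [hp : Fact p.Prime]

namespace C95

variable {P : Sylow p G} {A : Subgroup G}

theorem le_centralizer_of_rank_two (h : C95 p P A) {M L : Subgroup G} (hM : IsCoatom M)
    (hCM : centralizer (A : Set G) ≤ M) (hL : IsCoatom L) (hCL : centralizer (A : Set G) ≤ L)
    {q : ℕ} [hq : Fact q.Prime] (hqp : q ≠ p) {U : Subgroup G} (hUq : IsPGroup q U)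
    (hUrk : Cfsg.PRankLE q 2 ↥U) (hUn : M ⊓ L ≤ normalizer (U : Set G)) :
    A ≤ centralizer (U : Set G) := by
  by_cases hUbot : U = ⊥
  · rw [hUbot]
    intro a _
    rw [mem_centralizer_iff]
    intro u hu
    have hu1 : u = 1 := Subgroup.mem_bot.mp hu
    rw [hu1, one_mul, mul_one]
  have hq2 : q ≠ 2 := by
    apply Cfsg.Agent.Lead.BG8.ne_two_of_dvd_card_of_odd (p := q) h.hodd (F := U)
    obtain ⟨k, hk⟩ := IsPGroup.iff_card.mp hUq
    have hk0 : k ≠ 0 := by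
      rintro rfl
      rw [pow_zero] at hk
      exact hUbot (Subgroup.card_eq_one.mp hk)
    rw [hk]; exact dvd_pow_self q hk0
  have hS := h.hS
  have hPp : IsPGroup p (P : Subgroup G) := P.isPGroup'
  have hPbot : (P : Subgroup G) ≠ ⊥ := by
    intro hb
    have := h.hAP
    rw [hb] at this
    exact h.hAbot (le_bot_iff.mp this)
  have hPtop : (P : Subgroup G) ≠ ⊤ := isPGroup_ne_top h.hG hPp
  have hWbot : Cfsg.centerThompsonOf p (P : Subgroup G) ≠ ⊥ :=
    Cfsg.Agent.Lead.BG9.W_ne_bot hPp hPbot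
  have hWP : Cfsg.centerThompsonOf p (P : Subgroup G) ≤ P := Cfsg.Agent.Lead.BG9.W_le _
  have hWtop : Cfsg.centerThompsonOf p (P : Subgroup G) ≠ ⊤ := by
    intro ht
    rw [ht] at hWP
    exact hPtop (top_le_iff.mp hWP)
  set X : Subgroup G := normalizer (Cfsg.centerThompsonOf p (P : Subgroup G) : Set G) with hX
  have hXtop : X ≠ ⊤ := Cfsg.Agent.Lead.TT.normalizer_ne_top_of_simple hS hWbot hWtop
  have hPX : (P : Subgroup G) ≤ X :=
    le_normalizer.trans (Cfsg.Agent.Lead.BG9.normalizer_le_normalizer_W _)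
  haveI hXsolv : Group.IsSolvable X := h.hsolv hXtop
  have hoddX : Odd (Nat.card X) := Odd.of_dvd_nat h.hodd (card_subgroup_dvd_card X)
  have hNoP : NoPIdx p ↥X := by
    intro N hN hne hk
    haveI := hN
    exact Cfsg.Agent.Lead.CN.no_normal_rpower_index h.hodd hS h.hG.2.2.1 P hPX le_rfl N hne hk
  have hPsyl : IsSylowIn p (P : Subgroup G) X :=
    ⟨hPX, hPp, fun Q _ hQ hle => P.is_maximal' hQ hle⟩
  have hAc' : IsMulCommutative (A.subgroupOf X) := by
    haveI := h.hAc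
    infer_instance
  have hA1 : A.subgroupOf X ≤ Cfsg.pPrimePCore p ↥X :=
    Cfsg.Agent.S1457.result (G := ↥X) hoddX p hPsyl.toSylow (A.subgroupOf X)
      (Subgroup.comap_mono h.hAP) hAc' (by
        intro x hx
        have hx' : (x : G) ∈ normalizer (A : Set G) := h.hPA hx
        rw [mem_normalizer_iff] at hx' ⊢
        intro y
        rw [mem_subgroupOf, mem_subgroupOf]
        exact hx' y)
  obtain ⟨V, hV, hAV⟩ :=
    Cfsg.Agent.Helper14.exists_isSylowIn_ge hA1 (h.hAp.comap_subtype (K := X))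
  have hfrat : normalizer (V : Set ↥X) ⊔ Cfsg.pPrimePCore p ↥X = ⊤ := by
    have h1 := Sylow.normalizer_sup_eq_top (hV.toSylow)
    rwa [hV.toSylow_map] at h1
  have hprops := Cfsg.Agent.Helper7.sylow_pPrimePCore_props (hV.toSylow)
  rw [hV.toSylow_map] at hprops
  have hN'le : Cfsg.pPrimePCore p ↥X ≤ V ⊔ Cfsg.pPrimeCore p ↥X := by
    intro x hx
    have hx0 : QuotientGroup.mk' (Cfsg.pPrimeCore p ↥X) x ∈
        Cfsg.pCore p (↥X ⧸ Cfsg.pPrimeCore p ↥X) := hx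
    have hx' : QuotientGroup.mk' (Cfsg.pPrimeCore p ↥X) x ∈
        V.map (QuotientGroup.mk' (Cfsg.pPrimeCore p ↥X)) := by
      rw [hprops.2]; exact hx0
    obtain ⟨v, hv, hvx⟩ := hx'
    rw [QuotientGroup.mk'_apply, QuotientGroup.mk'_apply, QuotientGroup.eq] at hvx
    have hx2 : x = v * (v⁻¹ * x) := by group
    rw [hx2]
    exact mul_mem (mem_sup_left hv) (mem_sup_right hvx)
  have htop : Cfsg.pPrimeCore p ↥X ⊔ normalizer (V : Set ↥X) = ⊤ := by
    rw [eq_top_iff, ← hfrat]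
    apply sup_le
    · exact le_sup_right
    · calc Cfsg.pPrimePCore p ↥X ≤ V ⊔ Cfsg.pPrimeCore p ↥X := hN'le
        _ ≤ Cfsg.pPrimeCore p ↥X ⊔ normalizer (V : Set ↥X) :=
          sup_le (le_normalizer.trans le_sup_right) le_sup_left
  have hRp : IsPGroup p (V.map X.subtype) := hV.2.1.map _
  have hAR : A ≤ V.map X.subtype := by
    intro a ha
    have haX : a ∈ X := hPX (h.hAP ha)
    exact ⟨⟨a, haX⟩, hAV (by rw [mem_subgroupOf]; exact ha), rfl⟩
  have hNR_M := h.normalizer_le hM hCM hRp hAR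
  have hNR_L := h.normalizer_le hL hCL hRp hAR
  have hnle : normalizer (V : Set ↥X) ≤ (M ⊓ L).subgroupOf X := by
    intro x hx
    rw [mem_subgroupOf]
    have hxR : (x : G) ∈ normalizer ((V.map X.subtype : Subgroup G) : Set G) :=
      Subgroup.le_normalizer_map X.subtype ⟨x, hx, rfl⟩
    exact ⟨hNR_M hxR, hNR_L hxR⟩
  have hsup : Cfsg.pPrimeCore p ↥X ⊔ (M ⊓ L).subgroupOf X = ⊤ := by
    rw [eq_top_iff, ← htop]
    exact sup_le_sup_left hnle _
  have hYcop : (Nat.card (Cfsg.pPrimeCore p ↥X)).Coprime p :=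
    Cfsg.Agent.Helper19.pPrimeCore_coprime p
  have hNoP₀ : NoPIdx p ↥((M ⊓ L).subgroupOf X) :=
    hNoP.of_sup (Cfsg.pPrimeCore p ↥X) ((M ⊓ L).subgroupOf X) hYcop hsup
  let f : ↥((M ⊓ L).subgroupOf X) →* ↥(M ⊓ L) :=
    MonoidHom.codRestrict (X.subtype.comp ((M ⊓ L).subgroupOf X).subtype) (M ⊓ L) (fun x => x.2)
  let ρ : ↥((M ⊓ L).subgroupOf X) →* MulAut ↥U :=
    (Cfsg.Agent.Helper10.conjOn U (M ⊓ L) hUn).comp f
  have hoddH₀ : Odd (Nat.card ↥((M ⊓ L).subgroupOf X)) :=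
    Odd.of_dvd_nat hoddX (card_subgroup_dvd_card _)
  intro a ha
  have haX : a ∈ X := hPX (h.hAP ha)
  have haM : a ∈ M := hCM (h.hAcent ha)
  have haL : a ∈ L := hCL (h.hAcent ha)
  have ha'mem : (⟨a, haX⟩ : ↥X) ∈ (M ⊓ L).subgroupOf X := by
    rw [mem_subgroupOf]; exact ⟨haM, haL⟩
  obtain ⟨j, hj⟩ := h.hAp ⟨a, ha⟩
  have hj' : a ^ p ^ j = 1 := by
    have := congrArg Subtype.val hj
    simpa using this
  have hj'' : (⟨⟨a, haX⟩, ha'mem⟩ : ↥((M ⊓ L).subgroupOf X)) ^ p ^ j = 1 := by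
    apply Subtype.ext
    apply Subtype.ext
    simpa using hj'
  have hρ : ρ ⟨⟨a, haX⟩, ha'mem⟩ = 1 :=
    hNoP₀.rho_eq_one hq2 (Ne.symm hqp) hUq hUrk hoddH₀ ρ ⟨j, hj''⟩
  rw [mem_centralizer_iff]
  intro u hu
  have h1 : (ρ ⟨⟨a, haX⟩, ha'mem⟩) ⟨u, hu⟩ = ⟨u, hu⟩ := by rw [hρ]; rfl
  have h2 : (((ρ ⟨⟨a, haX⟩, ha'mem⟩) ⟨u, hu⟩ : ↥U) : G) = a * u * a⁻¹ := rfl
  rw [h1] at h2
  have h3 : u = a * u * a⁻¹ := h2
  calc u * a = a * u * a⁻¹ * a := by rw [← h3]
    _ = a * u := by group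

end C95

end Cfsg.Agent.Lead.BG95
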