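import Mathlib
import Cfsg.Agent.Lead.BG95c
import Cfsg.Agent.Lead.GenCent2
import Cfsg.Agent.Helper19.FitCrit
import Cfsg.Agent.Helper17.Basic

set_option autoImplicit false
set_option linter.unusedSectionVars false
set_option linter.unusedVariables false
set_option linter.style.haveILetI false

/-! # Bender–Glauberman Lemma 9.5, part 3: the contradiction -/

namespace Cfsg.Agent.Lead.BG95

open Subgroup Cfsg
open Cfsg.Agent.Helper14 (IsSylowIn cj)

universe u
variable {G : Type u} [Group G] [Finite G] {p : ℕ} [hp : Fact p.Prime]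

namespace C95

variable {P : Sylow p G} {A : Subgroup G}

/-- an elementary abelian subgroup `A₁ ≤ A` of order at least `p ^ 3` centralizes `O_q(M)` for
every prime `q ≠ p` and every maximal subgroup `M` containing `C_G(A)` -/
theorem A₁_le_centralizer_pCoreOf (h : C95 p P A) {M : Subgroup G} (hM : IsCoatom M)
    (hCM : centralizer (A : Set G) ≤ M) {A₁ : Subgroup G} (hA₁A : A₁ ≤ A)
    (hA₁e : Cfsg.IsElementaryAbelian p A₁) (hA₁3 : p ^ 3 ≤ Nat.card A₁)
    {q : ℕ} [hq : Fact q.Prime] (hqp : q ≠ p) :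
    A₁ ≤ centralizer (Cfsg.pCoreOf q M : Set G) := by
  by_contra hnot
  have hTq : IsPGroup q (Cfsg.pCoreOf q M) := Cfsg.Agent.Helper14.pCoreOf_isPGroup q M
  have hMT : M ≤ normalizer (Cfsg.pCoreOf q M : Set G) :=
    Cfsg.Agent.Helper14.le_normalizer_pCoreOf q M
  have hAM : A ≤ M := h.hAcent.trans hCM
  haveI hA₁c : IsMulCommutative A₁ := hA₁e.1
  have hA₁p : IsPGroup p A₁ := h.hAp.to_le hA₁A
  have hcop : (Nat.card A₁).Coprime (Nat.card (Cfsg.pCoreOf q M)) := by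
    obtain ⟨k, hk⟩ := IsPGroup.iff_card.mp hA₁p
    obtain ⟨l, hl⟩ := IsPGroup.iff_card.mp hTq
    rw [hk, hl]
    exact Nat.Coprime.pow k l ((Nat.coprime_primes hp.out hq.out).mpr (Ne.symm hqp))
  have hgen := Cfsg.Agent.Lead.gen_cycQuot A₁ (Cfsg.pCoreOf q M)
    ((hA₁A.trans hAM).trans hMT) hcop
  have hex : ∃ B ∈ Cfsg.Agent.Lead.cycQuot A₁,
      ¬ Cfsg.pCoreOf q M ⊓ centralizer (B : Set G) ≤ centralizer (A₁ : Set G) := by
    by_contra hall
    push Not at hall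
    apply hnot
    have hTle : Cfsg.pCoreOf q M ≤ centralizer (A₁ : Set G) := by
      conv_lhs => rw [← hgen]
      exact iSup₂_le hall
    intro a ha
    rw [mem_centralizer_iff]
    intro t ht
    exact (mem_centralizer_iff.mp (hTle ht) a ha).symm
  obtain ⟨B, ⟨hBA₁, a, haA₁, hBa⟩, hBnot⟩ := hex
  have hBA : B ≤ A := hBA₁.trans hA₁A
  have hBM : B ≤ M := hBA.trans hAM
  have hBe : Cfsg.IsElementaryAbelian p B :=
    ⟨⟨⟨fun x y => Subtype.ext
      (Cfsg.Agent.Helper7.IsElementaryAbelian.commute hA₁e (hBA₁ x.2) (hBA₁ y.2))⟩⟩,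
      fun b hb => hA₁e.2 b (hBA₁ hb)⟩
  have hzn : zpowers a ≤ normalizer (B : Set G) := by
    rw [zpowers_le, mem_normalizer_iff]
    intro b
    constructor
    · intro hb
      have h1 : a * b * a⁻¹ = b := by
        have h2 := Cfsg.Agent.Helper7.IsElementaryAbelian.commute hA₁e haA₁ (hBA₁ hb)
        rw [h2]; group
      rw [h1]; exact hb
    · intro hb
      have hc := Cfsg.Agent.Helper7.IsElementaryAbelian.commute hA₁e haA₁ (hBA₁ hb)
      have h5 : a * (a * b * a⁻¹) = a * b := by rw [hc]; group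
      have h6 : b = a * b * a⁻¹ := (mul_left_cancel h5).symm
      rw [h6]; exact hb
  have hcard := Cfsg.Agent.Helper17.card_sup_mul_card_inf B (zpowers a) hzn
  rw [hBa] at hcard
  have hza : Nat.card (zpowers a) ≤ p := by
    rw [Nat.card_zpowers]
    exact Nat.le_of_dvd hp.out.pos (orderOf_dvd_of_pow_eq_one (hA₁e.2 a haA₁))
  have hinfpos : 1 ≤ Nat.card (B ⊓ zpowers a : Subgroup G) := Nat.card_pos
  have hB2 : p ^ 2 ≤ Nat.card B := by
    by_contra hlt
    push Not at hlt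
    have h1 : Nat.card A₁ ≤ Nat.card B * Nat.card (zpowers a) := by
      calc Nat.card A₁ = Nat.card A₁ * 1 := (mul_one _).symm
        _ ≤ Nat.card A₁ * Nat.card (B ⊓ zpowers a : Subgroup G) :=
          Nat.mul_le_mul_left _ hinfpos
        _ = _ := hcard
    have h2 : Nat.card B * Nat.card (zpowers a) < p ^ 2 * p := by
      calc Nat.card B * Nat.card (zpowers a) ≤ Nat.card B * p := Nat.mul_le_mul_left _ hza
        _ < p ^ 2 * p := Nat.mul_lt_mul_of_pos_right hlt hp.out.pos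
    have h3 : p ^ 2 * p = p ^ 3 := by ring
    have h4 := lt_of_le_of_lt (hA₁3.trans h1) h2
    rw [h3] at h4
    exact lt_irrefl _ h4
  have hBnc : ¬ IsCyclic B := Cfsg.Agent.Lead.BG9.not_isCyclic_of_sq_le hBe hB2
  have hcent : ∀ b ∈ B, b ≠ 1 → centralizer ({b} : Set G) ≤ M := by
    intro b hb hb1
    have hbA : b ∈ A := hBA hb
    have hCb : centralizer ({b} : Set G) ≠ ⊤ :=
      Cfsg.Agent.Lead.TT.centralizer_singleton_ne_top h.hS h.hAtop hbA hb1
    obtain ⟨L, hL, hCbL⟩ := (eq_top_or_exists_le_coatom _).resolve_left hCb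
    have hCL : centralizer (A : Set G) ≤ L :=
      (centralizer_le (Set.singleton_subset_iff.mpr hbA)).trans hCbL
    by_cases hLM : L = M
    · rw [← hLM]; exact hCbL
    · exfalso
      apply hBnot
      have hUq : IsPGroup q (Cfsg.pCoreOf q M ⊓ L : Subgroup G) := hTq.to_le inf_le_left
      have hUrk : Cfsg.PRankLE q 2 ↥(Cfsg.pCoreOf q M ⊓ L : Subgroup G) := by
        by_contra hr
        obtain ⟨E, hEU, hEe, hEcard⟩ :=
          Cfsg.Agent.Lead.TT.exists_elementary_of_not_pRankLE' 2 (Cfsg.pCoreOf q M ⊓ L) hr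
        have hEcard' : q ^ 3 ≤ Nat.card E := hEcard
        have hlt : q ^ 2 < Nat.card E := by
          have : q ^ 2 < q ^ 3 := Nat.pow_lt_pow_right hq.out.one_lt (by norm_num)
          omega
        have hET : E ≤ Cfsg.pCoreOf q M := hEU.trans inf_le_left
        have hEF : E ≤ Cfsg.fittingOf M :=
          hET.trans (Cfsg.Agent.Lead.Bender.pCoreOf_le_fittingOf M q)
        have hF : ¬ Cfsg.PRankLE q 2 ↥(Cfsg.fittingOf M) :=
          Cfsg.Agent.Lead.BG9.not_pRankLE_of_elementary hEF hEe hlt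
        have hEp : IsPGroup q E := Cfsg.Agent.Helper14.isPGroup_of_isElementaryAbelian hEe
        have hEU' : Cfsg.InUniqueMaximal E :=
          Cfsg.Agent.Lead.BG9.uniq_of_fitting_rank_three h.hG hM hF hEp
            (fun x hx y hy => Cfsg.Agent.Helper7.IsElementaryAbelian.commute hEe hx hy)
            (Cfsg.Agent.Lead.BG9.not_pRankLE_of_elementary le_rfl hEe hlt)
        obtain ⟨M', _, huniq⟩ := hEU'
        apply hLM
        rw [huniq L ⟨hL, hEU.trans inf_le_right⟩,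
          huniq M ⟨hM, hEF.trans (Cfsg.Agent.Lead.BG8.fittingOf_le M)⟩]
      have hUn : M ⊓ L ≤ normalizer ((Cfsg.pCoreOf q M ⊓ L : Subgroup G) : Set G) := by
        intro x hx
        have hxT := hMT hx.1
        rw [mem_normalizer_iff] at hxT ⊢
        intro y
        rw [mem_inf, mem_inf, ← hxT y]
        constructor
        · rintro ⟨h1, h2⟩
          exact ⟨h1, L.mul_mem (L.mul_mem hx.2 h2) (L.inv_mem hx.2)⟩
        · rintro ⟨h1, h2⟩
          refine ⟨h1, ?_⟩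
          have h3 : y = x⁻¹ * (x * y * x⁻¹) * x := by group
          rw [h3]; exact L.mul_mem (L.mul_mem (L.inv_mem hx.2) h2) hx.2
      have hAU := h.le_centralizer_of_rank_two hM hCM hL hCL hqp hUq hUrk hUn
      intro x hx
      have hxU : x ∈ Cfsg.pCoreOf q M ⊓ L :=
        ⟨hx.1, hCbL (centralizer_le (Set.singleton_subset_iff.mpr hb) hx.2)⟩
      rw [mem_centralizer_iff]
      intro a' ha'
      exact (mem_centralizer_iff.mp (hAU (hA₁A ha')) x hxU).symm
  have hBU : Cfsg.InUniqueMaximal B :=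
    Cfsg.Agent.S1398.result h.hG M hM p B hBM hBe hBnc (Or.inl hcent)
  exact h.hU (Cfsg.Agent.Lead.BG9.InUniqueMaximal.mono hBU hBA h.hAtop)

/-- **B&G Lemma 9.5**: the standing hypotheses are contradictory -/
theorem false_of (h : C95 p P A) : False := by
  obtain ⟨A₁, hA₁A, hA₁e, hA₁3⟩ := h.exists_A₁
  obtain ⟨M, hM, hCM⟩ := (eq_top_or_exists_le_coatom _).resolve_left h.cent_ne_top
  have hAM : A ≤ M := h.hAcent.trans hCM
  have hPM : (P : Subgroup G) ≤ M := h.P_le hM hCM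
  haveI hMsolv : Group.IsSolvable M := h.hsolv hM.1
  have hoddM : Odd (Nat.card M) := Odd.of_dvd_nat h.hodd (card_subgroup_dvd_card M)
  have hPsyl : IsSylowIn p (P : Subgroup G) M :=
    ⟨hPM, P.isPGroup', fun Q _ hQ hle => P.is_maximal' hQ hle⟩
  have hAc' : IsMulCommutative (A.subgroupOf M) := by
    haveI := h.hAc
    infer_instance
  have hA1 : A.subgroupOf M ≤ Cfsg.pPrimePCore p ↥M :=
    Cfsg.Agent.S1457.result (G := ↥M) hoddM p hPsyl.toSylow (A.subgroupOf M)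
      (Subgroup.comap_mono h.hAP) hAc' (by
        intro x hx
        have hx' : (x : G) ∈ normalizer (A : Set G) := h.hPA hx
        rw [mem_normalizer_iff] at hx' ⊢
        intro y
        rw [mem_subgroupOf, mem_subgroupOf]
        exact hx' y)
  have hTinv : ∀ w ∈ {w : ↥M | ∃ q : ℕ, q.Prime ∧ q ≠ p ∧ w ∈ Cfsg.pCore q ↥M}, ∀ t : ↥M,
      t * w * t⁻¹ ∈ {w : ↥M | ∃ q : ℕ, q.Prime ∧ q ≠ p ∧ w ∈ Cfsg.pCore q ↥M} := by
    rintro w ⟨q, hq, hqp, hw⟩ t
    exact ⟨q, hq, hqp, (Cfsg.pCore_normal q ↥M).conj_mem w hw t⟩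
  haveI hCn : (centralizer {w : ↥M | ∃ q : ℕ, q.Prime ∧ q ≠ p ∧ w ∈ Cfsg.pCore q ↥M}).Normal :=
    Cfsg.Agent.S3785.centralizer_normal_of_conj_invariant _ hTinv
  have hCnorm : (Cfsg.pPrimePCore p ↥M ⊓
      centralizer {w : ↥M | ∃ q : ℕ, q.Prime ∧ q ≠ p ∧ w ∈ Cfsg.pCore q ↥M}).Normal :=
    inferInstance
  have hA₁C : A₁.subgroupOf M ≤ Cfsg.pPrimePCore p ↥M ⊓
      centralizer {w : ↥M | ∃ q : ℕ, q.Prime ∧ q ≠ p ∧ w ∈ Cfsg.pCore q ↥M} := by
    intro x hx
    rw [mem_subgroupOf] at hx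
    rw [Subgroup.mem_inf]
    refine ⟨hA1 (by rw [mem_subgroupOf]; exact hA₁A hx), ?_⟩
    rw [mem_centralizer_iff]
    rintro w ⟨q, hq, hqp, hw⟩
    haveI : Fact q.Prime := ⟨hq⟩
    have h1 := h.A₁_le_centralizer_pCoreOf hM hCM hA₁A hA₁e hA₁3 hqp hx
    have h2 : (w : G) ∈ Cfsg.pCoreOf q M := ⟨w, hw, rfl⟩
    exact Subtype.ext (mem_centralizer_iff.mp h1 (w : G) h2)
  have hCF : Cfsg.pPrimePCore p ↥M ⊓
      centralizer {w : ↥M | ∃ q : ℕ, q.Prime ∧ q ≠ p ∧ w ∈ Cfsg.pCore q ↥M} ≤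
      Cfsg.fittingSubgroup ↥M := by
    apply Cfsg.Agent.Helper19.FitCrit.le_fitting_of_coprime_centralizes hMsolv _ hCnorm
    intro r hr x hx hcop w hw
    by_cases hrp : r = p
    · rw [hrp] at hw hcop
      obtain ⟨k, hk⟩ := Cfsg.Agent.Helper7.exists_pow_mem_pPrimeCore_of_mem_pPrimePCore hx.1
      have hgcd : (p ^ k).gcd (orderOf x) = 1 := Nat.Coprime.pow_left k hcop.symm
      have hxz : x ∈ zpowers (x ^ p ^ k) := mem_zpowers_pow_iff.mpr hgcd
      have hxO : x ∈ Cfsg.pPrimeCore p ↥M := (zpowers_le.mpr hk) hxz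
      have hdis : Disjoint (Cfsg.pPrimeCore p ↥M) (Cfsg.pCore p ↥M) := by
        apply Subgroup.disjoint_of_coprime_natCard
        obtain ⟨k', hk'⟩ := IsPGroup.iff_card.mp (Cfsg.Agent.Helper14.pCore_isPGroup (G := ↥M) p)
        rw [hk']
        exact Nat.Coprime.pow_right k' (Cfsg.Agent.Helper19.pPrimeCore_coprime p)
      exact (Subgroup.commute_of_normal_of_disjoint _ _ inferInstance inferInstance hdis
        x w hxO hw).eq
    · have hwT : w ∈ {w : ↥M | ∃ q : ℕ, q.Prime ∧ q ≠ p ∧ w ∈ Cfsg.pCore q ↥M} :=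
        ⟨r, hr.out, hrp, hw⟩
      exact (mem_centralizer_iff.mp hx.2 w hwT).symm
  have hA₁F : A₁ ≤ Cfsg.fittingOf M := by
    intro x hx
    have hxM : x ∈ M := hAM (hA₁A hx)
    exact ⟨⟨x, hxM⟩, hCF (hA₁C (by rw [mem_subgroupOf]; exact hx)), rfl⟩
  have hlt : p ^ 2 < Nat.card A₁ := by
    have : p ^ 2 < p ^ 3 := Nat.pow_lt_pow_right hp.out.one_lt (by norm_num)
    omega
  exact Cfsg.Agent.Lead.BG9.not_pRankLE_of_elementary hA₁F hA₁e hlt (h.fit_rank hM)

end C95

/-- **B&G Lemma 9.5** -/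
theorem scn3Uniq (hG : Cfsg.IsMinSimpleOddOrder G) : Cfsg.Agent.Lead.BG9.SCN3Uniq G := by
  intro q hq S A hA hA3
  by_contra hU
  exact C95.false_of (p := q) ⟨hG, hA, hA3, hU⟩

end Cfsg.Agent.Lead.BG95
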