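import Mathlib

/-! A Frobenius group `NH` acting on an abelian group `V` with `(|V|,|N|) = 1` and `C_V(N) = 1`
has `C_V(H) ≠ 1` (no representation theory). -/

namespace Cfsg.Agent.Lead

open Subgroup
open scoped IsMulCommutative

variable {G : Type*} [Group G] [Finite G]

theorem frobenius_action_fixed_points (V F : Subgroup G) (hVab : IsMulCommutative V)
    (hV1 : V ≠ ⊥) (hFV : F ≤ normalizer (V : Set G))
    (H N : Subgroup F) [hNn : N.Normal]
    (hfpf : ∀ n ∈ N, ∀ h ∈ H, h ≠ 1 → n * h = h * n → n = 1)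
    (hcop : (Nat.card V).Coprime (Nat.card N))
    (hCN : ∀ v ∈ V, (∀ n ∈ N, (n : G) * v = v * n) → v = 1) :
    ∃ v ∈ V, v ≠ 1 ∧ ∀ h ∈ H, (h : G) * v = v * h := by
  classical
  by_contra hcon
  push Not at hcon
  have hCH : ∀ v ∈ V, (∀ h ∈ H, (h : G) * v = v * h) → v = 1 := by
    intro v hv hh
    by_contra h1
    obtain ⟨h, hhH, hne⟩ := hcon v hv h1
    exact hne (hh h hhH)
  have : Fintype N := Fintype.ofFinite N
  have : Fintype H := Fintype.ofFinite H
  -- conjugation action
  let cj : F → V →* V := fun f =>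
    { toFun := fun v => ⟨(f : G) * v * (f : G)⁻¹, (mem_normalizer_iff.mp (hFV f.2) _).mp v.2⟩
      map_one' := by apply Subtype.ext; simp
      map_mul' := by intro a b; apply Subtype.ext; simp }
  have cj_val : ∀ (f : F) (v : V), ((cj f v : V) : G) = (f : G) * v * (f : G)⁻¹ := fun f v => rfl
  have cj_mul : ∀ (f g : F) (v : V), cj (f * g) v = cj f (cj g v) := by
    intro f g v; apply Subtype.ext; simp [cj_val, mul_assoc]
  have cj_one : ∀ v : V, cj 1 v = v := by
    intro v; apply Subtype.ext; simp [cj_val]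
  have cj_fix : ∀ (f : F) (v : V), cj f v = v ↔ (f : G) * v = v * f := by
    intro f v
    rw [Subtype.ext_iff, cj_val, mul_inv_eq_iff_eq_mul]
  -- products over a subgroup are fixed by it
  have fixN : ∀ v : V, (∏ n : N, cj n v) = 1 := by
    intro v
    apply Subtype.ext
    apply hCN _ (Subtype.mem _)
    intro n hn
    rw [← cj_fix, map_prod]
    apply Fintype.prod_equiv (Equiv.mulLeft (⟨n, hn⟩ : N))
    intro m
    rw [← cj_mul]; rfl
  have fixH : ∀ v : V, (∏ h : H, cj h v) = 1 := by
    intro v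
    apply Subtype.ext
    apply hCH _ (Subtype.mem _)
    intro h hh
    rw [← cj_fix, map_prod]
    apply Fintype.prod_equiv (Equiv.mulLeft (⟨h, hh⟩ : H))
    intro m
    rw [← cj_mul]; rfl
  -- key computation
  have key : ∀ v : V, v ^ Nat.card N = 1 := by
    intro v
    have h1 : ∏ n : N, ∏ h : H, cj ((n : F) * h * (n : F)⁻¹) v = 1 := by
      apply Finset.prod_eq_one
      intro n _
      have : ∀ h : H, cj ((n : F) * h * (n : F)⁻¹) v = cj n (cj h (cj (n : F)⁻¹ v)) := by
        intro h; rw [← cj_mul, ← cj_mul]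
      simp_rw [this]
      rw [← map_prod, fixH, map_one]
    rw [Finset.prod_comm] at h1
    have h2 : ∀ h : H, h ≠ 1 → ∏ n : N, cj ((n : F) * h * (n : F)⁻¹) v = 1 := by
      intro h hh
      have hmem : ∀ n : N, (n : F) * h * (n : F)⁻¹ * (h : F)⁻¹ ∈ N := by
        intro n
        have : (n : F) * h * (n : F)⁻¹ * (h : F)⁻¹ = n * (h * (n : F)⁻¹ * (h : F)⁻¹) := by group
        rw [this]
        exact mul_mem n.2 (hNn.conj_mem _ (inv_mem n.2) h)
      have hinj : Function.Injective
          (fun n : N => (⟨(n : F) * h * (n : F)⁻¹ * (h : F)⁻¹, hmem n⟩ : N)) := by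
        intro n m hnm
        have e : (n : F) * h * (n : F)⁻¹ * (h : F)⁻¹ = (m : F) * h * (m : F)⁻¹ * (h : F)⁻¹ :=
          congrArg Subtype.val hnm
        have e2 : ((m : F)⁻¹ * n) * h = h * ((m : F)⁻¹ * n) := by
          have e3 : (n : F) * h * (n : F)⁻¹ = (m : F) * h * (m : F)⁻¹ := mul_right_cancel e
          calc ((m : F)⁻¹ * n) * h = (m : F)⁻¹ * ((n : F) * h * (n : F)⁻¹) * n := by group
            _ = (m : F)⁻¹ * ((m : F) * h * (m : F)⁻¹) * n := by rw [e3]
            _ = h * ((m : F)⁻¹ * n) := by group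
        have e4 := hfpf _ (mul_mem (inv_mem m.2) n.2) h h.2
          (fun hc => hh (Subtype.ext hc)) e2
        apply Subtype.ext
        exact (inv_mul_eq_one.mp e4).symm
      have hbij : Function.Bijective
          (fun n : N => (⟨(n : F) * h * (n : F)⁻¹ * (h : F)⁻¹, hmem n⟩ : N)) :=
        Finite.injective_iff_bijective.mp hinj
      have e5 : ∏ n : N, cj ((n : F) * h * (n : F)⁻¹) v = ∏ m : N, cj m (cj h v) := by
        apply Fintype.prod_bijective _ hbij
        intro n
        rw [← cj_mul]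
        congr 1
        simp
      rw [e5, fixN]
    rw [← Finset.mul_prod_erase _ _ (Finset.mem_univ (1 : H))] at h1
    rw [Finset.prod_eq_one (fun h hh => h2 h (Finset.ne_of_mem_erase hh)), mul_one] at h1
    have e6 : ∀ n : N, cj ((n : F) * ((1 : H) : F) * (n : F)⁻¹) v = v := by
      intro n
      have : (n : F) * ((1 : H) : F) * (n : F)⁻¹ = 1 := by simp
      rw [this, cj_one]
    simp_rw [e6] at h1
    rw [Finset.prod_const, Finset.card_univ, ← Nat.card_eq_fintype_card] at h1
    exact h1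
  -- conclude
  obtain ⟨v, hv1⟩ := (Subgroup.ne_bot_iff_exists_ne_one).mp hV1
  apply hv1
  have h1 : orderOf v ∣ Nat.card N := orderOf_dvd_of_pow_eq_one (key v)
  have h2 : orderOf v ∣ Nat.card V := orderOf_dvd_natCard v
  have h3 : orderOf v = 1 := Nat.eq_one_of_dvd_coprimes hcop h2 h1
  exact orderOf_eq_one_iff.mp h3

end Cfsg.Agent.Lead
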