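import Mathlib
import Cfsg.Agent.Lead.Compl

set_option autoImplicit false
open Pointwise

/-! Gaschütz's theorem (existence and conjugacy of complements of an abelian normal subgroup). -/

namespace Cfsg.Agent.Lead

open Subgroup
open scoped IsMulCommutative

variable {G : Type*} [Group G]

section kpart

variable {K H : Subgroup G}

/-- `K`-component of `g` with respect to a complement `H`: `g = kpart g * h`, `h ∈ H`. -/
noncomputable def kpart (hc : IsComplement' K H) (g : G) : K :=
  ⟨((hc.existsUnique g).exists.choose.1 : G), (hc.existsUnique g).exists.choose.1.2⟩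

theorem kpart_spec (hc : IsComplement' K H) (g : G) :
    ∃ h ∈ H, (kpart hc g : G) * h = g :=
  ⟨((hc.existsUnique g).exists.choose.2 : G), (hc.existsUnique g).exists.choose.2.2,
    (hc.existsUnique g).exists.choose_spec⟩

theorem kpart_eq_of_mul (hc : IsComplement' K H) {k h g : G} (hk : k ∈ K) (hh : h ∈ H)
    (e : k * h = g) : (kpart hc g : G) = k := by
  have h1 := (hc.existsUnique g).unique (y₁ := (hc.existsUnique g).exists.choose)
    (y₂ := (⟨⟨k, hk⟩, ⟨h, hh⟩⟩ : ↥(K : Set G) × ↥(H : Set G)))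
    (hc.existsUnique g).exists.choose_spec e
  have h2 := congrArg (fun x : ↥(K : Set G) × ↥(H : Set G) => (x.1 : G)) h1
  exact h2

theorem kpart_of_mem_left (hc : IsComplement' K H) {k : G} (hk : k ∈ K) :
    (kpart hc k : G) = k :=
  kpart_eq_of_mul hc hk H.one_mem (mul_one k)

theorem kpart_eq_one_iff (hc : IsComplement' K H) (g : G) :
    kpart hc g = 1 ↔ g ∈ H := by
  constructor
  · intro h
    obtain ⟨x, hx, e⟩ := kpart_spec hc g
    rw [h, OneMemClass.coe_one, one_mul] at e
    rw [← e]; exact hx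
  · intro h
    apply Subtype.ext
    rw [OneMemClass.coe_one]
    exact kpart_eq_of_mul hc K.one_mem h (one_mul g)

theorem kpart_mul [K.Normal] [IsMulCommutative K] (hc : IsComplement' K H) (g g' : G) :
    kpart hc (g * g') = kpart hc g * MulAut.conjNormal g (kpart hc g') := by
  obtain ⟨h, hh, e⟩ := kpart_spec hc g
  obtain ⟨h', hh', e'⟩ := kpart_spec hc g'
  set k := kpart hc g with hk
  set k' := kpart hc g' with hk'
  -- conjugation by `g` agrees with conjugation by `h` on `K`
  have hconj : (MulAut.conjNormal g k' : G) = h * k' * h⁻¹ := by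
    rw [MulAut.conjNormal_apply]
    have hc' : (k * MulAut.conjNormal h k' : K) = MulAut.conjNormal h k' * k := mul_comm _ _
    have hc'' := congrArg (fun x : K => (x : G)) hc'
    simp only [Subgroup.coe_mul, MulAut.conjNormal_apply] at hc''
    rw [← e]
    have : (k : G) * h * k' * ((k : G) * h)⁻¹ = ((k : G) * (h * k' * h⁻¹)) * (k : G)⁻¹ := by group
    rw [this, hc'']; group
  apply Subtype.ext
  rw [Subgroup.coe_mul, hconj]
  apply kpart_eq_of_mul hc (K.mul_mem k.2 ?_) (H.mul_mem hh hh')
  · rw [← e, ← e']; group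
  · have := (MulAut.conjNormal h k').2
    rwa [MulAut.conjNormal_apply] at this

end kpart


theorem out_smul_inv_mul_mem (U : Subgroup G) (g : G) (q : G ⧸ U) :
    (Quotient.out (g • q))⁻¹ * (g * Quotient.out q) ∈ U := by
  rw [← QuotientGroup.eq, QuotientGroup.out_eq']
  conv_lhs => rw [← QuotientGroup.out_eq' q]
  rfl

/-- **Gaschütz's theorem**, conjugacy part. -/
theorem gaschutz_conj [Finite G] (K U : Subgroup G) [K.Normal] [IsMulCommutative K]
    (hKU : K ≤ U) (hcop : (Nat.card K).Coprime U.index)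
    (H₀ H₁ : Subgroup G) (h₀ : IsComplement' K H₀) (h₁ : IsComplement' K H₁)
    (hU : H₀ ⊓ U = H₁ ⊓ U) :
    ∃ g : G, MulAut.conj g • H₀ = H₁ := by
  classical
  let _ := Fintype.ofFinite (G ⧸ U)
  obtain ⟨δ, hδ⟩ : ∃ δ : G → K, ∀ g, δ g = (kpart h₀ g)⁻¹ * kpart h₁ g := ⟨_, fun g => rfl⟩
  have hδmul : ∀ g g', δ (g * g') = δ g * MulAut.conjNormal g (δ g') := by
    intro g g'
    simp only [hδ, kpart_mul, map_mul, map_inv, mul_inv]
    rw [mul_mul_mul_comm]
  have hδU : ∀ u ∈ U, δ u = 1 := by
    intro u hu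
    obtain ⟨h, hh, e⟩ := kpart_spec h₀ u
    have hhU : h ∈ U := by
      have : h = (kpart h₀ u : G)⁻¹ * u := by rw [eq_inv_mul_iff_mul_eq]; exact e
      rw [this]; exact U.mul_mem (U.inv_mem (hKU (kpart h₀ u).2)) hu
    have hh1 : h ∈ H₁ := by
      have : h ∈ H₀ ⊓ U := ⟨hh, hhU⟩
      rw [hU] at this; exact this.1
    have h2 : (kpart h₁ u : G) = kpart h₀ u := kpart_eq_of_mul h₁ (kpart h₀ u).2 hh1 e
    rw [hδ, Subtype.ext h2]; exact inv_mul_cancel _
  have hδcoset : ∀ g, ∀ u ∈ U, δ (g * u) = δ g := by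
    intro g u hu
    rw [hδmul, hδU u hu, map_one, mul_one]
  set c : K := ∏ q : G ⧸ U, δ (Quotient.out q) with hc
  have hkey : ∀ g : G, c = δ g ^ U.index * MulAut.conjNormal g c := by
    intro g
    have h1 : ∀ q : G ⧸ U, δ (Quotient.out (g • q)) = δ (g * Quotient.out q) := by
      intro q
      have hmem := out_smul_inv_mul_mem U g q
      have e : g * Quotient.out q = Quotient.out (g • q) *
          ((Quotient.out (g • q))⁻¹ * (g * Quotient.out q)) := by group
      rw [e, hδcoset _ _ hmem]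
    calc c = ∏ q : G ⧸ U, δ (Quotient.out (g • q)) :=
          (Fintype.prod_equiv (MulAction.toPerm g) _ _ (fun q => rfl)).symm
      _ = ∏ q : G ⧸ U, δ (g * Quotient.out q) := Finset.prod_congr rfl (fun q _ => h1 q)
      _ = ∏ q : G ⧸ U, (δ g * MulAut.conjNormal g (δ (Quotient.out q))) := by
          simp only [hδmul]
      _ = δ g ^ U.index * MulAut.conjNormal g c := by
          rw [Finset.prod_mul_distrib, Finset.prod_const, Finset.card_univ,
            ← Nat.card_eq_fintype_card, ← index_eq_card, hc, map_prod]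
  obtain ⟨d, hd⟩ := (powCoprime hcop).surjective c
  rw [powCoprime_apply] at hd
  have hδd : ∀ g, δ g = d * (MulAut.conjNormal g d)⁻¹ := by
    intro g
    apply (powCoprime hcop).injective
    change δ g ^ U.index = (d * (MulAut.conjNormal g d)⁻¹) ^ U.index
    rw [mul_pow, inv_pow, ← map_pow, hd, eq_mul_inv_iff_mul_eq]
    exact (hkey g).symm
  refine ⟨(d : G)⁻¹, ?_⟩
  have hle : MulAut.conj (d : G)⁻¹ • H₀ ≤ H₁ := by
    intro x hx
    rw [mem_conj_smul_iff, inv_inv] at hx
    rw [← kpart_eq_one_iff h₁]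
    have h2 : kpart h₁ x = kpart h₀ x * δ x := by rw [hδ, mul_inv_cancel_left]
    have hcd : (MulAut.conjNormal x d : K) * d = d * MulAut.conjNormal x d := mul_comm _ _
    have hcd' := congrArg (fun y : K => (y : G)) hcd
    simp only [Subgroup.coe_mul, MulAut.conjNormal_apply] at hcd'
    have h3 : kpart h₀ x = d⁻¹ * MulAut.conjNormal x d := by
      apply Subtype.ext
      apply kpart_eq_of_mul h₀ (d⁻¹ * MulAut.conjNormal x d : K).2 hx
      rw [Subgroup.coe_mul, MulAut.conjNormal_apply, InvMemClass.coe_inv]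
      have : (d : G)⁻¹ * (x * d * x⁻¹) * ((d : G) * x * (d : G)⁻¹) =
          (d : G)⁻¹ * ((x * d * x⁻¹) * d) * x * (d : G)⁻¹ := by group
      rw [this, hcd']; group
    rw [h2, h3, hδd x, mul_mul_mul_comm, inv_mul_cancel, mul_inv_cancel, one_mul]
  have hcard : Nat.card H₁ ≤ Nat.card (MulAut.conj (d : G)⁻¹ • H₀ : Subgroup G) := by
    rw [card_conj_smul, ← h₀.symm.index_eq_card, ← h₁.symm.index_eq_card]
  exact eq_of_le_of_card_ge hle hcard


/-- Conjugation by an element of the abelian normal subgroup `K` is trivial on `K`. -/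
theorem conjNormal_of_mem_self {K : Subgroup G} [K.Normal] [IsMulCommutative K] (k x : K) :
    MulAut.conjNormal (k : G) x = x := by
  apply Subtype.ext
  rw [MulAut.conjNormal_apply]
  have h1 : k * x = x * k := mul_comm _ _
  have h2 := congrArg (fun y : K => (y : G)) h1
  simp only [Subgroup.coe_mul] at h2
  rw [h2]; group

/-- The corestriction construction: a crossed homomorphism `κ : U → K` that is the identity on `K`
yields a complement of `K` in `G` when `[G : U]` is coprime to `|K|`. -/
theorem exists_complement_of_crossedHom [Finite G] (K U : Subgroup G) [K.Normal]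
    [IsMulCommutative K] (hKU : K ≤ U) (hcop : (Nat.card K).Coprime U.index)
    (κ : U → K) (hκmul : ∀ u u' : U, κ (u * u') = κ u * MulAut.conjNormal (u : G) (κ u'))
    (hκK : ∀ k : K, κ ⟨k, hKU k.2⟩ = k) :
    ∃ H : Subgroup G, IsComplement' K H := by
  classical
  let _ := Fintype.ofFinite (G ⧸ U)
  obtain ⟨uu, huudef⟩ : ∃ uu : G → G ⧸ U → U, ∀ g q,
      ((uu g q : U) : G) = (Quotient.out (g • q))⁻¹ * (g * Quotient.out q) :=
    ⟨fun g q => ⟨_, out_smul_inv_mul_mem U g q⟩, fun g q => rfl⟩
  obtain ⟨c, hc⟩ : ∃ c : G → K, ∀ g, c g =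
      ∏ q : G ⧸ U, MulAut.conjNormal (Quotient.out (g • q)) (κ (uu g q)) := ⟨_, fun g => rfl⟩
  have huu : ∀ g g' q, uu (g * g') q = uu g (g' • q) * uu g' q := by
    intro g g' q
    apply Subtype.ext
    rw [Subgroup.coe_mul, huudef, huudef, huudef, mul_smul]
    group
  have hcmul : ∀ g g', c (g * g') = c g * MulAut.conjNormal g (c g') := by
    intro g g'
    rw [hc, hc, hc, map_prod]
    have hre := Equiv.prod_comp (MulAction.toPerm g' : Equiv.Perm (G ⧸ U))
      (fun q : G ⧸ U => MulAut.conjNormal (Quotient.out (g • q)) (κ (uu g q)))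
    simp only [MulAction.toPerm_apply] at hre
    rw [← hre, ← Finset.prod_mul_distrib]
    apply Finset.prod_congr rfl
    intro q _
    rw [huu, hκmul, map_mul, mul_smul]
    congr 1
    rw [← MulAut.mul_apply, ← MulAut.mul_apply, ← map_mul, ← map_mul]
    congr 2
    rw [huudef]; group
  have hcK : ∀ k : K, c k = k ^ U.index := by
    intro k
    have hterm : ∀ q : G ⧸ U,
        MulAut.conjNormal (Quotient.out ((k : G) • q)) (κ (uu k q)) = k := by
      intro q
      have hkq : (k : G) • q = q := by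
        conv_lhs => rw [← QuotientGroup.out_eq' q]
        conv_rhs => rw [← QuotientGroup.out_eq' q]
        change ((↑((k : G) * Quotient.out q) : G ⧸ U)) = ↑(Quotient.out q)
        rw [eq_comm, QuotientGroup.eq]
        have e : (Quotient.out q)⁻¹ * ((k : G) * Quotient.out q) =
            (Quotient.out q)⁻¹ * k * ((Quotient.out q)⁻¹)⁻¹ := by group
        rw [e]
        exact hKU (Normal.conj_mem inferInstance _ k.2 _)
      obtain ⟨r, hr⟩ : ∃ r : G, r = Quotient.out q := ⟨_, rfl⟩
      have hmem : r⁻¹ * (k : G) * r ∈ K := by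
        have := Normal.conj_mem (inferInstance : K.Normal) _ k.2 r⁻¹
        rwa [inv_inv] at this
      have h1 : uu k q = ⟨r⁻¹ * (k : G) * r, hKU hmem⟩ := by
        apply Subtype.ext
        rw [huudef, hkq, ← hr]; group
      rw [h1, hκK ⟨r⁻¹ * (k : G) * r, hmem⟩, hkq, ← hr]
      apply Subtype.ext
      rw [MulAut.conjNormal_apply]
      change r * (r⁻¹ * (k : G) * r) * r⁻¹ = k
      group
    rw [hc, Finset.prod_congr rfl (fun q _ => hterm q), Finset.prod_const, Finset.card_univ,
      ← Nat.card_eq_fintype_card, ← index_eq_card]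
  have hc1 : c 1 = 1 := by
    have := hcmul 1 1
    rw [mul_one, map_one, MulAut.one_apply] at this
    exact (mul_eq_left.mp this.symm)
  let H : Subgroup G :=
    { carrier := {g | c g = 1}
      one_mem' := hc1
      mul_mem' := by
        intro a b ha hb
        rw [Set.mem_ofPred_eq] at ha hb ⊢
        rw [hcmul, ha, hb, map_one, mul_one]
      inv_mem' := by
        intro a ha
        rw [Set.mem_ofPred_eq] at ha ⊢
        have := hcmul a a⁻¹
        rw [mul_inv_cancel, hc1, ha, one_mul] at this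
        exact ((MulAut.conjNormal a).map_eq_one_iff).mp this.symm }
  refine ⟨H, ?_⟩
  apply isComplement'_of_disjoint_and_mul_eq_univ
  · rw [disjoint_iff, eq_bot_iff]
    rintro x ⟨hxK, hxH⟩
    have h1 : c x = 1 := hxH
    have h2 := hcK ⟨x, hxK⟩
    rw [h1] at h2
    have h3 : (⟨x, hxK⟩ : K) = 1 := by
      apply (powCoprime hcop).injective
      rw [powCoprime_apply, powCoprime_apply, one_pow, ← h2]
    rw [mem_bot]
    exact congrArg Subtype.val h3
  · ext g
    simp only [Set.mem_univ, iff_true]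
    obtain ⟨k, hk⟩ := (powCoprime hcop).surjective (c g)⁻¹
    rw [powCoprime_apply] at hk
    have h1 : c ((k : G) * g) = 1 := by
      rw [hcmul, hcK, conjNormal_of_mem_self, hk, inv_mul_cancel]
    refine ⟨(k : G)⁻¹, K.inv_mem k.2, (k : G) * g, h1, ?_⟩
    group


/-- **Gaschütz's theorem**, existence part. -/
theorem gaschutz_exists [Finite G] (K U : Subgroup G) [K.Normal] [IsMulCommutative K]
    (hKU : K ≤ U) (hcop : (Nat.card K).Coprime U.index)
    (A : Subgroup G) (hAK : A ⊓ K = ⊥) (hKA : K ⊔ A = U) :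
    ∃ H : Subgroup G, IsComplement' K H := by
  have hcU : IsComplement' (K.subgroupOf U) (A.subgroupOf U) :=
    isComplement'_subgroupOf_sup (by rw [inf_comm]; exact hAK) hKA
  obtain ⟨κ, hκ⟩ : ∃ κ : U → K, ∀ u,
      (κ u : G) = (((kpart hcU u : ↥(K.subgroupOf U)) : ↥U) : G) :=
    ⟨fun u => ⟨(((kpart hcU u : ↥(K.subgroupOf U)) : ↥U) : G), (kpart hcU u).2⟩, fun u => rfl⟩
  apply exists_complement_of_crossedHom K U hKU hcop κ
  · intro u u'
    apply Subtype.ext
    rw [Subgroup.coe_mul, MulAut.conjNormal_apply, hκ, hκ, hκ, kpart_mul hcU u u',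
      Subgroup.coe_mul, Subgroup.coe_mul, MulAut.conjNormal_apply]
    simp
  · intro k
    apply Subtype.ext
    rw [hκ]
    have hk : (⟨(k : G), hKU k.2⟩ : U) ∈ K.subgroupOf U := k.2
    rw [kpart_of_mem_left hcU hk]

end Cfsg.Agent.Lead
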