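import Mathlib
import Cfsg.Prelude.Def_OddOrderLocal
import Cfsg.Agent.Helper9.BG13c
import Cfsg.Agent.Helper16.BG12a

set_option autoImplicit false
set_option linter.unusedSectionVars false
set_option linter.unusedVariables false
set_option linter.style.haveILetI false

/-! # B&G Theorem 14.3 (= S1432) relative to Theorem 14.2 (S1430, S1431) and section 12:
frozen statements as hypotheses, and the classification of the primes of a `σ(M)'`-element
centralizing a non-identity element of `M_σ` into `κ(M)` and `τ₂(M)`. -/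

namespace Cfsg.Agent.Lead.BG143

open Subgroup Cfsg
open Cfsg.Agent.Helper14 (IsSylowIn cj map_cj_le_iff mem_map_cj isSylowIn_of_sylow)
open Cfsg.Agent.H9.BG12
open Cfsg.Agent.Helper4.BG10 (Uniq)
open Cfsg.Agent.Lead (IsPiNum)
open scoped Pointwise

universe u

/-- frozen statement S1430 (without the standing hypothesis) -/
def St1430 (G : Type u) [Group G] : Prop :=
  ∀ (M : Subgroup G), IsCoatom M → ∀ (K : Subgroup G), Cfsg.IsPiHallOf (Cfsg.kappa M) K M → K ≠ ⊥ →
    (∀ k ∈ K, k ≠ 1 → Cfsg.sigmaCore M ⊓ Subgroup.centralizer ({k} : Set G) = (Cfsg.sigmaCore M ⊓ Subgroup.centralizer (K : Set G))) ∧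
      (∃ U : Subgroup G, IsMulCommutative U ∧ Cfsg.IsPiHallOf {q | q.Prime ∧ q ∉ Cfsg.kappa M ∧ q ∉ Cfsg.sigma M} U M ∧
        K ≤ Subgroup.normalizer (U : Set G) ∧ ∀ k ∈ K, k ≠ 1 → U ⊓ Subgroup.centralizer ({k} : Set G) = ⊥) ∧
      ∀ X : Subgroup G, X ≤ K → (Nat.card X).Prime →
        M ⊓ Subgroup.normalizer (X : Set G) = K ⊔ (Cfsg.sigmaCore M ⊓ Subgroup.centralizer (K : Set G)) ∧ M ⊓ Subgroup.normalizer (K : Set G) = K ⊔ (Cfsg.sigmaCore M ⊓ Subgroup.centralizer (K : Set G)) ∧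
        ∀ Mstar : Subgroup G, IsCoatom Mstar → Subgroup.normalizer (X : Set G) ≤ Mstar → X ≤ Cfsg.sigmaCore Mstar

/-- frozen statement S1431 (without the standing hypothesis) -/
def St1431 (G : Type u) [Group G] : Prop :=
  ∀ (M : Subgroup G), IsCoatom M → ∀ (K : Subgroup G), Cfsg.IsPiHallOf (Cfsg.kappa M) K M → K ≠ ⊥ →
    (∀ g : G, g ∉ M → (Cfsg.sigmaCore M ⊓ Subgroup.centralizer (K : Set G)) ⊓ M.map (MulAut.conj g).toMonoidHom = ⊥) ∧
      (∀ g ∈ M, g ∉ K ⊔ (Cfsg.sigmaCore M ⊓ Subgroup.centralizer (K : Set G)) → K ⊓ K.map (MulAut.conj g).toMonoidHom = ⊥) ∧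
      (∀ (p : ℕ), p.Prime → p ∣ Nat.card ↥(Cfsg.sigmaCore M ⊓ Subgroup.centralizer (K : Set G)) → ∀ S : Sylow p ↥(Cfsg.sigmaCore M),
        Cfsg.InUniqueMaximal ((S : Subgroup ↥(Cfsg.sigmaCore M)).map (Cfsg.sigmaCore M).subtype) ∧
        (S : Subgroup ↥(Cfsg.sigmaCore M)).map (Cfsg.sigmaCore M).subtype ≤ M ∧
        ¬ (S : Subgroup ↥(Cfsg.sigmaCore M)).map (Cfsg.sigmaCore M).subtype ≤ (Cfsg.sigmaCore M ⊓ Subgroup.centralizer (K : Set G))) ∧
      ∀ Y : Subgroup G, (∀ p : ℕ, p.Prime → p ∣ Nat.card Y → p ∈ Cfsg.sigma M) → Y ⊓ (Cfsg.sigmaCore M ⊓ Subgroup.centralizer (K : Set G)) ≠ ⊥ → Y ≤ Cfsg.sigmaCore M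

variable {G : Type u} [Group G] [Finite G]

/-- the power of `a` of prime order `s`, for a prime `s` dividing the order of `a` -/
noncomputable def ppart (a : G) (s : ℕ) : G := a ^ (orderOf a / s)

theorem orderOf_ppart {a : G} {s : ℕ} (hs : s ∣ orderOf a) : orderOf (ppart a s) = s :=
  orderOf_pow_orderOf_div (orderOf_pos a).ne' hs

theorem ppart_ne_one {a : G} {s : ℕ} (hs : s.Prime) (hd : s ∣ orderOf a) : ppart a s ≠ 1 := by
  intro h
  have := orderOf_ppart hd
  rw [h, orderOf_one] at this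
  exact hs.one_lt.ne this

theorem ppart_mem {a : G} {H : Subgroup G} (ha : a ∈ H) (s : ℕ) : ppart a s ∈ H :=
  pow_mem ha _

theorem ppart_comm {a b : G} (h : a * b = b * a) (s : ℕ) : ppart a s * b = b * ppart a s :=
  ((Commute.pow_left (show Commute a b from h) _)).eq

theorem ppart_comm_ppart (a : G) (s t : ℕ) : ppart a s * ppart a t = ppart a t * ppart a s :=
  ((Commute.refl a).pow_pow _ _).eq

theorem card_zpowers_ppart {a : G} {s : ℕ} (hd : s ∣ orderOf a) :
    Nat.card (zpowers (ppart a s)) = s := by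
  rw [Nat.card_zpowers, orderOf_ppart hd]

/-- a prime of `κ(M)` has `p`-rank at most one in `M` -/
theorem pRankLE_one_of_mem_kappa {M : Subgroup G} {s : ℕ} (hs : s ∈ Cfsg.kappa M) :
    Cfsg.PRankLE s 1 M := by
  haveI : Fact s.Prime := ⟨hs.1⟩
  obtain ⟨P⟩ : Nonempty (Sylow s ↥M) := inferInstance
  have hc : IsCyclic (P : Subgroup ↥M) := (hs.2.2.2 P).1
  have h1 : IsSylowIn s ((P : Subgroup ↥M).map M.subtype) M := isSylowIn_of_sylow P
  have hc' : IsCyclic ↥((P : Subgroup ↥M).map M.subtype) := by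
    have e : ↥(P : Subgroup ↥M) ≃* ↥((P : Subgroup ↥M).map M.subtype) :=
      (P : Subgroup ↥M).equivMapOfInjective M.subtype (Subgroup.subtype_injective M)
    exact isCyclic_of_surjective e e.surjective
  exact pRankLE_one_of_cyclic_sylow h1 hc'

/-- a prime of `τ₂(M)` is not in `κ(M)` -/
theorem not_mem_kappa_of_mem_tau2 {M : Subgroup G} {s : ℕ} (hs : s ∈ Cfsg.tau2 M) :
    s ∉ Cfsg.kappa M := fun h => hs.2.2.2 (pRankLE_one_of_mem_kappa h)

/-- **classification**: a prime `s ∉ σ(M)` for which `M` contains an element of order `s`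
commuting with a non-identity element of `M_σ` lies in `κ(M)` or in `τ₂(M)`. -/
theorem mem_kappa_or_mem_tau2 (hG : Cfsg.IsMinSimpleOddOrder G) (hU : Uniq G) {M : Subgroup G}
    (hM : IsCoatom M) {s : ℕ} (hs : s.Prime) (hsσ : s ∉ Cfsg.sigma M) {y x : G} (hyM : y ∈ M)
    (hy : orderOf y = s) (hx : x ∈ Cfsg.sigmaCore M) (hx1 : x ≠ 1) (hyx : y * x = x * y) :
    s ∈ Cfsg.kappa M ∨ s ∈ Cfsg.tau2 M := by
  haveI : Fact s.Prime := ⟨hs⟩
  have hr2 : Cfsg.PRankLE s 2 M := Cfsg.Agent.Helper4.BG10.sigma'_pRankLE_two hG hU hM hsσ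
  by_cases hr1 : Cfsg.PRankLE s 1 M
  · left
    have hsM : s ∣ Nat.card M := hy ▸ Subgroup.orderOf_dvd_natCard M hyM
    have hsG : s ∣ Nat.card G := hsM.trans (Subgroup.card_subgroup_dvd_card M)
    have hs2 : s ≠ 2 := prime_ne_two_of_dvd hG hsG
    refine ⟨hs, hsM, hsσ, fun P => ⟨?_, ?_⟩⟩
    · have hPp : IsPGroup s (P : Subgroup ↥M) := P.isPGroup'
      have hPr : Cfsg.PRankLE s 1 ↥(P : Subgroup ↥M) :=
        Cfsg.Agent.Helper7.PRankLE.of_injective (P : Subgroup ↥M).subtype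
          (Subgroup.subtype_injective _) hr1
      exact Cfsg.Agent.Helper16.BG12.isCyclic_of_pRankLE_one hs2 hPp hPr
    · -- a Sylow subgroup containing `y`, conjugated onto `P`
      set y' : ↥M := ⟨y, hyM⟩ with hy'
      have hy'o : orderOf y' = s := by
        rw [← hy]; exact Subgroup.orderOf_mk y hyM
      have hZp : IsPGroup s (zpowers y') := by
        apply IsPGroup.of_card (n := 1)
        rw [Nat.card_zpowers, hy'o, pow_one]
      obtain ⟨P₀, hP₀⟩ := hZp.exists_le_sylow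
      obtain ⟨g, hg⟩ := MulAction.exists_smul_eq ↥M P₀ P
      have hy'P₀ : y' ∈ (P₀ : Subgroup ↥M) := hP₀ (mem_zpowers y')
      have hmem : g * y' * g⁻¹ ∈ (P : Subgroup ↥M) := by
        rw [← hg, Sylow.coe_subgroup_smul]
        have := Subgroup.smul_mem_pointwise_smul y' (MulAut.conj g) (P₀ : Subgroup ↥M) hy'P₀
        simpa [MulAut.smul_def] using this
      refine ⟨g * y' * g⁻¹, hmem, ?_, (g : G) * x * (g : G)⁻¹, ?_, ?_, ?_⟩
      · intro h
        have h1 : y' = 1 := by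
          have : g⁻¹ * (g * y' * g⁻¹) * g = 1 := by rw [h]; group
          have h2 : g⁻¹ * (g * y' * g⁻¹) * g = y' := by group
          rw [h2] at this; exact this
        rw [h1, orderOf_one] at hy'o
        exact hs.one_lt.ne hy'o
      · exact (mem_normalizer_iff.mp (le_normalizer_sigmaCore M g.2) x).mp hx
      · intro h
        apply hx1
        have : (g : G)⁻¹ * ((g : G) * x * (g : G)⁻¹) * (g : G) = 1 := by rw [h]; group
        have h2 : (g : G)⁻¹ * ((g : G) * x * (g : G)⁻¹) * (g : G) = x := by group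
        rw [h2] at this; exact this
      · simp only [Subgroup.coe_mul, Subgroup.coe_inv, hy']
        calc (g : G) * y * (g : G)⁻¹ * ((g : G) * x * (g : G)⁻¹)
            = (g : G) * (y * x) * (g : G)⁻¹ := by group
          _ = (g : G) * (x * y) * (g : G)⁻¹ := by rw [hyx]
          _ = (g : G) * x * (g : G)⁻¹ * ((g : G) * y * (g : G)⁻¹) := by group
  · right
    exact ⟨hs, hsσ, hr2, hr1⟩

end Cfsg.Agent.Lead.BG143
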