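import Mathlib
import Cfsg.Prelude.Def_OddOrderLocal
import Cfsg.Agent.Lead.BG143a

set_option autoImplicit false
set_option linter.unusedSectionVars false
set_option linter.unusedVariables false
set_option linter.style.haveILetI false

/-! # B&G Theorem 14.3 (= S1432) relative to Theorem 14.2 (S1430, S1431) and section 12 -/

namespace Cfsg.Agent.Lead.BG143

open Subgroup Cfsg
open Cfsg.Agent.Helper14 (IsSylowIn cj map_cj_le_iff mem_map_cj isSylowIn_of_sylow)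
open Cfsg.Agent.H9.BG12
open Cfsg.Agent.Helper4.BG10 (Uniq)
open Cfsg.Agent.Lead (IsPiNum)
open scoped Pointwise

universe u
variable {G : Type u} [Group G] [Finite G]

/-- a Hall `κ(M)`-subgroup of `M` containing a given element of prime order `s ∈ κ(M)` -/
theorem exists_kappa_hall_ge (hG : Cfsg.IsMinSimpleOddOrder G) {M : Subgroup G} (hM : IsCoatom M)
    {s : ℕ} (hs : s ∈ Cfsg.kappa M) {y : G} (hyM : y ∈ M) (hy : orderOf y = s) :
    ∃ K : Subgroup G, Cfsg.IsPiHallOf (Cfsg.kappa M) K M ∧ K ≠ ⊥ ∧ y ∈ K := by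
  have hsolv : Group.IsSolvable M := hG.2.2.2 M hM.1
  have hZM : zpowers y ≤ M := zpowers_le.mpr hyM
  have hZπ : IsPiNum (Cfsg.kappa M) (Nat.card (zpowers y)) := by
    intro r hr hrd
    rw [Nat.card_zpowers, hy] at hrd
    rw [(Nat.prime_dvd_prime_iff_eq hr hs.1).mp hrd]
    exact hs
  obtain ⟨K, hK, hZK⟩ := Cfsg.Agent.Lead.exists_isPiHallOf_ge hsolv hZM hZπ
  have hyK : y ∈ K := hZK (mem_zpowers y)
  refine ⟨K, hK, ?_, hyK⟩
  intro hbot
  rw [hbot, Subgroup.mem_bot] at hyK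
  rw [hyK, orderOf_one] at hy
  exact hs.1.one_lt.ne hy

/-- `K` normalizes `K* = M_σ ∩ C_G(K)` -/
theorem le_normalizer_kstar {M K : Subgroup G} (hKM : K ≤ M) :
    K ≤ normalizer ((Cfsg.sigmaCore M ⊓ centralizer (K : Set G) : Subgroup G) : Set G) := by
  refine le_trans ?_ (Cfsg.Agent.Helper7.normalizer_inf_normalizer_le_normalizer_inf _ _)
  refine le_inf (hKM.trans (le_normalizer_sigmaCore M)) ?_
  exact le_normalizer.trans (Cfsg.Agent.Lead.normalizer_le_normalizer_centralizer K)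

/-- the primes dividing `#(K K*)` lie in `κ(M) ∪ σ(M)` -/
theorem prime_dvd_card_sup {M K : Subgroup G} (hK : Cfsg.IsPiHallOf (Cfsg.kappa M) K M) {r : ℕ}
    (hr : r.Prime)
    (hd : r ∣ Nat.card ↥(K ⊔ (Cfsg.sigmaCore M ⊓ centralizer (K : Set G)))) :
    r ∈ Cfsg.kappa M ∨ r ∈ Cfsg.sigma M := by
  have h1 := Cfsg.Agent.Helper17.card_sup_mul_card_inf
    (Cfsg.sigmaCore M ⊓ centralizer (K : Set G)) K (le_normalizer_kstar hK.1)
  rw [sup_comm] at hd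
  have h2 : r ∣ Nat.card ↥(Cfsg.sigmaCore M ⊓ centralizer (K : Set G)) * Nat.card K :=
    hd.trans ⟨_, h1.symm⟩
  rcases (Nat.Prime.dvd_mul hr).mp h2 with h | h
  · right
    exact mem_sigma_of_dvd_card_sigmaCore hr (h.trans (Subgroup.card_dvd_of_le inf_le_left))
  · left
    exact hK.2.1 r hr h

/-- **no mixing**: the order of a `σ(M)'`-element cannot involve both a prime of `κ(M)` and a
prime of `τ₂(M)` (B&G 14.2(c): `N_M(X) = K K*` is a `κ(M) ∪ σ(M)`-group). -/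
theorem not_mixed (hG : Cfsg.IsMinSimpleOddOrder G) (h1430 : St1430 G) {M : Subgroup G}
    (hM : IsCoatom M) {a : G} (haM : a ∈ M) {s t : ℕ} (hs : s ∈ Cfsg.kappa M)
    (ht : t ∈ Cfsg.tau2 M) (hsd : s ∣ orderOf a) (htd : t ∣ orderOf a) : False := by
  have hyM : ppart a s ∈ M := ppart_mem haM s
  obtain ⟨K, hK, hK1, hyK⟩ := exists_kappa_hall_ge hG hM hs hyM (orderOf_ppart hsd)
  obtain ⟨-, -, h3⟩ := h1430 M hM K hK hK1
  have hXK : zpowers (ppart a s) ≤ K := zpowers_le.mpr hyK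
  have hXc : (Nat.card (zpowers (ppart a s))).Prime := by
    rw [card_zpowers_ppart hsd]; exact hs.1
  obtain ⟨hN, -, -⟩ := h3 _ hXK hXc
  have hz : ppart a t ∈ M ⊓ normalizer ((zpowers (ppart a s) : Subgroup G) : Set G) := by
    rw [Subgroup.mem_inf]
    refine ⟨ppart_mem haM t, ?_⟩
    apply centralizer_le_normalizer
    rw [Subgroup.mem_centralizer_iff]
    intro w hw
    obtain ⟨i, rfl⟩ := mem_zpowers_iff.mp hw
    exact ((Commute.zpow_left (show Commute (ppart a s) (ppart a t) from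
      ppart_comm_ppart a s t) i)).eq
  rw [hN] at hz
  have hdvd : t ∣ Nat.card ↥(K ⊔ (Cfsg.sigmaCore M ⊓ centralizer (K : Set G))) := by
    have := Subgroup.orderOf_dvd_natCard _ hz
    rwa [orderOf_ppart htd] at this
  rcases prime_dvd_card_sup hK ht.1 hdvd with h | h
  · exact not_mem_kappa_of_mem_tau2 ht h
  · exact ht.2.1 h

/-- **the `κ` case**: if some prime `s ∈ κ(M)` divides the order of `a ∈ C_M(x)`, `1 ≠ x ∈ M_σ`,
then `C_G(x) ≤ M` (B&G 14.2(b),(e)). -/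
theorem centralizer_le_of_kappa (hG : Cfsg.IsMinSimpleOddOrder G) (h1430 : St1430 G)
    (h1431 : St1431 G) {M : Subgroup G} (hM : IsCoatom M) {a x : G} (haM : a ∈ M)
    (hx : x ∈ Cfsg.sigmaCore M) (hx1 : x ≠ 1) (hax : a * x = x * a) {s : ℕ}
    (hs : s ∈ Cfsg.kappa M) (hsd : s ∣ orderOf a) :
    centralizer ({x} : Set G) ≤ M := by
  have hyM : ppart a s ∈ M := ppart_mem haM s
  obtain ⟨K, hK, hK1, hyK⟩ := exists_kappa_hall_ge hG hM hs hyM (orderOf_ppart hsd)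
  obtain ⟨h1, -, -⟩ := h1430 M hM K hK hK1
  obtain ⟨h2, -, -, -⟩ := h1431 M hM K hK hK1
  have hxK : x ∈ Cfsg.sigmaCore M ⊓ centralizer (K : Set G) := by
    rw [← h1 _ hyK (ppart_ne_one hs.1 hsd), Subgroup.mem_inf]
    refine ⟨hx, ?_⟩
    rw [Subgroup.mem_centralizer_singleton_iff]
    exact (ppart_comm hax s).symm
  intro g hg
  by_contra hgM
  have h3 := h2 g hgM
  have hxg : x ∈ M.map (MulAut.conj g).toMonoidHom := by
    refine ⟨x, sigmaCore_le M hx, ?_⟩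
    have : g * x = x * g := Subgroup.mem_centralizer_singleton_iff.mp hg
    simp only [MulEquiv.coe_toMonoidHom, MulAut.conj_apply]
    rw [this]; group
  have : x ∈ (⊥ : Subgroup G) := by
    rw [← h3, Subgroup.mem_inf]; exact ⟨hxK, hxg⟩
  exact hx1 (Subgroup.mem_bot.mp this)

/-- for `s ∈ τ₂(M)` and a complement `E` of `M_σ`, an elementary abelian subgroup of order `s ^ 2`
of `E` -/
theorem exists_elementary_sq_le_compl (hG : Cfsg.IsMinSimpleOddOrder G) (h1350 : St1350 G)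
    {M : Subgroup G} (hM : IsCoatom M) {E : Subgroup G}
    (hE : Cfsg.IsComplIn E (Cfsg.sigmaCore M) M) {s : ℕ} [Fact s.Prime] (hs : s ∈ Cfsg.tau2 M) :
    ∃ A : Subgroup G, A ≤ E ∧ Cfsg.IsElementaryAbelian s A ∧ Nat.card A = s ^ 2 := by
  have hsolv : Group.IsSolvable M := hG.2.2.2 M hM.1
  obtain ⟨A₀, hA₀M, hA₀e, hA₀c⟩ := Cfsg.Agent.Helper4.BG10.exists_elementary_sq hs.2.2.1 hs.2.2.2
  have hEH := isPiHallOf_compl h1350 hM hE
  have hA₀π : IsPiNum (Cfsg.sigma M)ᶜ (Nat.card A₀) :=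
    isPiNum_of_isPGroup (π := (Cfsg.sigma M)ᶜ) hs.2.1
      (Cfsg.Agent.Helper4.BG10.isPGroup_of_elementary hA₀e)
  obtain ⟨m, hm, hmA⟩ := exists_conj_le_of_hall hsolv hEH hA₀M hA₀π
  refine ⟨A₀.map (cj m), hmA, Cfsg.Agent.Helper26.isElementaryAbelian_map (cj m) hA₀e, ?_⟩
  rw [Subgroup.card_map_of_injective (Cfsg.Agent.Helper14.cj_injective m)]; exact hA₀c

/-- **the `τ₂` case, part 1**: all primes of `τ₂(M)` lie in `σ(L)` for a single maximal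
subgroup `L` (any `L ⊇ N_G(A)` for `A ∈ E_s^2(E)`). -/
theorem exists_coatom_tau2_subset_sigma (hG : Cfsg.IsMinSimpleOddOrder G) (hU : Uniq G)
    (h1350 : St1350 G) (h1417 : St1417 G) (h1418 : St1418 G) {M : Subgroup G} (hM : IsCoatom M)
    {s₀ : ℕ} (hs₀ : s₀ ∈ Cfsg.tau2 M) :
    ∃ L : Subgroup G, IsCoatom L ∧ ∀ s : ℕ, s ∈ Cfsg.tau2 M → s ∈ Cfsg.sigma L := by
  have hS : IsSimpleGroup G := hG.2.1
  haveI : Fact s₀.Prime := ⟨hs₀.1⟩
  obtain ⟨E, hE⟩ := exists_complIn_sigmaCore h1350 hM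
  obtain ⟨A, hAE, hAe, hAc⟩ := exists_elementary_sq_le_compl hG h1350 hM hE hs₀
  obtain ⟨⟨hEN, -⟩, -, -⟩ := h1418 M hM E hE s₀ hs₀ A ⟨hAE, hAe, hAc⟩
  have hA1 : A ≠ ⊥ := by
    intro hbot
    rw [hbot, Subgroup.card_bot] at hAc
    have : 1 < s₀ ^ 2 := Nat.one_lt_pow (by norm_num) hs₀.1.one_lt
    omega
  have hAt : A ≠ ⊤ := Cfsg.Agent.Helper4.BG10.elementary_ne_top hG hAe
  obtain ⟨L, hL, hNL⟩ := Cfsg.Agent.Helper21.BG10.exists_coatom_normalizer_le hS hA1 hAt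
  have hAL : A ≤ L := le_normalizer.trans hNL
  have hEL : E ≤ L := hEN.trans hNL
  have hAp : IsPGroup s₀ A := Cfsg.Agent.Helper4.BG10.isPGroup_of_elementary hAe
  -- `s₀ ∈ σ(L)`
  have hs₀L : s₀ ∈ Cfsg.sigma L := by
    by_contra hpL
    have hr2L := Cfsg.Agent.Helper4.BG10.sigma'_pRankLE_two hG hU hL hpL
    have hr1L : ¬ Cfsg.PRankLE s₀ 1 L := by
      apply Cfsg.Agent.Lead.BG9.not_pRankLE_of_elementary hAL hAe
      rw [hAc]
      exact Nat.pow_lt_pow_right hs₀.1.one_lt (by norm_num)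
    have hτL : s₀ ∈ Cfsg.tau2 L := ⟨hs₀.1, hpL, hr2L, hr1L⟩
    have hsolvL : Group.IsSolvable L := hG.2.2.2 L hL.1
    obtain ⟨F₀, hF₀⟩ := exists_complIn_sigmaCore h1350 hL
    have hF₀H := isPiHallOf_compl h1350 hL hF₀
    have hAπL : IsPiNum (Cfsg.sigma L)ᶜ (Nat.card A) :=
      isPiNum_of_isPGroup (π := (Cfsg.sigma L)ᶜ) hpL hAp
    obtain ⟨l, hl, hlA⟩ := exists_conj_le_of_hall hsolvL hF₀H hAL hAπL
    have hF₁ : Cfsg.IsComplIn (F₀.map (cj l⁻¹)) (Cfsg.sigmaCore L) L :=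
      isComplIn_map_cj hF₀ (le_normalizer_sigmaCore L) (inv_mem hl)
    have hAF₁ : A ≤ F₀.map (cj l⁻¹) := (map_cj_le_iff _ _ _).mp hlA
    obtain ⟨-, ⟨-, -, hnot⟩, -⟩ := h1418 L hL _ hF₁ s₀ hτL A ⟨hAF₁, hAe, hAc⟩
    exact hnot hNL
  have hLM : L ≠ M := fun h => hs₀.2.1 (h ▸ hs₀L)
  have hAσ : A ≤ Cfsg.sigmaCore L := le_sigmaCore_of_isPGroup h1350 hL hs₀L hAL hAp
  refine ⟨L, hL, ?_⟩
  intro s hs
  haveI : Fact s.Prime := ⟨hs.1⟩
  by_contra hsL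
  obtain ⟨B, hBE, hBe, hBc⟩ := exists_elementary_sq_le_compl hG h1350 hM hE hs
  have hBL : B ≤ L := hBE.trans hEL
  have hBM : B ≤ M := hBE.trans hE.1
  have hr2L := Cfsg.Agent.Helper4.BG10.sigma'_pRankLE_two hG hU hL hsL
  have hr1L : ¬ Cfsg.PRankLE s 1 L := by
    apply Cfsg.Agent.Lead.BG9.not_pRankLE_of_elementary hBL hBe
    rw [hBc]
    exact Nat.pow_lt_pow_right hs.1.one_lt (by norm_num)
  have hτL : s ∈ Cfsg.tau2 L := ⟨hs.1, hsL, hr2L, hr1L⟩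
  obtain ⟨-, -, -, -, hdisj, -⟩ := h1417 L hL s hτL B ⟨hBL, hBe, hBc⟩
  have h1 := hdisj M hM hLM.symm hBM
  apply hA1
  rw [eq_bot_iff, ← h1]
  exact le_inf hAσ (hAE.trans hE.1)

/-- **S1432** relative to S1403 (uniqueness), S1350, S1417, S1418, S1420, S1430, S1431. -/
theorem s1432_of (hG : Cfsg.IsMinSimpleOddOrder G) (hU : Uniq G) (h1350 : St1350 G)
    (h1417 : St1417 G) (h1418 : St1418 G) (h1420 : St1420 G) (h1430 : St1430 G)
    (h1431 : St1431 G)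
    (M : Subgroup G) (hM : IsCoatom M) (x : G) (hx : x ∈ Cfsg.sigmaCore M) (hx1 : x ≠ 1) (x' : G)
    (hx' : x' ∈ M ⊓ Subgroup.centralizer ({x} : Set G)) (hx'1 : x' ≠ 1)
    (hσ : ∀ p : ℕ, p.Prime → p ∣ orderOf x' → p ∉ Cfsg.sigma M) :
    ((∀ p : ℕ, p.Prime → p ∣ orderOf x' → p ∈ Cfsg.kappa M) ∧ Subgroup.centralizer ({x} : Set G) ≤ M) ∨
      ((∀ p : ℕ, p.Prime → p ∣ orderOf x' → p ∈ Cfsg.tau2 M) ∧
        (∃ L : Subgroup G, IsCoatom L ∧ ∀ p : ℕ, p.Prime → p ∣ orderOf x' → p ∈ Cfsg.sigma L) ∧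
        (Subgroup.centralizer ({x'} : Set G) ≤ M ∧ ∀ L : Subgroup G, IsCoatom L → Subgroup.centralizer ({x'} : Set G) ≤ L → L = M)) := by
  rw [Subgroup.mem_inf] at hx'
  obtain ⟨hx'M, hx'c⟩ := hx'
  have hcomm : x' * x = x * x' := Subgroup.mem_centralizer_singleton_iff.mp hx'c
  -- classification of the primes
  have hcls : ∀ s : ℕ, s.Prime → s ∣ orderOf x' → s ∈ Cfsg.kappa M ∨ s ∈ Cfsg.tau2 M := by
    intro s hs hsd
    exact mem_kappa_or_mem_tau2 hG hU hM hs (hσ s hs hsd) (ppart_mem hx'M s) (orderOf_ppart hsd)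
      hx hx1 (ppart_comm hcomm s)
  have hord : orderOf x' ≠ 1 := fun h => hx'1 (orderOf_eq_one_iff.mp h)
  obtain ⟨s₀, hs₀, hs₀d⟩ := Nat.exists_prime_and_dvd hord
  rcases hcls s₀ hs₀ hs₀d with hκ | hτ
  · left
    refine ⟨?_, centralizer_le_of_kappa hG h1430 h1431 hM hx'M hx hx1 hcomm hκ hs₀d⟩
    intro p hp hpd
    rcases hcls p hp hpd with h | h
    · exact h
    · exact (not_mixed hG h1430 hM hx'M hκ h hs₀d hpd).elim
  · right
    have hall : ∀ p : ℕ, p.Prime → p ∣ orderOf x' → p ∈ Cfsg.tau2 M := by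
      intro p hp hpd
      rcases hcls p hp hpd with h | h
      · exact (not_mixed hG h1430 hM hx'M h hτ hpd hs₀d).elim
      · exact h
    refine ⟨hall, ?_, ?_⟩
    · obtain ⟨L, hL, hLσ⟩ := exists_coatom_tau2_subset_sigma hG hU h1350 h1417 h1418 hM hτ
      exact ⟨L, hL, fun p hp hpd => hLσ p (hall p hp hpd)⟩
    · obtain ⟨E, hE⟩ := exists_complIn_sigmaCore h1350 hM
      exact (h1420 M hM E hE).2.2.2 x' hx'M hx'1 hall ⟨hx'M, x, hx, hx1, hcomm⟩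

end Cfsg.Agent.Lead.BG143
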