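import Mathlib
import Cfsg.Prelude.Def_CaseTheorems
import Cfsg.Agent.Lead.BG8a
import Cfsg.Agent.Helper7.Signalizer

set_option autoImplicit false
set_option linter.unusedSectionVars false
set_option linter.unusedVariables false
set_option linter.style.haveILetI false

/-! # Bender's lemma on invariant subgroups for maximal local subgroups -/

namespace Cfsg.Agent.Lead.BL

open Subgroup Cfsg
open Cfsg.Agent.Lead.Bender
open Cfsg.Agent.Lead.TT
open Cfsg.Agent.Helper1 (centerIn centerIn_ne_bot normalizer_le_normalizer_centerIn)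
open Cfsg.Agent.Lead.BG8 (fittingOf_le fittingOf_isNilpotent inf_centralizer_fittingOf_le)

universe u
variable {G : Type u} [Group G] [Finite G]

theorem normal_subgroupOf_subgroupOf {H A B : Subgroup G} (hBA : B ≤ normalizer (A : Set G)) :
    ((A.subgroupOf H).subgroupOf (B.subgroupOf H)).Normal := by
  refine ⟨fun y hy g => ?_⟩
  rw [mem_subgroupOf, mem_subgroupOf] at hy ⊢
  have hg : ((g : ↥H) : G) ∈ B := mem_subgroupOf.mp g.2
  have := (mem_normalizer_iff.mp (hBA hg) _).mp hy
  simpa using this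

theorem subgroupOf_mono {H A B : Subgroup G} (hAB : A ≤ B) : A.subgroupOf H ≤ B.subgroupOf H :=
  fun x hx => mem_subgroupOf.mpr (hAB (mem_subgroupOf.mp hx))

/-- a nilpotent subgroup at the bottom of a normal chain `N ⊴ S ⊴ X ⊴ H` lies in `F(H)` -/
theorem le_fittingOf_of_chain {H X S N : Subgroup G} (hXH : X ≤ H)
    (hHX : H ≤ normalizer (X : Set G)) (hSX : S ≤ X) (hXS : X ≤ normalizer (S : Set G))
    (hNS : N ≤ S) (hSN : S ≤ normalizer (N : Set G)) (hnil : Group.IsNilpotent N) :
    N ≤ fittingOf H := by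
  have hX' : (X.subgroupOf H).Normal := (normal_subgroupOf_iff_le_normalizer hXH).2 hHX
  have h1 : (X.subgroupOf H).IsSubnormal := hX'.isSubnormal
  have h2 : (S.subgroupOf H).IsSubnormal :=
    IsSubnormal.step _ _ (subgroupOf_mono hSX) h1 (normal_subgroupOf_subgroupOf hXS)
  have h3 : (N.subgroupOf H).IsSubnormal :=
    IsSubnormal.step _ _ (subgroupOf_mono hNS) h2 (normal_subgroupOf_subgroupOf hSN)
  have hNH : N ≤ H := hNS.trans (hSX.trans hXH)
  have hnil' : Group.IsNilpotent ↥(N.subgroupOf H) :=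
    (Group.isNilpotent_congr (subgroupOfEquivOfLe hNH)).2 hnil
  have h4 := Cfsg.Agent.Helper7.subnormal_nilpotent_le_fittingSubgroup h3 hnil'
  intro n hn
  exact ⟨⟨n, hNH hn⟩, h4 (mem_subgroupOf.mpr hn), rfl⟩

/-- a solvable normal subgroup of `C_H(F(H))` lies in `F(H)` -/
theorem le_fittingOf_of_solvable_normal {H S : Subgroup G} (hS : Group.IsSolvable S)
    (hSX : S ≤ H ⊓ centralizer (fittingOf H : Set G))
    (hXS : H ⊓ centralizer (fittingOf H : Set G) ≤ normalizer (S : Set G)) :
    S ≤ fittingOf H := by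
  have hHX : H ≤ normalizer ((H ⊓ centralizer (fittingOf H : Set G) : Subgroup G) : Set G) :=
    Cfsg.Agent.Lead.le_normalizer_inf' le_normalizer
      ((le_normalizer_fittingOf H).trans (normalizer_le_normalizer_centralizer _))
  have h1 : fittingOf S ≤ fittingOf H :=
    le_fittingOf_of_chain inf_le_left hHX hSX hXS (fittingOf_le S) (le_normalizer_fittingOf S)
      (fittingOf_isNilpotent S)
  have h2 : S ≤ centralizer (fittingOf S : Set G) :=
    (hSX.trans inf_le_right).trans (centralizer_le h1)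
  have h3 := inf_centralizer_fittingOf_le hS
  exact (le_inf le_rfl h2).trans (h3.trans h1)

/-- the hypotheses of Bender's lemma -/
structure Ctx (H M R : Subgroup G) : Prop where
  hH : Cfsg.IsLocalSubgroup H
  hHmax : ∀ L : Subgroup G, Cfsg.IsLocalSubgroup L → H ≤ L → L = H
  hF2 : 2 ≤ (Nat.card (fittingOf H)).primeFactors.card
  hM : M ≤ fittingOf H
  hCM : fittingOf H ⊓ centralizer (M : Set G) ≤ M
  hR : Group.IsSolvable R
  hMR : M ≤ normalizer (R : Set G)
  hXR : H ⊓ centralizer (fittingOf H : Set G) ≤ normalizer (R : Set G)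

variable {H M R : Subgroup G}

namespace Ctx

theorem normalizer_Z (h : Ctx H M R) {p : ℕ} [hp : Fact p.Prime]
    (hpF : p ∣ Nat.card (fittingOf H)) :
    normalizer (centerIn (pCoreOf p H) : Set G) = H := by
  have hne : centerIn (pCoreOf p H) ≠ ⊥ :=
    centerIn_ne_bot (Cfsg.Agent.Helper14.pCoreOf_isPGroup p H) (pCoreOf_ne_bot_of_dvd H hpF)
  have hpg : IsPGroup p (centerIn (pCoreOf p H)) :=
    (Cfsg.Agent.Helper14.pCoreOf_isPGroup p H).to_le inf_le_left
  have hle : H ≤ normalizer (centerIn (pCoreOf p H) : Set G) :=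
    (Cfsg.Agent.Helper14.le_normalizer_pCoreOf p H).trans (normalizer_le_normalizer_centerIn _)
  exact h.hHmax _ ⟨p, _, hp.out, hpg, hne, rfl⟩ hle

theorem Z_le_M (h : Ctx H M R) (p : ℕ) [Fact p.Prime] : centerIn (pCoreOf p H) ≤ M :=
  (centerIn_pCoreOf_le H p).trans ((inf_le_inf_left _ (centralizer_le h.hM)).trans h.hCM)

theorem M_le_H (h : Ctx H M R) : M ≤ H := h.hM.trans (fittingOf_le H)

theorem isSolvable_M (h : Ctx H M R) : Group.IsSolvable M := by
  haveI : Group.IsNilpotent (fittingOf H) := fittingOf_isNilpotent H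
  haveI : Group.IsSolvable (fittingOf H) := IsNilpotent.to_isSolvable
  exact Group.isSolvable_of_isSolvable_injective (Subgroup.inclusion_injective h.hM)

theorem exists_prime (h : Ctx H M R) : ∃ p, p ∈ (Nat.card (fittingOf H)).primeFactors := by
  apply Finset.card_pos.mp
  have := h.hF2
  omega

/-- a subgroup of `R` centralizing `M`, of order coprime to `|F(H)|`, is trivial -/
theorem eq_bot_of_centralizes (h : Ctx H M R) {D : Subgroup G} (hDR : D ≤ R)
    (hDM : D ≤ centralizer (M : Set G))
    (hcop : (Nat.card D).Coprime (Nat.card (fittingOf H))) : D = ⊥ := by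
  obtain ⟨p, hp⟩ := h.exists_prime
  haveI : Fact p.Prime := ⟨Nat.prime_of_mem_primeFactors hp⟩
  have hpF := Nat.dvd_of_mem_primeFactors hp
  have hDH : D ≤ H := by
    have h1 : D ≤ normalizer (centerIn (pCoreOf p H) : Set G) :=
      (hDM.trans (centralizer_le (h.Z_le_M p))).trans (centralizer_le_normalizer _)
    rwa [h.normalizer_Z hpF] at h1
  have hDF : D ≤ normalizer (fittingOf H : Set G) := hDH.trans (le_normalizer_fittingOf H)
  have hMD : M ≤ centralizer (D : Set G) := le_centralizer_iff.1 hDM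
  have hC : fittingOf H ⊓ centralizer (M : Set G) ≤ centralizer (D : Set G) := h.hCM.trans hMD
  have h1 := Cfsg.Agent.Helper7.nilpotent_PQ (fittingOf H) D M (fittingOf_isNilpotent H) hcop hDF
    h.hM hMD hC
  have hS1 : (H ⊓ centralizer (fittingOf H : Set G)) ⊓ R ≤ fittingOf H := by
    apply le_fittingOf_of_solvable_normal
    · haveI := h.hR
      exact Group.isSolvable_of_isSolvable_injective
        (Subgroup.inclusion_injective
          (inf_le_right : (H ⊓ centralizer (fittingOf H : Set G)) ⊓ R ≤ R))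
    · exact inf_le_left
    · exact Cfsg.Agent.Lead.le_normalizer_inf' le_normalizer h.hXR
  have hS : D ≤ fittingOf H := (le_inf (le_inf hDH h1) hDR).trans hS1
  have h3 : D ⊓ fittingOf H = ⊥ := (disjoint_of_coprime_natCard hcop).eq_bot
  rw [eq_bot_iff, ← h3]
  exact le_inf le_rfl hS

end Ctx

end Cfsg.Agent.Lead.BL
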