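import Mathlib

/-! `π`-closed groups (the `π`-elements form a subgroup) and normal Hall `π`-subgroups. -/

namespace Cfsg.Agent.Lead

open Subgroup

/-- `x` is a `π`-element. -/
def IsPiElt (π : Set ℕ) {G : Type*} [Group G] (x : G) : Prop :=
  ∀ p : ℕ, p.Prime → p ∣ orderOf x → p ∈ π

/-- `n` is a `π`-number. -/
def PiNum (π : Set ℕ) (n : ℕ) : Prop := ∀ p : ℕ, p.Prime → p ∣ n → p ∈ π

/-- `n` is a `π'`-number. -/
def PiPrimeNum (π : Set ℕ) (n : ℕ) : Prop := ∀ p : ℕ, p.Prime → p ∣ n → p ∉ π

/-- `G` has a normal Hall `π`-subgroup. -/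
def HasNormalHall (π : Set ℕ) (G : Type*) [Group G] : Prop :=
  ∃ K : Subgroup G, K.Normal ∧ PiNum π (Nat.card K) ∧ PiPrimeNum π K.index

/-- The `π`-elements of `G` form a subgroup. -/
def PiClosed (π : Set ℕ) (G : Type*) [Group G] : Prop :=
  ∃ K : Subgroup G, ∀ x : G, x ∈ K ↔ ∀ p : ℕ, p.Prime → p ∣ orderOf x → p ∈ π

/-- `G` is `π'`-homogeneous: `N(H)/C(H)` is a `π'`-group for every nontrivial `π'`-subgroup. -/
def PiHom (π : Set ℕ) (G : Type*) [Group G] : Prop :=
  ∀ H : Subgroup G, H ≠ ⊥ → (∀ p : ℕ, p.Prime → p ∣ Nat.card ↥H → p ∉ π) →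
    ∀ p : ℕ, p.Prime → p ∣ (Subgroup.centralizer (H : Set G)).relIndex
      (Subgroup.normalizer (H : Set G)) → p ∉ π

theorem PiNum.of_dvd {π : Set ℕ} {a b : ℕ} (h : PiNum π b) (hab : a ∣ b) : PiNum π a :=
  fun p hp hpa => h p hp (hpa.trans hab)

theorem PiPrimeNum.of_dvd {π : Set ℕ} {a b : ℕ} (h : PiPrimeNum π b) (hab : a ∣ b) :
    PiPrimeNum π a :=
  fun p hp hpa => h p hp (hpa.trans hab)

theorem PiNum.mul {π : Set ℕ} {a b : ℕ} (ha : PiNum π a) (hb : PiNum π b) : PiNum π (a * b) := by
  intro p hp hpab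
  rcases (Nat.Prime.dvd_mul hp).mp hpab with h | h
  · exact ha p hp h
  · exact hb p hp h

theorem PiPrimeNum.mul {π : Set ℕ} {a b : ℕ} (ha : PiPrimeNum π a) (hb : PiPrimeNum π b) :
    PiPrimeNum π (a * b) := by
  intro p hp hpab
  rcases (Nat.Prime.dvd_mul hp).mp hpab with h | h
  · exact ha p hp h
  · exact hb p hp h

theorem eq_one_of_piNum_of_piPrimeNum {π : Set ℕ} {n : ℕ} (h1 : PiNum π n) (h2 : PiPrimeNum π n) :
    n = 1 := by
  by_contra hne
  obtain ⟨p, hp, hpn⟩ := Nat.exists_prime_and_dvd hne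
  exact h2 p hp hpn (h1 p hp hpn)

theorem coprime_of_piNum_of_piPrimeNum {π : Set ℕ} {a b : ℕ} (h1 : PiNum π a)
    (h2 : PiPrimeNum π b) : a.Coprime b := by
  apply Nat.Coprime.symm
  apply Nat.coprime_of_dvd
  intro p hp hpb hpa
  exact h2 p hp hpb (h1 p hp hpa)

variable {G : Type*} [Group G] [Finite G]

omit [Finite G] in
/-- A normal Hall `π`-subgroup consists exactly of the `π`-elements. -/
theorem mem_iff_isPiElt_of_normalHall (π : Set ℕ) (K : Subgroup G) [K.Normal]
    (h1 : PiNum π (Nat.card K)) (h2 : PiPrimeNum π K.index) (x : G) :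
    x ∈ K ↔ ∀ p : ℕ, p.Prime → p ∣ orderOf x → p ∈ π := by
  constructor
  · intro hx p hp hpx
    have : orderOf x ∣ Nat.card K := by
      have := orderOf_dvd_natCard (⟨x, hx⟩ : K)
      rwa [Subgroup.orderOf_mk] at this
    exact h1 p hp (hpx.trans this)
  · intro hx
    have hx' : PiNum π (orderOf x) := hx
    rw [← QuotientGroup.eq_one_iff]
    have h3 : orderOf (x : G ⧸ K) ∣ orderOf x := orderOf_map_dvd (QuotientGroup.mk' K) x
    have h4 : orderOf (x : G ⧸ K) ∣ K.index := by
      rw [Subgroup.index_eq_card]; exact orderOf_dvd_natCard _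
    have h5 := eq_one_of_piNum_of_piPrimeNum (hx'.of_dvd h3) (h2.of_dvd h4)
    exact orderOf_eq_one_iff.mp h5

theorem PiClosed.of_hasNormalHall {π : Set ℕ} (h : HasNormalHall π G) : PiClosed π G := by
  obtain ⟨K, hKn, h1, h2⟩ := h
  exact ⟨K, mem_iff_isPiElt_of_normalHall π K h1 h2⟩

theorem HasNormalHall.of_piClosed {π : Set ℕ} (h : PiClosed π G) : HasNormalHall π G := by
  obtain ⟨K, hK⟩ := h
  refine ⟨K, ⟨?_⟩, ?_, ?_⟩
  · intro x hx g
    rw [hK] at hx ⊢
    intro p hp hpx
    apply hx p hp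
    have : orderOf (g * x * g⁻¹) = orderOf x := by
      have := orderOf_injective (MulAut.conj g).toMonoidHom (MulAut.conj g).injective x
      simpa [MulAut.conj_apply] using this
    rwa [this] at hpx
  · intro p hp hpK
    have := Fact.mk hp
    obtain ⟨x, hx⟩ := exists_prime_orderOf_dvd_card' p hpK
    have h3 : orderOf (x : G) = p := by rw [Subgroup.orderOf_coe]; exact hx
    exact (hK x).mp x.2 p hp (by rw [h3])
  · intro p hp hpK hpπ
    have := Fact.mk hp
    let P : Sylow p G := default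
    have hPK : (P : Subgroup G) ≤ K := by
      intro x hx
      rw [hK]
      intro q hq hqx
      obtain ⟨k, hk⟩ := (P.isPGroup'.to_le le_rfl) ⟨x, hx⟩
      have h3 : orderOf x ∣ p ^ k := by
        apply orderOf_dvd_of_pow_eq_one
        have := congrArg Subtype.val hk
        simpa using this
      have h4 := (Nat.prime_dvd_prime_iff_eq hq hp).mp (hq.dvd_of_dvd_pow (hqx.trans h3))
      rw [h4]; exact hpπ
    exact P.not_dvd_index (hpK.trans (Subgroup.index_dvd_of_le hPK))

omit [Finite G] in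
theorem PiClosed.of_mulEquiv {π : Set ℕ} {G' : Type*} [Group G'] (e : G ≃* G')
    (h : PiClosed π G) : PiClosed π G' := by
  obtain ⟨K, hK⟩ := h
  refine ⟨K.map e.toMonoidHom, fun x => ?_⟩
  have h1 : x ∈ K.map e.toMonoidHom ↔ e.symm x ∈ K := by
    constructor
    · rintro ⟨y, hy, rfl⟩
      simpa using hy
    · intro hx
      exact ⟨e.symm x, hx, by simp⟩
  rw [h1, hK, MulEquiv.orderOf_eq]

/-- Pull back a normal Hall `π`-subgroup through a normal `π`-subgroup. -/
theorem HasNormalHall.of_quotient {π : Set ℕ} (M : Subgroup G) [M.Normal]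
    (hM : PiNum π (Nat.card M)) (h : HasNormalHall π (G ⧸ M)) : HasNormalHall π G := by
  obtain ⟨K, hKn, h1, h2⟩ := h
  have hf : Function.Surjective (QuotientGroup.mk' M) := QuotientGroup.mk'_surjective M
  refine ⟨K.comap (QuotientGroup.mk' M), inferInstance, ?_, ?_⟩
  · have e1 : Nat.card (K.comap (QuotientGroup.mk' M)) * (K.comap (QuotientGroup.mk' M)).index =
        Nat.card G := Subgroup.card_mul_index _
    have e2 : Nat.card K * K.index = Nat.card (G ⧸ M) := Subgroup.card_mul_index _
    have e3 : Nat.card G = Nat.card (G ⧸ M) * Nat.card M :=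
      Subgroup.card_eq_card_quotient_mul_card_subgroup M
    rw [Subgroup.index_comap_of_surjective _ hf] at e1
    have e4 : Nat.card (K.comap (QuotientGroup.mk' M)) = Nat.card K * Nat.card M := by
      have h0 : K.index ≠ 0 := Subgroup.index_ne_zero_of_finite
      have : Nat.card (K.comap (QuotientGroup.mk' M)) * K.index =
          Nat.card K * Nat.card M * K.index := by
        rw [e1, e3, ← e2]; ring
      exact Nat.eq_of_mul_eq_mul_right (Nat.pos_of_ne_zero h0) this
    rw [e4]
    exact h1.mul hM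
  · rw [Subgroup.index_comap_of_surjective _ hf]
    exact h2

omit [Finite G] in
/-- `π'`-homogeneity passes to subgroups. -/
theorem PiHom.subgroup {π : Set ℕ} (h : PiHom π G) (L : Subgroup G) : PiHom π L := by
  intro H' hH' hcard p hp hpd
  set H : Subgroup G := H'.map L.subtype with hH
  have hHL : H ≤ L := map_subtype_le _
  have hHne : H ≠ ⊥ := by
    intro hb
    apply hH'
    rw [hH, Subgroup.map_eq_bot_iff_of_injective _ L.subtype_injective] at hb
    exact hb
  have hcardH : Nat.card H = Nat.card H' := card_map_of_injective L.subtype_injective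
  have hH'eq : H.subgroupOf L = H' := by
    rw [hH]
    exact comap_map_eq_self_of_injective L.subtype_injective H'
  have key := h H hHne (by rw [hcardH]; exact hcard) p hp
  apply key
  set C := centralizer (H : Set G) with hC
  set N := normalizer (H : Set G) with hN
  have hCN : C ≤ N := centralizer_le_normalizer _
  -- normalizer and centralizer in `L`
  have e1 : normalizer ((H' : Subgroup L) : Set L) = N.subgroupOf L := by
    rw [← hH'eq, ← subgroupOf_normalizer_eq hHL]
  have e2 : centralizer ((H' : Subgroup L) : Set L) = C.subgroupOf L := by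
    ext x
    rw [mem_subgroupOf, mem_centralizer_iff, mem_centralizer_iff]
    constructor
    · intro hx y hy
      obtain ⟨y', hy', rfl⟩ := hy
      have := hx y' hy'
      exact congrArg Subtype.val this
    · intro hx y hy
      apply Subtype.ext
      exact hx y ⟨y, hy, rfl⟩
  rw [e1, e2] at hpd
  have e3 : (C.subgroupOf L).relIndex (N.subgroupOf L) = C.relIndex (N ⊓ L) := by
    rw [← inf_subgroupOf_right N L, relIndex_subgroupOf (inf_le_right : N ⊓ L ≤ L)]
  rw [e3] at hpd
  -- `[N ∩ L : C ∩ L]` divides `[N : C]`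
  have e4 : C.relIndex (N ⊓ L) ∣ C.relIndex N := by
    have hn : (C.subgroupOf N).Normal := normal_subgroupOf_centralizer_normalizer _
    have := relIndex_dvd_index_of_normal (H := C.subgroupOf N) (K := (N ⊓ L).subgroupOf N)
    rw [relIndex_subgroupOf (inf_le_left : N ⊓ L ≤ N)] at this
    exact this
  exact hpd.trans e4

end Cfsg.Agent.Lead
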