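import Mathlib
import Cfsg.Agent.Lead.PiClosed
import Cfsg.Agent.Lead.PiHallNormal
import Cfsg.Agent.Lead.PiHall2

/-! `π'`-homogeneous groups: lifting a normal Hall `π`-subgroup through a normal `π'`-subgroup. -/

namespace Cfsg.Agent.Lead

open Subgroup

variable {G : Type*} [Group G] [Finite G]

theorem pow_card_eq_one_of_mem {H : Subgroup G} {x : G} (hx : x ∈ H) : x ^ Nat.card H = 1 := by
  have h3 : (⟨x, hx⟩ : H) ^ Nat.card H = 1 := pow_card_eq_one'
  have := congrArg Subtype.val h3
  rwa [Subgroup.coe_pow, Subgroup.coe_one] at this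

/-- If `G` is `π'`-homogeneous, `N` is a normal `π'`-subgroup and `G/N` has a normal Hall
`π`-subgroup, then so does `G`. -/
theorem HasNormalHall.of_quotient_piPrime {π : Set ℕ} (hhom : PiHom π G) (N : Subgroup G)
    [hNn : N.Normal] (hN : PiPrimeNum π (Nat.card N)) (h : HasNormalHall π (G ⧸ N)) :
    HasNormalHall π G := by
  obtain ⟨K, hKn, h1, h2⟩ := h
  have hf : Function.Surjective (QuotientGroup.mk' N) := QuotientGroup.mk'_surjective N
  set L : Subgroup G := K.comap (QuotientGroup.mk' N) with hL
  have hLn : L.Normal := inferInstance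
  have hNL : N ≤ L := by
    intro x hx
    rw [hL, mem_comap]
    have : (QuotientGroup.mk' N) x = 1 := (QuotientGroup.eq_one_iff x).mpr hx
    rw [this]; exact K.one_mem
  have hLidx : L.index = K.index := Subgroup.index_comap_of_surjective _ hf
  have hLcard : Nat.card L = Nat.card K * Nat.card N := by
    have e1 : Nat.card L * L.index = Nat.card G := Subgroup.card_mul_index _
    have e2 : Nat.card K * K.index = Nat.card (G ⧸ N) := Subgroup.card_mul_index _
    have e3 : Nat.card G = Nat.card (G ⧸ N) * Nat.card N :=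
      Subgroup.card_eq_card_quotient_mul_card_subgroup N
    rw [hLidx] at e1
    have h0 : K.index ≠ 0 := Subgroup.index_ne_zero_of_finite
    have : Nat.card L * K.index = Nat.card K * Nat.card N * K.index := by
      rw [e1, e3, ← e2]; ring
    exact Nat.eq_of_mul_eq_mul_right (Nat.pos_of_ne_zero h0) this
  by_cases hNbot : N = ⊥
  · refine ⟨L, hLn, ?_, ?_⟩
    · have hc : Nat.card N = 1 := Subgroup.card_eq_one.mpr hNbot
      rw [hLcard, hc, mul_one]; exact h1
    · rw [hLidx]; exact h2
  -- `G / C_G(N)` is a `π'`-group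
  set CN : Subgroup G := centralizer (N : Set G) with hCN
  have hnorm : normalizer (N : Set G) = ⊤ := normalizer_eq_top_iff.mpr hNn
  have hCNidx : PiPrimeNum π CN.index := by
    intro p hp hpd
    have := hhom N hNbot hN p hp
    rw [hnorm, relIndex_top_right] at this
    exact this hpd
  have hCNn : CN.Normal := by
    rw [← normalizer_eq_top_iff, eq_top_iff, ← hnorm]
    exact normalizer_le_normalizer_centralizer N
  set C : Subgroup G := CN ⊓ L with hC
  have hCn : C.Normal := inferInstance
  have hrelNL : N.relIndex L = Nat.card K := by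
    have := card_eq_relIndex_mul_card hNL
    rw [hLcard] at this
    exact (Nat.eq_of_mul_eq_mul_right Nat.card_pos this).symm
  -- `L = N C`
  have hLNC : L ≤ N ⊔ C := by
    rw [← relIndex_eq_one]
    apply eq_one_of_piNum_of_piPrimeNum (π := π)
    · have : (N ⊔ C).relIndex L ∣ N.relIndex L := relIndex_dvd_of_le_left L le_sup_left
      rw [hrelNL] at this
      exact h1.of_dvd this
    · have e1 : (N ⊔ C).relIndex L ∣ C.relIndex L := relIndex_dvd_of_le_left L le_sup_right
      have e2 : C.relIndex L = CN.relIndex L := by rw [hC, inf_relIndex_right]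
      have e3 : CN.relIndex L ∣ CN.index := relIndex_dvd_index_of_normal CN L
      rw [e2] at e1
      exact hCNidx.of_dvd (e1.trans e3)
  have hNCL : N ⊔ C = L := le_antisymm (sup_le hNL inf_le_right) hLNC
  set Z : Subgroup G := N ⊓ C with hZ
  have hZcard : PiPrimeNum π (Nat.card Z) := hN.of_dvd (card_dvd_of_le inf_le_left)
  have hrelZC : Z.relIndex C = Nat.card K := by
    rw [hZ, inf_relIndex_right, ← relIndex_sup_of_normal_right N C, hNCL, hrelNL]
  have hCcard : Nat.card C = Nat.card K * Nat.card Z := by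
    rw [card_eq_relIndex_mul_card (inf_le_right : Z ≤ C), hrelZC]
  have hcop : (Nat.card K).Coprime (Nat.card Z) := coprime_of_piNum_of_piPrimeNum h1 hZcard
  -- `Z` is central in `C`
  have hZcent : ∀ z ∈ Z, ∀ c ∈ C, z * c = c * z := by
    intro z hz c hc
    have hzN : z ∈ N := hz.1
    have hcCN : c ∈ CN := hc.1
    rw [hCN, mem_centralizer_iff] at hcCN
    exact hcCN z hzN
  -- Schur–Zassenhaus inside `C`
  have hZn : (Z.subgroupOf C).Normal := by
    rw [hZ, inf_subgroupOf_right]; infer_instance
  have hZCcard : Nat.card (Z.subgroupOf C) = Nat.card Z :=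
    Nat.card_congr (subgroupOfEquivOfLe (inf_le_right : Z ≤ C)).toEquiv
  have hcop' : (Nat.card (Z.subgroupOf C)).Coprime (Z.subgroupOf C).index := by
    have : (Z.subgroupOf C).index = Z.relIndex C := rfl
    rw [hZCcard, this, hrelZC]
    exact hcop.symm
  obtain ⟨X', hX'⟩ := exists_right_complement'_of_coprime hcop'
  set X : Subgroup G := X'.map C.subtype with hX
  have hXC : X ≤ C := map_subtype_le _
  have hXcard : Nat.card X = Nat.card K := by
    rw [hX, card_map_of_injective C.subtype_injective]
    have e1 := hX'.card_mul_card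
    rw [hZCcard, hCcard, mul_comm] at e1
    exact Nat.eq_of_mul_eq_mul_right Nat.card_pos e1
  -- factorization of elements of `C`
  have hfac : ∀ c ∈ C, ∃ z ∈ Z, ∃ x ∈ X, c = z * x := by
    intro c hc
    obtain ⟨⟨z', x'⟩, hzx⟩ := hX'.2 ⟨c, hc⟩
    refine ⟨z'.1.1, z'.2, x'.1.1, ⟨x'.1, x'.2, rfl⟩, ?_⟩
    have := congrArg Subtype.val hzx
    simpa using this.symm
  have hXn : X.Normal := by
    constructor
    intro x hx g
    have hy : g * x * g⁻¹ ∈ C := hCn.conj_mem x (hXC hx) g
    obtain ⟨z, hz, x', hx', e⟩ := hfac _ hy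
    have hord : (g * x * g⁻¹) ^ Nat.card X = 1 := by
      have h4 : x ^ Nat.card X = 1 := pow_card_eq_one_of_mem hx
      rw [conj_pow, h4]; group
    have hcomm : Commute z x' := hZcent z hz x' (hXC hx')
    rw [e, hcomm.mul_pow] at hord
    have h5 : x' ^ Nat.card X = 1 := pow_card_eq_one_of_mem hx'
    rw [h5, mul_one] at hord
    have h6 : z ^ Nat.card Z = 1 := pow_card_eq_one_of_mem hz
    have h7 : orderOf z ∣ Nat.card X := orderOf_dvd_of_pow_eq_one hord
    have h8 : orderOf z ∣ Nat.card Z := orderOf_dvd_of_pow_eq_one h6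
    rw [hXcard] at h7
    have h9 : orderOf z = 1 := Nat.eq_one_of_dvd_coprimes hcop h7 h8
    rw [orderOf_eq_one_iff] at h9
    rw [e, h9, one_mul]
    exact hx'
  refine ⟨X, hXn, ?_, ?_⟩
  · rw [hXcard]; exact h1
  · have e1 : Nat.card X * X.index = Nat.card G := Subgroup.card_mul_index _
    have e2 : Nat.card L * L.index = Nat.card G := Subgroup.card_mul_index _
    rw [hXcard] at e1
    rw [hLcard, hLidx] at e2
    have e3 : X.index = Nat.card N * K.index := by
      have : Nat.card K * X.index = Nat.card K * (Nat.card N * K.index) := by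
        rw [e1, ← e2]; ring
      exact Nat.eq_of_mul_eq_mul_left Nat.card_pos this
    rw [e3]
    exact hN.mul h2

end Cfsg.Agent.Lead
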