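import Mathlib
import Cfsg.Prelude.Def_HallClasses
import Cfsg.Agent.Lead.Coprime3

/-! Pronormality of `H` in `G = HV`, `V` abelian normal:
`H` pronormal iff `U = N_U(H)[H,U]` for every `H`-invariant `U ≤ V`. -/

namespace Cfsg.Agent.Lead

open Subgroup
open scoped commutatorElement

variable {G : Type*} [Group G]

theorem mem_map_conj_iff {H : Subgroup G} {g y : G} :
    y ∈ H.map (MulAut.conj g).toMonoidHom ↔ g⁻¹ * y * g ∈ H := by
  constructor
  · rintro ⟨h, hh, rfl⟩
    have : g⁻¹ * ((MulAut.conj g).toMonoidHom h) * g = h := by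
      simp [MulAut.conj_apply, mul_assoc]
    rw [this]; exact hh
  · intro h
    exact ⟨g⁻¹ * y * g, h, by simp [MulAut.conj_apply, mul_assoc]⟩

theorem map_conj_mul_of_mem {H : Subgroup G} {g h : G} (hh : h ∈ H) :
    H.map (MulAut.conj (g * h)).toMonoidHom = H.map (MulAut.conj g).toMonoidHom := by
  ext y
  rw [mem_map_conj_iff, mem_map_conj_iff]
  have : (g * h)⁻¹ * y * (g * h) = h⁻¹ * (g⁻¹ * y * g) * h := by group
  rw [this]
  constructor
  · intro h1
    have := H.mul_mem (H.mul_mem hh h1) (H.inv_mem hh)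
    simpa [mul_assoc] using this
  · intro h1
    exact H.mul_mem (H.mul_mem (H.inv_mem hh) h1) hh

theorem pronormal_iff_of_abelian_normal (V : Subgroup G) [V.Normal] (hV : IsMulCommutative ↥V)
    (H : Subgroup G) (hHV : H ⊔ V = ⊤) :
    Cfsg.IsPronormal H ↔
      ∀ U : Subgroup G, U ≤ V → (∀ h ∈ H, U.map (MulAut.conj h).toMonoidHom = U) →
        U = (U ⊓ Subgroup.normalizer (H : Set G)) ⊔ ⁅H, U⁆ := by
  have hVc : ∀ a ∈ V, ∀ b ∈ V, a * b = b * a := by
    intro a ha b hb
    have := mul_comm' (⟨a, ha⟩ : V) ⟨b, hb⟩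
    exact congrArg Subtype.val this
  constructor
  · -- forward
    intro hpro U hUV hUH
    have hUinv : ∀ h ∈ H, ∀ u ∈ U, h * u * h⁻¹ ∈ U := by
      intro h hh u hu
      have : h * u * h⁻¹ ∈ U.map (MulAut.conj h).toMonoidHom := ⟨u, hu, by simp [MulAut.conj_apply]⟩
      rw [hUH h hh] at this
      exact this
    have hWU : ⁅H, U⁆ ≤ U := by
      rw [commutator_le]
      intro h hh u hu
      rw [commutatorElement_def]
      exact U.mul_mem (hUinv h hh u hu) (U.inv_mem hu)
    apply le_antisymm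
    · intro u hu
      obtain ⟨x, hx, hconj⟩ := hpro u
      have hle : H ⊔ H.map (MulAut.conj u).toMonoidHom ≤ ⁅H, U⁆ ⊔ H := by
        apply sup_le le_sup_right
        rintro y ⟨h, hh, rfl⟩
        have e : (MulAut.conj u).toMonoidHom h = ⁅u, h⁆ * h := by
          simp [MulAut.conj_apply, commutatorElement_def]
        rw [e]
        refine mul_mem (mem_sup_left ?_) (mem_sup_right hh)
        rw [commutator_comm]
        exact commutator_mem_commutator hu hh
      have hx' := hle hx
      rw [← SetLike.mem_coe, coe_mul_of_right_le_normalizer_left _ _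
        (le_normalizer_commutator_left H U), Set.mem_mul] at hx'
      obtain ⟨w, hw, h, hh, rfl⟩ := hx'
      have hw' : w ∈ ⁅H, U⁆ := hw
      have hh' : h ∈ H := hh
      rw [map_conj_mul_of_mem hh'] at hconj
      have hn : w⁻¹ * u ∈ normalizer (H : Set G) := by
        rw [mem_normalizer_iff]
        intro k
        have e1 := SetLike.ext_iff.mp hconj (u * k * u⁻¹)
        rw [mem_map_conj_iff, mem_map_conj_iff] at e1
        have e2 : u⁻¹ * (u * k * u⁻¹) * u = k := by group
        have e3 : w⁻¹ * (u * k * u⁻¹) * w = w⁻¹ * u * k * (w⁻¹ * u)⁻¹ := by group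
        rw [e2, e3] at e1
        exact e1
      have e : u = w * (w⁻¹ * u) := by group
      rw [e]
      exact mul_mem (mem_sup_right hw')
        (mem_sup_left (mem_inf.mpr ⟨U.mul_mem (U.inv_mem (hWU hw')) hu, hn⟩))
    · exact sup_le inf_le_left hWU
  · -- backward
    intro hcond g
    -- write `g = v * h`
    have hg : g ∈ V ⊔ H := by rw [sup_comm, hHV]; trivial
    rw [← SetLike.mem_coe, normal_mul, Set.mem_mul] at hg
    obtain ⟨v, hv, h, hh, rfl⟩ := hg
    have hv' : v ∈ V := hv
    have hh' : h ∈ H := hh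
    rw [map_conj_mul_of_mem hh']
    -- the `H`-invariant subgroup generated by `v`
    set S : Set G := {s | ∃ k ∈ H, s = k * v * k⁻¹} with hS
    set U : Subgroup G := closure S with hU
    have hSV : S ⊆ V := by
      rintro s ⟨k, hk, rfl⟩
      exact ‹V.Normal›.conj_mem v hv' k
    have hUV : U ≤ V := (closure_le V).mpr hSV
    have hvU : v ∈ U := subset_closure ⟨1, H.one_mem, by simp⟩
    have hUH : ∀ k ∈ H, U.map (MulAut.conj k).toMonoidHom = U := by
      intro k hk
      rw [hU, MonoidHom.map_closure]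
      congr 1
      ext s
      constructor
      · rintro ⟨t, ⟨k', hk', rfl⟩, rfl⟩
        exact ⟨k * k', H.mul_mem hk hk', by simp [MulAut.conj_apply, mul_assoc]⟩
      · rintro ⟨k', hk', rfl⟩
        refine ⟨k⁻¹ * k' * v * (k⁻¹ * k')⁻¹, ⟨k⁻¹ * k', H.mul_mem (H.inv_mem hk) hk', rfl⟩, ?_⟩
        simp [MulAut.conj_apply, mul_assoc]
    have hdec := hcond U hUV hUH
    set L : Subgroup G := H ⊔ H.map (MulAut.conj v).toMonoidHom with hL
    -- `[H, U] ≤ L`
    have hcomm_mul : ∀ k ∈ H, ∀ a ∈ V, ∀ b ∈ V, ⁅k, a * b⁆ = ⁅k, a⁆ * ⁅k, b⁆ := by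
      intro k hk a ha b hb
      have hka : k * a * k⁻¹ ∈ V := ‹V.Normal›.conj_mem a ha k
      have hkb : k * b * k⁻¹ ∈ V := ‹V.Normal›.conj_mem b hb k
      rw [commutatorElement_def, commutatorElement_def, commutatorElement_def]
      have e2 : (k * b * k⁻¹ * b⁻¹) * a⁻¹ = a⁻¹ * (k * b * k⁻¹ * b⁻¹) :=
        hVc _ (V.mul_mem hkb (V.inv_mem hb)) _ (V.inv_mem ha)
      calc k * (a * b) * k⁻¹ * (a * b)⁻¹
          = (k * a * k⁻¹) * ((k * b * k⁻¹ * b⁻¹) * a⁻¹) := by group
        _ = (k * a * k⁻¹) * (a⁻¹ * (k * b * k⁻¹ * b⁻¹)) := by rw [e2]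
        _ = k * a * k⁻¹ * a⁻¹ * (k * b * k⁻¹ * b⁻¹) := by group
    have hT : ∀ u ∈ U, ∀ k ∈ H, ⁅k, u⁆ ∈ L := by
      intro u hu
      induction hu using closure_induction with
      | mem s hs =>
        obtain ⟨k', hk', rfl⟩ := hs
        intro k hk
        have e : ⁅k, k' * v * k'⁻¹⁆ =
            k' * ((k'⁻¹ * k * k') * (v * (k'⁻¹ * k * k')⁻¹ * v⁻¹)) * k'⁻¹ := by
          rw [commutatorElement_def]; group
        rw [e]
        have hk'' : k'⁻¹ * k * k' ∈ H := H.mul_mem (H.mul_mem (H.inv_mem hk') hk) hk'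
        refine L.mul_mem (L.mul_mem (mem_sup_left hk') (L.mul_mem (mem_sup_left hk'') ?_))
          (L.inv_mem (mem_sup_left hk'))
        apply mem_sup_right
        rw [mem_map_conj_iff]
        have : v⁻¹ * (v * (k'⁻¹ * k * k')⁻¹ * v⁻¹) * v = (k'⁻¹ * k * k')⁻¹ := by group
        rw [this]
        exact H.inv_mem hk''
      | one =>
        intro k hk
        simp [commutatorElement_def]
      | mul a b ha hb iha ihb =>
        intro k hk
        have haV : a ∈ V := (closure_le V).mpr hSV ha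
        have hbV : b ∈ V := (closure_le V).mpr hSV hb
        rw [hcomm_mul k hk a haV b hbV]
        exact L.mul_mem (iha k hk) (ihb k hk)
      | inv a ha iha =>
        intro k hk
        have haV : a ∈ V := (closure_le V).mpr hSV ha
        have h1 := hcomm_mul k hk a haV a⁻¹ (V.inv_mem haV)
        rw [mul_inv_cancel] at h1
        have h2 : ⁅k, (1 : G)⁆ = 1 := by simp [commutatorElement_def]
        rw [h2] at h1
        have h3 : ⁅k, a⁻¹⁆ = ⁅k, a⁆⁻¹ := eq_inv_of_mul_eq_one_right h1.symm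
        rw [h3]
        exact L.inv_mem (iha k hk)
    have hWL : ⁅H, U⁆ ≤ L := by
      rw [commutator_le]
      intro k hk u hu
      exact hT u hu k hk
    -- decompose `v`
    have hWU : ⁅H, U⁆ ≤ U := by
      rw [commutator_le]
      intro k hk u hu
      rw [commutatorElement_def]
      have : k * u * k⁻¹ ∈ U.map (MulAut.conj k).toMonoidHom :=
        ⟨u, hu, by simp [MulAut.conj_apply]⟩
      rw [hUH k hk] at this
      exact U.mul_mem this (U.inv_mem hu)
    have hvdec : v ∈ (U ⊓ normalizer (H : Set G)) ⊔ ⁅H, U⁆ := by rw [← hdec]; exact hvU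
    have hnorm : U ⊓ normalizer (H : Set G) ≤ normalizer ((⁅H, U⁆ : Subgroup G) : Set G) := by
      intro n hn
      rw [mem_normalizer_iff]
      intro y
      have hnV : n ∈ V := hUV hn.1
      constructor
      · intro hy
        have hyV : y ∈ V := hUV (hWU hy)
        have : n * y * n⁻¹ = y := by
          rw [hVc n hnV y hyV]; group
        rw [this]; exact hy
      · intro hy
        have hyV : n * y * n⁻¹ ∈ V := hUV (hWU hy)
        have hyV' : y ∈ V := by
          have := V.mul_mem (V.mul_mem (V.inv_mem hnV) hyV) hnV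
          simpa [mul_assoc] using this
        have : n * y * n⁻¹ = y := by
          rw [hVc n hnV y hyV']; group
        rw [this] at hy; exact hy
    rw [← SetLike.mem_coe, coe_mul_of_left_le_normalizer_right _ _ hnorm, Set.mem_mul] at hvdec
    obtain ⟨n, hn, w, hw, rfl⟩ := hvdec
    have hn' : n ∈ U ⊓ normalizer (H : Set G) := hn
    have hw' : w ∈ ⁅H, U⁆ := hw
    refine ⟨w, hWL hw', ?_⟩
    have hnw : n * w = w * n := hVc n (hUV hn'.1) w (hUV (hWU hw'))
    ext y
    rw [mem_map_conj_iff, mem_map_conj_iff, hnw]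
    have e : (w * n)⁻¹ * y * (w * n) = n⁻¹ * (w⁻¹ * y * w) * n := by group
    rw [e]
    have hnN : n ∈ normalizer (H : Set G) := hn'.2
    rw [mem_normalizer_iff] at hnN
    constructor
    · intro h1
      have := (hnN _).mp h1
      simpa [mul_assoc] using this
    · intro h1
      rw [hnN]
      simpa [mul_assoc] using h1

end Cfsg.Agent.Lead
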