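import Mathlib
import Cfsg.Agent.Lead.PiClosed2
import Cfsg.Agent.Lead.CoprimeSylow
import Cfsg.Agent.Lead.Compl
import Cfsg.Agent.Lead.Pronormal

/-! `π'`-homogeneity passes to quotients by normal `π`-subgroups. -/

namespace Cfsg.Agent.Lead

open Subgroup

variable {G : Type*} [Group G] [Finite G]

/-- Coprime action: if `A` does not centralize `K`, some `A`-invariant Sylow subgroup of `K` is
not centralized by `A`. -/
theorem exists_invariant_sylow_not_centralized (A K : Subgroup G)
    (hAK : A ≤ normalizer (K : Set G)) (hcop : (Nat.card A).Coprime (Nat.card K))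
    (hsolv : Group.IsSolvable A ∨ Group.IsSolvable K)
    (hnc : ¬ A ≤ centralizer (K : Set G)) :
    ∃ r : ℕ, r.Prime ∧ ∃ R : Subgroup G, R ≤ K ∧ IsPGroup r R ∧ A ≤ normalizer (R : Set G) ∧
      ¬ A ≤ centralizer (R : Set G) := by
  by_contra hcon
  push Not at hcon
  apply hnc
  have hex : ∀ r : {r : ℕ // r.Prime}, ∃ Q : Sylow r.1 K,
      A ≤ normalizer (((Q : Subgroup K).map K.subtype : Subgroup G) : Set G) := by
    intro r
    have := Fact.mk r.2
    exact coprime_exists_invariant_sylow A K hAK hcop hsolv r.1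
  choose Q hQ using hex
  set J : Subgroup G := ⨆ r : {r : ℕ // r.Prime}, (Q r : Subgroup K).map K.subtype with hJ
  have hJK : J ≤ K := iSup_le fun r => map_subtype_le _
  have hJc : A ≤ centralizer (J : Set G) := by
    rw [le_centralizer_iff, hJ]
    apply iSup_le
    intro r
    rw [← le_centralizer_iff]
    exact hcon r.1 r.2 _ (map_subtype_le _) ((Q r).isPGroup'.map _) (hQ r)
  have hdvd : Nat.card K ∣ Nat.card J := by
    rw [← Nat.factorization_prime_le_iff_dvd Nat.card_pos.ne' Nat.card_pos.ne']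
    intro r hr
    have := Fact.mk hr
    rw [← hr.pow_dvd_iff_le_factorization Nat.card_pos.ne']
    have h1 : Nat.card (Q ⟨r, hr⟩ : Subgroup K) = r ^ (Nat.card K).factorization r :=
      (Q ⟨r, hr⟩).card_eq_multiplicity
    rw [← h1, ← card_map_of_injective K.subtype_injective]
    exact card_dvd_of_le (le_iSup (fun r : {r : ℕ // r.Prime} =>
      (Q r : Subgroup K).map K.subtype) ⟨r, hr⟩)
  have hJeq : J = K := by
    apply Subgroup.eq_of_le_of_card_ge hJK
    exact Nat.le_of_dvd Nat.card_pos hdvd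
  rw [← hJeq]
  exact hJc

/-- Sylow conjugacy inside a subgroup `L`, for a conjugate by an element normalizing `L`. -/
theorem exists_mem_mul_mem_normalizer_of_sylow (L : Subgroup G) (r : ℕ) [Fact r.Prime]
    (R0 : Sylow r L) (x : G) (hx : x ∈ normalizer (L : Set G)) :
    ∃ l ∈ L, l⁻¹ * x ∈ normalizer (((R0 : Subgroup L).map L.subtype : Subgroup G) : Set G) := by
  set R : Subgroup G := (R0 : Subgroup L).map L.subtype with hR
  have hRL : R ≤ L := map_subtype_le _
  set Rx : Subgroup G := R.map (MulAut.conj x).toMonoidHom with hRx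
  have hRxL : Rx ≤ L := by
    rintro y ⟨k, hk, rfl⟩
    exact (mem_normalizer_iff.mp hx k).mp (hRL hk)
  have hcardR : Nat.card R = r ^ (Nat.card L).factorization r := by
    rw [hR, card_map_of_injective L.subtype_injective]
    exact R0.card_eq_multiplicity
  have hcardRx : Nat.card (Rx.subgroupOf L) = r ^ (Nat.card L).factorization r := by
    rw [Nat.card_congr (subgroupOfEquivOfLe hRxL).toEquiv, hRx,
      card_map_of_injective (MulAut.conj x).injective, hcardR]
  let R2 : Sylow r L := Sylow.ofCard (Rx.subgroupOf L) hcardRx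
  obtain ⟨l, hl⟩ := MulAction.exists_smul_eq L R0 R2
  refine ⟨l, l.2, ?_⟩
  have key : ∀ y : L, (y : G) ∈ Rx ↔ ((l : G)⁻¹ * y * l) ∈ R := by
    intro y
    have h1 : y ∈ (R2 : Subgroup L) ↔ (y : G) ∈ Rx := Iff.rfl
    rw [← h1, ← hl, Sylow.coe_subgroup_smul, mem_conj_smul_iff]
    constructor
    · intro h2
      exact ⟨_, h2, rfl⟩
    · rintro ⟨z, hz, hzeq⟩
      have : z = l⁻¹ * y * l := Subtype.ext hzeq
      rw [← this]; exact hz
  rw [mem_normalizer_iff]
  intro k
  have e : (l : G)⁻¹ * x * k * ((l : G)⁻¹ * x)⁻¹ = (l : G)⁻¹ * (x * k * x⁻¹) * l := by group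
  rw [e]
  constructor
  · intro hk
    have hy : x * k * x⁻¹ ∈ L := (mem_normalizer_iff.mp hx k).mp (hRL hk)
    have h2 := (key ⟨x * k * x⁻¹, hy⟩).mp (by
      rw [hRx, mem_map_conj_iff]
      have : x⁻¹ * (x * k * x⁻¹) * x = k := by group
      rw [this]; exact hk)
    exact h2
  · intro hk
    have hy : x * k * x⁻¹ ∈ L := by
      have h3 := hRL hk
      have h4 := L.mul_mem (L.mul_mem l.2 h3) (L.inv_mem l.2)
      have : (l : G) * ((l : G)⁻¹ * (x * k * x⁻¹) * l) * (l : G)⁻¹ = x * k * x⁻¹ := by group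
      rwa [this] at h4
    have h2 := (key ⟨x * k * x⁻¹, hy⟩).mpr hk
    rw [hRx, mem_map_conj_iff] at h2
    have : x⁻¹ * (x * k * x⁻¹) * x = k := by group
    rwa [this] at h2

/-- The `r`-group case of `PiHom.quotient`. -/
theorem piHom_quotient_rgroup {π : Set ℕ} (hhom : PiHom π G) (M : Subgroup G) [hMn : M.Normal]
    (hM : PiNum π (Nat.card M)) (r : ℕ) [Fact r.Prime] (hr : r ∉ π)
    (Rb : Subgroup (G ⧸ M)) (hRb : IsPGroup r Rb) (p : ℕ) (hp : p.Prime) (hpπ : p ∈ π)
    (xb : G ⧸ M) (hxn : xb ∈ normalizer (Rb : Set (G ⧸ M))) (a : ℕ) (hxp : xb ^ p ^ a = 1) :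
    xb ∈ centralizer (Rb : Set (G ⧸ M)) := by
  have hrp : r.Prime := Fact.out
  by_cases hRbot : Rb = ⊥
  · rw [hRbot]
    simp [mem_centralizer_iff]
  set f := QuotientGroup.mk' M with hf
  have hfs : Function.Surjective f := QuotientGroup.mk'_surjective M
  have hker : f.ker = M := QuotientGroup.ker_mk' M
  set L : Subgroup G := Rb.comap f with hL
  have hML : M ≤ L := by
    rw [← hker]; exact ker_le_comap _ _
  have hLcard : Nat.card L = Nat.card Rb * Nat.card M := card_comap_mk' M Rb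
  obtain ⟨k, hk⟩ := hRb.exists_card_eq
  have hrM : ¬ r ∣ Nat.card M := fun h => hr (hM r hrp h)
  let R0 : Sylow r L := default
  set R : Subgroup G := (R0 : Subgroup L).map L.subtype with hR
  have hRL : R ≤ L := map_subtype_le _
  have hRr : IsPGroup r R := R0.isPGroup'.map _
  have hcardR : Nat.card R = Nat.card Rb := by
    rw [hR, card_map_of_injective L.subtype_injective, R0.card_eq_multiplicity, hLcard,
      Nat.factorization_mul Nat.card_pos.ne' Nat.card_pos.ne', Finsupp.add_apply,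
      Nat.factorization_eq_zero_of_not_dvd hrM, add_zero, hk, Nat.Prime.factorization_pow hrp]
    simp
  have hcopRM : (Nat.card R).Coprime (Nat.card M) := by
    rw [hcardR, hk]
    exact Nat.Coprime.pow_left _ ((Nat.Prime.coprime_iff_not_dvd hrp).mpr hrM)
  have hRM : M ⊓ R = ⊥ := (disjoint_of_coprime_natCard hcopRM.symm).eq_bot
  have hcardMR : Nat.card (M ⊔ R : Subgroup G) = Nat.card R * Nat.card M := by
    rw [card_eq_relIndex_mul_card (le_sup_left : M ≤ M ⊔ R), relIndex_sup_left,
      ← inf_relIndex_right, hRM, relIndex_bot_left]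
  have hMRL : M ⊔ R = L := by
    apply Subgroup.eq_of_le_of_card_ge (sup_le hML hRL)
    rw [hcardMR, hLcard, hcardR]
  -- the image of `R` is `Rb`
  have hRmap : R.map f = Rb := by
    have h1 : (R.map f).comap f = L := by
      rw [comap_map_eq, hker, sup_comm, hMRL]
    have h2 : (R.map f).comap f = Rb.comap f := h1
    exact comap_injective hfs h2
  have hRne : R ≠ ⊥ := by
    intro hb
    apply hRbot
    rw [← hRmap, hb, Subgroup.map_bot]
  have hRcard' : ∀ q : ℕ, q.Prime → q ∣ Nat.card R → q ∉ π := by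
    intro q hq hqd
    rw [hcardR, hk] at hqd
    have := (Nat.prime_dvd_prime_iff_eq hq hrp).mp (hq.dvd_of_dvd_pow hqd)
    rw [this]; exact hr
  have hpi := hhom R hRne hRcard'
  set N := normalizer (R : Set G) with hN
  set C := centralizer (R : Set G) with hC
  -- lift `xb`
  obtain ⟨x, rfl⟩ := hfs xb
  have hxL : x ∈ normalizer (L : Set G) := by
    rw [hL, ← comap_normalizer_eq_of_surjective _ hfs, mem_comap]
    exact hxn
  obtain ⟨l, hlL, hln⟩ := exists_mem_mul_mem_normalizer_of_sylow L r R0 x hxL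
  rw [← hMRL, ← SetLike.mem_coe, normal_mul, Set.mem_mul] at hlL
  obtain ⟨m, hm, ρ, hρ, rfl⟩ := hlL
  have hm' : m ∈ M := hm
  have hρ' : ρ ∈ R := hρ
  set n : G := m⁻¹ * x with hn
  have hnN : n ∈ N := by
    have e : n = ρ * ((m * ρ)⁻¹ * x) := by rw [hn]; group
    rw [e]
    exact N.mul_mem (le_normalizer hρ') hln
  have hfn : f n = f x := by
    rw [hn, map_mul, map_inv]
    have : f m = 1 := by
      rw [← MonoidHom.mem_ker, hker]; exact hm'
    rw [this, inv_one, one_mul]
  -- `n ^ q ∈ C`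
  set q := C.relIndex N with hq
  have hqπ : ∀ s : ℕ, s.Prime → s ∣ q → s ∉ π := hpi
  have hnq : n ^ q ∈ C := by
    have hCn : (C.subgroupOf N).Normal := normal_subgroupOf_centralizer_normalizer _
    have := Subgroup.pow_index_mem (C.subgroupOf N) (⟨n, hnN⟩ : N)
    exact this
  have hpq : ¬ p ∣ q := fun h => hqπ p hp h hpπ
  -- Bezout
  have hcent : ∀ c ∈ C, f c ∈ centralizer (Rb : Set (G ⧸ M)) := by
    intro c hc
    rw [mem_centralizer_iff]
    intro y hy
    rw [← hRmap] at hy
    obtain ⟨ρ', hρ'', rfl⟩ := hy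
    rw [← map_mul, ← map_mul]
    congr 1
    exact (mem_centralizer_iff.mp hc) ρ' hρ''
  by_cases ha : a = 0
  · rw [ha, pow_zero, pow_one] at hxp
    rw [hxp]; exact one_mem _
  have h1pa : 1 < p ^ a := Nat.one_lt_pow ha hp.one_lt
  have hcopq : Nat.Coprime q (p ^ a) :=
    Nat.Coprime.pow_right _ ((Nat.Prime.coprime_iff_not_dvd hp).mpr hpq).symm
  obtain ⟨t, -, ht⟩ := Nat.exists_mul_mod_eq_one_of_coprime hcopq h1pa
  have hfx : f x = f x ^ (q * t) := by
    have e1 : q * t = p ^ a * (q * t / p ^ a) + 1 := by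
      have := Nat.div_add_mod (q * t) (p ^ a)
      rw [ht] at this
      exact this.symm
    rw [e1, pow_add, pow_mul, hxp, one_pow, one_mul, pow_one]
  rw [hfx, ← hfn, ← map_pow, pow_mul]
  exact hcent _ (C.pow_mem hnq t)

/-- `π'`-homogeneity passes to quotients by normal `π`-subgroups. -/
theorem PiHom.quotient {π : Set ℕ} (hhom : PiHom π G) (M : Subgroup G) [hMn : M.Normal]
    (hM : PiNum π (Nat.card M)) : PiHom π (G ⧸ M) := by
  intro Hb hHbne hHbcard p hp hpd hpπ
  have := Fact.mk hp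
  set Nb := normalizer (Hb : Set (G ⧸ M)) with hNb
  set Cb := centralizer (Hb : Set (G ⧸ M)) with hCb
  let P0 : Sylow p Nb := default
  set P : Subgroup (G ⧸ M) := (P0 : Subgroup Nb).map Nb.subtype with hP
  have hPN : P ≤ Nb := map_subtype_le _
  have hPC : ¬ P ≤ Cb := by
    intro hle
    have h1 : Cb.relIndex Nb ∣ P.relIndex Nb := relIndex_dvd_of_le_left Nb hle
    have h2 : P.subgroupOf Nb = (P0 : Subgroup Nb) :=
      comap_map_eq_self_of_injective Nb.subtype_injective _
    have h3 : P.relIndex Nb = (P0 : Subgroup Nb).index := by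
      rw [← h2]; rfl
    rw [h3] at h1
    exact P0.not_dvd_index (hpd.trans h1)
  obtain ⟨xb, hxP, hxC⟩ := SetLike.not_le_iff_exists.mp hPC
  have hPp : IsPGroup p P := P0.isPGroup'.map _
  obtain ⟨a, ha⟩ := hPp ⟨xb, hxP⟩
  have hxpa : xb ^ p ^ a = 1 := by
    have := congrArg Subtype.val ha
    rwa [Subgroup.coe_pow, Subgroup.coe_one] at this
  have hxN : xb ∈ Nb := hPN hxP
  set A : Subgroup (G ⧸ M) := zpowers xb with hA
  have hAN : A ≤ normalizer (Hb : Set (G ⧸ M)) := (zpowers_le).mpr hxN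
  have hAP : A ≤ P := (zpowers_le).mpr hxP
  have hAp : IsPGroup p A := hPp.to_le hAP
  have hpH : ¬ p ∣ Nat.card Hb := fun h => hHbcard p hp h hpπ
  have hcop : (Nat.card A).Coprime (Nat.card Hb) := by
    obtain ⟨j, hj⟩ := hAp.exists_card_eq
    rw [hj]
    exact Nat.Coprime.pow_left _ ((Nat.Prime.coprime_iff_not_dvd hp).mpr hpH)
  have hsolv : Group.IsSolvable A := by
    have : IsMulCommutative A := by rw [hA]; infer_instance
    exact Group.isSolvable_of_comm (fun a b => mul_comm' a b)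
  have hnc : ¬ A ≤ centralizer (Hb : Set (G ⧸ M)) := fun h => hxC (h (mem_zpowers xb))
  obtain ⟨r, hr, Rb, hRH, hRr, hAR, hARc⟩ :=
    exists_invariant_sylow_not_centralized A Hb hAN hcop (Or.inl hsolv) hnc
  have hRne : Rb ≠ ⊥ := by
    intro hb
    apply hARc
    rw [hb]
    intro y _
    simp [mem_centralizer_iff]
  have := Fact.mk hr
  have hrπ : r ∉ π := by
    apply hHbcard r hr
    obtain ⟨k, hk⟩ := hRr.exists_card_eq
    have hk0 : k ≠ 0 := by
      intro h0
      rw [h0, pow_zero] at hk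
      exact hRne (Subgroup.card_eq_one.mp hk)
    have h1 : r ∣ Nat.card Rb := by rw [hk]; exact dvd_pow_self r hk0
    exact h1.trans (card_dvd_of_le hRH)
  have hx := piHom_quotient_rgroup hhom M hM r hrπ Rb hRr p hp hpπ xb
    (hAR (mem_zpowers xb)) a hxpa
  apply hARc
  rw [hA, zpowers_le]
  exact hx

end Cfsg.Agent.Lead
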