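import Mathlib
import Cfsg.Prelude.Def_OddOrderLocal
import Cfsg.Agent.Lead.BG143b
import Cfsg.Agent.Helper21.BG12f
import Cfsg.Agent.Helper1.RankOneQ
import Cfsg.Agent.Helper23.Cyclic
import Cfsg.Agent.Helper26.BG36L3a

set_option autoImplicit false
set_option linter.unusedSectionVars false
set_option linter.unusedVariables false
set_option linter.style.haveILetI false

/-! # B&G Theorem 14.2 (= S1430), assembly, part (a): hypotheses as Props and general lemmas.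

`NoStar G` is B&G 13.7 / 14.2(d): for `p ∈ κ(M)`, `X ≤ M` of order `p`, every maximal subgroup
containing `N_G(X)` has `p` in its `σ`.  `Tau3 G` is B&G 13.8 + 13.10 (the case
`κ(M) ∩ τ₃(M) ≠ ∅`). -/

namespace Cfsg.Agent.Lead.BG142

open Subgroup Cfsg
open Cfsg.Agent.Helper14 (IsSylowIn cj)
open Cfsg.Agent.H9.BG12 (St1350 St1420 NC1210 sigmaCore_le le_normalizer_sigmaCore
  mem_sigma_of_dvd_card_sigmaCore isPiHallOf_compl)
open Cfsg.Agent.Lead (IsPiNum)
open Cfsg.Agent.Lead.BG143 (pRankLE_one_of_mem_kappa)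

universe u

/-- B&G 13.7 / 14.2(d) as a hypothesis -/
def NoStar (G : Type u) [Group G] : Prop :=
  ∀ (M : Subgroup G), IsCoatom M → ∀ p : ℕ, p ∈ Cfsg.kappa M → ∀ X : Subgroup G, X ≤ M →
    Nat.card X = p → Cfsg.sigmaCore M ⊓ centralizer (X : Set G) ≠ ⊥ →
    ∀ H : Subgroup G, IsCoatom H → normalizer (X : Set G) ≤ H → p ∈ Cfsg.sigma H

/-- B&G 13.8 + 13.10 as a hypothesis: if some prime of `τ₃(M)` lies in `κ(M)` then `τ₂(M)` is
empty, every subgroup of prime order of a complement `E` of `M_σ` is normal in `E`, and all of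
them have the same centralizer in `M_σ`. -/
def Tau3 (G : Type u) [Group G] : Prop :=
  ∀ (M : Subgroup G), IsCoatom M → ∀ E : Subgroup G, Cfsg.IsComplIn E (Cfsg.sigmaCore M) M →
    ∀ p : ℕ, p ∈ Cfsg.tau3 M → p ∈ Cfsg.kappa M →
    (∀ q : ℕ, q.Prime → q ∉ Cfsg.sigma M → Cfsg.PRankLE q 1 M) ∧
    ∀ X : Subgroup G, X ≤ E → Nat.card X = p → ∀ R : Subgroup G, R ≤ E → (Nat.card R).Prime →
      E ≤ normalizer (R : Set G) ∧
      Cfsg.sigmaCore M ⊓ centralizer (R : Set G) = Cfsg.sigmaCore M ⊓ centralizer (X : Set G)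

/-- frozen statement S1415 without `hG` -/
def St1415 (G : Type u) [Group G] : Prop :=
  ∀ (M : Subgroup G), IsCoatom M → ∀ E : Subgroup G, Cfsg.IsComplIn E (Cfsg.sigmaCore M) M →
    Group.IsNilpotent ↥⁅E, E⁆ ∧
      (∀ E₁ : Subgroup G, Cfsg.IsPiHallOf (Cfsg.tau1 M) E₁ E → IsCyclic E₁) ∧
      ∀ E₃ : Subgroup G, Cfsg.IsPiHallOf (Cfsg.tau3 M) E₃ E → IsCyclic E₃ ∧ E₃ ≤ ⁅E, E⁆ ∧ E ≤ Subgroup.normalizer (E₃ : Set G)

/-- frozen statement S1427 without `hG` -/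
def St1427 (G : Type u) [Group G] : Prop :=
  ∀ (M : Subgroup G), IsCoatom M → ∀ E : Subgroup G, Cfsg.IsComplIn E (Cfsg.sigmaCore M) M →
    ∀ (p : ℕ) [Fact p.Prime] (S : Sylow p E), (S : Subgroup E) ≠ ⊥ → IsCyclic (S : Subgroup E) →
    ∀ x ∈ (S : Subgroup E).map E.subtype, x ≠ 1 →
        Cfsg.sigmaCore M ⊓ Subgroup.centralizer ({x} : Set G) = Cfsg.sigmaCore M ⊓ Subgroup.centralizer (((S : Subgroup E).map E.subtype : Subgroup G) : Set G)

/-- frozen statement S1428 without `hG` -/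
def St1428 (G : Type u) [Group G] : Prop :=
  ∀ (M : Subgroup G), IsCoatom M → ∀ E : Subgroup G, Cfsg.IsComplIn E (Cfsg.sigmaCore M) M →
    ∀ p : ℕ, p ∈ Cfsg.tau1 M → ∀ P : Subgroup G, P ≤ E → Nat.card P = p →
    ∀ R : Subgroup G, R ≤ E ⊓ Subgroup.centralizer (P : Set G) → (Nat.card R).Prime →
    Cfsg.sigmaCore M ⊓ Subgroup.centralizer (P : Set G) ≤ Cfsg.sigmaCore M ⊓ Subgroup.centralizer (R : Set G)

variable {G : Type u} [Group G] [Finite G]

/-- a `π`-subgroup `C` of `M` containing a Hall `π`-subgroup `K` of `M` equals `K` -/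
theorem eq_of_hall_le {π : Set ℕ} {K C M : Subgroup G} (hK : Cfsg.IsPiHallOf π K M)
    (hKC : K ≤ C) (hCM : C ≤ M) (hC : IsPiNum π (Nat.card C)) : C = K := by
  apply le_antisymm _ hKC
  rw [← Subgroup.relIndex_eq_one]
  by_contra hne
  obtain ⟨r, hr, hrd⟩ := Nat.exists_prime_and_dvd hne
  have h1 : K.relIndex C ∣ Nat.card C := Subgroup.relIndex_dvd_card K C
  have hrπ : r ∈ π := hC r hr (hrd.trans h1)
  have h2 : K.relIndex C * C.relIndex M = K.relIndex M := Subgroup.relIndex_mul_relIndex K C M hKC hCM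
  exact hK.2.2 r hr hrπ (h2 ▸ (hrd.trans (Dvd.intro _ rfl)))

/-- **Dedekind-type decomposition of a normalizer**: `E` a complement of the normal subgroup `N`
of `M`, `X ≤ E`: `N_M(X) = N_E(X) C_N(X)`. -/
theorem inf_normalizer_eq_sup {M N E X : Subgroup G} (hE : Cfsg.IsComplIn E N M)
    (hNM : M ≤ normalizer (N : Set G)) (hXE : X ≤ E) :
    M ⊓ normalizer (X : Set G) = (E ⊓ normalizer (X : Set G)) ⊔ (N ⊓ centralizer (X : Set G)) := by
  obtain ⟨hEM, hNleM, hdisj, hprod⟩ := hE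
  apply le_antisymm
  · intro n hn
    rw [Subgroup.mem_inf] at hn
    obtain ⟨e, he, m, hm, rfl⟩ := hprod n hn.1
    -- `m` centralizes `X`
    have hmC : m ∈ centralizer (X : Set G) := by
      rw [Subgroup.mem_centralizer_iff]
      intro x hx
      -- `m x m⁻¹ ∈ e⁻¹ X e ⊆ E`
      have h1 : (e * m) * x * (e * m)⁻¹ ∈ X := (mem_normalizer_iff.mp hn.2 x).mp hx
      have h2 : m * x * m⁻¹ ∈ E := by
        have : m * x * m⁻¹ = e⁻¹ * ((e * m) * x * (e * m)⁻¹) * e := by group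
        rw [this]
        exact mul_mem (mul_mem (inv_mem he) (hXE h1)) he
      have h3 : m * x * m⁻¹ * x⁻¹ ∈ E := mul_mem h2 (inv_mem (hXE hx))
      have h4 : m * x * m⁻¹ * x⁻¹ ∈ N := by
        have hxN : x ∈ normalizer (N : Set G) := hNM (hEM (hXE hx))
        have : x * m⁻¹ * x⁻¹ ∈ N := (mem_normalizer_iff.mp hxN m⁻¹).mp (inv_mem hm)
        have h5 : m * x * m⁻¹ * x⁻¹ = m * (x * m⁻¹ * x⁻¹) := by group
        rw [h5]; exact mul_mem hm this
      have h6 : m * x * m⁻¹ * x⁻¹ ∈ E ⊓ N := ⟨h3, h4⟩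
      rw [hdisj, Subgroup.mem_bot] at h6
      have : m * x = x * m := by
        have h7 : m * x = (m * x * m⁻¹ * x⁻¹) * (x * m) := by group
        rw [h7, h6, one_mul]
      exact this.symm
    have heN : e ∈ normalizer (X : Set G) := by
      have hmN : m ∈ normalizer (X : Set G) := centralizer_le_normalizer _ hmC
      have : e = (e * m) * m⁻¹ := by group
      rw [this]
      exact mul_mem hn.2 (inv_mem hmN)
    exact mul_mem (mem_sup_left ⟨he, heN⟩) (mem_sup_right ⟨hm, hmC⟩)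
  · apply sup_le
    · exact inf_le_inf_right _ hEM
    · exact inf_le_inf hNleM (centralizer_le_normalizer _)

/-- if `X` meets the derived group of `M` trivially then `N_M(X) = C_M(X)` -/
theorem inf_normalizer_le_centralizer {M X : Subgroup G} (hXM : X ≤ M)
    (hdisj : X ⊓ ⁅M, M⁆ = ⊥) : M ⊓ normalizer (X : Set G) ≤ centralizer (X : Set G) := by
  intro n hn
  rw [Subgroup.mem_inf] at hn
  rw [Subgroup.mem_centralizer_iff]
  intro x hx
  have h1 : n * x * n⁻¹ ∈ X := (mem_normalizer_iff.mp hn.2 x).mp hx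
  have h2 : n * x * n⁻¹ * x⁻¹ ∈ X := mul_mem h1 (inv_mem hx)
  have h3 : n * x * n⁻¹ * x⁻¹ ∈ ⁅M, M⁆ := Subgroup.commutator_mem_commutator hn.1 (hXM hx)
  have h4 : n * x * n⁻¹ * x⁻¹ ∈ X ⊓ ⁅M, M⁆ := ⟨h2, h3⟩
  rw [hdisj, Subgroup.mem_bot] at h4
  have h7 : n * x = (n * x * n⁻¹ * x⁻¹) * (x * n) := by group
  rw [h7, h4, one_mul]

/-- a subgroup of prime order `p` not dividing `#M'` meets `M'` trivially -/
theorem inf_commutator_eq_bot {M X : Subgroup G} {p : ℕ} (hp : p.Prime) (hX : Nat.card X = p)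
    (hpM : ¬ p ∣ Nat.card ↥⁅M, M⁆) : X ⊓ ⁅M, M⁆ = ⊥ := by
  have h1 : Nat.card ↥(X ⊓ ⁅M, M⁆) ∣ p := hX ▸ Subgroup.card_dvd_of_le inf_le_left
  have h2 : Nat.card ↥(X ⊓ ⁅M, M⁆) ∣ Nat.card ↥⁅M, M⁆ := Subgroup.card_dvd_of_le inf_le_right
  rcases (Nat.dvd_prime hp).mp h1 with h | h
  · exact Subgroup.card_eq_one.mp h
  · exact absurd (h ▸ h2) hpM

/-- a prime of `κ(M)` lies in `τ₁(M)` or in `τ₃(M)` -/
theorem mem_tau1_or_mem_tau3 {M : Subgroup G} {p : ℕ} (hp : p ∈ Cfsg.kappa M) :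
    p ∈ Cfsg.tau1 M ∨ p ∈ Cfsg.tau3 M := by
  have hr := pRankLE_one_of_mem_kappa hp
  by_cases h : p ∣ Nat.card ↥⁅M, M⁆
  · exact Or.inr ⟨hp.1, hp.2.2.1, h, hr⟩
  · exact Or.inl ⟨hp.1, hp.2.2.1, hp.2.1, h, hr⟩

/-- for `p ∈ κ(M)`, every subgroup of order `p` of `M` centralizes a non-identity element of
`M_σ` -/
theorem kappa_inf_centralizer_ne_bot {M : Subgroup G} {p : ℕ} (hp : p ∈ Cfsg.kappa M)
    {X : Subgroup G} (hXM : X ≤ M) (hX : Nat.card X = p) :
    Cfsg.sigmaCore M ⊓ centralizer (X : Set G) ≠ ⊥ := by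
  haveI : Fact p.Prime := ⟨hp.1⟩
  have hXp : IsPGroup p (X.subgroupOf M) := by
    apply IsPGroup.of_card (n := 1)
    rw [Nat.card_congr (Subgroup.subgroupOfEquivOfLe hXM).toEquiv, hX, pow_one]
  obtain ⟨P, hP⟩ := hXp.exists_le_sylow
  obtain ⟨hcyc, x, hxP, hx1, y, hy, hy1, hxy⟩ := hp.2.2.2 P
  -- the subgroup of order `p` of `⟨x⟩`
  have hox : p ∣ orderOf x := by
    have h1 : orderOf x ∣ Nat.card (P : Subgroup ↥M) := by
      have := Subgroup.orderOf_dvd_natCard (P : Subgroup ↥M) hxP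
      exact this
    obtain ⟨k, hk⟩ := (IsPGroup.iff_card.mp P.isPGroup')
    rw [hk] at h1
    obtain ⟨j, hj, hjo⟩ := (Nat.dvd_prime_pow hp.1).mp h1
    have hj0 : j ≠ 0 := by
      intro h0
      rw [h0, pow_zero] at hjo
      exact hx1 (orderOf_eq_one_iff.mp hjo)
    rw [hjo]
    exact dvd_pow_self p hj0
  set z : ↥M := x ^ (orderOf x / p) with hz
  have hzo : orderOf z = p := orderOf_pow_orderOf_div (orderOf_pos x).ne' hox
  have hzP : z ∈ (P : Subgroup ↥M) := Subgroup.pow_mem _ hxP _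
  have heq : X.subgroupOf M = zpowers z := by
    haveI : Finite ↥M := inferInstance
    apply Cfsg.Agent.Helper23.eq_of_card_eq_of_isCyclic (P : Subgroup ↥M) hcyc _ _ hP
      (zpowers_le.mpr hzP)
    rw [Nat.card_congr (Subgroup.subgroupOfEquivOfLe hXM).toEquiv, hX, Nat.card_zpowers, hzo]
  intro hbot
  apply hy1
  have hmem : y ∈ Cfsg.sigmaCore M ⊓ centralizer (X : Set G) := by
    refine Subgroup.mem_inf.mpr ⟨hy, ?_⟩
    rw [Subgroup.mem_centralizer_iff]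
    intro w hw
    have hwM : w ∈ M := hXM hw
    have h1 : (⟨w, hwM⟩ : ↥M) ∈ X.subgroupOf M := Subgroup.mem_subgroupOf.mpr hw
    rw [heq] at h1
    obtain ⟨i, hi⟩ := mem_zpowers_iff.mp h1
    have h2 : w = ((z ^ i : ↥M) : G) := by rw [hi]
    have h3 : ((z ^ i : ↥M) : G) = ((x : G) ^ (orderOf x / p)) ^ i := by
      rw [hz]; push_cast; rfl
    rw [h2, h3]
    have hc : Commute (x : G) y := hxy
    exact ((hc.pow_left _).zpow_left i).eq
  rw [hbot, Subgroup.mem_bot] at hmem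
  exact hmem

end Cfsg.Agent.Lead.BG142
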