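import Mathlib
import Cfsg.Prelude.Def_OddOrderLocal
import Cfsg.Agent.Lead.BG142a
import Cfsg.Agent.Lead.BG9a

set_option autoImplicit false
set_option linter.unusedSectionVars false
set_option linter.unusedVariables false
set_option linter.style.haveILetI false

/-! # B&G Theorem 14.2 (= S1430), assembly, part (b): prime action from prime action of the
subgroups of prime order, and exclusion of `τ₂(M)`-elements centralizing `X` and `C_{M_σ}(X)`. -/

namespace Cfsg.Agent.Lead.BG142

open Subgroup Cfsg
open Cfsg.Agent.Helper14 (IsSylowIn cj)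
open Cfsg.Agent.H9.BG12 (St1350 St1420 NC1210 sigmaCore_le le_normalizer_sigmaCore
  mem_sigma_of_dvd_card_sigmaCore isPiHallOf_compl prime_ne_two_of_dvd)
open Cfsg.Agent.Lead (IsPiNum)
open Cfsg.Agent.Lead.BG143 (pRankLE_one_of_mem_kappa ppart orderOf_ppart ppart_ne_one ppart_mem
  ppart_comm card_zpowers_ppart mem_kappa_or_mem_tau2)
open Cfsg.Agent.Helper4.BG10 (Uniq centralizer_zpowers_eq)

universe u
variable {G : Type u} [Group G] [Finite G]

/-- an element commuting with `a` commutes with every power of `a` -/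
theorem mem_centralizer_zpowers_of_comm {a y : G} (h : a * y = y * a) :
    y ∈ centralizer ((zpowers a : Subgroup G) : Set G) := by
  rw [centralizer_zpowers_eq, Subgroup.mem_centralizer_singleton_iff]
  exact h.symm

/-- **prime action from the subgroups of prime order.**  `K ≤ E` with cyclic Sylow subgroups
(rank one), all of whose subgroups of prime order have the same centralizer in `M_σ`: then
`C_{M_σ}(k) = C_{M_σ}(K)` for all `k ∈ K − 1` (uses S1427). -/
theorem semiprime_of_prime (hG : Cfsg.IsMinSimpleOddOrder G) (h1427 : St1427 G) {M E K : Subgroup G}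
    (hM : IsCoatom M) (hE : Cfsg.IsComplIn E (Cfsg.sigmaCore M) M) (hKE : K ≤ E)
    (hrank : ∀ q : ℕ, q.Prime → q ∣ Nat.card K → Cfsg.PRankLE q 1 M)
    (hcommon : ∀ R₁ R₂ : Subgroup G, R₁ ≤ K → R₂ ≤ K → (Nat.card R₁).Prime → (Nat.card R₂).Prime →
      Cfsg.sigmaCore M ⊓ centralizer (R₁ : Set G) ≤ Cfsg.sigmaCore M ⊓ centralizer (R₂ : Set G)) :
    ∀ k ∈ K, k ≠ 1 → Cfsg.sigmaCore M ⊓ centralizer ({k} : Set G) =
      Cfsg.sigmaCore M ⊓ centralizer (K : Set G) := by
  intro k hk hk1
  apply le_antisymm
  · intro y hy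
    rw [Subgroup.mem_inf] at hy
    refine Subgroup.mem_inf.mpr ⟨hy.1, ?_⟩
    have hky : k * y = y * k := (Subgroup.mem_centralizer_singleton_iff.mp hy.2).symm
    -- a prime-order power of `k`
    have hok : orderOf k ≠ 1 := fun h => hk1 (orderOf_eq_one_iff.mp h)
    obtain ⟨s, hs, hsd⟩ := Nat.exists_prime_and_dvd hok
    set ks := ppart k s with hks
    have hksK : ks ∈ K := ppart_mem hk s
    have hPc : (Nat.card (zpowers ks)).Prime := by rw [card_zpowers_ppart hsd]; exact hs
    have hyP : y ∈ Cfsg.sigmaCore M ⊓ centralizer ((zpowers ks : Subgroup G) : Set G) :=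
      Subgroup.mem_inf.mpr ⟨hy.1, mem_centralizer_zpowers_of_comm (ppart_comm hky s)⟩
    -- `K ≤ C(y)` via the Sylow subgroups of `K`
    have hKle : K ≤ centralizer ({y} : Set G) := by
      apply Cfsg.Agent.Lead.BG9.le_of_forall_sylow_le
      intro q hq
      haveI := hq
      obtain ⟨S⟩ : Nonempty (Sylow q ↥K) := inferInstance
      refine ⟨S, ?_⟩
      rintro _ ⟨w', hw'S, rfl⟩
      set w : G := K.subtype w' with hw
      have hwK : w ∈ K := w'.2
      rw [Subgroup.mem_centralizer_singleton_iff]
      by_cases hw1 : w = 1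
      · rw [hw1]; simp
      -- `w` has `q`-power order
      have hwq : ∃ n, orderOf w = q ^ n := by
        obtain ⟨n, hn⟩ := S.isPGroup' ⟨w', hw'S⟩
        have h1 : w' ^ q ^ n = 1 := by
          have := congrArg Subtype.val hn
          simpa using this
        have h2 : w ^ q ^ n = 1 := by
          rw [hw, ← map_pow, h1, map_one]
        obtain ⟨j, -, hj⟩ := (Nat.dvd_prime_pow hq.out).mp (orderOf_dvd_of_pow_eq_one h2)
        exact ⟨j, hj⟩
      obtain ⟨n, hn⟩ := hwq
      have hn0 : n ≠ 0 := by
        intro h0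
        rw [h0, pow_zero] at hn
        exact hw1 (orderOf_eq_one_iff.mp hn)
      have hqw : q ∣ orderOf w := hn ▸ dvd_pow_self q hn0
      have hqK : q ∣ Nat.card K := hqw.trans (Subgroup.orderOf_dvd_natCard K hwK)
      have hqG : q ∣ Nat.card G := hqK.trans (Subgroup.card_subgroup_dvd_card K)
      have hq2 : q ≠ 2 := prime_ne_two_of_dvd hG hqG
      -- a Sylow `q`-subgroup of `E` containing `w`
      have hwE : w ∈ E := hKE hwK
      have hZp : IsPGroup q ((zpowers w).subgroupOf E) := by
        apply IsPGroup.of_card (n := n)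
        rw [Nat.card_congr (Subgroup.subgroupOfEquivOfLe (zpowers_le.mpr hwE)).toEquiv,
          Nat.card_zpowers, hn]
      obtain ⟨S', hS'⟩ := hZp.exists_le_sylow
      have hwS' : w ∈ (S' : Subgroup ↥E).map E.subtype := by
        refine ⟨⟨w, hwE⟩, hS' ?_, rfl⟩
        rw [Subgroup.mem_subgroupOf]
        exact mem_zpowers w
      have hS'ne : (S' : Subgroup ↥E) ≠ ⊥ := by
        intro hb
        have : (⟨w, hwE⟩ : ↥E) ∈ (S' : Subgroup ↥E) := hS' (by
          rw [Subgroup.mem_subgroupOf]; exact mem_zpowers w)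
        rw [hb, Subgroup.mem_bot] at this
        exact hw1 (congrArg Subtype.val this)
      have hS'c : IsCyclic (S' : Subgroup ↥E) := by
        have hr : Cfsg.PRankLE q 1 ↥(S' : Subgroup ↥E) := by
          have h1 := hrank q hq.out hqK
          have h2 : Cfsg.PRankLE q 1 ↥E :=
            Cfsg.Agent.Helper7.PRankLE.of_injective (Subgroup.inclusion hE.1)
              (Subgroup.inclusion_injective hE.1) h1
          exact Cfsg.Agent.Helper7.PRankLE.of_injective (S' : Subgroup ↥E).subtype
            (Subgroup.subtype_injective _) h2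
        exact Cfsg.Agent.Helper16.BG12.isCyclic_of_pRankLE_one hq2 S'.isPGroup' hr
      have e1 := h1427 M hM E hE q S' hS'ne hS'c w hwS' hw1
      -- the prime-order power of `w`
      set w1 := ppart w q with hw1def
      have hw1K : w1 ∈ K := ppart_mem hwK q
      have hw1S' : w1 ∈ (S' : Subgroup ↥E).map E.subtype := ppart_mem hwS' q
      have hw1ne : w1 ≠ 1 := ppart_ne_one hq.out hqw
      have e2 := h1427 M hM E hE q S' hS'ne hS'c w1 hw1S' hw1ne
      have hRc : (Nat.card (zpowers w1)).Prime := by rw [card_zpowers_ppart hqw]; exact hq.out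
      have h3 := hcommon (zpowers ks) (zpowers w1) (zpowers_le.mpr hksK) (zpowers_le.mpr hw1K)
        hPc hRc hyP
      rw [centralizer_zpowers_eq, e2, ← e1] at h3
      exact (Subgroup.mem_centralizer_singleton_iff.mp (Subgroup.mem_inf.mp h3).2).symm
    rw [Subgroup.mem_centralizer_iff]
    intro z hz
    have := hKle hz
    rw [Subgroup.mem_centralizer_singleton_iff] at this
    exact this
  · exact inf_le_inf_left _ (centralizer_le (Set.singleton_subset_iff.mpr hk))

end Cfsg.Agent.Lead.BG142
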