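import Mathlib

set_option autoImplicit false

/-! # Fixed-point-free automorphisms: abstract lemmas (towards order 4)

* `fpf_inj`, `fpf_mem_of_twist_mem` : the map `x ↦ x⁻¹ τ x` is injective and the quotient trick
* `comm_of_fpf_nilpotent` : in a nilpotent group with fpf `τ`, if `τ (τ a) = a⁻¹` then `a` and `τ a` commute
* `frobFix` : Frobenius-type fixed point lemma for `C_n ⋊ C_4`
-/

namespace Cfsg.Agent.Lead.Fpf4

open scoped commutatorElement

section Abstract

variable {Q : Type*} [Group Q]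

theorem fpf_inj (τ : Q ≃* Q) (hτ : ∀ x, τ x = x → x = 1) :
    Function.Injective (fun x : Q => x⁻¹ * τ x) := by
  intro x y h
  have h0 : x⁻¹ * τ x = y⁻¹ * τ y := h
  have h1 : τ (y * x⁻¹) = y * x⁻¹ := by
    rw [map_mul, map_inv]
    have : τ y = y * (x⁻¹ * τ x) := by rw [h0]; group
    rw [this]; group
  have h2 := hτ _ h1
  have : y = x := by
    calc y = (y * x⁻¹) * x := by group
      _ = x := by rw [h2, one_mul]
  exact this.symm

/-- quotient trick, no normality needed -/
theorem fpf_mem_of_twist_mem [Finite Q] (τ : Q ≃* Q) (hτ : ∀ x, τ x = x → x = 1) (K : Subgroup Q)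
    (hK : ∀ k ∈ K, τ k ∈ K) {x : Q} (hx : x⁻¹ * τ x ∈ K) : x ∈ K := by
  let f : ↥K → ↥K := fun k => ⟨(k : Q)⁻¹ * τ k, K.mul_mem (K.inv_mem k.2) (hK k k.2)⟩
  have hinj : Function.Injective f := by
    intro a b hab
    have h1 : (a : Q)⁻¹ * τ a = (b : Q)⁻¹ * τ b := congrArg Subtype.val hab
    exact Subtype.ext (fpf_inj τ hτ h1)
  have hsurj : Function.Surjective f := Finite.injective_iff_surjective.1 hinj
  obtain ⟨k, hk⟩ := hsurj ⟨_, hx⟩
  have h1 : (k : Q)⁻¹ * τ k = x⁻¹ * τ x := congrArg Subtype.val hk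
  have h2 : (k : Q) = x := fpf_inj τ hτ h1
  rw [← h2]; exact k.2

theorem fpf_surj [Finite Q] (τ : Q ≃* Q) (hτ : ∀ x, τ x = x → x = 1) (g : Q) : ∃ x : Q, x⁻¹ * τ x = g :=
  (Finite.injective_iff_surjective.1 (fpf_inj τ hτ)) g

/-- two-generator lemma -/
theorem comm_of_fpf_nilpotent [Finite Q] [Group.IsNilpotent Q] (τ : Q ≃* Q) (hτ : ∀ x, τ x = x → x = 1)
    (a : Q) (ha : τ (τ a) = a⁻¹) : a * τ a = τ a * a := by
  set b := τ a with hb
  set c := a * b * a⁻¹ * b⁻¹ with hc
  have hτc : τ c = a⁻¹ * c * a := by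
    rw [hc]
    simp only [map_mul, map_inv]
    rw [← hb, ha]
    group
  have key : ∀ n : ℕ, c ∈ Subgroup.upperCentralSeries Q n → c = 1 := by
    intro n
    induction n with
    | zero =>
      intro h
      rw [Subgroup.upperCentralSeries_zero] at h
      exact Subgroup.mem_bot.1 h
    | succ n ih =>
      intro h
      apply ih
      apply fpf_mem_of_twist_mem τ hτ (Subgroup.upperCentralSeries Q n)
      · intro k hk
        have hchar : (Subgroup.upperCentralSeries Q n).map τ.toMonoidHom = Subgroup.upperCentralSeries Q n :=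
          Subgroup.characteristic_iff_map_eq.1 inferInstance τ
        rw [← hchar]
        exact ⟨k, hk, rfl⟩
      · rw [hτc]
        have h1 : c⁻¹ ∈ Subgroup.upperCentralSeries Q (n + 1) := Subgroup.inv_mem _ h
        have h2 := Subgroup.mem_upperCentralSeries_succ_iff.1 h1 a⁻¹
        have e : c⁻¹ * (a⁻¹ * c * a) = ⁅c⁻¹, a⁻¹⁆ := by
          rw [commutatorElement_def]; group
        rw [e]; exact h2
  obtain ⟨n, hn⟩ := (Group.isNilpotent_iff (G := Q)).1 inferInstance
  have h1 : c = 1 := key n (by rw [hn]; exact Subgroup.mem_top c)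
  calc a * b = (a * b * a⁻¹ * b⁻¹) * (b * a) := by group
    _ = b * a := by rw [← hc, h1, one_mul]

theorem eq_one_of_mul_self_of_odd {H : Type*} [Group H] [Finite H] (hodd : Odd (Nat.card H))
    (z : H) (hz : z * z = 1) : z = 1 := by
  have h1 : orderOf z ∣ 2 := orderOf_dvd_of_pow_eq_one (by rw [pow_two]; exact hz)
  have h2 : orderOf z ∣ Nat.card H := orderOf_dvd_natCard z
  have h3 : orderOf z ∣ Nat.gcd 2 (Nat.card H) := Nat.dvd_gcd h1 h2
  have h4 : Nat.gcd 2 (Nat.card H) = 1 := hodd.coprime_two_left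
  rw [h4] at h3
  exact orderOf_eq_one_iff.1 (Nat.dvd_one.1 h3)

end Abstract

end Cfsg.Agent.Lead.Fpf4
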