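import Mathlib
import Cfsg.Agent.Lead.Fpf4a

set_option autoImplicit false

/-! # Frobenius-type fixed point lemma for `C_n ⋊ C_4` acting on an abelian group -/

namespace Cfsg.Agent.Lead.Fpf4

section Frob

variable {W : Type*} [CommGroup W] [Finite W]

theorem frobFix (Q₁ : Subgroup (MulAut W)) (t : MulAut W)
    (hab : ∀ x ∈ Q₁, ∀ y ∈ Q₁, x * y = y * x)
    (hnorm : ∀ x ∈ Q₁, t * x * t⁻¹ ∈ Q₁)
    (hinv : ∀ x ∈ Q₁, t * t * x * (t * t)⁻¹ = x⁻¹)
    (hodd : Odd (Nat.card Q₁))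
    (hcop : (Nat.card Q₁).Coprime (Nat.card W))
    (ht4 : t ^ 4 = 1)
    (hfix : ∀ w : W, t w = w → w = 1) : ∀ x ∈ Q₁, x = 1 := by
  classical
  have : Finite (MulAut W) := Finite.of_injective (fun f : MulAut W => (f : W → W))
    (fun f g h => MulEquiv.ext (fun w => congrFun h w))
  letI : Fintype ↥Q₁ := Fintype.ofFinite _
  -- (T)
  have h4 : ∀ u : W, t (t (t (t u))) = u := by
    intro u
    have := congrArg (fun f : MulAut W => f u) ht4
    simpa [pow_succ, MulAut.mul_apply] using this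
  have hT : ∀ u : W, u * t u * t (t u) * t (t (t u)) = 1 := by
    intro u
    apply hfix
    rw [map_mul, map_mul, map_mul, h4]
    rw [mul_comm _ u, ← mul_assoc, ← mul_assoc]
  -- the automorphism τ of Q₁
  let τ : ↥Q₁ → ↥Q₁ := fun x => ⟨t * x * t⁻¹, hnorm x x.2⟩
  have hτmul : ∀ x y : ↥Q₁, τ (x * y) = τ x * τ y := by
    intro x y; apply Subtype.ext
    show t * ((x : MulAut W) * y) * t⁻¹ = (t * x * t⁻¹) * (t * y * t⁻¹)
    group
  have hτinv : ∀ x : ↥Q₁, τ x⁻¹ = (τ x)⁻¹ := by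
    intro x; apply Subtype.ext
    show t * ((x : MulAut W))⁻¹ * t⁻¹ = (t * x * t⁻¹)⁻¹
    group
  have hτ2 : ∀ x : ↥Q₁, τ (τ x) = x⁻¹ := by
    intro x; apply Subtype.ext
    show t * (t * (x : MulAut W) * t⁻¹) * t⁻¹ = ((x : MulAut W))⁻¹
    rw [← hinv x x.2]; group
  have hQcomm : ∀ x y : ↥Q₁, x * y = y * x := fun x y => Subtype.ext (hab x x.2 y y.2)
  have hsq : ∀ z : ↥Q₁, z * z = 1 → z = 1 := fun z hz => eq_one_of_mul_self_of_odd hodd z hz
  -- action relations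
  have r1 : ∀ (x : ↥Q₁) (u : W), t ((x : MulAut W) u) = (τ x : MulAut W) (t u) := by
    intro x u
    show t ((x : MulAut W) u) = (t * x * t⁻¹) (t u)
    simp [MulAut.mul_apply]
  have r2 : ∀ (x : ↥Q₁) (u : W), t (t ((x : MulAut W) u)) = ((x⁻¹ : ↥Q₁) : MulAut W) (t (t u)) := by
    intro x u
    rw [r1, r1, hτ2]
  -- e
  let e : W → W := fun w => ∏ x : ↥Q₁, (x : MulAut W) w
  have he_mul : ∀ a b : W, e (a * b) = e a * e b := by
    intro a b
    show ∏ x : ↥Q₁, (x : MulAut W) (a * b) = (∏ x : ↥Q₁, (x : MulAut W) a) * ∏ x : ↥Q₁, (x : MulAut W) b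
    rw [← Finset.prod_mul_distrib]
    exact Finset.prod_congr rfl (fun x _ => map_mul _ a b)
  have he_inv : ∀ a : W, e a⁻¹ = (e a)⁻¹ := by
    intro a
    show ∏ x : ↥Q₁, (x : MulAut W) a⁻¹ = (∏ x : ↥Q₁, (x : MulAut W) a)⁻¹
    rw [← Finset.prod_inv_distrib]
    exact Finset.prod_congr rfl (fun x _ => map_inv _ a)
  have he_fix : ∀ (y : ↥Q₁) (a : W), (y : MulAut W) (e a) = e a := by
    intro y a
    show (y : MulAut W) (∏ x : ↥Q₁, (x : MulAut W) a) = ∏ x : ↥Q₁, (x : MulAut W) a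
    rw [map_prod]
    exact Fintype.prod_bijective (fun x : ↥Q₁ => y * x) (Group.mulLeft_bijective y) _ _
      (fun x => by simp [MulAut.mul_apply])
  have he_reindex : ∀ (f : ↥Q₁ → ↥Q₁), Function.Injective f → ∀ a : W,
      ∏ x : ↥Q₁, ((f x : ↥Q₁) : MulAut W) a = e a := by
    intro f hf a
    have hbij : Function.Bijective f := ⟨hf, Finite.injective_iff_surjective.1 hf⟩
    exact Fintype.prod_bijective f hbij _ _ (fun x => rfl)
  -- the three maps
  have inj_of_ker : ∀ f : ↥Q₁ → ↥Q₁, (∀ x y, f (x * y) = f x * f y) → (∀ z, f z = 1 → z = 1) →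
      Function.Injective f := by
    intro f hmul hker x y hxy
    have h1 : f 1 = 1 := by
      have := hmul 1 1
      rw [one_mul] at this
      exact (mul_eq_left).1 this.symm
    have h2 : f (x * y⁻¹) = 1 := by
      have h3 : f (x * y⁻¹) * f y = f x := by rw [← hmul]; congr 1; group
      rw [hxy] at h3
      exact (mul_eq_right).1 h3
    have := hker _ h2
    calc x = (x * y⁻¹) * y := by group
      _ = y := by rw [this, one_mul]
  have inj1 : Function.Injective (fun x : ↥Q₁ => x⁻¹ * τ x) := by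
    apply inj_of_ker
    · intro x y
      show (x * y)⁻¹ * τ (x * y) = (x⁻¹ * τ x) * (y⁻¹ * τ y)
      rw [hτmul, mul_inv_rev, hQcomm y⁻¹ x⁻¹, mul_assoc, mul_assoc, ← mul_assoc y⁻¹,
        hQcomm y⁻¹ (τ x), mul_assoc]
    · intro z hz
      have h1 : τ z = z := by
        have : z⁻¹ * τ z = 1 := hz
        calc τ z = z * (z⁻¹ * τ z) := by group
          _ = z := by rw [this, mul_one]
      have h2 : z⁻¹ = z := by rw [← hτ2 z, h1, h1]
      apply hsq
      calc z * z = z * z⁻¹ := by rw [h2]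
        _ = 1 := mul_inv_cancel z
  have inj2 : Function.Injective (fun x : ↥Q₁ => x⁻¹ * x⁻¹) := by
    apply inj_of_ker
    · intro x y
      show (x * y)⁻¹ * (x * y)⁻¹ = (x⁻¹ * x⁻¹) * (y⁻¹ * y⁻¹)
      rw [mul_inv_rev, hQcomm y⁻¹ x⁻¹, mul_assoc, mul_assoc, ← mul_assoc y⁻¹,
        hQcomm y⁻¹ x⁻¹, mul_assoc]
    · intro z hz
      have h1 : z⁻¹ * z⁻¹ = 1 := hz
      have h2 : z⁻¹ = 1 := hsq _ h1
      exact inv_eq_one.1 h2
  have inj3 : Function.Injective (fun x : ↥Q₁ => x⁻¹ * (τ x)⁻¹) := by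
    apply inj_of_ker
    · intro x y
      show (x * y)⁻¹ * (τ (x * y))⁻¹ = (x⁻¹ * (τ x)⁻¹) * (y⁻¹ * (τ y)⁻¹)
      rw [hτmul, mul_inv_rev, mul_inv_rev, hQcomm y⁻¹ x⁻¹, hQcomm (τ y)⁻¹ (τ x)⁻¹, mul_assoc,
        mul_assoc, ← mul_assoc y⁻¹, hQcomm y⁻¹ (τ x)⁻¹, mul_assoc]
    · intro z hz
      have h0 : z⁻¹ * (τ z)⁻¹ = 1 := hz
      have h1 : τ z = z⁻¹ := by
        have : (τ z)⁻¹ = z := by
          calc (τ z)⁻¹ = z * (z⁻¹ * (τ z)⁻¹) := by group
            _ = z := by rw [h0, mul_one]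
        calc τ z = ((τ z)⁻¹)⁻¹ := (inv_inv _).symm
          _ = z⁻¹ := by rw [this]
      have h2 : z⁻¹ = z := by
        have := hτ2 z
        rw [h1, hτinv, h1, inv_inv] at this
        exact this.symm
      apply hsq
      calc z * z = z * z⁻¹ := by rw [h2]
        _ = 1 := mul_inv_cancel z
  -- main computation
  have hmain : ∀ u : W, u ^ Nat.card ↥Q₁ = e u := by
    intro u
    have hx : ∀ x : ↥Q₁, u * ((x⁻¹ * τ x : ↥Q₁) : MulAut W) (t u) *
        ((x⁻¹ * x⁻¹ : ↥Q₁) : MulAut W) (t (t u)) *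
        ((x⁻¹ * (τ x)⁻¹ : ↥Q₁) : MulAut W) (t (t (t u))) = 1 := by
      intro x
      have h1 := hT ((x : MulAut W) u)
      have h2 := congrArg ((x⁻¹ : ↥Q₁) : MulAut W) h1
      rw [map_one, map_mul, map_mul, map_mul] at h2
      have a1 : ((x⁻¹ : ↥Q₁) : MulAut W) ((x : MulAut W) u) = u := by
        simp
      have a2 : t ((x : MulAut W) u) = (τ x : MulAut W) (t u) := r1 x u
      have a3 : t (t ((x : MulAut W) u)) = ((x⁻¹ : ↥Q₁) : MulAut W) (t (t u)) := r2 x u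
      have a4 : t (t (t ((x : MulAut W) u))) = (((τ x)⁻¹ : ↥Q₁) : MulAut W) (t (t (t u))) := by
        rw [a3, r1, hτinv]
      rw [a4, a3, a2, a1] at h2
      simpa [MulAut.mul_apply, Subgroup.coe_mul] using h2
    have hprod : ∏ x : ↥Q₁, (u * ((x⁻¹ * τ x : ↥Q₁) : MulAut W) (t u) *
        ((x⁻¹ * x⁻¹ : ↥Q₁) : MulAut W) (t (t u)) *
        ((x⁻¹ * (τ x)⁻¹ : ↥Q₁) : MulAut W) (t (t (t u)))) = 1 :=
      Finset.prod_eq_one (fun x _ => hx x)
    rw [Finset.prod_mul_distrib, Finset.prod_mul_distrib, Finset.prod_mul_distrib] at hprod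
    rw [he_reindex _ inj1, he_reindex _ inj2, he_reindex _ inj3] at hprod
    rw [Finset.prod_const, Finset.card_univ, ← Nat.card_eq_fintype_card] at hprod
    have h5 : t u * t (t u) * t (t (t u)) = u⁻¹ := by
      have := hT u
      rw [mul_assoc, mul_assoc] at this
      rw [mul_assoc]
      exact (eq_inv_of_mul_eq_one_right this)
    have h6 : e (t u) * e (t (t u)) * e (t (t (t u))) = (e u)⁻¹ := by
      rw [← he_mul, ← he_mul, h5, he_inv]
    rw [mul_assoc, mul_assoc, ← mul_assoc (e (t u)), h6] at hprod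
    exact mul_inv_eq_one.1 hprod
  intro y hy
  ext u
  rw [MulAut.one_apply]
  have h1 : (y u) ^ Nat.card ↥Q₁ = u ^ Nat.card ↥Q₁ := by
    rw [← map_pow, hmain u]
    exact he_fix ⟨y, hy⟩ u
  have h2 : (y u * u⁻¹) ^ Nat.card ↥Q₁ = 1 := by
    rw [mul_pow, h1, inv_pow, mul_inv_cancel]
  have h3 : orderOf (y u * u⁻¹) ∣ Nat.card ↥Q₁ := orderOf_dvd_of_pow_eq_one h2
  have h4' : orderOf (y u * u⁻¹) ∣ Nat.card W := orderOf_dvd_natCard _
  have h5 : orderOf (y u * u⁻¹) = 1 := Nat.eq_one_of_dvd_coprimes hcop h3 h4'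
  have h6 : y u * u⁻¹ = 1 := orderOf_eq_one_iff.1 h5
  exact mul_inv_eq_one.1 h6

end Frob

end Cfsg.Agent.Lead.Fpf4
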