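import Mathlib
import Cfsg.Agent.Lead.Fpf4b
import Cfsg.Agent.Lead.BG8a
import Cfsg.Agent.Helper14.Large2
import Cfsg.Agent.Helper7.Fitting

set_option autoImplicit false

/-! # fpf automorphisms of order 4: the square centralizes (in `MulAut W`) -/

namespace Cfsg.Agent.Lead.Fpf4

open Cfsg

section Conj

variable {X : Type*} [Group X]

theorem conj_inv_mem_of_conj_mem [Finite X] {H : Subgroup X} {y : X}
    (hy : ∀ h ∈ H, y * h * y⁻¹ ∈ H) : ∀ h ∈ H, y⁻¹ * h * y ∈ H := by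
  let f : ↥H → ↥H := fun h => ⟨y * h * y⁻¹, hy h h.2⟩
  have hinj : Function.Injective f := by
    intro a b hab
    have h1 : y * (a : X) * y⁻¹ = y * (b : X) * y⁻¹ := congrArg Subtype.val hab
    apply Subtype.ext
    calc (a : X) = y⁻¹ * (y * a * y⁻¹) * y := by group
      _ = y⁻¹ * (y * b * y⁻¹) * y := by rw [h1]
      _ = b := by group
  have hsurj := Finite.injective_iff_surjective.1 hinj
  intro h hh
  obtain ⟨a, ha⟩ := hsurj ⟨h, hh⟩
  have h1 : y * (a : X) * y⁻¹ = h := congrArg Subtype.val ha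
  have : y⁻¹ * h * y = a := by rw [← h1]; group
  rw [this]; exact a.2

/-- conjugation by a normalizing element as an automorphism of the subgroup -/
def conjN (H : Subgroup X) (y : X) (hy : ∀ h ∈ H, y * h * y⁻¹ ∈ H)
    (hy' : ∀ h ∈ H, y⁻¹ * h * y ∈ H) : ↥H ≃* ↥H where
  toFun h := ⟨y * h * y⁻¹, hy h h.2⟩
  invFun h := ⟨y⁻¹ * h * y, hy' h h.2⟩
  left_inv h := by apply Subtype.ext; simp [mul_assoc]
  right_inv h := by apply Subtype.ext; simp [mul_assoc]
  map_mul' a b := by apply Subtype.ext; simp [mul_assoc]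

@[simp] theorem conjN_coe (H : Subgroup X) (y : X) (hy : ∀ h ∈ H, y * h * y⁻¹ ∈ H)
    (hy' : ∀ h ∈ H, y⁻¹ * h * y ∈ H) (h : ↥H) :
    ((conjN H y hy hy' h : ↥H) : X) = y * h * y⁻¹ := rfl

theorem conj_mem_fittingOf [Finite X] {H : Subgroup X} {y : X}
    (hy : ∀ h ∈ H, y * h * y⁻¹ ∈ H) : ∀ f ∈ fittingOf H, y * f * y⁻¹ ∈ fittingOf H := by
  have hy' := conj_inv_mem_of_conj_mem hy
  rintro _ ⟨f, hf, rfl⟩
  have h1 := Cfsg.Agent.Helper7.fittingSubgroup_map_equiv (conjN H y hy hy')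
  have h2 : conjN H y hy hy' f ∈ fittingSubgroup ↥H := by
    rw [← h1]; exact ⟨f, hf, rfl⟩
  exact ⟨conjN H y hy hy' f, h2, rfl⟩

theorem closure_comm (S : Set X) (h : ∀ x ∈ S, ∀ y ∈ S, x * y = y * x) :
    ∀ x ∈ Subgroup.closure S, ∀ y ∈ Subgroup.closure S, x * y = y * x := by
  have h1 : Subgroup.closure S ≤ Subgroup.centralizer S := by
    rw [Subgroup.closure_le]
    intro s hs
    rw [SetLike.mem_coe, Subgroup.mem_centralizer_iff]
    intro s' hs'
    exact h s' hs' s hs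
  have h2 : Subgroup.closure S ≤ Subgroup.centralizer (Subgroup.closure S : Set X) := by
    rw [Subgroup.closure_le]
    intro s hs
    rw [SetLike.mem_coe, Subgroup.mem_centralizer_iff]
    intro x hx
    exact ((Subgroup.mem_centralizer_iff.1 (h1 hx)) s hs).symm
  intro x hx y hy
  exact ((Subgroup.mem_centralizer_iff.1 (h2 hy)) x hx)

end Conj

section Main

variable {W : Type*} [CommGroup W] [Finite W]

theorem finite_mulAut : Finite (MulAut W) :=
  Finite.of_injective (fun f : MulAut W => (f : W → W))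
    (fun _ _ h => MulEquiv.ext (fun w => congrFun h w))

theorem sq_centralizes_nilpotent (Q : Subgroup (MulAut W)) (t : MulAut W)
    (hnil : Group.IsNilpotent ↥Q) (hnorm : ∀ x ∈ Q, t * x * t⁻¹ ∈ Q)
    (hodd : Odd (Nat.card Q)) (hcop : (Nat.card Q).Coprime (Nat.card W)) (ht4 : t ^ 4 = 1)
    (hfpfQ : ∀ x ∈ Q, t * x * t⁻¹ = x → x = 1) (hfix : ∀ w : W, t w = w → w = 1) :
    ∀ x ∈ Q, t * t * x * (t * t)⁻¹ = x := by
  have := finite_mulAut (W := W)
  have hnorm' := conj_inv_mem_of_conj_mem hnorm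
  set τ := conjN Q t hnorm hnorm' with hτdef
  have hτ : ∀ z : ↥Q, τ z = z → z = 1 := by
    intro z hz
    have h1 : t * (z : MulAut W) * t⁻¹ = z := congrArg Subtype.val hz
    exact Subtype.ext (hfpfQ z z.2 h1)
  have hτ4 : ∀ z : ↥Q, τ (τ (τ (τ z))) = z := by
    intro z
    apply Subtype.ext
    show t * (t * (t * (t * (z : MulAut W) * t⁻¹) * t⁻¹) * t⁻¹) * t⁻¹ = z
    have h4' : t * t * t * t = 1 := by rw [← ht4, pow_succ, pow_succ, pow_succ, pow_one]
    have e : t * (t * (t * (t * (z : MulAut W) * t⁻¹) * t⁻¹) * t⁻¹) * t⁻¹ =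
        (t * t * t * t) * z * (t * t * t * t)⁻¹ := by
      group
    rw [e, h4']; group
  intro x hx
  set xx : ↥Q := ⟨x, hx⟩ with hxx
  set k : ↥Q := xx⁻¹ * τ (τ xx) with hk
  have hk2 : τ (τ k) = k⁻¹ := by
    rw [hk, map_mul, map_mul, map_inv, map_inv, hτ4]
    group
  have hcomm := comm_of_fpf_nilpotent τ hτ k hk2
  set a : MulAut W := (k : MulAut W) with ha
  set b : MulAut W := ((τ k : ↥Q) : MulAut W) with hb
  have hba : t * a * t⁻¹ = b := rfl
  have hab' : t * b * t⁻¹ = a⁻¹ := by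
    have h0 : ((τ (τ k) : ↥Q) : MulAut W) = ((k⁻¹ : ↥Q) : MulAut W) := congrArg Subtype.val hk2
    exact h0
  have habc : a * b = b * a := by
    have := congrArg Subtype.val hcomm
    simpa using this
  set Q₁ : Subgroup (MulAut W) := Subgroup.closure {a, b} with hQ₁
  have haQ : a ∈ Q₁ := Subgroup.subset_closure (by simp)
  have hbQ : b ∈ Q₁ := Subgroup.subset_closure (by simp)
  have hQ₁Q : Q₁ ≤ Q := by
    rw [hQ₁, Subgroup.closure_le]
    intro s hs
    rcases hs with rfl | hs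
    · exact k.2
    · rw [Set.mem_singleton_iff] at hs; rw [hs]; exact (τ k).2
  have hab : ∀ x ∈ Q₁, ∀ y ∈ Q₁, x * y = y * x := by
    apply closure_comm
    intro x hx y hy
    rcases hx with rfl | hx <;> rcases hy with rfl | hy
    · rfl
    · rw [Set.mem_singleton_iff] at hy; rw [hy]; exact habc
    · rw [Set.mem_singleton_iff] at hx; rw [hx]; exact habc.symm
    · rw [Set.mem_singleton_iff] at hx hy; rw [hx, hy]
  have hnormQ₁ : ∀ x ∈ Q₁, t * x * t⁻¹ ∈ Q₁ := by
    have h1 : Q₁ ≤ Q₁.comap (MulAut.conj t).toMonoidHom := by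
      rw [hQ₁, Subgroup.closure_le]
      intro s hs
      rw [SetLike.mem_coe, Subgroup.mem_comap]
      show t * s * t⁻¹ ∈ _
      rcases hs with rfl | hs
      · rw [hba]; exact hbQ
      · rw [Set.mem_singleton_iff] at hs; rw [hs, hab']; exact Subgroup.inv_mem _ haQ
    intro x hx
    exact h1 hx
  have hpa : t * t * a * (t * t)⁻¹ = a⁻¹ := by
    have e : t * t * a * (t * t)⁻¹ = t * (t * a * t⁻¹) * t⁻¹ := by group
    rw [e, hba, hab']
  have hpb : t * t * b * (t * t)⁻¹ = b⁻¹ := by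
    have e : t * t * b * (t * t)⁻¹ = t * (t * b * t⁻¹) * t⁻¹ := by group
    rw [e, hab']
    have e2 : t * a⁻¹ * t⁻¹ = (t * a * t⁻¹)⁻¹ := by group
    rw [e2, hba]
  have hinvQ₁ : ∀ x ∈ Q₁, t * t * x * (t * t)⁻¹ = x⁻¹ := by
    intro x hx
    induction hx using Subgroup.closure_induction with
    | mem s hs =>
      rcases hs with rfl | hs
      · exact hpa
      · rw [Set.mem_singleton_iff] at hs; rw [hs]; exact hpb
    | one => group
    | mul x y hx hy ihx ihy =>
      have e : t * t * (x * y) * (t * t)⁻¹ = (t * t * x * (t * t)⁻¹) * (t * t * y * (t * t)⁻¹) := by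
        group
      rw [e, ihx, ihy, mul_inv_rev]
      exact hab _ (Subgroup.inv_mem _ hx) _ (Subgroup.inv_mem _ hy)
    | inv x hx ih =>
      have e : t * t * x⁻¹ * (t * t)⁻¹ = (t * t * x * (t * t)⁻¹)⁻¹ := by simp [mul_assoc]
      rw [e, ih]
  have hcard : Nat.card Q₁ ∣ Nat.card Q := Subgroup.card_dvd_of_le hQ₁Q
  have hodd₁ : Odd (Nat.card Q₁) := Odd.of_dvd_nat hodd hcard
  have hcop₁ : (Nat.card Q₁).Coprime (Nat.card W) := Nat.Coprime.coprime_dvd_left hcard hcop
  have h1 := frobFix Q₁ t hab hnormQ₁ hinvQ₁ hodd₁ hcop₁ ht4 hfix a haQ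
  have h2 : k = 1 := Subtype.ext h1
  have h3 : τ (τ xx) = xx := by
    have : xx⁻¹ * τ (τ xx) = 1 := by rw [← hk]; exact h2
    calc τ (τ xx) = xx * (xx⁻¹ * τ (τ xx)) := by group
      _ = xx := by rw [this, mul_one]
  have h4 : t * (t * x * t⁻¹) * t⁻¹ = x := congrArg Subtype.val h3
  calc t * t * x * (t * t)⁻¹ = t * (t * x * t⁻¹) * t⁻¹ := by group
    _ = x := h4

end Main

end Cfsg.Agent.Lead.Fpf4
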