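import Mathlib
import Cfsg.Agent.Lead.Fpf4c

set_option autoImplicit false

/-! # fpf automorphisms of order 4: main lemma in `MulAut W` -/

namespace Cfsg.Agent.Lead.Fpf4

open Cfsg

section Main

variable {W : Type*} [CommGroup W] [Finite W]

/-- `O_p(H) = 1` for `H ≤ Aut W`, `W` an irreducible `p`-group under `Y ≥ H`, `H ⊴ Y` -/
theorem pCoreOf_eq_bot_of_irreducible {p : ℕ} [Fact p.Prime] (hW : IsPGroup p W)
    (H Y : Subgroup (MulAut W)) (hHn : ∀ y ∈ Y, ∀ h ∈ H, y * h * y⁻¹ ∈ H)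
    (hirr : ∀ W₀ : Subgroup W, (∀ y ∈ Y, ∀ w ∈ W₀, y w ∈ W₀) → W₀ = ⊥ ∨ W₀ = ⊤) :
    pCoreOf p H = ⊥ := by
  have := finite_mulAut (W := W)
  set R := pCoreOf p H with hR
  have hRp : IsPGroup p ↥R := Cfsg.Agent.Helper14.pCoreOf_isPGroup p H
  -- Y normalizes R
  have hYR : ∀ y ∈ Y, ∀ r ∈ R, y⁻¹ * r * y ∈ R := by
    intro y hy r hr
    have hyN : y ∈ Subgroup.normalizer (H : Set (MulAut W)) := by
      rw [Subgroup.mem_normalizer_iff]
      intro h
      constructor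
      · intro hh; exact hHn y hy h hh
      · intro hh
        have h1 := conj_inv_mem_of_conj_mem (hHn y hy) _ hh
        have e : y⁻¹ * (y * h * y⁻¹) * y = h := by group
        rw [e] at h1; exact h1
    have h2 := Cfsg.Agent.Helper14.normalizer_le_normalizer_pCoreOf (p := p) H hyN
    have h3 : y⁻¹ ∈ Subgroup.normalizer ((pCoreOf p H : Subgroup (MulAut W)) : Set (MulAut W)) :=
      Subgroup.inv_mem _ h2
    have h4 := (Subgroup.mem_normalizer_iff.1 h3 r).1 hr
    simpa using h4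
  by_cases hsub : Subsingleton W
  · rw [eq_bot_iff]
    intro r _
    rw [Subgroup.mem_bot]
    ext w
    exact Subsingleton.elim _ _
  · have hnt : Nontrivial W := not_subsingleton_iff_nontrivial.1 hsub
    -- fixed points
    let W₀ : Subgroup W :=
      { carrier := {w | ∀ r ∈ R, r w = w}
        mul_mem' := by
          intro a b ha hb r hr
          rw [map_mul, ha r hr, hb r hr]
        one_mem' := by intro r _; exact map_one r
        inv_mem' := by
          intro a ha r hr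
          rw [map_inv, ha r hr] }
    have hW₀inv : ∀ y ∈ Y, ∀ w ∈ W₀, y w ∈ W₀ := by
      intro y hy w hw r hr
      have h1 := hw (y⁻¹ * r * y) (hYR y hy r hr)
      have h2 : (y⁻¹ * r * y) w = y⁻¹ (r (y w)) := rfl
      rw [h2] at h1
      have h3 := congrArg y h1
      have h4 : y (y⁻¹ (r (y w))) = r (y w) := by
        show (y * y⁻¹) (r (y w)) = r (y w)
        rw [mul_inv_cancel]; rfl
      rw [h4] at h3
      exact h3
    rcases hirr W₀ hW₀inv with h0 | h0
    · exfalso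
      -- a p-group acting on a nontrivial p-group has a nontrivial fixed point
      have h1 : (1 : W) ∈ MulAction.fixedPoints ↥R W := by
        intro g
        show (g : MulAut W) 1 = 1
        exact map_one _
      have dvd : p ∣ Nat.card W := by
        obtain ⟨n, hn0, hn⟩ := hW.nontrivial_iff_card.mp hnt
        exact hn.symm ▸ dvd_pow_self _ (ne_of_gt hn0)
      obtain ⟨b, hb, hb1⟩ := hRp.exists_fixed_point_of_prime_dvd_card_of_fixed_point W dvd h1
      have hbW : b ∈ W₀ := by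
        intro r hr
        exact hb ⟨r, hr⟩
      rw [h0, Subgroup.mem_bot] at hbW
      exact hb1 hbW.symm
    · rw [eq_bot_iff]
      intro r hr
      rw [Subgroup.mem_bot]
      ext w
      have hw : w ∈ W₀ := by rw [h0]; exact Subgroup.mem_top w
      exact hw r hr

theorem sq_centralizes {p : ℕ} [Fact p.Prime] (hW : IsPGroup p W)
    (H Y : Subgroup (MulAut W)) (t : MulAut W) (htY : t ∈ Y)
    (hHn : ∀ y ∈ Y, ∀ h ∈ H, y * h * y⁻¹ ∈ H) (hsolv : Group.IsSolvable ↥H) (hodd : Odd (Nat.card H))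
    (ht4 : t ^ 4 = 1) (hfpfH : ∀ h ∈ H, t * h * t⁻¹ = h → h = 1)
    (hfix : ∀ w : W, t w = w → w = 1)
    (hirr : ∀ W₀ : Subgroup W, (∀ y ∈ Y, ∀ w ∈ W₀, y w ∈ W₀) → W₀ = ⊥ ∨ W₀ = ⊤) :
    ∀ h ∈ H, t * t * h * (t * t)⁻¹ = h := by
  have := finite_mulAut (W := W)
  have hp : p.Prime := Fact.out
  have hR := pCoreOf_eq_bot_of_irreducible hW H Y hHn hirr
  set F := fittingOf H with hF
  have hFH : F ≤ H := Cfsg.Agent.Lead.BG8.fittingOf_le H
  have hFnil : Group.IsNilpotent ↥F := Cfsg.Agent.Lead.BG8.fittingOf_isNilpotent H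
  have htH : ∀ h ∈ H, t * h * t⁻¹ ∈ H := hHn t htY
  have hFnorm : ∀ f ∈ F, t * f * t⁻¹ ∈ F := conj_mem_fittingOf htH
  have hcardF : Nat.card F ∣ Nat.card H := Subgroup.card_dvd_of_le hFH
  have hFodd : Odd (Nat.card F) := Odd.of_dvd_nat hodd hcardF
  have hFcop : (Nat.card F).Coprime (Nat.card W) := by
    obtain ⟨n, hn⟩ := hW.exists_card_eq
    rw [hn]
    apply Nat.Coprime.pow_right
    rw [Nat.coprime_comm, Nat.Prime.coprime_iff_not_dvd hp]
    intro hdvd
    exact Cfsg.Agent.Lead.Bender.pCoreOf_ne_bot_of_dvd H hdvd hR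
  have hψF := sq_centralizes_nilpotent F t hFnil hFnorm hFodd hFcop ht4
    (fun f hf => hfpfH f (hFH hf)) hfix
  have h4' : t * t * t * t = 1 := by rw [← ht4, pow_succ, pow_succ, pow_succ, pow_one]
  set ψ := t * t with hψ
  have hψ2 : ψ * ψ = 1 := by rw [hψ, ← mul_assoc]; exact h4'
  have hψinv : ψ⁻¹ = ψ := inv_eq_of_mul_eq_one_right hψ2
  have hψH : ∀ h ∈ H, ψ * h * ψ⁻¹ ∈ H := by
    intro h hh
    have e : ψ * h * ψ⁻¹ = t * (t * h * t⁻¹) * t⁻¹ := by rw [hψ]; group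
    rw [e]; exact htH _ (htH _ hh)
  have hHF : ∀ h ∈ H, ∀ f ∈ F, h * f * h⁻¹ ∈ F := by
    intro h hh f hf
    have h1 := Cfsg.Agent.Lead.Bender.le_normalizer_fittingOf H hh
    exact (Subgroup.mem_normalizer_iff.1 h1 f).1 hf
  have hCF := Cfsg.Agent.Lead.BG8.inf_centralizer_fittingOf_le hsolv
  intro h hh
  set h' := ψ * h * ψ⁻¹ with hh'
  have hh'H : h' ∈ H := hψH h hh
  set k := h⁻¹ * h' with hk
  have hkH : k ∈ H := H.mul_mem (H.inv_mem hh) hh'H
  have hkC : k ∈ Subgroup.centralizer (F : Set (MulAut W)) := by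
    rw [Subgroup.mem_centralizer_iff]
    intro f hf
    have h1 : ψ * f * ψ⁻¹ = f := hψF f hf
    have h2 : ψ * (h * f * h⁻¹) * ψ⁻¹ = h * f * h⁻¹ := hψF _ (hHF h hh f hf)
    have h3 : h' * f * h'⁻¹ = h * f * h⁻¹ := by
      have h1' : ψ⁻¹ * f * ψ = f := by
        have := h1
        rw [hψinv] at this ⊢
        exact this
      calc h' * f * h'⁻¹ = ψ * (h * (ψ⁻¹ * f * ψ) * h⁻¹) * ψ⁻¹ := by
            rw [hh']; group
        _ = ψ * (h * f * h⁻¹) * ψ⁻¹ := by rw [h1']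
        _ = h * f * h⁻¹ := h2
    calc f * k = h⁻¹ * (h * f * h⁻¹) * h' := by rw [hk]; group
      _ = h⁻¹ * (h' * f * h'⁻¹) * h' := by rw [h3]
      _ = k * f := by rw [hk]; group
  have hkF : k ∈ F := hCF ⟨hkH, hkC⟩
  have h5 : ψ * k * ψ⁻¹ = k := hψF k hkF
  have h6 : ψ * k * ψ⁻¹ = k⁻¹ := by
    have e1 : ψ * h' * ψ⁻¹ = h := by
      rw [hh', hψinv]
      calc ψ * (ψ * h * ψ) * ψ = (ψ * ψ) * h * (ψ * ψ) := by group
        _ = h := by rw [hψ2]; group
    calc ψ * k * ψ⁻¹ = (ψ * h * ψ⁻¹)⁻¹ * (ψ * h' * ψ⁻¹) := by rw [hk]; group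
      _ = h'⁻¹ * h := by rw [e1]
      _ = k⁻¹ := by rw [hk]; group
  have h7 : k * k = 1 := by
    have : k⁻¹ = k := by rw [← h6, h5]
    calc k * k = k * k⁻¹ := by rw [this]
      _ = 1 := mul_inv_cancel k
  have h8 : (⟨k, hkH⟩ : ↥H) = 1 := by
    apply eq_one_of_mul_self_of_odd hodd
    exact Subtype.ext h7
  have h9 : k = 1 := congrArg Subtype.val h8
  have h10 : h' = h := by
    calc h' = h * (h⁻¹ * h') := by group
      _ = h := by rw [← hk, h9, mul_one]
  exact h10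

end Main

end Cfsg.Agent.Lead.Fpf4
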