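import Mathlib
import Cfsg.Agent.Lead.Fpf4d
import Cfsg.Agent.Helper5.ChiefHol
import Cfsg.Agent.S3766

set_option autoImplicit false

/-! # fpf automorphisms of order 4: ambient form -/

namespace Cfsg.Agent.Lead.Fpf4

open Cfsg Cfsg.Agent.Helper10

section Ambient

variable {X : Type*} [Group X] [Finite X]

/-- a group with an fpf automorphism of 2-power order has odd order (ambient form) -/
theorem odd_card_of_fpf (N : Subgroup X) [hN : N.Normal] (s : X) (hs4 : s ^ 4 = 1)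
    (hfpf : ∀ n ∈ N, s * n * s⁻¹ = n → n = 1) : Odd (Nat.card N) := by
  classical
  -- the 2-group ⟨s⟩ acts on N by conjugation
  let S : Subgroup X := Subgroup.zpowers s
  have hS2 : IsPGroup 2 ↥S := by
    apply IsPGroup.of_card (n := Nat.log 2 (Nat.card S))
    have h1 : Nat.card S = orderOf s := Nat.card_zpowers s
    have h2 : orderOf s ∣ 2 ^ 2 := orderOf_dvd_of_pow_eq_one (by norm_num; exact hs4)
    obtain ⟨k, _, hk⟩ := (Nat.dvd_prime_pow Nat.prime_two).1 h2
    rw [h1, hk, Nat.log_pow (by norm_num)]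
  let _ : MulAction ↥S ↥N :=
    { smul := fun g n => ⟨g * n * (g : X)⁻¹, hN.conj_mem n n.2 g⟩
      one_smul := by intro n; apply Subtype.ext; show (1 : X) * n * (1 : X)⁻¹ = n; group
      mul_smul := by
        intro a b n; apply Subtype.ext
        show ((a : X) * b) * n * ((a : X) * b)⁻¹ = a * (b * n * (b : X)⁻¹) * (a : X)⁻¹
        group }
  have hfix : MulAction.fixedPoints ↥S ↥N = {1} := by
    ext n
    rw [Set.mem_singleton_iff]
    constructor
    · intro hn
      have h1 := hn ⟨s, Subgroup.mem_zpowers s⟩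
      have h2 : s * (n : X) * s⁻¹ = n := congrArg Subtype.val h1
      exact Subtype.ext (hfpf n n.2 h2)
    · rintro rfl g
      apply Subtype.ext
      show (g : X) * (1 : X) * (g : X)⁻¹ = 1
      group
  have h1 := hS2.card_modEq_card_fixedPoints ↥N
  rw [hfix] at h1
  have h2 : Nat.card ({1} : Set ↥N) = 1 := by simp
  rw [h2] at h1
  rw [Nat.odd_iff]
  exact h1

theorem comm_sq_mem_fitting (hX : Group.IsSolvable X) (N : Subgroup X) [hN : N.Normal] (s : X)
    (hs4 : s ^ 4 = 1) (hfpf : ∀ n ∈ N, s * n * s⁻¹ = n → n = 1) :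
    ∀ g ∈ N, s * s * g * (s * s)⁻¹ * g⁻¹ ∈ (fittingSubgroup ↥N).map N.subtype := by
  intro g hg
  set k := s * s * g * (s * s)⁻¹ * g⁻¹ with hk
  have hkN : k ∈ N := N.mul_mem (hN.conj_mem g hg (s * s)) (N.inv_mem hg)
  rw [(Cfsg.Agent.S3766.result hX N k).2]
  refine ⟨hkN, ?_⟩
  rintro U V ⟨hUn, hVn, hVU, hmin⟩ hUF
  have hchief : IsChiefFactor U V := ⟨hVU, hUn, hVn, hmin⟩
  set Ft := (fittingSubgroup ↥N).map N.subtype with hFt
  have hFtn : Ft.Normal := ConjAct.normal_of_characteristic_of_normal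
  have hFtnil : Group.IsNilpotent ↥Ft := Cfsg.Agent.Lead.BG8.fittingOf_isNilpotent N
  have hFtN : Ft ≤ N := Cfsg.Agent.Lead.BG8.fittingOf_le N
  have hUN : U ≤ N := hUF.trans hFtN
  have hcomm := Cfsg.Agent.Helper5.ChiefHol.ub_comm hchief Ft hFtn hFtnil hUF
  obtain ⟨ℓ, hℓ, _, hexp⟩ := Cfsg.Agent.Helper5.ChiefHol.ub_exists_prime hchief hcomm
  haveI : Fact ℓ.Prime := ⟨hℓ⟩
  letI : CommGroup ↥(Ub U V) := { (inferInstance : Group ↥(Ub U V)) with mul_comm := hcomm }
  have hWp : IsPGroup ℓ ↥(Ub U V) := fun m => ⟨1, by rw [pow_one]; exact hexp m⟩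
  set ρ := rhoZ U V with hρ
  have hoddN : Odd (Nat.card N) := odd_card_of_fpf N s hs4 hfpf
  -- the automorphism of N induced by s
  have hsN : ∀ n ∈ N, s * n * s⁻¹ ∈ N := fun n hn => hN.conj_mem n hn s
  have hsN' := conj_inv_mem_of_conj_mem hsN
  set τ := conjN N s hsN hsN' with hτ
  have hτfpf : ∀ z : ↥N, τ z = z → z = 1 := by
    intro z hz
    have h1 : s * (z : X) * s⁻¹ = z := congrArg Subtype.val hz
    exact Subtype.ext (hfpf z z.2 h1)
  -- main lemma
  have key := sq_centralizes (W := ↥(Ub U V)) hWp (N.map ρ) ρ.range (ρ s) ⟨s, rfl⟩ ?_ ?_ ?_ ?_ ?_ ?_ ?_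
  · -- conclude
    have h1 := key (ρ g) ⟨g, hg, rfl⟩
    have h2 : ρ k = 1 := by
      rw [hk, map_mul, map_mul, map_mul, map_mul, map_inv, map_inv, map_mul, h1, mul_inv_cancel]
    have h3 := comm_of_rhoZ_eq_one U V h2
    intro u hu
    have h4 := h3 u hu
    have e : u * k * u⁻¹ * k⁻¹ = (k * u * k⁻¹ * u⁻¹)⁻¹ := by group
    rw [e]; exact V.inv_mem h4
  · -- H normal in Y
    rintro _ ⟨z, rfl⟩ _ ⟨n, hn, rfl⟩
    refine ⟨z * n * z⁻¹, hN.conj_mem n hn z, ?_⟩
    rw [map_mul, map_mul, map_inv]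
  · -- solvable
    haveI : Group.IsSolvable ↥N := inferInstance
    exact Group.isSolvable_of_surjective (MonoidHom.subgroupMap_surjective ρ N)
  · -- odd
    have h1 : Nat.card (N.map ρ) ∣ Nat.card N := Subgroup.card_map_dvd N ρ
    exact Odd.of_dvd_nat hoddN h1
  · -- t^4 = 1
    rw [← map_pow, hs4, map_one]
  · -- fpf on H
    rintro _ ⟨n, hn, rfl⟩ h
    have h1 : ρ (n⁻¹ * (s * n * s⁻¹)) = 1 := by
      rw [map_mul, map_inv, map_mul, map_mul, map_inv, h, inv_mul_cancel]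
    -- K = N ⊓ ker ρ
    have h2 : (⟨n, hn⟩ : ↥N) ∈ (ρ.ker).subgroupOf N := by
      apply fpf_mem_of_twist_mem τ hτfpf
      · intro z hz
        rw [Subgroup.mem_subgroupOf, MonoidHom.mem_ker] at hz ⊢
        show ρ (s * (z : X) * s⁻¹) = 1
        rw [map_mul, map_mul, hz, mul_one, map_inv, mul_inv_cancel]
      · rw [Subgroup.mem_subgroupOf, MonoidHom.mem_ker]
        exact h1
    rw [Subgroup.mem_subgroupOf, MonoidHom.mem_ker] at h2
    exact h2
  · -- fpf on W
    rintro ⟨_, u, hu, rfl⟩ h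
    have h1 := rhoZ_apply U V s ⟨_, ⟨u, hu, rfl⟩⟩
    rw [← hρ, h] at h1
    have h2 : (QuotientGroup.mk' V) u = (QuotientGroup.mk' V) (s * u * s⁻¹) := by
      rw [map_mul, map_mul, map_inv]; exact h1
    have h3 : u⁻¹ * (s * u * s⁻¹) ∈ V := by
      rw [← QuotientGroup.eq]; exact h2
    have h4 : (⟨u, hUN hu⟩ : ↥N) ∈ V.subgroupOf N := by
      apply fpf_mem_of_twist_mem τ hτfpf
      · intro z hz
        rw [Subgroup.mem_subgroupOf] at hz ⊢
        exact hVn.conj_mem _ hz s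
      · rw [Subgroup.mem_subgroupOf]
        exact h3
    rw [Subgroup.mem_subgroupOf] at h4
    apply Subtype.ext
    exact (QuotientGroup.eq_one_iff u).2 h4
  · -- irreducible
    intro W₀ hW₀
    set F₀ : Subgroup (X ⧸ V) := W₀.map (Ub U V).subtype with hF₀
    have hF₀n : F₀.Normal := by
      constructor
      rintro _ ⟨m, hm, rfl⟩ z
      obtain ⟨z, rfl⟩ := QuotientGroup.mk'_surjective V z
      refine ⟨ρ z m, hW₀ (ρ z) ⟨z, rfl⟩ m hm, ?_⟩
      exact rhoZ_apply U V z m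
    rcases chief_dichotomy hchief F₀ hF₀n (Subgroup.map_subtype_le _) with h0 | h0
    · left
      rw [eq_bot_iff]
      intro w hw
      have : (w : X ⧸ V) ∈ F₀ := ⟨w, hw, rfl⟩
      rw [h0, Subgroup.mem_bot] at this
      exact Subgroup.mem_bot.2 (Subtype.ext this)
    · right
      rw [eq_top_iff]
      intro w _
      have : (w : X ⧸ V) ∈ F₀ := by rw [h0]; exact w.2
      obtain ⟨m, hm, hmw⟩ := this
      have : m = w := Subtype.ext hmw
      rw [← this]; exact hm

end Ambient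

end Cfsg.Agent.Lead.Fpf4
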