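import Mathlib

/-!
# Number theory for the exceptional case of the Gross–Shult theorem (S3793, piece P4)

`p` odd prime, `p ^ n0 = 2 ^ d + 1`, `n0 ≤ n`, `0 < e`, `p ^ n ∣ 2 ^ e - 1`  ⟹  `2 * d * p ^ (n - n0) ≤ e`.
-/

set_option autoImplicit false

namespace Cfsg.Agent.Lead.GrossNT

/-- if `2 ^ d + 1 ∣ 2 ^ e - 1` and `0 < d` then `2 * d ∣ e`. -/
theorem two_mul_dvd_of_dvd {d e : ℕ} (hd : 0 < d) (h : 2 ^ d + 1 ∣ 2 ^ e - 1) : 2 * d ∣ e := by
  set P := 2 ^ d + 1 with hP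
  have hP3 : 3 ≤ P := by
    have : 2 ^ 1 ≤ 2 ^ d := Nat.pow_le_pow_right (by norm_num) hd
    omega
  have : NeZero P := ⟨by omega⟩
  have : Fact (1 < P) := ⟨by omega⟩
  -- in ZMod P: 2^d = -1
  have h1 : ((2 : ZMod P)) ^ d = -1 := by
    have : ((2 ^ d + 1 : ℕ) : ZMod P) = 0 := by
      rw [← hP]; exact ZMod.natCast_self P
    push_cast at this
    exact eq_neg_of_add_eq_zero_left this
  have h2 : ((2 : ZMod P)) ^ (2 * d) = 1 := by
    rw [mul_comm, pow_mul, h1]; norm_num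
  have he : ((2 : ZMod P)) ^ e = 1 := by
    have h1e : 1 ≤ 2 ^ e := Nat.one_le_two_pow
    have : ((2 ^ e - 1 : ℕ) : ZMod P) = 0 := (ZMod.natCast_eq_zero_iff _ _).mpr h
    rw [Nat.cast_sub h1e] at this
    push_cast at this
    exact sub_eq_zero.mp this
  set o := orderOf (2 : ZMod P) with ho
  have ho1 : o ∣ 2 * d := orderOf_dvd_of_pow_eq_one h2
  have ho2 : o ∣ e := orderOf_dvd_of_pow_eq_one he
  have hopos : 0 < o := Nat.pos_of_dvd_of_pos ho1 (by omega)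
  -- 2^o = 1 mod P, so P ∣ 2^o - 1, so o > d
  have h3 : P ∣ 2 ^ o - 1 := by
    have : ((2 : ZMod P)) ^ o = 1 := pow_orderOf_eq_one _
    have h1o : 1 ≤ 2 ^ o := Nat.one_le_two_pow
    rw [← ZMod.natCast_eq_zero_iff, Nat.cast_sub h1o]
    push_cast
    rw [this, sub_self]
  have h4 : d < o := by
    by_contra hcon
    push Not at hcon
    have h5 : 2 ^ o ≤ 2 ^ d := Nat.pow_le_pow_right (by norm_num) hcon
    have h6 : 0 < 2 ^ o - 1 := by
      have : 2 ^ 1 ≤ 2 ^ o := Nat.pow_le_pow_right (by norm_num) hopos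
      omega
    have := Nat.le_of_dvd h6 h3
    omega
  -- o ∣ 2d and o > d ⇒ o = 2d
  obtain ⟨c, hc⟩ := ho1
  have hc1 : c = 1 := by
    rcases Nat.lt_or_ge c 2 with h | h
    · interval_cases c
      · simp at hc; omega
      · rfl
    · exfalso
      have h7 : o * 2 ≤ o * c := Nat.mul_le_mul_left o h
      omega
  rw [hc1, mul_one] at hc
  rw [hc]; exact ho2

/-- **P4**: the dimension bound. -/
theorem main {p : ℕ} (hp : p.Prime) (hp2 : p ≠ 2) {d n0 n e : ℕ} (hP : p ^ n0 = 2 ^ d + 1) (hn : n0 ≤ n)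
    (he : 0 < e) (hdvd : p ^ n ∣ 2 ^ e - 1) : 2 * d * p ^ (n - n0) ≤ e := by
  have : Fact p.Prime := ⟨hp⟩
  have hodd : Odd p := hp.odd_of_ne_two hp2
  have hd : 0 < d := by
    rcases Nat.eq_zero_or_pos d with h | h
    · exfalso
      subst h
      have h2 : p ^ n0 = 2 := by simpa using hP
      have hp2' : p ∣ 2 := by
        have hn0 : n0 ≠ 0 := by
          rintro rfl; simp at h2
        have : p ∣ p ^ n0 := dvd_pow_self p hn0
        rwa [h2] at this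
      exact hp2 ((Nat.prime_dvd_prime_iff_eq hp Nat.prime_two).mp hp2')
    · exact h
  have hn0 : n0 ≠ 0 := by
    rintro rfl
    have : 2 ^ d ≥ 1 := Nat.one_le_two_pow
    simp at hP
  have hPdvd : 2 ^ d + 1 ∣ 2 ^ e - 1 := by
    rw [← hP]; exact (pow_dvd_pow p hn).trans hdvd
  obtain ⟨j, hj⟩ := two_mul_dvd_of_dvd hd hPdvd
  have hj0 : j ≠ 0 := by
    rintro rfl; simp at hj; omega
  -- LTE
  set x := 2 ^ (2 * d) with hx
  have hx1 : 1 < x := by
    have : 2 ^ 1 ≤ 2 ^ (2 * d) := Nat.pow_le_pow_right (by norm_num) (by omega)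
    omega
  have hfac : x - 1 = (2 ^ d - 1) * (2 ^ d + 1) := by
    have h1 : x = 2 ^ d * 2 ^ d := by rw [hx, two_mul, pow_add]
    have h2 : 1 ≤ 2 ^ d := Nat.one_le_two_pow
    rw [h1]
    zify [h2, Nat.one_le_iff_ne_zero.mpr (Nat.mul_ne_zero (by positivity : 2 ^ d ≠ 0) (by positivity : 2 ^ d ≠ 0))]
    ring
  have hpx : p ∣ x - 1 := by
    rw [hfac, ← hP]
    exact dvd_mul_of_dvd_right (dvd_pow_self p hn0) _
  have hpnx : ¬ p ∣ x := by
    intro h
    have := hp.dvd_of_dvd_pow h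
    exact hp2 ((Nat.prime_dvd_prime_iff_eq hp Nat.prime_two).mp this)
  have hnd : ¬ p ∣ 2 ^ d - 1 := by
    intro h
    have h1 : p ∣ 2 ^ d + 1 := by rw [← hP]; exact dvd_pow_self p hn0
    have h2 : 1 ≤ 2 ^ d := Nat.one_le_two_pow
    have h3 : p ∣ (2 ^ d + 1) - (2 ^ d - 1) := Nat.dvd_sub h1 h
    have h4 : (2 ^ d + 1) - (2 ^ d - 1) = 2 := by omega
    rw [h4] at h3
    exact hp2 ((Nat.prime_dvd_prime_iff_eq hp Nat.prime_two).mp h3)
  have hv : padicValNat p (x - 1) = n0 := by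
    rw [hfac, ← hP]
    have h2d : 2 ^ d - 1 ≠ 0 := by
      have : 2 ^ 1 ≤ 2 ^ d := Nat.pow_le_pow_right (by norm_num) hd
      omega
    rw [padicValNat.mul h2d (pow_ne_zero _ hp.ne_zero), padicValNat.prime_pow,
      padicValNat.eq_zero_of_not_dvd hnd, zero_add]
  have hLTE := padicValNat.pow_sub_pow hodd hx1 (by simpa using hpx) hpnx hj0 (y := 1)
  rw [one_pow, hv] at hLTE
  have hxe : x ^ j = 2 ^ e := by rw [hx, ← pow_mul, hj]
  rw [hxe] at hLTE
  have hne : 2 ^ e - 1 ≠ 0 := by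
    have : 2 ^ 1 ≤ 2 ^ e := Nat.pow_le_pow_right (by norm_num) he
    omega
  have hle : n ≤ padicValNat p (2 ^ e - 1) := (padicValNat_dvd_iff_le hne).mp hdvd
  have hvj : n - n0 ≤ padicValNat p j := by omega
  have hpj : p ^ (n - n0) ∣ j := (padicValNat_dvd_iff_le hj0).mpr hvj
  have hjle : p ^ (n - n0) ≤ j := Nat.le_of_dvd (Nat.pos_of_ne_zero hj0) hpj
  calc 2 * d * p ^ (n - n0) ≤ 2 * d * j := Nat.mul_le_mul_left _ hjle
    _ = e := hj.symm

end Cfsg.Agent.Lead.GrossNT
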