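import Mathlib
import Cfsg.Agent.Lead.GrossNT

/-!
# Pieces (A3) and (A2) of helper24's plan for Huppert's theorem (S3360)

* `card_monoidHom_le_of_isCyclic` : `|Hom(B, Z)| ≤ |B|` for `Z` finite cyclic.
* `fermat_bound_abstract` : a `p`-group of automorphisms of an abelian group of order `2^(2k)`, `p = 2^k+1`, has order `1` or `p`.
-/

set_option autoImplicit false
set_option linter.style.haveILetI false

namespace Cfsg.Agent.Lead.HupA

open MulAction

/-- (A3) -/
theorem card_monoidHom_le_of_isCyclic (B : Type*) (Z : Type*) [Group B] [Finite B] [Group Z] [Finite Z]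
    [IsCyclic Z] : Nat.card (B →* Z) ≤ Nat.card B := by
  classical
  let _ : CommGroup Z := IsCyclic.commGroup
  set n := Nat.card Z with hn
  have hn0 : n ≠ 0 := Nat.card_pos.ne'
  have : NeZero n := ⟨hn0⟩
  -- an injective hom Z →* ℂˣ
  have hcard : Nat.card (rootsOfUnity n ℂ) = Nat.card Z := Complex.card_rootsOfUnity n
  let e : Z ≃* rootsOfUnity n ℂ := mulEquivOfCyclicCardEq hcard.symm
  let ι : Z →* ℂˣ := (rootsOfUnity n ℂ).subtype.comp e.toMonoidHom
  have hι : Function.Injective ι := by
    intro a b hab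
    have : e a = e b := Subtype.ext hab
    exact e.injective this
  -- Hom(B, Z) ↪ Hom(B, ℂˣ) ≃ Hom(B^ab, ℂˣ)
  have : Finite (Abelianization B →* ℂˣ) := by
    have := CommGroup.card_monoidHom_of_hasEnoughRootsOfUnity (Abelianization B) ℂ
    exact Nat.finite_of_card_ne_zero (by rw [this]; exact Nat.card_pos.ne')
  have hinj : Function.Injective (fun χ : B →* Z => Abelianization.lift (ι.comp χ)) := by
    intro χ χ' h
    have h1 : ι.comp χ = ι.comp χ' := Abelianization.lift.injective h
    ext b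
    exact hι (DFunLike.congr_fun h1 b)
  calc Nat.card (B →* Z) ≤ Nat.card (Abelianization B →* ℂˣ) := Nat.card_le_card_of_injective _ hinj
    _ = Nat.card (Abelianization B) := CommGroup.card_monoidHom_of_hasEnoughRootsOfUnity _ ℂ
    _ ≤ Nat.card B := Nat.card_le_card_of_surjective (Abelianization.of : B →* Abelianization B) (QuotientGroup.mk_surjective)

/-- a nontrivial element of a `p`-group of automorphisms of `W` (`|W| = 2^(2k)`, `p = 2^k+1`) fixes only `1`. -/
theorem fixed_eq_one {W : Type*} [CommGroup W] [Finite W] (k : ℕ) (hk : 0 < k)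
    (hcard : Nat.card W = 2 ^ (2 * k)) (p : ℕ) (hp : p.Prime) (hpk : p = 2 ^ k + 1)
    (y : MulAut W) (hy : orderOf y = p) (w : W) (hw : y w = w) : w = 1 := by
  classical
  haveI : Fact p.Prime := ⟨hp⟩
  have hp2 : p ≠ 2 := by
    have : 2 ^ 1 ≤ 2 ^ k := Nat.pow_le_pow_right (by norm_num) hk
    omega
  -- the fixed subgroup
  let F : Subgroup W := MonoidHom.eqLocus y.toMonoidHom (MonoidHom.id W)
  have hF : ∀ x, x ∈ F ↔ y x = x := fun x => Iff.rfl
  obtain ⟨j, hj, hFc⟩ := (Nat.dvd_prime_pow Nat.prime_two).mp (hcard ▸ Subgroup.card_subgroup_dvd_card F)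
  -- the p-group zpowers y acts on W
  have hP : IsPGroup p (Subgroup.zpowers y) := by
    apply IsPGroup.of_card (n := 1)
    rw [Nat.card_zpowers, hy, pow_one]
  have hmod := hP.card_modEq_card_fixedPoints W
  have hfix : Nat.card (fixedPoints (Subgroup.zpowers y) W) = Nat.card F := by
    apply Nat.card_congr
    refine Equiv.subtypeEquivRight ?_
    intro x
    show (x ∈ fixedPoints (Subgroup.zpowers y) W) ↔ x ∈ F
    rw [mem_fixedPoints, hF]
    constructor
    · intro h
      have := h ⟨y, Subgroup.mem_zpowers y⟩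
      exact this
    · intro h g
      obtain ⟨g, hg⟩ := g
      obtain ⟨i, rfl⟩ := Subgroup.mem_zpowers_iff.mp hg
      show (y ^ i) x = x
      have hfb : x ∈ MulAction.fixedBy W y := h
      exact MulAction.mem_fixedBy_zpow hfb i
  rw [hfix, hcard, hFc] at hmod
  -- j = 0
  have hj0 : j = 0 := by
    by_contra hjne
    rcases Nat.lt_or_ge j (2 * k) with hlt | hge
    · -- p ∣ 2^(2k-j) - 1
      have h1 : 2 ^ (2 * k) = 2 ^ j * 2 ^ (2 * k - j) := by
        rw [← pow_add]; congr 1; omega
      have h2 : p ∣ 2 ^ (2 * k) - 2 ^ j := (Nat.modEq_iff_dvd' (Nat.pow_le_pow_right (by norm_num) hlt.le)).mp hmod.symm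
      have h3 : 2 ^ (2 * k) - 2 ^ j = 2 ^ j * (2 ^ (2 * k - j) - 1) := by
        rw [h1, Nat.mul_sub, mul_one]
      rw [h3] at h2
      have h4 : p ∣ 2 ^ (2 * k - j) - 1 := by
        rcases (Nat.Prime.dvd_mul hp).mp h2 with h | h
        · exfalso
          have := hp.dvd_of_dvd_pow h
          exact hp2 ((Nat.prime_dvd_prime_iff_eq hp Nat.prime_two).mp this)
        · exact h
      rw [hpk] at h4
      have h5 := Cfsg.Agent.Lead.GrossNT.two_mul_dvd_of_dvd hk h4
      have h6 : 0 < 2 * k - j := by omega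
      have := Nat.le_of_dvd h6 h5
      omega
    · -- F = W, so y = 1
      have hj' : j = 2 * k := le_antisymm hj hge
      have hFtop : F = ⊤ := by
        apply Subgroup.eq_top_of_card_eq
        rw [hFc, hcard, hj']
      have hy1 : y = 1 := by
        ext x
        have : x ∈ F := by rw [hFtop]; trivial
        exact (hF x).mp this
      rw [hy1, orderOf_one] at hy
      exact hp.one_lt.ne hy
  rw [hj0, pow_zero] at hFc
  have hFbot : F = ⊥ := Subgroup.card_eq_one.mp hFc
  have : w ∈ F := (hF w).mpr hw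
  rw [hFbot, Subgroup.mem_bot] at this
  exact this

/-- (A2) -/
theorem fermat_bound_abstract {W : Type*} [CommGroup W] [Finite W] (k : ℕ)
    (hcard : Nat.card W = 2 ^ (2 * k)) (p : ℕ) (hp : p.Prime) (hpk : p = 2 ^ k + 1)
    (P : Subgroup (MulAut W)) (hP : IsPGroup p P) : Nat.card P ∣ p := by
  classical
  haveI : Fact p.Prime := ⟨hp⟩
  rcases Nat.eq_zero_or_pos k with hk | hk
  · -- W trivial
    subst hk
    have hW : Nat.card W = 1 := by simpa using hcard
    haveI : Subsingleton W := (Nat.card_eq_one_iff_unique.mp hW).1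
    haveI : Subsingleton (MulAut W) := ⟨fun a b => by ext x; exact Subsingleton.elim _ _⟩
    have : Nat.card P = 1 := Nat.card_eq_one_iff_unique.mpr ⟨inferInstance, ⟨1⟩⟩
    rw [this]; exact one_dvd p
  have hp2 : p ≠ 2 := by
    have : 2 ^ 1 ≤ 2 ^ k := Nat.pow_le_pow_right (by norm_num) hk
    omega
  haveI : Finite (MulAut W) := Finite.of_injective (fun f : MulAut W => (f : W → W)) DFunLike.coe_injective
  haveI := Fintype.ofFinite W
  haveI := Fintype.ofFinite P
  -- every nontrivial g ∈ P fixes only 1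
  have hfree : ∀ g : P, g ≠ 1 → ∀ w : W, g • w = w → w = 1 := by
    intro g hg w hw
    obtain ⟨j, hj⟩ := (IsPGroup.iff_orderOf.mp hP) g
    have hj0 : j ≠ 0 := by
      rintro rfl
      rw [pow_zero, orderOf_eq_one_iff] at hj
      exact hg hj
    -- y = g^(p^(j-1)) has order p
    set y : MulAut W := ((g ^ (p ^ (j - 1)) : P) : MulAut W) with hy
    have hyo : orderOf y = p := by
      rw [hy, Subgroup.orderOf_coe, orderOf_pow' g (pow_ne_zero _ hp.ne_zero), hj]
      have : p ^ j = p ^ (j - 1) * p := by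
        rw [← pow_succ]; congr 1; omega
      rw [this, Nat.gcd_eq_right (Dvd.intro _ rfl)]
      exact Nat.mul_div_cancel_left p (pow_pos hp.pos _)
    have hyw : y w = w := by
      have h1 : ((g ^ ((p ^ (j - 1) : ℕ) : ℤ) : P)) • w = w :=
        MulAction.mem_fixedBy_zpow (show w ∈ MulAction.fixedBy W g from hw) _
      rw [zpow_natCast] at h1
      exact h1
    exact fixed_eq_one k hk hcard p hp hpk y hyo w hyw
  -- Burnside count
  have hB := MulAction.sum_card_fixedBy_eq_card_orbits_mul_card_group P W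
  have hfix1 : Fintype.card (MulAction.fixedBy W (1 : P)) = Fintype.card W := by
    apply Fintype.card_congr
    exact (Equiv.subtypeUnivEquiv (fun w => by simp ))
  have hfixg : ∀ g : P, g ≠ 1 → Fintype.card (MulAction.fixedBy W g) = 1 := by
    intro g hg
    rw [Fintype.card_eq_one_iff]
    refine ⟨⟨1, by simp⟩, ?_⟩
    rintro ⟨w, hw⟩
    exact Subtype.ext (hfree g hg w hw)
  have hsum : (∑ g : P, Fintype.card (MulAction.fixedBy W g)) = Fintype.card W + (Fintype.card P - 1) := by
    rw [← Finset.add_sum_erase Finset.univ _ (Finset.mem_univ (1 : P)), hfix1]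
    congr 1
    rw [Finset.sum_congr rfl (fun g hg => hfixg g (Finset.ne_of_mem_erase hg)), Finset.sum_const,
      Finset.card_erase_of_mem (Finset.mem_univ _), Finset.card_univ, smul_eq_mul, mul_one]
  rw [hsum] at hB
  -- card P ∣ card W - 1
  have hPpos : 0 < Fintype.card P := Fintype.card_pos
  have hWpos : 0 < Fintype.card W := Fintype.card_pos
  have hdvd : Fintype.card P ∣ Fintype.card W - 1 := by
    have h1 : Fintype.card W - 1 + Fintype.card P = Fintype.card (Quotient (MulAction.orbitRel P W)) * Fintype.card P := by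
      omega
    have h2 : Fintype.card P ∣ Fintype.card W - 1 + Fintype.card P := by
      rw [h1]; exact Dvd.intro_left _ rfl
    exact (Nat.dvd_add_left (dvd_refl _)).mp h2
  rw [← Nat.card_eq_fintype_card, ← Nat.card_eq_fintype_card, hcard] at hdvd
  -- 2^(2k) - 1 = (p-2) * p
  have hfac : 2 ^ (2 * k) - 1 = (p - 2) * p := by
    have h1 : 2 ^ (2 * k) = 2 ^ k * 2 ^ k := by rw [two_mul, pow_add]
    have h2 : 2 ≤ 2 ^ k := by
      calc 2 = 2 ^ 1 := by norm_num
        _ ≤ 2 ^ k := Nat.pow_le_pow_right (by norm_num) hk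
    rw [h1, hpk]
    have : 2 ^ k + 1 - 2 = 2 ^ k - 1 := by omega
    rw [this]
    zify [h2, Nat.one_le_two_pow (n := k), Nat.one_le_iff_ne_zero.mpr (Nat.mul_ne_zero (by positivity : 2 ^ k ≠ 0) (by positivity : 2 ^ k ≠ 0))]
    ring
  rw [hfac] at hdvd
  obtain ⟨a, ha⟩ := hP.exists_card_eq
  rw [ha] at hdvd ⊢
  rcases a with _ | _ | a
  · simp
  · simp
  · exfalso
    -- p^2 ∣ (p-2) p ⇒ p ∣ p - 2
    have h1 : p ^ 2 ∣ (p - 2) * p := (pow_dvd_pow p (by omega)).trans hdvd
    have h2 : p ∣ p - 2 := by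
      rw [sq] at h1
      exact Nat.dvd_of_mul_dvd_mul_right hp.pos h1
    have h3 : 2 < p := lt_of_le_of_ne hp.two_le (Ne.symm hp2)
    have h4 : 0 < p - 2 := by omega
    have := Nat.le_of_dvd h4 h2
    omega

end Cfsg.Agent.Lead.HupA
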