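import Mathlib

set_option autoImplicit false
open Pointwise

/-! Bridge from an abstract action `MulDistribMulAction A G` to subgroups of the semidirect
product `G ⋊ A`: `Gs = inl(G)` (normal), `As = inr(A)`, fixed points ↔ `Gs ⊓ C(As)`,
`⟨g⁻¹ · a • g⟩ ↔ ⁅Gs, As⁆`. -/

namespace Cfsg.Agent.Lead

open Subgroup SemidirectProduct
open scoped commutatorElement

variable (G A : Type*) [Group G] [Group A] [MulDistribMulAction A G]

/-- The semidirect product `G ⋊ A` of an action by automorphisms. -/
abbrev SD : Type _ := G ⋊[MulDistribMulAction.toMulAut A G] A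

instance [Finite G] [Finite A] : Finite (SD G A) :=
  Finite.of_equiv _ (SemidirectProduct.equivProd).symm

/-- The image of `G` in `G ⋊ A`. -/
def Gs : Subgroup (SD G A) := (inl : G →* SD G A).range

/-- The image of `A` in `G ⋊ A`. -/
def As : Subgroup (SD G A) := (inr : A →* SD G A).range

instance : (Gs G A).Normal := by
  unfold Gs
  rw [range_inl_eq_ker_rightHom]
  infer_instance

theorem As_le_normalizer_Gs : As G A ≤ normalizer ((Gs G A : Subgroup (SD G A)) : Set (SD G A)) := by
  rw [normalizer_eq_top]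
  exact le_top

theorem card_Gs : Nat.card (Gs G A) = Nat.card G :=
  (Nat.card_congr (MonoidHom.ofInjective (f := (inl : G →* SD G A)) inl_injective).toEquiv).symm

theorem card_As : Nat.card (As G A) = Nat.card A :=
  (Nat.card_congr (MonoidHom.ofInjective (f := (inr : A →* SD G A)) inr_injective).toEquiv).symm

variable {G A}

theorem inr_mul_inl_mul_inr_inv (a : A) (g : G) :
    (inr a : SD G A) * inl g * (inr a)⁻¹ = inl (a • g) := by
  rw [← map_inv, ← inl_aut]
  rfl

theorem inl_mem_centralizer_As_iff (g : G) :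
    (inl g : SD G A) ∈ centralizer ((As G A : Subgroup (SD G A)) : Set (SD G A)) ↔
      g ∈ MulAction.fixedPoints A G := by
  rw [mem_centralizer_iff, MulAction.mem_fixedPoints]
  constructor
  · intro h a
    have h1 := h (inr a) ⟨a, rfl⟩
    have h2 : (inr a : SD G A) * inl g * (inr a)⁻¹ = inl g := by
      rw [h1]; group
    rw [inr_mul_inl_mul_inr_inv] at h2
    exact inl_injective h2
  · rintro h _ ⟨a, rfl⟩
    have h2 := inr_mul_inl_mul_inr_inv (G := G) a g
    rw [h a] at h2
    calc (inr a : SD G A) * inl g = inr a * inl g * (inr a)⁻¹ * inr a := by group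
      _ = inl g * inr a := by rw [h2]

theorem map_inl_closure_commutators :
    (closure {y : G | ∃ (a : A) (g : G), y = g⁻¹ * a • g}).map (inl : G →* SD G A) =
      ⁅Gs G A, As G A⁆ := by
  rw [MonoidHom.map_closure, Subgroup.commutator_def]
  congr 1
  ext x
  constructor
  · rintro ⟨y, ⟨a, g, rfl⟩, rfl⟩
    refine ⟨inl g⁻¹, ⟨g⁻¹, rfl⟩, inr a, ⟨a, rfl⟩, ?_⟩
    rw [commutatorElement_def, map_mul, ← inr_mul_inl_mul_inr_inv, map_inv, inv_inv]
    group
  · rintro ⟨_, ⟨g, rfl⟩, _, ⟨a, rfl⟩, rfl⟩
    refine ⟨g * a • g⁻¹, ⟨a, g⁻¹, by rw [inv_inv]⟩, ?_⟩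
    rw [commutatorElement_def, map_mul, ← inr_mul_inl_mul_inr_inv, map_inv]
    group

end Cfsg.Agent.Lead
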