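import Mathlib
import Cfsg.Agent.Helper1.S4504MDefs

set_option autoImplicit false

/-! # S4504 piece M-TRANS (generic form): transport of the polynomial `sl₂`-model to a `JData`
module.  `exists_sl2_triple_of` is `S4504P.exists_sl2_triple` with the statement of
`S4504P.exists_sl2_model` (piece M-MODEL) as an explicit hypothesis. -/

universe u

namespace Cfsg.Agent.Lead.S4504TRANS

open Cfsg.Agent.Helper5.GC Module Cfsg.Agent.S4504P

/-- two maps agreeing on a cyclic vector and intertwining agree -/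
theorem eq_of_cyclic {k : Type*} [Field k] {M V : Type*} [AddCommGroup M] [Module k M]
    [AddCommGroup V] [Module k V] (A : Module.End k M) (B : Module.End k V) (m' : ℕ)
    (U : Module.End k M) (hU : U = A ^ m' - 1)
    (L₁ L₂ : M →ₗ[k] V) (h1 : ∀ w, L₁ (A w) = B (L₁ w)) (h2 : ∀ w, L₂ (A w) = B (L₂ w))
    (v : M) (hv : L₁ v = L₂ v) (d : ℕ)
    (hspan : Submodule.span k (Set.range fun j : Fin d => (U ^ (j : ℕ)) v) = ⊤) : L₁ = L₂ := by
  have hA : ∀ w ∈ LinearMap.eqLocus L₁ L₂, A w ∈ LinearMap.eqLocus L₁ L₂ := by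
    intro w hw
    rw [LinearMap.mem_eqLocus] at hw ⊢
    rw [h1, h2, hw]
  have hApow : ∀ (i : ℕ) (w : M), w ∈ LinearMap.eqLocus L₁ L₂ →
      (A ^ i) w ∈ LinearMap.eqLocus L₁ L₂ := by
    intro i
    induction i with
    | zero => intro w hw; simpa using hw
    | succ i ih =>
      intro w hw
      rw [pow_succ', Module.End.mul_apply]
      exact hA _ (ih w hw)
  have hUm : ∀ w ∈ LinearMap.eqLocus L₁ L₂, U w ∈ LinearMap.eqLocus L₁ L₂ := by
    intro w hw
    rw [hU, LinearMap.sub_apply, Module.End.one_apply]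
    exact Submodule.sub_mem _ (hApow m' w hw) hw
  have hUpow : ∀ (i : ℕ), (U ^ i) v ∈ LinearMap.eqLocus L₁ L₂ := by
    intro i
    induction i with
    | zero => simpa using hv
    | succ i ih =>
      rw [pow_succ', Module.End.mul_apply]
      exact hUm _ ih
  have htop : LinearMap.eqLocus L₁ L₂ = ⊤ := by
    rw [eq_top_iff, ← hspan, Submodule.span_le]
    rintro _ ⟨j, rfl⟩
    exact hUpow j
  ext w
  have : w ∈ LinearMap.eqLocus L₁ L₂ := by rw [htop]; trivial
  exact this

theorem exists_sl2_triple_of {k : Type u} [Field k]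
    (hmodel : ∀ n : ℕ, 1 ≤ n → ((n + 2).factorial : k) ≠ 0 →
      ∃ (V : Type u) (_ : AddCommGroup V) (_ : Module k V) (_ : FiniteDimensional k V)
      (T R : k → Module.End k V) (E H F : Module.End k V) (v₀ : V),
      finrank k V = n + 1 ∧ T 0 = 1 ∧ (∀ a b, T a * T b = T (a + b)) ∧
      (∀ c, T c * E = E * T c) ∧ (∀ c, T c * H = (H - (2 * c) • E) * T c) ∧
      (∀ c, T c * F = (F + c • H - (c * c) • E) * T c) ∧
      (∀ c, c • (R c * E) = E * R c) ∧ (∀ c, R c * H = H * R c) ∧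
      (∀ c, R c * F = c • (F * R c)) ∧
      (∀ c, T 1 * R c = R c * T c) ∧ (∀ c, R c v₀ = c ^ n • v₀) ∧
      H * E - E * H = (2 : k) • E ∧ E * F - F * E = H ∧ H * F - F * H = -((2 : k) • F) ∧
      LinearMap.trace k V (E * F) ≠ 0 ∧
      LinearIndependent k (fun j : Fin (n + 1) => ((T 1 - 1) ^ (j : ℕ)) v₀) ∧
      ((T 1 - 1) ^ (n + 1)) v₀ = 0)
    {G : Type*} [Group G] {p : ℕ} [Fact p.Prime]
    [CharP k p] {H : Subgroup G} {x : G} (hxp : x ^ p = 1)
    {M : Type*} [AddCommGroup M] [Module k M] [FiniteDimensional k M]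
    (σ : Representation k G M) (d : ℕ) (hd2 : 2 ≤ d) (hdp : d + 1 < p) (J : JData H x σ d) :
    ∃ E H₀ F : Module.End k M,
      σ x * E = E * σ x ∧ σ x * H₀ = (H₀ - (2 : k) • E) * σ x ∧ σ x * F = (F + H₀ - E) * σ x ∧
      (∀ h ∈ H, ∀ m : ℕ, h⁻¹ * x * h = x ^ m →
        (m : k) • (σ h * E) = E * σ h ∧ σ h * H₀ = H₀ * σ h ∧ σ h * F = (m : k) • (F * σ h)) ∧
      H₀ * E - E * H₀ = (2 : k) • E ∧ E * F - F * E = H₀ ∧ H₀ * F - F * H₀ = -((2 : k) • F) ∧
      LinearMap.trace k M (E * F) ≠ 0 := by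
  have hpp : p.Prime := Fact.out
  obtain ⟨n, rfl⟩ : ∃ n, d = n + 1 := ⟨d - 1, by omega⟩
  have hn1 : 1 ≤ n := by omega
  have hfact : ((n + 2).factorial : k) ≠ 0 := by
    rw [Ne, CharP.cast_eq_zero_iff k p]
    intro h
    have := (Nat.Prime.dvd_factorial hpp).1 h
    omega
  obtain ⟨V, iV1, iV2, iV3, T, R, E, H0, F, v₀, hfr, hT0, hTadd, hTE, hTH, hTF, hRE, hRH, hRF, hTR,
    hRv, hHE, hEF, hHF, htr, hli, hz⟩ := hmodel n hn1 hfact
  -- bases
  let bM : Basis (Fin (n + 1)) k M := Basis.mk J.hli (by rw [J.hspan])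
  have hbM : ∀ i : Fin (n + 1), bM i = (uop σ x ^ (i : ℕ)) J.v := fun i => by
    simp only [bM, Basis.mk_apply]
  let bV : Basis (Fin (n + 1)) k V :=
    basisOfLinearIndependentOfCardEqFinrank hli (by rw [Fintype.card_fin, hfr])
  have hbV : ∀ i : Fin (n + 1), bV i = ((T 1 - 1) ^ (i : ℕ)) v₀ := fun i => by
    simp only [bV, coe_basisOfLinearIndependentOfCardEqFinrank]
  let Φ : M ≃ₗ[k] V := bM.equiv bV (Equiv.refl _)
  have hΦ : ∀ i : Fin (n + 1), Φ (bM i) = bV i := fun i => by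
    simp only [Φ, Basis.equiv_apply, Equiv.refl_apply]
  -- intertwining
  have hΦu : ∀ w : M, Φ (uop σ x w) = (T 1 - 1) (Φ w) := by
    have : (Φ : M →ₗ[k] V) ∘ₗ (uop σ x) = (T 1 - 1) ∘ₗ (Φ : M →ₗ[k] V) := by
      apply bM.ext
      intro i
      simp only [LinearMap.comp_apply, LinearEquiv.coe_coe]
      rw [hΦ, hbV, hbM, ← Module.End.mul_apply, ← pow_succ', ← Module.End.mul_apply, ← pow_succ']
      by_cases hi : (i : ℕ) + 1 < n + 1
      · have := hΦ ⟨(i : ℕ) + 1, hi⟩
        rw [hbM, hbV] at this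
        exact this
      · have hi' : (i : ℕ) + 1 = n + 1 := by have := i.2; omega
        rw [hi', J.hzero, hz, map_zero]
    intro w
    exact LinearMap.congr_fun this w
  have hΦx : ∀ w : M, Φ (σ x w) = T 1 (Φ w) := by
    intro w
    have := hΦu w
    rw [uop_apply, map_sub, LinearMap.sub_apply, Module.End.one_apply] at this
    exact sub_left_injective this
  -- the transport
  let c : Module.End k V ≃ₐ[k] Module.End k M := Φ.symm.conjAlgEquiv k
  have hc : ∀ (f : Module.End k V) (w : M), c f w = Φ.symm (f (Φ w)) := fun f w => rfl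
  have hcT : c (T 1) = σ x := by
    ext w
    rw [hc, ← hΦx, LinearEquiv.symm_apply_apply]
  have htrc : ∀ f : Module.End k V, LinearMap.trace k M (c f) = LinearMap.trace k V f := by
    intro f
    have : c f = Φ.symm.conj f := by
      ext w
      rfl
    rw [this, LinearMap.trace_conj']
  have hTpow : ∀ j : ℕ, T 1 ^ j = T (j : k) := by
    intro j
    induction j with
    | zero => rw [pow_zero, Nat.cast_zero, hT0]
    | succ j ih => rw [pow_succ, ih, hTadd, Nat.cast_succ]
  have hΦpow : ∀ (j : ℕ) (w : M), Φ (σ (x ^ j) w) = T (j : k) (Φ w) := by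
    intro j w
    have h1 : σ (x ^ j) = c (T (j : k)) := by rw [map_pow, ← hcT, ← map_pow, hTpow]
    rw [h1, hc, LinearEquiv.apply_symm_apply]
  refine ⟨c E, c H0, c F, ?_, ?_, ?_, ?_, ?_, ?_, ?_, ?_⟩
  · rw [← hcT, ← map_mul, ← map_mul, hTE 1]
  · rw [← hcT, ← map_mul, hTH 1, mul_one, map_mul, map_sub, map_smul]
  · rw [← hcT, ← map_mul, hTF 1, one_smul, mul_one, one_smul, map_mul, map_sub, map_add]
  · intro h hh m hm
    have hux : (uop σ x) J.v ≠ 0 := by
      have := J.hli.ne_zero (⟨1, by omega⟩ : Fin (n + 1))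
      simpa using this
    have hx1 : x ≠ 1 := by
      rintro rfl
      apply hux
      rw [uop_apply, map_one, Module.End.one_apply, sub_self]
    have hxm1 : x ^ m ≠ 1 := by
      intro h0
      apply hx1
      rw [h0] at hm
      have := congrArg (fun y => h * y * h⁻¹) hm
      simpa [mul_assoc] using this
    have hpm : ¬ p ∣ m := by
      rintro ⟨q, rfl⟩
      apply hxm1
      rw [pow_mul, hxp, one_pow]
    have hmk : (m : k) ≠ 0 := by
      rw [Ne, CharP.cast_eq_zero_iff k p]; exact hpm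
    have hcop : Nat.Coprime m p := ((Nat.Prime.coprime_iff_not_dvd hpp).2 hpm).symm
    obtain ⟨m', -, hm'⟩ := Nat.exists_mul_mod_eq_one_of_coprime hcop hpp.one_lt
    have hxmm : (x ^ m) ^ m' = x := by
      rw [← pow_mul, ← Nat.div_add_mod (m * m') p, hm', pow_add, pow_mul, hxp, one_pow, one_mul,
        pow_one]
    have hxh : h * x ^ m = x * h := by rw [← hm]; group
    -- the two maps
    have hmn : ((m : k)) ^ n ≠ 0 := pow_ne_zero _ hmk
    have hΦv : Φ J.v = v₀ := by
      have h0 := hΦ ⟨0, by omega⟩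
      rw [hbM, hbV] at h0
      simpa using h0
    have hL : (Φ : M →ₗ[k] V) ∘ₗ (σ h) =
        ((J.μ h / (m : k) ^ n) • R (m : k)) ∘ₗ (Φ : M →ₗ[k] V) := by
      apply eq_of_cyclic (σ (x ^ m)) (T 1) m' (uop σ x) _ _ _ _ _ J.v _ (n + 1) J.hspan
      · rw [← map_pow, hxmm]; rfl
      · intro w
        simp only [LinearMap.comp_apply, LinearEquiv.coe_coe]
        rw [← Module.End.mul_apply, ← map_mul, hxh, map_mul, Module.End.mul_apply, hΦx]
      · intro w
        simp only [LinearMap.comp_apply, LinearEquiv.coe_coe, LinearMap.smul_apply]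
        rw [hΦpow, ← Module.End.mul_apply, ← hTR, Module.End.mul_apply, map_smul]
      · simp only [LinearMap.comp_apply, LinearEquiv.coe_coe, LinearMap.smul_apply]
        rw [J.hμ h hh, map_smul, hΦv, hRv, smul_smul, div_mul_cancel₀ _ hmn]
    have hS : σ h = c ((J.μ h / (m : k) ^ n) • R (m : k)) := by
      ext w
      rw [hc]
      have := LinearMap.congr_fun hL w
      simp only [LinearMap.comp_apply, LinearEquiv.coe_coe] at this
      rw [← this, LinearEquiv.symm_apply_apply]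
    refine ⟨?_, ?_, ?_⟩
    · rw [hS, ← map_mul, ← map_smul, ← map_mul]
      congr 1
      rw [smul_mul_assoc, smul_comm, hRE, mul_smul_comm]
    · rw [hS, ← map_mul, ← map_mul]
      congr 1
      rw [smul_mul_assoc, hRH, mul_smul_comm]
    · rw [hS, ← map_mul, ← map_mul, ← map_smul]
      congr 1
      rw [smul_mul_assoc, hRF, mul_smul_comm, smul_comm]
  · rw [← map_mul, ← map_mul, ← map_sub, hHE, map_smul]
  · rw [← map_mul, ← map_mul, ← map_sub, hEF]
  · rw [← map_mul, ← map_mul, ← map_sub, hHF, map_neg, map_smul]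
  · rw [← map_mul, htrc]
    exact htr

end Cfsg.Agent.Lead.S4504TRANS
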