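import Mathlib
import Cfsg.Agent.Helper1.S0997TDefs
import Cfsg.Agent.Helper1.S4504MainA

/-!
# S0997, TUAN half, piece T-HU: `(Ad x - 1)^(p-1)` kills the skew-adjoint endomorphisms
-/

set_option autoImplicit false

namespace Cfsg.Agent.S0997P

open Cfsg.Agent.Helper5.GC Module Cfsg.Agent.S4504P

namespace HU

/-- For commuting `a`, `b` with `a^(e+1) = 0 = b^(e+1)`, only the middle term of the binomial
expansion of `(a+b)^(2e)` survives. -/
theorem add_pow_mid {R : Type*} [Semiring R] {a b : R} (hab : Commute a b) (e : ℕ)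
    (ha : a ^ (e + 1) = 0) (hb : b ^ (e + 1) = 0) :
    (a + b) ^ (2 * e) = a ^ e * b ^ e * ((2 * e).choose e : R) := by
  rw [hab.add_pow]
  rw [Finset.sum_eq_single e]
  · have : 2 * e - e = e := by omega
    rw [this]
  · intro m hm hme
    rcases Nat.lt_or_gt_of_ne hme with h | h
    · have h1 : 2 * e - m = (e + 1) + (e - 1 - m) := by omega
      rw [h1, pow_add, hb, zero_mul, mul_zero, zero_mul]
    · have h1 : m = (e + 1) + (m - e - 1) := by omega
      rw [h1, pow_add, ha, zero_mul, zero_mul, zero_mul]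
  · intro h
    exfalso
    apply h
    rw [Finset.mem_range]
    omega

end HU

theorem uop_pow_skew_eq_zero {k : Type*} [Field k] {G : Type*} [Group G] {p : ℕ} [Fact p.Prime]
    [CharP k p] {H : Subgroup G} {x : G} (hxp : x ^ p = 1)
    {M : Type*} [AddCommGroup M] [Module k M] [FiniteDimensional k M]
    (σ : Representation k G M) (d : ℕ) (hd : 2 * d = p + 1) (hp4 : p % 4 = 1)
    (J : JData H x σ d)
    (β : LinearMap.BilinForm k M) (hβs : ∀ v w, β v w = β w v) (hβn : β.Nondegenerate)
    (hβx : ∀ v w, β (σ x v) (σ x w) = β v w)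
    (φ : Module.End k M) (hφ : φ ∈ skewSub β) :
    (uop (Ad σ) x ^ (p - 1)) φ = 0 := by
  have hp : p.Prime := Fact.out
  have hp2 : 2 ≤ p := hp.two_le
  obtain ⟨e, rfl⟩ : ∃ e, d = e + 1 := ⟨d - 1, by omega⟩
  have hpe : p - 1 = 2 * e := by omega
  have h2 : (2 : k) ≠ 0 := by
    intro h
    have h' : ((2 : ℕ) : k) = 0 := by exact_mod_cast h
    have h'' := (CharP.cast_eq_zero_iff k p 2).mp h'
    have := Nat.le_of_dvd (by norm_num) h''
    omega
  set ν : Module.End k M := uop σ x with hν
  have hν' : ν = σ x - 1 := rfl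
  have hνd : ν ^ (e + 1) = 0 := uop_pow_eq_zero_of_JData J
  set L : Module.End k (Module.End k M) := LinearMap.mulLeft k (σ x) with hL
  set R : Module.End k (Module.End k M) := LinearMap.mulRight k (σ x⁻¹) with hR
  have hLR : Commute L R := LinearMap.commute_mulLeft_right (σ x) (σ x⁻¹)
  have hAd : Ad σ x = L * R := by
    apply LinearMap.ext
    intro ψ
    rw [Ad_apply, Module.End.mul_apply, hL, hR, LinearMap.mulLeft_apply, LinearMap.mulRight_apply,
      mul_assoc]
  have hL1 : L - 1 = LinearMap.mulLeft k ν := by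
    apply LinearMap.ext
    intro ψ
    rw [LinearMap.sub_apply, hL, LinearMap.mulLeft_apply, LinearMap.mulLeft_apply, hν', sub_mul,
      one_mul, Module.End.one_apply]
  set c : Module.End k M := σ x⁻¹ - 1 with hc
  have hR1 : R - 1 = LinearMap.mulRight k c := by
    apply LinearMap.ext
    intro ψ
    rw [LinearMap.sub_apply, hR, LinearMap.mulRight_apply, LinearMap.mulRight_apply, hc, mul_sub,
      mul_one, Module.End.one_apply]
  have hxx : σ x⁻¹ * σ x = 1 := by rw [← map_mul, inv_mul_cancel, map_one]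
  have hxx' : σ x * σ x⁻¹ = 1 := by rw [← map_mul, mul_inv_cancel, map_one]
  have hcu : c = -(σ x⁻¹ * ν) := by
    rw [hc, hν', mul_sub, hxx, mul_one, neg_sub]
  have hcomm : Commute (σ x⁻¹) ν := by
    rw [hν']
    refine Commute.sub_right ?_ (Commute.one_right _)
    show σ x⁻¹ * σ x = σ x * σ x⁻¹
    rw [hxx, hxx']
  have hcd : c ^ (e + 1) = 0 := by
    rw [hcu, neg_pow, hcomm.mul_pow, hνd, mul_zero, mul_zero]
  have hLd : (L - 1) ^ (e + 1) = 0 := by
    rw [hL1, LinearMap.pow_mulLeft, hνd, LinearMap.mulLeft_zero_eq_zero]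
  have hRd : (R - 1) ^ (e + 1) = 0 := by
    rw [hR1, LinearMap.pow_mulRight, hcd, LinearMap.mulRight_zero_eq_zero]
  have hL1R : Commute (L - 1) R := hLR.sub_left (Commute.one_left _)
  have had : ((L - 1) * R) ^ (e + 1) = 0 := by
    rw [hL1R.mul_pow, hLd, zero_mul]
  have hsum : uop (Ad σ) x = (L - 1) * R + (R - 1) := by
    show Ad σ x - 1 = (L - 1) * R + (R - 1)
    rw [hAd, sub_mul, one_mul]
    abel
  have hab : Commute ((L - 1) * R) (R - 1) := by
    have h1 : Commute (L - 1) (R - 1) := hL1R.sub_right (Commute.one_right _)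
    have h2' : Commute R (R - 1) := (Commute.refl R).sub_right (Commute.one_right _)
    exact h1.mul_left h2'
  -- the adjoint of `ν` is `c`
  have hadj : ∀ a b : M, β (ν a) b = β a (c b) := by
    intro a b
    have h1 : σ x (σ x⁻¹ b) = b := by
      have := congrArg (fun F : Module.End k M => F b) hxx'
      simpa only [Module.End.mul_apply, Module.End.one_apply] using this
    have h3 : β (σ x a) b = β a (σ x⁻¹ b) := by
      rw [← hβx a (σ x⁻¹ b), h1]
    rw [hν', hc, LinearMap.sub_apply, LinearMap.sub_apply, Module.End.one_apply,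
      Module.End.one_apply, map_sub, LinearMap.sub_apply, map_sub, h3]
  have hadjpow : ∀ (j : ℕ) (a b : M), β ((ν ^ j) a) b = β a ((c ^ j) b) := by
    intro j
    induction j with
    | zero => intro a b; simp
    | succ j ih =>
      intro a b
      rw [pow_succ, Module.End.mul_apply, ih, hadj, pow_succ', Module.End.mul_apply]
  -- the image of `c ^ e` is spanned by `w₁ = c^e v₀`
  have hck : ∀ j : ℕ, 1 ≤ j → (c ^ e) ((ν ^ j) J.v) = 0 := by
    intro j hj
    have h1 : c ^ e * ν ^ j = 0 := by
      rw [hcu, neg_pow, hcomm.mul_pow, mul_assoc, mul_assoc, ← pow_add]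
      have : e + j = (e + 1) + (j - 1) := by omega
      rw [this, pow_add, hνd, zero_mul, mul_zero, mul_zero]
    have := congrArg (fun F : Module.End k M => F J.v) h1
    simpa only [Module.End.mul_apply, LinearMap.zero_apply] using this
  have hrank : ∀ v : M, ∃ t : k, (c ^ e) v = t • (c ^ e) J.v := by
    intro v
    have hv : v ∈ Submodule.span k (Set.range fun j : Fin (e + 1) => (uop σ x ^ (j : ℕ)) J.v) := by
      rw [J.hspan]
      exact Submodule.mem_top
    induction hv using Submodule.span_induction with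
    | mem y hy =>
      obtain ⟨j, rfl⟩ := hy
      by_cases hj : (j : ℕ) = 0
      · refine ⟨1, ?_⟩
        simp only [hj, pow_zero, Module.End.one_apply, one_smul]
      · refine ⟨0, ?_⟩
        rw [zero_smul]
        exact hck j (by omega)
    | zero => exact ⟨0, by rw [map_zero, zero_smul]⟩
    | add y z _ _ hy hz =>
      obtain ⟨t, ht⟩ := hy
      obtain ⟨s, hs⟩ := hz
      exact ⟨t + s, by rw [map_add, ht, hs, add_smul]⟩
    | smul a y _ hy =>
      obtain ⟨t, ht⟩ := hy
      exact ⟨a * t, by rw [map_smul, ht, smul_smul]⟩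
  set w₁ : M := (c ^ e) J.v with hw₁
  have hφw : β (φ w₁) w₁ = 0 := by
    have h1 := (mem_skewSub β φ).mp hφ w₁ w₁
    rw [hβs w₁ (φ w₁)] at h1
    have h3 : (2 : k) * β (φ w₁) w₁ = 0 := by rw [two_mul]; exact h1
    rcases mul_eq_zero.mp h3 with h | h
    · exact absurd h h2
    · exact h
  rw [hpe, hsum, HU.add_pow_mid hab e had hRd, Module.End.mul_apply]
  have hmid : (((L - 1) * R) ^ e * (R - 1) ^ e) φ = 0 := by
    rw [hL1R.mul_pow, hL1, hR1, LinearMap.pow_mulLeft, LinearMap.pow_mulRight,
      LinearMap.pow_mulRight]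
    simp only [Module.End.mul_apply, LinearMap.mulLeft_apply, LinearMap.mulRight_apply]
    apply LinearMap.ext
    intro v
    rw [LinearMap.zero_apply]
    apply hβn.1
    intro w
    simp only [Module.End.mul_apply]
    rw [hadjpow]
    obtain ⟨t, ht⟩ := hrank ((σ x⁻¹ ^ e) v)
    obtain ⟨s, hs⟩ := hrank w
    rw [ht, hs]
    simp only [map_smul, LinearMap.smul_apply, hφw, smul_zero]
  -- the natural-number cast acts as a scalar
  have hcast : ∀ (n : ℕ) (ψ : Module.End k M),
      ((n : Module.End k (Module.End k M))) ψ = (n : k) • ψ := by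
    intro n ψ
    induction n with
    | zero => simp
    | succ n ih =>
      rw [Nat.cast_succ, LinearMap.add_apply, ih, Module.End.one_apply, Nat.cast_succ, add_smul,
        one_smul]
  rw [hcast, map_smul, hmid, smul_zero]

end Cfsg.Agent.S0997P
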