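import Mathlib
import Cfsg.Agent.Helper13.S4504CNTB

set_option autoImplicit false
set_option linter.unusedSectionVars false

/-! # S4504 piece M-CNTA: the abstract Dickson fixed-point count.

A finite group `G` acts on a set `X`; a central `p'`-subgroup `K` acts trivially, every `p`-regular
element outside `K` fixes exactly two points, the element `x` of order `p` fixes exactly `ℓ₀`,
`C_G(x) = <x> K`, `Stab(ℓ₀) ≤ N_G(<x>)` and `p ∥ |G|`.  Counting pairs `(g, fixed point of g)`,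
`g ∉ K`, over the orbits of points with stabiliser bigger than `K` gives
`|G:N_G(<x>)| ∈ {1, p + 1}` (arithmetic end: `count_arith`, helper13). -/

namespace Cfsg.Agent.Lead.S4504CNTA

open Finset
open scoped Pointwise

variable {G : Type*} [Group G] {X : Type*} [MulAction G X]




open Classical in
/-- conjugation-invariant counting -/
theorem card_filter_smul [Fintype G] (A : Finset G)
    (hA : ∀ h g : G, g ∈ A → h * g * h⁻¹ ∈ A) (h : G) (ℓ : X) :
    (A.filter fun g => g • (h • ℓ) = h • ℓ).card = (A.filter fun g => g • ℓ = ℓ).card := by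
  refine Finset.card_bij' (fun g _ => h⁻¹ * g * h) (fun g _ => h * g * h⁻¹) ?_ ?_ ?_ ?_
  · intro g hg
    rw [Finset.mem_filter] at hg ⊢
    refine ⟨?_, ?_⟩
    · have := hA h⁻¹ g hg.1
      rwa [inv_inv] at this
    · rw [mul_smul, mul_smul, hg.2, inv_smul_smul]
  · intro g hg
    rw [Finset.mem_filter] at hg ⊢
    refine ⟨hA h g hg.1, ?_⟩
    rw [mul_smul, mul_smul, inv_smul_smul, hg.2]
  · intro g _
    group
  · intro g _
    group

open Classical in
/-- the orbit as a finset -/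
noncomputable def Orb [Fintype G] (ℓ : X) : Finset X := Finset.univ.image (fun g : G => g • ℓ)

open Classical in
theorem mem_Orb [Fintype G] (ℓ m : X) : m ∈ Orb (G := G) ℓ ↔ ∃ g : G, g • ℓ = m := by
  simp [Orb]

open Classical in
theorem Orb_coe [Fintype G] (ℓ : X) : ((Orb (G := G) ℓ : Finset X) : Set X) = MulAction.orbit G ℓ := by
  ext m
  simp [Orb, MulAction.orbit]

open Classical in
theorem card_Orb [Fintype G] (ℓ : X) :
    (Orb (G := G) ℓ).card = (MulAction.stabilizer G ℓ).index := by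
  rw [MulAction.index_stabilizer, ← Orb_coe, Set.ncard_coe_finset]

open Classical in
theorem card_Orb_mul [Fintype G] (ℓ : X) :
    (Orb (G := G) ℓ).card * Nat.card (MulAction.stabilizer G ℓ) = Nat.card G := by
  rw [card_Orb, mul_comm, Subgroup.card_mul_index]

open Classical in
/-- double counting over an orbit -/
theorem sum_card_filter_Orb [Fintype G] (A : Finset G)
    (hA : ∀ h g : G, g ∈ A → h * g * h⁻¹ ∈ A) (ℓ : X) :
    ∑ g ∈ A, ((Orb (G := G) ℓ).filter fun m => g • m = m).card =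
      (Orb (G := G) ℓ).card * (A.filter fun g => g • ℓ = ℓ).card := by
  have := Finset.sum_card_bipartiteAbove_eq_sum_card_bipartiteBelow
    (s := A) (t := Orb (G := G) ℓ) (r := fun (g : G) (m : X) => g • m = m)
  simp only [Finset.bipartiteAbove, Finset.bipartiteBelow] at this
  rw [this]
  rw [Finset.sum_congr rfl (g := fun _ => (A.filter fun g => g • ℓ = ℓ).card)]
  · rw [Finset.sum_const, smul_eq_mul]
  · intro m hm
    obtain ⟨h, rfl⟩ := (mem_Orb ℓ m).1 hm
    exact card_filter_smul A hA h ℓ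

open Classical in
theorem Orb_disjoint [Fintype G] (ℓ m : X) (h : m ∉ Orb (G := G) ℓ) :
    Disjoint (Orb (G := G) ℓ) (Orb (G := G) m) := by
  rw [Finset.disjoint_left]
  intro a ha hb
  obtain ⟨g, rfl⟩ := (mem_Orb ℓ a).1 ha
  obtain ⟨g', hg'⟩ := (mem_Orb m _).1 hb
  apply h
  rw [mem_Orb]
  refine ⟨g'⁻¹ * g, ?_⟩
  rw [mul_smul, ← hg', inv_smul_smul]

open Classical in
theorem card_filter_mem [Fintype G] (H : Subgroup G) :
    (Finset.univ.filter fun g : G => g ∈ H).card = Nat.card H := by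
  rw [Nat.card_eq_fintype_card, Fintype.card_subtype]





theorem normal_of_le_center' (K : Subgroup G) (hKc : K ≤ Subgroup.center G) : K.Normal := by
  refine ⟨fun n hn g => ?_⟩
  have h := hKc hn
  rw [Subgroup.mem_center_iff] at h
  rw [h g, mul_inv_cancel_right]
  exact hn

section
variable [Finite G] (p : ℕ) [Fact p.Prime] (x : G) (hx : orderOf x = p)
  (K : Subgroup G) (hKp : ¬ p ∣ Nat.card K)

include hx in
theorem orderOf_eq_of_mem (a : G) (ha : a ∈ Subgroup.zpowers x) (ha1 : a ≠ 1) : orderOf a = p := by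
  have hpp : p.Prime := Fact.out
  have h1 : orderOf a ∣ p := by
    have := Subgroup.orderOf_dvd_natCard (Subgroup.zpowers x) ha
    rwa [Nat.card_zpowers, hx] at this
  rcases (Nat.dvd_prime hpp).1 h1 with h | h
  · exact absurd (orderOf_eq_one_iff.1 h) ha1
  · exact h

include hKp in
theorem not_dvd_orderOf_of_mem (g : G) (hg : g ∈ K) : ¬ p ∣ orderOf g := by
  intro h
  exact hKp (h.trans (Subgroup.orderOf_dvd_natCard K hg))

include hx hKp in
theorem not_mem_K (a : G) (ha : a ∈ Subgroup.zpowers x) (ha1 : a ≠ 1) : a ∉ K := by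
  intro h
  have := not_dvd_orderOf_of_mem p K hKp a h
  rw [orderOf_eq_of_mem p x hx a ha ha1] at this
  exact this dvd_rfl

include hx in
theorem mem_zpowers_of_mem (a : G) (ha : a ∈ Subgroup.zpowers x) (ha1 : a ≠ 1) :
    x ∈ Subgroup.zpowers a := by
  have hle : Subgroup.zpowers a ≤ Subgroup.zpowers x := Subgroup.zpowers_le.2 ha
  have : Subgroup.zpowers a = Subgroup.zpowers x := by
    apply Subgroup.eq_of_le_of_card_ge hle
    rw [Nat.card_zpowers, Nat.card_zpowers, hx, orderOf_eq_of_mem p x hx a ha ha1]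
  rw [this]
  exact Subgroup.mem_zpowers x

include hx in
theorem fix_iff (ℓ₀ : X) (h1 : ∀ ℓ : X, x • ℓ = ℓ ↔ ℓ = ℓ₀)
    (a : G) (ha : a ∈ Subgroup.zpowers x) (ha1 : a ≠ 1) (ℓ : X) : a • ℓ = ℓ ↔ ℓ = ℓ₀ := by
  constructor
  · intro h
    have h2 : a ∈ MulAction.stabilizer G ℓ := h
    have h3 : Subgroup.zpowers a ≤ MulAction.stabilizer G ℓ := Subgroup.zpowers_le.2 h2
    have h4 := h3 (mem_zpowers_of_mem p x hx a ha ha1)
    exact (h1 ℓ).1 h4
  · rintro rfl
    have h2 : x ∈ MulAction.stabilizer G ℓ := (h1 ℓ).2 rfl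
    have h3 : Subgroup.zpowers x ≤ MulAction.stabilizer G ℓ := Subgroup.zpowers_le.2 h2
    exact h3 ha

include hx in
/-- the stabiliser of `ℓ₀` is the normaliser -/
theorem stab_eq (ℓ₀ : X) (h1 : ∀ ℓ : X, x • ℓ = ℓ ↔ ℓ = ℓ₀)
    (hstab : ∀ g : G, g • ℓ₀ = ℓ₀ →
      g ∈ Subgroup.normalizer ((Subgroup.zpowers x : Subgroup G) : Set G)) :
    MulAction.stabilizer G ℓ₀ = Subgroup.normalizer ((Subgroup.zpowers x : Subgroup G) : Set G) := by
  ext g
  constructor
  · intro h
    exact hstab g h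
  · intro hg
    rw [MulAction.mem_stabilizer_iff]
    have hpp : p.Prime := Fact.out
    have hx1 : x ≠ 1 := by
      intro h
      rw [h, orderOf_one] at hx
      exact hpp.one_lt.ne hx
    have h2 : g * x * g⁻¹ ∈ Subgroup.zpowers x :=
      (Subgroup.mem_normalizer_iff.1 hg x).1 (Subgroup.mem_zpowers x)
    have h3 : g * x * g⁻¹ ≠ 1 := by
      intro h
      apply hx1
      have := congrArg (fun y => g⁻¹ * y * g) h
      simpa [mul_assoc] using this
    apply (fix_iff p x hx ℓ₀ h1 _ h2 h3 (g • ℓ₀)).1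
    rw [mul_smul, mul_smul, inv_smul_smul, (h1 ℓ₀).2 rfl]

end





theorem sing_structure [Finite G] (p : ℕ) [Fact p.Prime] (x : G) (hx : orderOf x = p)
    (hsyl : ¬ p ^ 2 ∣ Nat.card G) (K : Subgroup G) (hKc : K ≤ Subgroup.center G)
    (hKp : ¬ p ∣ Nat.card K)
    (hcent : ∀ g : G, g * x = x * g → g ∈ Subgroup.zpowers x ⊔ K)
    (g : G) (hg : p ∣ orderOf g) :
    ∃ h a c : G, a ∈ Subgroup.zpowers x ∧ a ≠ 1 ∧ c ∈ K ∧ g = h * (a * c) * h⁻¹ := by
  have hpp : p.Prime := Fact.out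
  have := normal_of_le_center' K hKc
  have hcardP : Nat.card (Subgroup.zpowers x) = p := by rw [Nat.card_zpowers, hx]
  have hfac : (Nat.card G).factorization p = 1 := by
    have hG0 : Nat.card G ≠ 0 := Nat.card_pos.ne'
    have h1 : 1 ≤ (Nat.card G).factorization p := by
      rw [← hpp.pow_dvd_iff_le_factorization hG0, pow_one, ← hx]
      exact orderOf_dvd_natCard x
    have h2 : ¬ 2 ≤ (Nat.card G).factorization p := by
      rw [← hpp.pow_dvd_iff_le_factorization hG0]
      exact hsyl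
    omega
  let Ps : Sylow p G := Sylow.ofCard (Subgroup.zpowers x) (by rw [hcardP, hfac, pow_one])
  have hPs : (Ps : Subgroup G) = Subgroup.zpowers x := Sylow.coe_ofCard _ _
  have ho0 : orderOf g ≠ 0 := (orderOf_pos g).ne'
  have hyo : orderOf (g ^ (orderOf g / p)) = p := orderOf_pow_orderOf_div ho0 hg
  have hyp : IsPGroup p (Subgroup.zpowers (g ^ (orderOf g / p))) :=
    IsPGroup.of_card (n := 1) (by rw [Nat.card_zpowers, hyo, pow_one])
  obtain ⟨Q, hQ⟩ := hyp.exists_le_sylow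
  obtain ⟨h, hh⟩ := MulAction.exists_smul_eq G Ps Q
  have hyQ : g ^ (orderOf g / p) ∈ (Q : Subgroup G) := hQ (Subgroup.mem_zpowers _)
  have hzpow : h⁻¹ * g ^ (orderOf g / p) * h = (h⁻¹ * g * h) ^ (orderOf g / p) := by
    have := conj_pow (a := h⁻¹) (b := g) (i := orderOf g / p)
    rw [inv_inv] at this
    exact this.symm
  have hz : h⁻¹ * g ^ (orderOf g / p) * h ∈ Subgroup.zpowers x := by
    rw [← hh, Sylow.coe_subgroup_smul, Subgroup.mem_pointwise_smul_iff_inv_smul_mem, hPs] at hyQ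
    rw [hzpow]
    simpa [MulAut.smul_def] using hyQ
  have hz1 : h⁻¹ * g ^ (orderOf g / p) * h ≠ 1 := by
    intro h0
    have : g ^ (orderOf g / p) = 1 := by
      have := congrArg (fun y => h * y * h⁻¹) h0
      simpa [mul_assoc] using this
    rw [this, orderOf_one] at hyo
    exact hpp.one_lt.ne hyo
  have hxz := mem_zpowers_of_mem p x hx _ hz hz1
  obtain ⟨i, hi⟩ := Subgroup.mem_zpowers_iff.1 hxz
  have hcomm : Commute (h⁻¹ * g * h) x := by
    rw [← hi, hzpow]
    exact ((Commute.refl _).pow_right _).zpow_right _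
  have hmem := hcent _ hcomm.eq
  have hmem' : (h⁻¹ * g * h) ∈ ((Subgroup.zpowers x ⊔ K : Subgroup G) : Set G) := hmem
  rw [Subgroup.mul_normal, Set.mem_mul] at hmem'
  obtain ⟨a, ha, c, hc, hac⟩ := hmem'
  refine ⟨h, a, c, ha, ?_, hc, ?_⟩
  · rintro rfl
    rw [one_mul] at hac
    have hgK : g ∈ K := by
      have h1 : g = h * c * h⁻¹ := by rw [hac]; group
      rw [h1]
      exact Subgroup.Normal.conj_mem inferInstance c hc h
    exact not_dvd_orderOf_of_mem p K hKp g hgK hg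
  · rw [hac]; group





section
variable [Finite G] (p : ℕ) [Fact p.Prime] (x : G) (hx : orderOf x = p)
    (hsyl : ¬ p ^ 2 ∣ Nat.card G) (K : Subgroup G) (hKc : K ≤ Subgroup.center G)
    (hKp : ¬ p ∣ Nat.card K)
    (hKfix : ∀ g ∈ K, ∀ ℓ : X, g • ℓ = ℓ) (ℓ₀ : X)
    (h1 : ∀ ℓ : X, x • ℓ = ℓ ↔ ℓ = ℓ₀)
    (hcent : ∀ g : G, g * x = x * g → g ∈ Subgroup.zpowers x ⊔ K)
    (hstab : ∀ g : G, g • ℓ₀ = ℓ₀ →
      g ∈ Subgroup.normalizer ((Subgroup.zpowers x : Subgroup G) : Set G))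

include hx hsyl hKc hKp hKfix h1 hcent in
theorem sing_fix (g : G) (hg : p ∣ orderOf g) : ∃ h : G, ∀ ℓ : X, g • ℓ = ℓ ↔ ℓ = h • ℓ₀ := by
  obtain ⟨h, a, c, ha, ha1, hc, rfl⟩ := sing_structure p x hx hsyl K hKc hKp hcent g hg
  refine ⟨h, fun ℓ => ?_⟩
  have key : (h * (a * c) * h⁻¹) • ℓ = ℓ ↔ a • (h⁻¹ • ℓ) = h⁻¹ • ℓ := by
    rw [mul_smul, mul_smul, mul_smul, hKfix c hc]
    constructor
    · intro h2
      have := congrArg (fun m => h⁻¹ • m) h2
      simpa using this
    · intro h2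
      rw [h2, smul_inv_smul]
  rw [key, fix_iff p x hx ℓ₀ h1 a ha ha1]
  constructor
  · intro h2
    rw [← h2, smul_inv_smul]
  · intro h2
    rw [h2, inv_smul_smul]

include hx hsyl hKc hKp hKfix h1 hcent hstab in
theorem sing_stab_iff (g : G) :
    (p ∣ orderOf g ∧ g • ℓ₀ = ℓ₀) ↔ (g ∈ Subgroup.zpowers x ⊔ K ∧ g ∉ K) := by
  have hpp : p.Prime := Fact.out
  have hKn := normal_of_le_center' K hKc
  constructor
  · rintro ⟨hg, hfix⟩
    refine ⟨?_, fun hgK => not_dvd_orderOf_of_mem p K hKp g hgK hg⟩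
    obtain ⟨h, a, c, ha, ha1, hc, rfl⟩ := sing_structure p x hx hsyl K hKc hKp hcent g hg
    -- the fixed point of g is h • ℓ₀
    have key : (h * (a * c) * h⁻¹) • (h • ℓ₀) = h • ℓ₀ := by
      rw [mul_smul, mul_smul, mul_smul, inv_smul_smul, hKfix c hc,
        (fix_iff p x hx ℓ₀ h1 a ha ha1 ℓ₀).2 rfl]
    -- both ℓ₀ and h • ℓ₀ are fixed by g, which has a unique fixed point
    obtain ⟨h', hh'⟩ := sing_fix p x hx hsyl K hKc hKp hKfix ℓ₀ h1 hcent _ hg
    have e1 : ℓ₀ = h' • ℓ₀ := (hh' ℓ₀).1 hfix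
    have e2 : h • ℓ₀ = h' • ℓ₀ := (hh' _).1 key
    have hN : h ∈ Subgroup.normalizer ((Subgroup.zpowers x : Subgroup G) : Set G) :=
      hstab h (by rw [e2, ← e1])
    have h3 : h * (a * c) * h⁻¹ = (h * a * h⁻¹) * c := by
      have hcc := hKc hc
      rw [Subgroup.mem_center_iff] at hcc
      calc h * (a * c) * h⁻¹ = h * a * (c * h⁻¹) := by group
        _ = h * a * (h⁻¹ * c) := by rw [← hcc h⁻¹]
        _ = (h * a * h⁻¹) * c := by group
    rw [h3]
    exact Subgroup.mul_mem _ (Subgroup.mem_sup_left ((Subgroup.mem_normalizer_iff.1 hN a).1 ha))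
      (Subgroup.mem_sup_right hc)
  · rintro ⟨hg, hgK⟩
    have hmem' : g ∈ ((Subgroup.zpowers x ⊔ K : Subgroup G) : Set G) := hg
    rw [Subgroup.mul_normal, Set.mem_mul] at hmem'
    obtain ⟨a, ha, c, hc, rfl⟩ := hmem'
    have ha1 : a ≠ 1 := by
      rintro rfl
      rw [one_mul] at hgK
      exact hgK hc
    refine ⟨?_, ?_⟩
    · have hcomm : Commute a c := by
        have hcc := hKc hc
        rw [Subgroup.mem_center_iff] at hcc
        exact hcc a
      have hcop : (orderOf a).Coprime (orderOf c) := by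
        rw [orderOf_eq_of_mem p x hx a ha ha1]
        exact (Nat.Prime.coprime_iff_not_dvd hpp).2 (not_dvd_orderOf_of_mem p K hKp c hc)
      rw [hcomm.orderOf_mul_eq_mul_orderOf_of_coprime hcop, orderOf_eq_of_mem p x hx a ha ha1]
      exact dvd_mul_right _ _
    · rw [mul_smul, hKfix c hc, (fix_iff p x hx ℓ₀ h1 a ha ha1 ℓ₀).2 rfl]

include hx hKc hKp in
theorem card_sup : Nat.card (Subgroup.zpowers x ⊔ K : Subgroup G) = p * Nat.card K := by
  have hpp : p.Prime := Fact.out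
  have hKn := normal_of_le_center' K hKc
  have hinf : K ⊓ Subgroup.zpowers x = ⊥ := by
    rw [eq_bot_iff]
    intro a ha
    rw [Subgroup.mem_bot]
    by_contra ha1
    exact not_mem_K p x hx K hKp a ha.2 ha1 ha.1
  have h2 : K.relIndex (Subgroup.zpowers x ⊔ K) = p := by
    rw [Subgroup.relIndex_sup_right, ← Subgroup.inf_relIndex_right, hinf,
      Subgroup.relIndex_bot_left, Nat.card_zpowers, hx]
  have h3 := Subgroup.relIndex_mul_relIndex (⊥ : Subgroup G) K (Subgroup.zpowers x ⊔ K) bot_le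
    le_sup_right
  rw [Subgroup.relIndex_bot_left, Subgroup.relIndex_bot_left, h2] at h3
  rw [← h3, mul_comm]

include hx hKc hcent in
theorem centralizer_eq :
    Subgroup.centralizer ((Subgroup.zpowers x : Subgroup G) : Set G) = Subgroup.zpowers x ⊔ K := by
  apply le_antisymm
  · intro g hg
    rw [Subgroup.mem_centralizer_iff] at hg
    exact hcent g (hg x (Subgroup.mem_zpowers x)).symm
  · apply sup_le
    · intro a ha
      rw [Subgroup.mem_centralizer_iff]
      intro b hb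
      obtain ⟨i, rfl⟩ := Subgroup.mem_zpowers_iff.1 ha
      obtain ⟨j, rfl⟩ := Subgroup.mem_zpowers_iff.1 hb
      exact (((Commute.refl x).zpow_right i).zpow_left j).eq
    · intro c hc
      rw [Subgroup.mem_centralizer_iff]
      intro b _
      have hcc := hKc hc
      rw [Subgroup.mem_center_iff] at hcc
      exact hcc b

include hx hKc hKp hcent in
theorem card_normalizer :
    ∃ e : ℕ, e ∣ p - 1 ∧
      Nat.card (Subgroup.normalizer ((Subgroup.zpowers x : Subgroup G) : Set G)) =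
        e * (p * Nat.card K) := by
  have hpp : p.Prime := Fact.out
  set P : Subgroup G := Subgroup.zpowers x with hP
  have key := Subgroup.card_dvd_of_injective _ (QuotientGroup.kerLift_injective P.normalizerMonoidHom)
  rw [Subgroup.normalizerMonoidHom_ker, ← Subgroup.index, ← Subgroup.relIndex] at key
  have hcyc : IsCyclic P := by rw [hP]; infer_instance
  rw [hcyc.card_mulAut, hP, Nat.card_zpowers, hx, Nat.totient_prime hpp] at key
  refine ⟨_, key, ?_⟩
  have hle : Subgroup.centralizer (P : Set G) ≤ Subgroup.normalizer (P : Set G) :=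
    Subgroup.centralizer_le_normalizer (P : Set G)
  have h3 := Subgroup.relIndex_mul_relIndex (⊥ : Subgroup G) _ _ bot_le hle
  rw [Subgroup.relIndex_bot_left, Subgroup.relIndex_bot_left] at h3
  rw [← h3, centralizer_eq p x hx K hKc hcent, card_sup p x hx K hKc hKp, mul_comm]

end





open Classical in
theorem sum_Orb_card_filter [Fintype G] (A : Finset G)
    (hA : ∀ h g : G, g ∈ A → h * g * h⁻¹ ∈ A) (ℓ : X) :
    ∑ m ∈ Orb (G := G) ℓ, (A.filter fun g => g • m = m).card =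
      (Orb (G := G) ℓ).card * (A.filter fun g => g • ℓ = ℓ).card := by
  rw [Finset.sum_congr rfl (g := fun _ => (A.filter fun g => g • ℓ = ℓ).card)]
  · rw [Finset.sum_const, smul_eq_mul]
  · intro m hm
    obtain ⟨h, rfl⟩ := (mem_Orb ℓ m).1 hm
    exact card_filter_smul A hA h ℓ

open Classical in
/-- `#{g ∈ H, g ∉ K} + #K = #H` for `K ≤ H` -/
theorem card_filter_sdiff [Fintype G] (H K : Subgroup G) (hKH : K ≤ H) :
    (Finset.univ.filter fun g : G => g ∈ H ∧ g ∉ K).card + Nat.card K = Nat.card H := by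
  rw [← card_filter_mem K, ← card_filter_mem H]
  have := Finset.card_filter_add_card_filter_not
    (s := Finset.univ.filter fun g : G => g ∈ H) (p := fun g => g ∈ K)
  rw [Finset.filter_filter, Finset.filter_filter] at this
  rw [← this, add_comm]
  congr 1
  apply congrArg
  apply Finset.filter_congr
  intro g _
  constructor
  · intro h; exact ⟨hKH h, h⟩
  · intro h; exact h.2


section main
variable [Finite G] (p : ℕ) [Fact p.Prime] (x : G) (hx : orderOf x = p)
    (hsyl : ¬ p ^ 2 ∣ Nat.card G) (K : Subgroup G) (hKc : K ≤ Subgroup.center G)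
    (hKp : ¬ p ∣ Nat.card K)
    (hKfix : ∀ g ∈ K, ∀ ℓ : X, g • ℓ = ℓ) (ℓ₀ : X)
    (h2 : ∀ g : G, g ∉ K → ¬ p ∣ orderOf g → {ℓ : X | g • ℓ = ℓ}.ncard = 2)
    (h1 : ∀ ℓ : X, x • ℓ = ℓ ↔ ℓ = ℓ₀)
    (hcent : ∀ g : G, g * x = x * g → g ∈ Subgroup.zpowers x ⊔ K)
    (hstab : ∀ g : G, g • ℓ₀ = ℓ₀ →
      g ∈ Subgroup.normalizer ((Subgroup.zpowers x : Subgroup G) : Set G))

include hx hsyl hKc hKp hKfix h2 h1 hcent hstab in
open Classical in
/-- the counting identity, in additive form -/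
theorem count_key [Fintype G] (hp5 : 5 ≤ p) :
    ∃ e : ℕ, e ∣ p - 1 ∧
      let nb := (Subgroup.normalizer ((Subgroup.zpowers x : Subgroup G) : Set G)).index
      let g0 := p * e * nb
      (g0 = 2 + nb * (p - 2) ∨ ∃ s : ℕ, 2 ≤ s ∧ s * (2 + nb * (p - 2)) = g0) := by
  have hpp : p.Prime := Fact.out
  have hKn := normal_of_le_center' K hKc
  obtain ⟨e, he, hNcard⟩ := card_normalizer p x hx K hKc hKp hcent
  refine ⟨e, he, ?_⟩
  intro nb g0
  have hstabN := stab_eq p x hx ℓ₀ h1 hstab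
  have hkpos : 0 < Nat.card K := Nat.card_pos
  -- the finsets
  set Kc : Finset G := Finset.univ.filter (fun g => g ∉ K) with hKcdef
  set Sing : Finset G := Finset.univ.filter (fun g => p ∣ orderOf g) with hSingdef
  have hKcinv : ∀ h g : G, g ∈ Kc → h * g * h⁻¹ ∈ Kc := by
    intro h g hg
    rw [hKcdef, Finset.mem_filter] at hg ⊢
    refine ⟨Finset.mem_univ _, fun hc => hg.2 ?_⟩
    have := Subgroup.Normal.conj_mem hKn _ hc h⁻¹
    simpa [mul_assoc] using this
  have hSinginv : ∀ h g : G, g ∈ Sing → h * g * h⁻¹ ∈ Sing := by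
    intro h g hg
    rw [hSingdef, Finset.mem_filter] at hg ⊢
    refine ⟨Finset.mem_univ _, ?_⟩
    have : orderOf (h * g * h⁻¹) = orderOf g := by
      have := orderOf_injective (MulAut.conj h).toMonoidHom (MulAut.conj h).injective g
      simpa using this
    rw [this]; exact hg.2
  have hSingKc : ∀ g ∈ Sing, g ∈ Kc := by
    intro g hg
    rw [hSingdef, Finset.mem_filter] at hg
    rw [hKcdef, Finset.mem_filter]
    exact ⟨Finset.mem_univ _, fun hc => not_dvd_orderOf_of_mem p K hKp g hc hg.2⟩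
  have hxKc : x ∈ Kc := by
    rw [hKcdef, Finset.mem_filter]
    refine ⟨Finset.mem_univ _, ?_⟩
    apply not_mem_K p x hx K hKp x (Subgroup.mem_zpowers x)
    intro h
    rw [h, orderOf_one] at hx
    exact hpp.one_lt.ne hx
  -- finiteness
  have hfin : ∀ g ∈ Kc, {ℓ : X | g • ℓ = ℓ}.Finite := by
    intro g hg
    by_cases hs : p ∣ orderOf g
    · obtain ⟨h, hh⟩ := sing_fix p x hx hsyl K hKc hKp hKfix ℓ₀ h1 hcent g hs
      exact Set.Finite.subset (Set.finite_singleton (h • ℓ₀)) (fun ℓ hℓ => (hh ℓ).1 hℓ)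
    · rw [hKcdef, Finset.mem_filter] at hg
      apply Set.finite_of_ncard_ne_zero
      rw [h2 g hg.2 hs]; norm_num
  have hTfin : (⋃ g ∈ Kc, {ℓ : X | g • ℓ = ℓ}).Finite :=
    Set.Finite.biUnion (Finset.finite_toSet Kc) (fun g hg => hfin g hg)
  set T : Finset X := hTfin.toFinset with hTdef
  have hT : ∀ ℓ, ℓ ∈ T ↔ ∃ g ∈ Kc, g • ℓ = ℓ := by
    intro ℓ
    rw [hTdef, Set.Finite.mem_toFinset]
    simp only [Set.mem_iUnion, Set.mem_ofPred_eq, exists_prop]
  have hOrbT : ∀ ℓ ∈ T, Orb (G := G) ℓ ⊆ T := by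
    intro ℓ hℓ m hm
    obtain ⟨h, rfl⟩ := (mem_Orb ℓ m).1 hm
    obtain ⟨g, hg, hgl⟩ := (hT ℓ).1 hℓ
    rw [hT]
    refine ⟨h * g * h⁻¹, hKcinv h g hg, ?_⟩
    rw [mul_smul, mul_smul, inv_smul_smul, hgl]
  -- count per g
  have hcount : ∀ g ∈ Kc,
      (T.filter (fun ℓ => g • ℓ = ℓ)).card + (if p ∣ orderOf g then 1 else 0) = 2 := by
    intro g hg
    by_cases hs : p ∣ orderOf g
    · obtain ⟨h, hh⟩ := sing_fix p x hx hsyl K hKc hKp hKfix ℓ₀ h1 hcent g hs
      have : T.filter (fun ℓ => g • ℓ = ℓ) = {h • ℓ₀} := by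
        ext ℓ
        rw [Finset.mem_filter, Finset.mem_singleton]
        constructor
        · intro h3; exact (hh ℓ).1 h3.2
        · intro h3
          refine ⟨(hT ℓ).2 ⟨g, hg, (hh ℓ).2 h3⟩, (hh ℓ).2 h3⟩
      rw [this, Finset.card_singleton, if_pos hs]
    · have : ((T.filter (fun ℓ => g • ℓ = ℓ) : Finset X) : Set X) = {ℓ : X | g • ℓ = ℓ} := by
        ext ℓ
        simp only [Finset.coe_filter, Set.mem_ofPred_eq]
        constructor
        · intro h3; exact h3.2
        · intro h3; exact ⟨(hT ℓ).2 ⟨g, hg, h3⟩, h3⟩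
      rw [if_neg hs, add_zero, ← Set.ncard_coe_finset, this]
      rw [hKcdef, Finset.mem_filter] at hg
      exact h2 g hg.2 hs
  -- total
  have htot : ∑ g ∈ Kc, (T.filter fun ℓ => g • ℓ = ℓ).card + Sing.card = 2 * Kc.card := by
    have h3 : ∑ g ∈ Kc, ((T.filter fun ℓ => g • ℓ = ℓ).card + (if p ∣ orderOf g then 1 else 0))
        = ∑ _g ∈ Kc, 2 := Finset.sum_congr rfl hcount
    rw [Finset.sum_add_distrib, Finset.sum_const, smul_eq_mul, mul_comm] at h3
    rw [← h3]
    congr 1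
    rw [← Finset.card_filter]
    apply congrArg
    ext g
    constructor
    · intro hg; exact Finset.mem_filter.2 ⟨hSingKc g hg, (Finset.mem_filter.1 hg).2⟩
    · intro hg; exact Finset.mem_filter.2 ⟨Finset.mem_univ _, (Finset.mem_filter.1 hg).2⟩
  -- double count
  have hdc : ∑ g ∈ Kc, (T.filter fun ℓ => g • ℓ = ℓ).card =
      ∑ ℓ ∈ T, (Kc.filter fun g => g • ℓ = ℓ).card := by
    have := Finset.sum_card_bipartiteAbove_eq_sum_card_bipartiteBelow
      (s := Kc) (t := T) (r := fun (g : G) (m : X) => g • m = m)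
    simpa only [Finset.bipartiteAbove, Finset.bipartiteBelow] using this
  -- stabilizers
  have hw : ∀ ℓ : X, (Kc.filter fun g => g • ℓ = ℓ).card + Nat.card K =
      Nat.card (MulAction.stabilizer G ℓ) := by
    intro ℓ
    have hle : K ≤ MulAction.stabilizer G ℓ := fun c hc => hKfix c hc ℓ
    rw [← card_filter_sdiff (MulAction.stabilizer G ℓ) K hle, hKcdef, Finset.filter_filter]
    congr 2
    apply Finset.filter_congr
    intro g _
    rw [MulAction.mem_stabilizer_iff]
    exact and_comm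
  -- orbit data
  have horb : ∀ ℓ ∈ T, ∃ m s : ℕ, 2 ≤ s ∧ m * s * Nat.card K = Nat.card G ∧
      ∑ m' ∈ Orb (G := G) ℓ, (Kc.filter fun g => g • m' = m').card + m * Nat.card K
        = Nat.card G := by
    intro ℓ hℓ
    have hle : K ≤ MulAction.stabilizer G ℓ := fun c hc => hKfix c hc ℓ
    obtain ⟨s, hs⟩ := Subgroup.card_dvd_of_le hle
    have hwl := hw ℓ
    have hpos : 0 < (Kc.filter fun g => g • ℓ = ℓ).card := by
      obtain ⟨g, hg, hgl⟩ := (hT ℓ).1 hℓ
      exact Finset.card_pos.2 ⟨g, Finset.mem_filter.2 ⟨hg, hgl⟩⟩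
    have hs2 : 2 ≤ s := by
      by_contra hlt
      have : s = 0 ∨ s = 1 := by omega
      rcases this with rfl | rfl
      · rw [mul_zero] at hs; omega
      · rw [mul_one] at hs; omega
    refine ⟨(Orb (G := G) ℓ).card, s, hs2, ?_, ?_⟩
    · rw [mul_assoc, mul_comm s, ← hs, card_Orb_mul]
    · rw [sum_Orb_card_filter Kc hKcinv ℓ, ← mul_add, hwl, card_Orb_mul]
  -- the orbit of ℓ₀
  have hℓ₀T : ℓ₀ ∈ T := (hT ℓ₀).2 ⟨x, hxKc, (h1 ℓ₀).2 rfl⟩
  have hnb : (Orb (G := G) ℓ₀).card = nb := by rw [card_Orb, hstabN]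
  have hGcard : nb * (e * (p * Nat.card K)) = Nat.card G := by
    rw [← hNcard, mul_comm]; exact Subgroup.card_mul_index _
  have hc0 : ∑ m' ∈ Orb (G := G) ℓ₀, (Kc.filter fun g => g • m' = m').card + nb * Nat.card K
      = Nat.card G := by
    rw [sum_Orb_card_filter Kc hKcinv ℓ₀, hnb, ← mul_add, hw ℓ₀, hstabN, mul_comm]
    exact Subgroup.card_mul_index _
  -- the singular count
  have hsing : Sing.card + nb * Nat.card K = nb * (p * Nat.card K) := by
    have h3 : ∑ g ∈ Sing, ((Orb (G := G) ℓ₀).filter fun m => g • m = m).card = Sing.card := by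
      rw [Finset.card_eq_sum_ones]
      apply Finset.sum_congr rfl
      intro g hg
      have hs : p ∣ orderOf g := (Finset.mem_filter.1 hg).2
      obtain ⟨h, hh⟩ := sing_fix p x hx hsyl K hKc hKp hKfix ℓ₀ h1 hcent g hs
      have : (Orb (G := G) ℓ₀).filter (fun ℓ => g • ℓ = ℓ) = {h • ℓ₀} := by
        ext ℓ
        rw [Finset.mem_filter, Finset.mem_singleton]
        constructor
        · intro h3; exact (hh ℓ).1 h3.2
        · intro h3
          refine ⟨(mem_Orb ℓ₀ ℓ).2 ⟨h, h3.symm⟩, (hh ℓ).2 h3⟩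
      rw [this, Finset.card_singleton]
    rw [sum_card_filter_Orb Sing hSinginv ℓ₀, hnb] at h3
    rw [← h3, ← mul_add]
    congr 1
    rw [← card_sup p x hx K hKc hKp,
      ← card_filter_sdiff (Subgroup.zpowers x ⊔ K) K le_sup_right]
    congr 2
    rw [hSingdef, Finset.filter_filter]
    apply Finset.filter_congr
    intro g _
    exact sing_stab_iff p x hx hsyl K hKc hKp hKfix ℓ₀ h1 hcent hstab g
  have hKccard : Kc.card + Nat.card K = Nat.card G := by
    have := Finset.card_filter_add_card_filter_not (s := (Finset.univ : Finset G))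
      (p := fun g => g ∈ K)
    rw [card_filter_mem, Finset.card_univ, ← Nat.card_eq_fintype_card] at this
    rw [← this, add_comm]
  have hp2 : 2 ≤ p := by omega
  have e1 : nb * (p * Nat.card K) = nb * (p - 2) * Nat.card K + 2 * (nb * Nat.card K) := by
    have hpq : p = (p - 2) + 2 := by omega
    calc nb * (p * Nat.card K) = nb * (((p - 2) + 2) * Nat.card K) := by rw [← hpq]
      _ = _ := by ring
  have h6 : g0 * Nat.card K = Nat.card G := by rw [← hGcard]; ring
  rw [hdc] at htot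
  by_cases hA : T ⊆ Orb (G := G) ℓ₀
  · left
    have hTeq : T = Orb (G := G) ℓ₀ := Finset.Subset.antisymm hA (hOrbT ℓ₀ hℓ₀T)
    rw [hTeq] at htot
    apply Nat.eq_of_mul_eq_mul_right hkpos
    rw [h6, add_mul]
    omega
  · obtain ⟨ℓ₁, hℓ₁T, hℓ₁⟩ := Finset.not_subset.1 hA
    obtain ⟨m, s, hs2, hms, hc1⟩ := horb ℓ₁ hℓ₁T
    have hd01 := Orb_disjoint (G := G) ℓ₀ ℓ₁ hℓ₁
    by_cases hB : T ⊆ Orb (G := G) ℓ₀ ∪ Orb (G := G) ℓ₁
    · right
      have hTeq : T = Orb (G := G) ℓ₀ ∪ Orb (G := G) ℓ₁ :=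
        Finset.Subset.antisymm hB (Finset.union_subset (hOrbT ℓ₀ hℓ₀T) (hOrbT ℓ₁ hℓ₁T))
      rw [hTeq, Finset.sum_union hd01] at htot
      have hm : m = 2 + nb * (p - 2) := by
        apply Nat.eq_of_mul_eq_mul_right hkpos
        rw [add_mul]
        omega
      refine ⟨s, hs2, ?_⟩
      rw [← hm]
      apply Nat.eq_of_mul_eq_mul_right hkpos
      rw [h6, ← hms]
      ring
    · exfalso
      obtain ⟨ℓ₂, hℓ₂T, hℓ₂⟩ := Finset.not_subset.1 hB
      rw [Finset.mem_union, not_or] at hℓ₂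
      obtain ⟨m', s', hs2', hms', hc2⟩ := horb ℓ₂ hℓ₂T
      have hd02 := Orb_disjoint (G := G) ℓ₀ ℓ₂ hℓ₂.1
      have hd12 := Orb_disjoint (G := G) ℓ₁ ℓ₂ hℓ₂.2
      have hsub : (Orb (G := G) ℓ₀ ∪ Orb (G := G) ℓ₁) ∪ Orb (G := G) ℓ₂ ⊆ T :=
        Finset.union_subset (Finset.union_subset (hOrbT ℓ₀ hℓ₀T) (hOrbT ℓ₁ hℓ₁T)) (hOrbT ℓ₂ hℓ₂T)
      have hle := Finset.sum_le_sum_of_subset (f := fun ℓ => (Kc.filter fun g => g • ℓ = ℓ).card) hsub
      rw [Finset.sum_union (Finset.disjoint_union_left.2 ⟨hd02, hd12⟩), Finset.sum_union hd01] at hle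
      have hb1 : 2 * (m * Nat.card K) ≤ Nat.card G := by
        rw [← hms]
        calc 2 * (m * Nat.card K) = m * 2 * Nat.card K := by ring
          _ ≤ m * s * Nat.card K := by gcongr
      have hb2 : 2 * (m' * Nat.card K) ≤ Nat.card G := by
        rw [← hms']
        calc 2 * (m' * Nat.card K) = m' * 2 * Nat.card K := by ring
          _ ≤ m' * s' * Nat.card K := by gcongr
      omega

include hx hsyl in
theorem index_mod :
    (Subgroup.normalizer ((Subgroup.zpowers x : Subgroup G) : Set G)).index % p = 1 := by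
  have hpp : p.Prime := Fact.out
  have hcardP : Nat.card (Subgroup.zpowers x) = p := by rw [Nat.card_zpowers, hx]
  have hfac : (Nat.card G).factorization p = 1 := by
    have hG0 : Nat.card G ≠ 0 := Nat.card_pos.ne'
    have h1 : 1 ≤ (Nat.card G).factorization p := by
      rw [← hpp.pow_dvd_iff_le_factorization hG0, pow_one, ← hx]
      exact orderOf_dvd_natCard x
    have h2 : ¬ 2 ≤ (Nat.card G).factorization p := by
      rw [← hpp.pow_dvd_iff_le_factorization hG0]
      exact hsyl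
    omega
  let Ps : Sylow p G := Sylow.ofCard (Subgroup.zpowers x) (by rw [hcardP, hfac, pow_one])
  have hPs : (Ps : Subgroup G) = Subgroup.zpowers x := Sylow.coe_ofCard _ _
  have h3 := card_sylow_modEq_one p G
  rw [Sylow.card_eq_index_normalizer Ps] at h3
  change (Subgroup.normalizer ((Subgroup.zpowers x : Subgroup G) : Set G)).index ≡ 1 [MOD p] at h3
  have h4 : (Subgroup.normalizer ((Subgroup.zpowers x : Subgroup G) : Set G)).index % p = 1 % p := h3
  rw [h4]
  exact Nat.mod_eq_of_lt hpp.one_lt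
end main

end Cfsg.Agent.Lead.S4504CNTA

namespace Cfsg.Agent.S4504P

open Cfsg.Agent.Lead.S4504CNTA in
theorem count_index {G : Type*} [Group G] [Finite G] {X : Type*} [MulAction G X] (p : ℕ)
    [Fact p.Prime] (hp5 : 5 ≤ p) (x : G) (hx : orderOf x = p) (hsyl : ¬ p ^ 2 ∣ Nat.card G)
    (K : Subgroup G) (hKc : K ≤ Subgroup.center G) (hKp : ¬ p ∣ Nat.card K)
    (hKfix : ∀ g ∈ K, ∀ ℓ : X, g • ℓ = ℓ) (ℓ₀ : X)
    (h2 : ∀ g : G, g ∉ K → ¬ p ∣ orderOf g → {ℓ : X | g • ℓ = ℓ}.ncard = 2)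
    (h1 : ∀ ℓ : X, x • ℓ = ℓ ↔ ℓ = ℓ₀)
    (hcent : ∀ g : G, g * x = x * g → g ∈ Subgroup.zpowers x ⊔ K)
    (hstab : ∀ g : G, g • ℓ₀ = ℓ₀ → g ∈ Subgroup.normalizer ((Subgroup.zpowers x : Subgroup G) : Set G)) :
    (Subgroup.normalizer ((Subgroup.zpowers x : Subgroup G) : Set G)).index = 1 ∨
      (Subgroup.normalizer ((Subgroup.zpowers x : Subgroup G) : Set G)).index = p + 1 := by
  classical
  have : Fintype G := Fintype.ofFinite G
  obtain ⟨e, he, hkey⟩ := count_key p x hx hsyl K hKc hKp hKfix ℓ₀ h2 h1 hcent hstab hp5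
  exact count_arith p e _ _ Fact.out hp5 he (index_mod p x hx hsyl) rfl hkey

end Cfsg.Agent.S4504P
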