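import Mathlib
import Cfsg.Agent.Helper2.S2099.DefsA

set_option autoImplicit false
set_option linter.unusedSectionVars false
set_option linter.unusedVariables false

/-! S2099 chapter A, pieces YSMAP and YSEQUIV (driver helper2; lead): the canonical lifts `YS` of the
short root elements are lifts, and they are equivariant under a lift of `h₀`. -/

namespace Cfsg.Agent.S2099P

open Matrix Cfsg.Agent.S3352P Cfsg.Agent.S3351P Cfsg.Agent.S2096P Cfsg.Agent.S2086P
open Cfsg.Agent.S2094P (LongOK isRoot_ng_right' isRoot_ng_left' conj_cl)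
open scoped commutatorElement

variable {n : ℕ} {F : Type*} [Field F] [Fintype F] {P : Type*} [AddCommGroup P] [Module F P]
  {G : Type*} [Group G] {E : Type*} [Group E] {Q0 : QuadraticForm F P}
  {X : J n → J n → F → G} {Ys : J n → P → G} {h₀ : G} {R D : P →ₗ[F] P}

/-- YSMAP -/
theorem map_YS (hB : QRel Q0 X Ys) (hR : Rot Q0 X Ys h₀ R D) (ψ : E →* G)
    (hψ : Function.Surjective ψ) (a : J n) (w : P) : ψ (YS Ys ψ hψ h₀ D a w) = Ys a w := by
  unfold YS
  rw [map_cl, commutatorElement_def, hR.conjY, Ys_inv hB, ← hB.yadd, ← sub_eq_add_neg, hR.inv₁]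

end Cfsg.Agent.S2099P
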