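import Mathlib
import Cfsg.Prelude.Def_Classical
import Cfsg.Agent.Helper21.S2286DEFS
import Cfsg.Agent.Helper21.S2289DEFS
import Cfsg.Agent.Helper21.S2289MDEFS
import Cfsg.Agent.Helper2.HermCount
import Cfsg.Agent.Helper2.UnitaryCount

/-! S2289 piece MODELMAT (driver helper21; lead): the explicit 3×3 matrices of the model. -/

set_option autoImplicit false
set_option linter.unusedVariables false
set_option linter.unusedSectionVars false

namespace Cfsg.Agent.Helper21.S2289

open Cfsg.Agent.Helper21.S2286 Polynomial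

section modelmat
variable {F : Type*} [Field F] [Fintype F] {q : ℕ}

namespace MODELMAT

theorem neg_pow_q (hF : Fintype.card F = q ^ 2) (x : F) : (-x) ^ q = -(x ^ q) := by
  have hq := Cfsg.Agent.Helper2.Herm.two_le_q hF
  have h0 : (0 : F) ^ q = 0 := zero_pow (by omega)
  have := Cfsg.Agent.Helper2.Herm.sub_pow_q hF 0 x
  rwa [zero_sub, h0, zero_sub] at this

theorem pow_q_q (hF : Fintype.card F = q ^ 2) (x : F) : (x ^ q) ^ q = x := by
  rw [← pow_mul, ← pow_two]
  exact Cfsg.Agent.Helper2.Herm.pow_q_sq hF x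

end MODELMAT

open MODELMAT

theorem um_zero (hF : Fintype.card F = q ^ 2) : um q (0 : F) 0 = 1 := by
  have hq := Cfsg.Agent.Helper2.Herm.two_le_q hF
  have h0 : (0 : F) ^ q = 0 := zero_pow (by omega)
  ext i j
  fin_cases i <;> fin_cases j <;> simp [um, h0]

theorem um_mul (hF : Fintype.card F = q ^ 2) (a b a' b' : F) :
    um q a b * um q a' b' = um q (a + a') (b + b' - a * a' ^ q) := by
  have hadd := Cfsg.Agent.Helper2.Herm.add_pow_q hF a a'
  ext i j
  fin_cases i <;> fin_cases j <;>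
    simp [um, Matrix.mul_apply, Fin.sum_univ_three, hadd] <;> ring

theorem hm_one (hF : Fintype.card F = q ^ 2) : hm q (1 : F) = 1 := by
  ext i j
  fin_cases i <;> fin_cases j <;> simp [hm]

theorem hm_mul (hF : Fintype.card F = q ^ 2) (s t : F) (hs : s ≠ 0) (ht : t ≠ 0) :
    hm q (s * t) = hm q s * hm q t := by
  ext i j
  fin_cases i <;> fin_cases j <;>
    simp [hm, Matrix.mul_apply, Fin.sum_univ_three, mul_pow] <;> field_simp

theorem nm_sq : (nm : Matrix (Fin 3) (Fin 3) F) * nm = 1 := by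
  ext i j
  fin_cases i <;> fin_cases j <;> simp [nm, Matrix.mul_apply, Fin.sum_univ_three]

theorem det_um (a b : F) : (um q a b).det = 1 := by
  simp [um, Matrix.det_fin_three]

theorem det_hm (t : F) (ht : t ≠ 0) : (hm q t).det = 1 := by
  simp [hm, Matrix.det_fin_three]
  field_simp

theorem det_nm : (nm : Matrix (Fin 3) (Fin 3) F).det = 1 := by
  simp [nm, Matrix.det_fin_three]

theorem hm_um (hF : Fintype.card F = q ^ 2) (t a b : F) (ht : t ≠ 0) :
    hm q t * um q a b = um q (a * t ^ 2 / t ^ q) (b * t ^ (q + 1)) * hm q t := by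
  have htq : t ^ q ≠ 0 := pow_ne_zero _ ht
  have hqq : (t ^ q) ^ q = t := pow_q_q hF t
  have e1 : (a * t ^ 2 / t ^ q) ^ q = a ^ q * (t ^ q) ^ 2 / t := by
    rw [div_pow, mul_pow, hqq, ← pow_mul, ← pow_mul, mul_comm 2 q]
  ext i j
  fin_cases i <;> fin_cases j <;>
    simp [hm, um, Matrix.mul_apply, Fin.sum_univ_three, e1] <;> field_simp <;> ring

theorem nm_hm (hF : Fintype.card F = q ^ 2) (t : F) (ht : t ≠ 0) :
    nm * hm q t = hm q (1 / t ^ q) * nm := by
  have htq : t ^ q ≠ 0 := pow_ne_zero _ ht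
  have hqq : (t ^ q) ^ q = t := pow_q_q hF t
  have e1 : (1 / t ^ q) ^ q = 1 / t := by rw [div_pow, one_pow, hqq]
  ext i j
  fin_cases i <;> fin_cases j <;>
    simp [hm, nm, Matrix.mul_apply, Fin.sum_univ_three, hqq]
  field_simp

namespace MODELMAT

/-- the key identity with the Frobenius images as free variables -/
theorem key_identity (a b A B : F) (hb : b ≠ 0) (hB : B ≠ 0) (hv : b + B + a * A = 0) :
    (nm : Matrix (Fin 3) (Fin 3) F) * !![1, a, b; 0, 1, -A; 0, 0, 1] * nm =
      !![1, -a / B, 1 / b; 0, 1, A / b; 0, 0, 1] * !![1 / B, 0, 0; 0, B / b, 0; 0, 0, b] * nm *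
        !![1, -a / b, 1 / b; 0, 1, A / B; 0, 0, 1] := by
  ext i j
  fin_cases i <;> fin_cases j <;>
    simp [nm, Matrix.mul_apply, Fin.sum_univ_three]
  all_goals field_simp
  all_goals first | linear_combination hv | linear_combination -hv | ring

end MODELMAT

theorem nm_um (hF : Fintype.card F = q ^ 2) (a b : F) (hv : Val q a b) (hb : b ≠ 0) :
    nm * um q a b * nm =
      um q (-a / b ^ q) (1 / b) * hm q (1 / b ^ q) * nm * um q (-a / b) (1 / b) := by
  have hbq : b ^ q ≠ 0 := pow_ne_zero _ hb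
  have hqq : (b ^ q) ^ q = b := pow_q_q hF b
  have e1 : um q (-a / b ^ q) (1 / b) = !![1, -a / b ^ q, 1 / b; 0, 1, a ^ q / b; 0, 0, 1] := by
    unfold um
    rw [div_pow, neg_pow_q hF, hqq, neg_div, neg_div, neg_neg]
  have e2 : hm q (1 / b ^ q) = !![1 / b ^ q, 0, 0; 0, b ^ q / b, 0; 0, 0, b] := by
    unfold hm
    rw [div_pow, one_pow, hqq]
    have h1 : 1 / b / (1 / b ^ q) = b ^ q / b := by field_simp
    have h2 : 1 / (1 / b) = b := by field_simp
    rw [h1, h2]
  have e3 : um q (-a / b) (1 / b) = !![1, -a / b, 1 / b; 0, 1, a ^ q / b ^ q; 0, 0, 1] := by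
    unfold um
    rw [div_pow, neg_pow_q hF, neg_div, neg_div, neg_neg]
  have e0 : um q a b = !![1, a, b; 0, 1, -(a ^ q); 0, 0, 1] := rfl
  rw [e0, e1, e2, e3]
  apply MODELMAT.key_identity a b (a ^ q) (b ^ q) hb hbq
  have := hv
  unfold Val at this
  rw [pow_succ] at this
  linear_combination this

theorem isJU_um (hF : Fintype.card F = q ^ 2) (a b : F) (hv : Val q a b) : IsJU q (um q a b) := by
  have hq := Cfsg.Agent.Helper2.Herm.two_le_q hF
  have h0 : (0 : F) ^ q = 0 := zero_pow (by omega)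
  have hneg : (-(a ^ q)) ^ q = -a := by rw [neg_pow_q hF, pow_q_q hF]
  have hv' : b + b ^ q + a ^ q * a = 0 := by
    have := hv
    unfold Val at this
    rw [pow_succ] at this
    exact this
  unfold IsJU
  ext i j
  fin_cases i <;> fin_cases j <;>
    simp [um, Jm, Matrix.mul_apply, Fin.sum_univ_three, Matrix.map_apply, h0, hneg]
  · linear_combination hv'

theorem isJU_hm (hF : Fintype.card F = q ^ 2) (t : F) (ht : t ≠ 0) : IsJU q (hm q t) := by
  have hq := Cfsg.Agent.Helper2.Herm.two_le_q hF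
  have h0 : (0 : F) ^ q = 0 := zero_pow (by omega)
  have htq : t ^ q ≠ 0 := pow_ne_zero _ ht
  have hqq : (t ^ q) ^ q = t := pow_q_q hF t
  unfold IsJU
  ext i j
  fin_cases i <;> fin_cases j <;>
    simp [hm, Jm, Matrix.mul_apply, Fin.sum_univ_three, Matrix.map_apply, h0, hqq, div_pow]
  all_goals field_simp

theorem isJU_nm (hF : Fintype.card F = q ^ 2) : IsJU q (nm : Matrix (Fin 3) (Fin 3) F) := by
  have hq := Cfsg.Agent.Helper2.Herm.two_le_q hF
  have h0 : (0 : F) ^ q = 0 := zero_pow (by omega)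
  have hneg : (-(1 : F)) ^ q = -1 := by rw [neg_pow_q hF, one_pow]
  unfold IsJU
  ext i j
  fin_cases i <;> fin_cases j <;>
    simp [nm, Jm, Matrix.mul_apply, Fin.sum_univ_three, Matrix.map_apply, h0, hneg]

namespace MODELMAT

/-- the trace `b ↦ b + b^q` -/
def Tr (hF : Fintype.card F = q ^ 2) : F →+ F where
  toFun b := b + b ^ q
  map_zero' := by
    have hq := Cfsg.Agent.Helper2.Herm.two_le_q hF
    rw [zero_pow (by omega), add_zero]
  map_add' x y := by
    rw [Cfsg.Agent.Helper2.Herm.add_pow_q hF]; ring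

theorem Tr_apply (hF : Fintype.card F = q ^ 2) (b : F) : Tr hF b = b + b ^ q := rfl

theorem card_ker_le (hF : Fintype.card F = q ^ 2) : Nat.card (Tr hF).ker ≤ q := by
  classical
  have hq := Cfsg.Agent.Helper2.Herm.two_le_q hF
  set P : F[X] := X ^ q + X with hP
  have hdeg : P.natDegree = q := by
    rw [hP, natDegree_add_eq_left_of_natDegree_lt]
    · exact natDegree_X_pow q
    · rw [natDegree_X_pow, natDegree_X]; omega
  have hP0 : P ≠ 0 := by
    intro h
    rw [h, natDegree_zero] at hdeg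
    omega
  have hsub : ((Tr hF).ker : Set F) ⊆ (P.roots.toFinset : Set F) := by
    intro x hx
    have hx' : x + x ^ q = 0 := hx
    rw [Finset.mem_coe, Multiset.mem_toFinset, mem_roots hP0, IsRoot.def, hP, eval_add, eval_pow,
      eval_X]
    linear_combination hx'
  calc Nat.card (Tr hF).ker = Set.ncard ((Tr hF).ker : Set F) := rfl
    _ ≤ Set.ncard (P.roots.toFinset : Set F) := Set.ncard_le_ncard hsub (Finset.finite_toSet _)
    _ = P.roots.toFinset.card := Set.ncard_coe_finset _
    _ ≤ Multiset.card P.roots := Multiset.toFinset_card_le _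
    _ ≤ P.natDegree := card_roots' P
    _ = q := hdeg

theorem range_le_K (hF : Fintype.card F = q ^ 2) :
    (Tr hF).range ≤ Cfsg.Agent.Helper2.Herm.K hF := by
  rintro _ ⟨b, rfl⟩
  rw [Cfsg.Agent.Helper2.Herm.mem_K, Tr_apply, Cfsg.Agent.Helper2.Herm.add_pow_q hF, pow_q_q hF]
  ring

theorem card_ker_range (hF : Fintype.card F = q ^ 2) :
    Nat.card (Tr hF).ker = q ∧ (Tr hF).range = Cfsg.Agent.Helper2.Herm.K hF := by
  classical
  have hq := Cfsg.Agent.Helper2.Herm.two_le_q hF
  have h1 := card_ker_le hF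
  have hK : Nat.card (Cfsg.Agent.Helper2.Herm.K hF) = q := by
    rw [Nat.card_eq_fintype_card]; convert Cfsg.Agent.Helper2.Herm.card_K hF
  have h2 : Nat.card (Tr hF).range ≤ q :=
    le_trans (AddSubgroup.card_le_of_le (range_le_K hF)) (le_of_eq hK)
  have h3 : Nat.card (Tr hF).ker * Nat.card (Tr hF).range = q ^ 2 := by
    rw [← AddSubgroup.index_ker, AddSubgroup.card_mul_index, Nat.card_eq_fintype_card, hF]
  have h4 : Nat.card (Tr hF).ker = q := by
    by_contra hne
    have hlt : Nat.card (Tr hF).ker < q := lt_of_le_of_ne h1 hne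
    have : Nat.card (Tr hF).ker * Nat.card (Tr hF).range < q * q := by
      calc Nat.card (Tr hF).ker * Nat.card (Tr hF).range ≤ Nat.card (Tr hF).ker * q :=
            Nat.mul_le_mul_left _ h2
        _ < q * q := Nat.mul_lt_mul_of_pos_right hlt (by omega)
    rw [h3, pow_two] at this
    exact lt_irrefl _ this
  refine ⟨h4, ?_⟩
  have h5 : Nat.card (Tr hF).range = q := by
    rw [h4, pow_two] at h3
    exact Nat.eq_of_mul_eq_mul_left (by omega) h3
  apply AddSubgroup.eq_of_le_of_card_ge (range_le_K hF)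
  rw [hK, h5]

end MODELMAT

/-- the valid pairs: `q³` of them -/
theorem card_val (hF : Fintype.card F = q ^ 2) :
    Nat.card {x : F × F // Val q x.1 x.2} = q ^ 3 := by
  classical
  obtain ⟨hker, hrange⟩ := MODELMAT.card_ker_range hF
  -- a solution for every `a`
  have hsol : ∀ a : F, ∃ b₀ : F, MODELMAT.Tr hF b₀ = -(a ^ (q + 1)) := by
    intro a
    have hmem : -(a ^ (q + 1)) ∈ (MODELMAT.Tr hF).range := by
      rw [hrange]
      exact (Cfsg.Agent.Helper2.Herm.K hF).neg_mem (Cfsg.Agent.Helper2.Herm.norm_mem_K hF a)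
    exact hmem
  choose b₀ hb₀ using hsol
  have hval : ∀ a b : F, Val q a b ↔ MODELMAT.Tr hF b = -(a ^ (q + 1)) := by
    intro a b
    unfold Val
    rw [Tr_apply]
    constructor
    · intro h; linear_combination h
    · intro h; linear_combination h
  let e : {x : F × F // Val q x.1 x.2} ≃ F × (MODELMAT.Tr hF).ker :=
    { toFun := fun x => (x.1.1, ⟨x.1.2 - b₀ x.1.1, by
        rw [AddMonoidHom.mem_ker, map_sub, (hval _ _).1 x.2, hb₀, sub_self]⟩)
      invFun := fun y => ⟨(y.1, b₀ y.1 + y.2), by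
        show Val q y.1 (b₀ y.1 + y.2)
        rw [hval, map_add, hb₀, (AddMonoidHom.mem_ker).1 y.2.2, add_zero]⟩
      left_inv := by
        rintro ⟨⟨a, b⟩, h⟩
        apply Subtype.ext
        show (a, b₀ a + (b - b₀ a)) = (a, b)
        rw [add_sub_cancel]
      right_inv := by
        rintro ⟨a, k, hk⟩
        show (a, (⟨b₀ a + k - b₀ a, _⟩ : (MODELMAT.Tr hF).ker)) = (a, ⟨k, hk⟩)
        congr 1
        apply Subtype.ext
        show b₀ a + k - b₀ a = k
        ring }
  rw [Nat.card_congr e, Nat.card_prod, hker, Nat.card_eq_fintype_card, hF]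
  ring

end modelmat

end Cfsg.Agent.Helper21.S2289
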