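import Mathlib
import Cfsg.Prelude.Def_Characters
import Cfsg.Prelude.Def_Blocks
import Cfsg.Agent.Helper24.Abelian
import Cfsg.Agent.Helper24.Linear

set_option autoImplicit false

/-!
# S4705 (faithful irreducible character of degree `p - 2`): shared definitions

`TwData p P ζ` packages Brauer's description of the characters of `G` lying over the central
character of `ζ` that do not vanish on `P ∖ 1`, in the situation `C_G(P) = P × Z(G)`,
`|N_G(P) : C_G(P)| = 2`, `ζ` exceptional of degree `p - 2`: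

* `χb` (value `+1` on `P ∖ 1`), `χa` (value `-1` on `P ∖ 1`), the family `Y ∋ ζ` of exceptional
  characters, which all agree with `ζ` on `p`-regular elements and whose values at `x ∈ P ∖ 1`
  add up to `1`;
* all other irreducible characters with the same central character vanish on `P ∖ 1`;
* `χa = χb + ζ` on `p`-regular elements.
-/

namespace Cfsg.Agent.S4705P

open Cfsg Cfsg.Agent.Helper24

universe u

/-- `χ` has the same central character as `ζ` (both irreducible): `χ(z) ζ(1) = ζ(z) χ(1)` on `Z(G)`. -/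
def SameCentral {G : Type u} [Group G] (ζ χ : IrrCharacter G) : Prop :=
  ∀ z ∈ Subgroup.center G, (χ : G → ℂ) z * (ζ : G → ℂ) 1 = (ζ : G → ℂ) z * (χ : G → ℂ) 1

/-- Brauer's description of the block of the exceptional character `ζ` of degree `p - 2`. -/
structure TwData {G : Type u} [Group G] [Finite G] (p : ℕ) (P : Subgroup G)
    (ζ : IrrCharacter G) where
  χa : IrrCharacter G
  χb : IrrCharacter G
  Y : Set (IrrCharacter G)
  ζ_mem : ζ ∈ Y
  hab : χa ≠ χb
  ha_notin : χa ∉ Y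
  hb_notin : χb ∉ Y
  over_a : SameCentral ζ χa
  over_b : SameCentral ζ χb
  over_Y : ∀ ψ ∈ Y, SameCentral ζ ψ
  val_a : ∀ x ∈ P, x ≠ 1 → (χa : G → ℂ) x = -1
  val_b : ∀ x ∈ P, x ≠ 1 → (χb : G → ℂ) x = 1
  sum_Y : ∀ x ∈ P, x ≠ 1 → ∑ᶠ ψ ∈ Y, (ψ : G → ℂ) x = 1
  reg_Y : ∀ ψ ∈ Y, ∀ g : G, ¬ p ∣ orderOf g → (ψ : G → ℂ) g = (ζ : G → ℂ) g
  rel : ∀ g : G, ¬ p ∣ orderOf g → (χa : G → ℂ) g = (χb : G → ℂ) g + (ζ : G → ℂ) g
  van : ∀ χ : IrrCharacter G, SameCentral ζ χ → χ ≠ χa → χ ≠ χb → χ ∉ Y →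
    ∀ x ∈ P, x ≠ 1 → (χ : G → ℂ) x = 0
  zeta_sum : ∑ᶠ x : ↥P, (ζ : G → ℂ) (x : G) = (p : ℂ)

end Cfsg.Agent.S4705P
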