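import Cfsg.Agent.Helper19.S5639EXPERP

set_option autoImplicit false

/-! S5639 piece AXRAT (driver helper1; lead). -/

namespace Cfsg.Agent.S5639P

open Matrix
open Cfsg.Agent.Helper28.SLMax Cfsg.Agent.Helper28.SimMax

variable {F : Type*} [Field F] {n : ℕ}

local notation "GLn" => Matrix.GeneralLinearGroup (Fin n) F
local notation "Mat" => Matrix (Fin n) (Fin n) F

/-- AXRAT: a transvection of `M` with rational axis is rational. -/
theorem AXRAT.rat_of_axis (F₀ : Subfield F) (hn : 3 ≤ n) (M : Subgroup GLn) (hM : HasRat F₀ M)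
    (hR : RootRat F₀ M) (w ψ : Fin n → F) (hψ : Rat F₀ ψ) (hψ0 : ψ ≠ 0) (hw : ψ ⬝ᵥ w = 0)
    (hE : E w ψ ∈ MS M) : Rat F₀ w := by
  intro k
  have he : Rat F₀ (Pi.single k (1 : F) : Fin n → F) := Rat.single k F₀.one_mem
  obtain ⟨u', hu', hu'0, hu'l⟩ := EXPERP.exists_rat_perp F₀ [ψ, Pi.single k (1 : F)]
    (by
      intro x hx
      simp only [List.mem_cons, List.not_mem_nil, or_false] at hx
      rcases hx with rfl | rfl
      · exact hψ
      · exact he)
    (by simp; omega)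
  have h1 : ψ ⬝ᵥ u' = 0 := by rw [dotProduct_comm]; exact hu'l ψ (by simp)
  have h2 : (Pi.single k (1 : F) : Fin n → F) ⬝ᵥ u' = 0 := by
    rw [dotProduct_comm]; exact hu'l _ (by simp)
  have hb : E u' (Pi.single k (1 : F)) ∈ MS M := hM _ _ hu' he h2
  have key := MS_comm_E w ψ u' (Pi.single k (1 : F)) hw h2 h1 hE hb
  have := hR u' ψ ((Pi.single k (1 : F) : Fin n → F) ⬝ᵥ w) hu' hψ hu'0 hψ0 h1 key
  rwa [single_dotProduct, one_mul] at this

end Cfsg.Agent.S5639P
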