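import Cfsg.Agent.Helper1.S5639Lib

set_option autoImplicit false

/-! S5639 piece RFIXVEC (driver helper1; lead). -/

namespace Cfsg.Agent.S5639P

open Matrix
open Cfsg.Agent.Helper28.SLMax Cfsg.Agent.Helper28.SimMax

variable {F : Type*} [Field F] {n : ℕ}

local notation "GLn" => Matrix.GeneralLinearGroup (Fin n) F
local notation "Mat" => Matrix (Fin n) (Fin n) F

/-- RFIXVEC: a vector killed by every rational covector that kills `u₀` is a multiple of `u₀`. -/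
theorem RFIXVEC.eq_smul_of_perp (F₀ : Subfield F) (hn : 2 ≤ n) (u₀ : Fin n → F) (hu : Rat F₀ u₀)
    (hu0 : u₀ ≠ 0) (w : Fin n → F)
    (hw : ∀ ψ : Fin n → F, Rat F₀ ψ → ψ ⬝ᵥ u₀ = 0 → ψ ⬝ᵥ w = 0) : ∃ c : F, w = c • u₀ := by
  obtain ⟨i₀, hi₀⟩ : ∃ i, u₀ i ≠ 0 := by
    by_contra h
    push Not at h
    exact hu0 (funext h)
  refine ⟨w i₀ / u₀ i₀, ?_⟩
  funext j
  have hψ : Rat F₀ (Pi.single j (u₀ i₀) - Pi.single i₀ (u₀ j) : Fin n → F) :=
    Rat.sub (Rat.single j (hu i₀)) (Rat.single i₀ (hu j))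
  have h0 : (Pi.single j (u₀ i₀) - Pi.single i₀ (u₀ j) : Fin n → F) ⬝ᵥ u₀ = 0 := by
    rw [sub_dotProduct, single_dotProduct, single_dotProduct]
    ring
  have h1 := hw _ hψ h0
  rw [sub_dotProduct, single_dotProduct, single_dotProduct] at h1
  rw [Pi.smul_apply, smul_eq_mul]
  field_simp
  linear_combination h1

end Cfsg.Agent.S5639P
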