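import Cfsg.Agent.Helper19.S5639EXPERP

set_option autoImplicit false

/-! S5639 piece CENTRAT (driver helper1; lead). -/

namespace Cfsg.Agent.S5639P

open Matrix
open Cfsg.Agent.Helper28.SLMax Cfsg.Agent.Helper28.SimMax

variable {F : Type*} [Field F] {n : ℕ}

local notation "GLn" => Matrix.GeneralLinearGroup (Fin n) F
local notation "Mat" => Matrix (Fin n) (Fin n) F

/-- CENTRAT: a transvection of `M` with rational centre is rational. -/
theorem CENTRAT.rat_of_centre (F₀ : Subfield F) (hn : 3 ≤ n) (M : Subgroup GLn) (hM : HasRat F₀ M)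
    (hR : RootRat F₀ M) (u φ : Fin n → F) (hu : Rat F₀ u) (hu0 : u ≠ 0) (hφ : φ ⬝ᵥ u = 0)
    (hE : E u φ ∈ MS M) : Rat F₀ φ := by
  intro k
  have he : Rat F₀ (Pi.single k (1 : F) : Fin n → F) := Rat.single k F₀.one_mem
  obtain ⟨χ, hχ, hχ0, hχl⟩ := EXPERP.exists_rat_perp F₀ [u, Pi.single k (1 : F)]
    (by
      intro x hx
      simp only [List.mem_cons, List.not_mem_nil, or_false] at hx
      rcases hx with rfl | rfl
      · exact hu
      · exact he)
    (by simp; omega)
  have hχu : χ ⬝ᵥ u = 0 := hχl u (by simp)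
  have hχk : χ ⬝ᵥ (Pi.single k (1 : F) : Fin n → F) = 0 := hχl _ (by simp)
  have ha : E (Pi.single k (1 : F)) χ ∈ MS M := hM _ _ he hχ hχk
  have key := MS_comm_E (Pi.single k (1 : F)) χ u φ hχk hφ hχu ha hE
  have := hR u χ (φ ⬝ᵥ (Pi.single k (1 : F) : Fin n → F)) hu hχ hu0 hχ0 hχu key
  rwa [dotProduct_single, mul_one] at this

end Cfsg.Agent.S5639P
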