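import Cfsg.Agent.Helper1.S5639Lib

set_option autoImplicit false

/-! S5639 piece INNINV (driver helper1; lead). -/

namespace Cfsg.Agent.S5639P

open Matrix
open Cfsg.Agent.Helper28.SLMax Cfsg.Agent.Helper28.SimMax

variable {F : Type*} [Field F] {n : ℕ}

local notation "GLn" => Matrix.GeneralLinearGroup (Fin n) F
local notation "Mat" => Matrix (Fin n) (Fin n) F

/-- the inverse of a rational matrix is rational -/
theorem INNINV.ratM_inv (F₀ : Subfield F) (A : Mat) (hA : RatM F₀ A) : RatM F₀ A⁻¹ := by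
  let B : Matrix (Fin n) (Fin n) ↥F₀ := fun i j => ⟨A i j, hA i j⟩
  have hAB : A = F₀.subtype.mapMatrix B := by
    ext i j; rfl
  have hdet : A.det ∈ F₀ := by
    rw [hAB, ← RingHom.map_det]
    exact (B.det).2
  have hadj : RatM F₀ A.adjugate := by
    intro i j
    rw [hAB, ← RingHom.map_adjugate]
    exact (B.adjugate i j).2
  intro i j
  rw [Matrix.inv_def, Ring.inverse_eq_inv', Matrix.smul_apply, smul_eq_mul]
  exact F₀.mul_mem (F₀.inv_mem hdet) (hadj i j)

/-- INNINV: `F^* GL_n(F₀)` is closed under inverses. -/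
theorem INNINV.inN_inv (F₀ : Subfield F) (g : GLn) (hg : InN F₀ ((g⁻¹ : GLn) : Mat)) :
    InN F₀ (g : Mat) := by
  obtain ⟨z, hz, hA⟩ := hg
  refine ⟨z⁻¹, inv_ne_zero hz, ?_⟩
  have h1 : (z⁻¹ • (g : Mat)) * (z • ((g⁻¹ : GLn) : Mat)) = 1 := by
    rw [Matrix.smul_mul, Matrix.mul_smul, smul_smul, inv_mul_cancel₀ hz, one_smul,
      ← Units.val_mul, mul_inv_cancel, Units.val_one]
  have h2 : (z • ((g⁻¹ : GLn) : Mat))⁻¹ = z⁻¹ • (g : Mat) := Matrix.inv_eq_left_inv h1
  rw [← h2]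
  exact INNINV.ratM_inv F₀ _ hA

end Cfsg.Agent.S5639P
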