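import Mathlib
import Cfsg.Agent.Lead.Coprime
import Cfsg.Agent.Lead.Coprime3
import Cfsg.Agent.Lead.CoprimeAbelian
import Cfsg.Agent.Lead.CoprimeSylow
import Cfsg.Agent.Lead.CoprimeFrattini

set_option autoImplicit false
open Pointwise

/-! Coprime action on a group all of whose Sylow subgroups are cyclic. -/

namespace Cfsg.Agent.Lead

open Subgroup
open scoped commutatorElement

variable {X : Type*} [Group X]

/-- Commutators of elements normalizing a cyclic subgroup centralize it. -/
theorem commutator_mem_centralizer_of_isCyclic (N : Subgroup X) [hN : IsCyclic N] {x y : X}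
    (hx : x ∈ normalizer (N : Set X)) (hy : y ∈ normalizer (N : Set X)) :
    ⁅x, y⁆ ∈ centralizer (N : Set X) := by
  obtain ⟨n₀, hn₀⟩ := hN.exists_generator
  -- conjugation by a normalizing element is a power map on the generator
  have hpow : ∀ z ∈ normalizer (N : Set X), ∃ i : ℤ, z * (n₀ : X) * z⁻¹ = (n₀ : X) ^ i := by
    intro z hz
    have h1 : z * (n₀ : X) * z⁻¹ ∈ N := (mem_normalizer_iff.mp hz _).mp n₀.2
    obtain ⟨i, hi⟩ := hn₀ ⟨_, h1⟩
    refine ⟨i, ?_⟩
    have := congrArg Subtype.val hi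
    simp at this
    exact this.symm
  have hconjpow : ∀ z : X, ∀ i : ℤ, z * (n₀ : X) ^ i * z⁻¹ = (z * (n₀ : X) * z⁻¹) ^ i := by
    intro z i
    have := map_zpow (MulAut.conj z) (n₀ : X) i
    simp only [MulAut.conj_apply] at this
    exact this
  -- the commutator fixes the generator
  have hfix : ⁅x, y⁆ * (n₀ : X) * ⁅x, y⁆⁻¹ = (n₀ : X) := by
    have hx' := inv_mem hx
    have hy' := inv_mem hy
    obtain ⟨i, hi⟩ := hpow x⁻¹ hx'
    obtain ⟨j, hj⟩ := hpow y⁻¹ hy'
    rw [inv_inv] at hi hj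
    -- x⁻¹ n x = n^i, y⁻¹ n y = n^j; so y⁻¹x⁻¹ n x y = n^(ij) = x⁻¹y⁻¹ n y x
    have h1 : y⁻¹ * (x⁻¹ * (n₀ : X) * x) * y = (n₀ : X) ^ (j * i) := by
      rw [hi]
      have := hconjpow y⁻¹ i
      rw [inv_inv] at this
      rw [this, hj, ← zpow_mul]
    have h2 : x⁻¹ * (y⁻¹ * (n₀ : X) * y) * x = (n₀ : X) ^ (j * i) := by
      rw [hj]
      have := hconjpow x⁻¹ j
      rw [inv_inv] at this
      rw [this, hi, ← zpow_mul, mul_comm i j]
    have h3 : y⁻¹ * (x⁻¹ * (n₀ : X) * x) * y = x⁻¹ * (y⁻¹ * (n₀ : X) * y) * x := by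
      rw [h1, h2]
    have h5 : ⁅x, y⁆ * (n₀ : X) * ⁅x, y⁆⁻¹ =
        x * y * (x⁻¹ * (y⁻¹ * (n₀ : X) * y) * x) * y⁻¹ * x⁻¹ := by
      rw [commutatorElement_def]; group
    rw [h5, ← h3]
    group
  rw [mem_centralizer_iff]
  intro n hn
  obtain ⟨k, hk⟩ := hn₀ ⟨n, hn⟩
  have hk' : n = (n₀ : X) ^ k := by
    have := congrArg Subtype.val hk
    simpa using this.symm
  have h6 : ⁅x, y⁆ * n * ⁅x, y⁆⁻¹ = n := by
    rw [hk', hconjpow, hfix]
  calc n * ⁅x, y⁆ = ⁅x, y⁆ * n * ⁅x, y⁆⁻¹ * ⁅x, y⁆ := by rw [h6]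
    _ = ⁅x, y⁆ * n := by group

/-- Coprime action on a group `K` with all Sylow subgroups cyclic: `[K,A]` is abelian. -/
theorem zgroup_commutator_isMulCommutative [Finite X] (A K : Subgroup X) [hZ : IsZGroup K]
    (hAK : A ≤ normalizer (K : Set X)) (hcop : (Nat.card A).Coprime (Nat.card K)) :
    IsMulCommutative (⁅K, A⁆ : Subgroup X) := by
  have hsolv : Group.IsSolvable A ∨ Group.IsSolvable K := Or.inr inferInstance
  set L : Subgroup X := ⁅K, A⁆ with hL
  have hLK : L ≤ K := commutator_le_of_le_normalizer hAK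
  have hLL : ⁅L, A⁆ = L := coprime_commutator_commutator A K hAK hcop hsolv
  have hLA : A ≤ normalizer (L : Set X) := le_normalizer_commutator_right K A
  have hZL : IsZGroup L := IsZGroup.of_injective (f := inclusion hLK) (inclusion_injective hLK)
  -- `N = L'` is cyclic
  set N : Subgroup X := (commutator L).map L.subtype with hN
  have hNcyc : IsCyclic N := by
    have h1 : IsCyclic (commutator L) := IsZGroup.isCyclic_commutator L
    exact isCyclic_of_surjective _
      ((commutator L).equivMapOfInjective L.subtype L.subtype_injective).surjective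
  have hLN : L ≤ normalizer (N : Set X) :=
    le_normalizer.trans (normalizer_le_normalizer_map_of_characteristic L (commutator L))
  have hAN : A ≤ normalizer (N : Set X) :=
    hLA.trans (normalizer_le_normalizer_map_of_characteristic L (commutator L))
  have hLcent : L ≤ centralizer (N : Set X) := by
    rw [← hLL, commutator_le]
    intro l hl a ha
    exact commutator_mem_centralizer_of_isCyclic N (hLN hl) (hAN ha)
  refine MonoidHom.isMulCommutative_of_isCyclic_of_ker_le_center
    (Abelianization.of : L →* Abelianization L) ?_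
  intro x hx
  rw [Abelianization.ker_of] at hx
  rw [mem_center_iff]
  intro l
  apply Subtype.ext
  have h1 : (x : X) ∈ N := ⟨x, hx, rfl⟩
  have h2 := hLcent l.2
  rw [mem_centralizer_iff] at h2
  exact (h2 _ h1).symm

/-- In a cyclic `p`-group, two subgroups meeting trivially: one of them is trivial. -/
theorem eq_bot_or_eq_bot_of_isCyclic_pgroup [Finite X] {p : ℕ} [hp : Fact p.Prime]
    {P U W : Subgroup X} [hPc : IsCyclic P] (hP : IsPGroup p P) (hU : U ≤ P) (hW : W ≤ P)
    (hUW : U ⊓ W = ⊥) : U = ⊥ ∨ W = ⊥ := by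
  by_contra hcon
  push Not at hcon
  obtain ⟨hU1, hW1⟩ := hcon
  have hdvd : ∀ V : Subgroup X, V ≤ P → V ≠ ⊥ → p ∣ Nat.card V := by
    intro V hV hV1
    obtain ⟨n, hn⟩ := (hP.to_le hV).exists_card_eq
    rcases n with _ | n
    · exact absurd (V.card_eq_one.mp (by rw [hn, pow_zero])) hV1
    · rw [hn]; exact dvd_pow_self p (Nat.succ_ne_zero n)
  obtain ⟨u, hu⟩ := exists_prime_orderOf_dvd_card' p (hdvd U hU hU1)
  obtain ⟨w, hw⟩ := exists_prime_orderOf_dvd_card' p (hdvd W hW hW1)
  classical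
  have := Fintype.ofFinite P
  obtain ⟨u', hu'e⟩ : ∃ u' : P, (u' : X) = u := ⟨⟨u, hU u.2⟩, rfl⟩
  obtain ⟨w', hw'e⟩ : ∃ w' : P, (w' : X) = w := ⟨⟨w, hW w.2⟩, rfl⟩
  have hu' : orderOf u' = p := by
    rw [← Subgroup.orderOf_coe, hu'e, Subgroup.orderOf_coe, hu]
  have hw' : orderOf w' = p := by
    rw [← Subgroup.orderOf_coe, hw'e, Subgroup.orderOf_coe, hw]
  have hS := IsCyclic.card_pow_eq_one_le (α := P) (n := p) hp.out.pos
  have h1 : (zpowers u' : Set P).toFinset ⊆ Finset.univ.filter (fun a : P => a ^ p = 1) := by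
    intro a ha
    rw [Set.mem_toFinset, SetLike.mem_coe] at ha
    rw [Finset.mem_filter]
    refine ⟨Finset.mem_univ _, ?_⟩
    obtain ⟨k, rfl⟩ := ha
    change (u' ^ k) ^ p = 1
    rw [← zpow_natCast, ← zpow_mul, mul_comm, zpow_mul, zpow_natCast, ← hu', pow_orderOf_eq_one,
      one_zpow]
  have h2 : (zpowers u' : Set P).toFinset.card = p := by
    rw [Set.toFinset_card, ← Nat.card_eq_fintype_card]
    exact (Nat.card_zpowers u').trans hu'
  have h3 := Finset.eq_of_subset_of_card_le h1 (by rw [h2]; exact hS)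
  have h4 : w' ∈ zpowers u' := by
    have h5 : w' ∈ Finset.univ.filter (fun a : P => a ^ p = 1) := by
      rw [Finset.mem_filter]
      exact ⟨Finset.mem_univ _, by rw [← hw']; exact pow_orderOf_eq_one w'⟩
    rw [← h3, Set.mem_toFinset] at h5
    exact h5
  obtain ⟨k, hk⟩ := h4
  have h6 : (w : X) ∈ U := by
    have h7 := congrArg (fun z : P => (z : X)) hk
    simp only [Subgroup.coe_zpow] at h7
    rw [hu'e, hw'e] at h7
    rw [← h7]
    exact U.zpow_mem u.2 k
  have h8 : (w : X) ∈ U ⊓ W := ⟨h6, w.2⟩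
  rw [hUW, mem_bot] at h8
  have h9 : orderOf (w : X) = p := by rw [Subgroup.orderOf_coe, hw]
  rw [h8, orderOf_one] at h9
  exact hp.out.one_lt.ne h9

/-- Coprime action on a group `K` with all Sylow subgroups cyclic. -/
theorem zgroup_coprime_structure [Finite X] (A K : Subgroup X) [hZ : IsZGroup K]
    (hAK : A ≤ normalizer (K : Set X)) (hcop : (Nat.card A).Coprime (Nat.card K)) :
    IsCyclic (⁅K, A⁆ : Subgroup X) ∧ ⁅K, A⁆ ⊓ centralizer (A : Set X) = ⊥ ∧
      ⁅K, A⁆ ⊔ (K ⊓ centralizer (A : Set X)) = K ∧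
      Nat.card (⁅K, A⁆ : Subgroup X) * Nat.card (K ⊓ centralizer (A : Set X) : Subgroup X) =
        Nat.card K ∧
      (Nat.card (⁅K, A⁆ : Subgroup X)).Coprime
        (Nat.card (K ⊓ centralizer (A : Set X) : Subgroup X)) := by
  have hsolv : Group.IsSolvable A ∨ Group.IsSolvable K := Or.inr inferInstance
  have hLc := zgroup_commutator_isMulCommutative A K hAK hcop
  set L : Subgroup X := ⁅K, A⁆ with hL
  set C : Subgroup X := K ⊓ centralizer (A : Set X) with hC
  have hLK : L ≤ K := commutator_le_of_le_normalizer hAK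
  have hLL : ⁅L, A⁆ = L := coprime_commutator_commutator A K hAK hcop hsolv
  have hLA : A ≤ normalizer (L : Set X) := le_normalizer_commutator_right K A
  have hcopL : (Nat.card A).Coprime (Nat.card L) :=
    hcop.coprime_dvd_right (card_dvd_of_le hLK)
  have hZL : IsZGroup L := IsZGroup.of_injective (f := inclusion hLK) (inclusion_injective hLK)
  have hLcyc : IsCyclic L := by
    have : Group.IsNilpotent L := by
      open scoped IsMulCommutative in exact CommGroup.isNilpotent
    infer_instance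
  have hLZ : L ⊓ centralizer (A : Set X) = ⊥ := by
    have h4 := coprime_abelian_inf A L hLA hcopL
    rw [hLL] at h4
    rw [eq_bot_iff, ← h4]
    exact le_inf le_rfl inf_le_left
  have hsup : L ⊔ C = K := coprime_commutator_sup_centralizer A K hAK hcop hsolv
  have hLC : L ⊓ C = ⊥ := by
    rw [eq_bot_iff, ← hLZ]
    exact inf_le_inf_left L inf_le_right
  have hCL : C ≤ normalizer (L : Set X) :=
    (inf_le_left : C ≤ K).trans (le_normalizer_commutator_left K A)
  have hcard : Nat.card L * Nat.card C = Nat.card K := by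
    have h1 := (isComplement'_subgroupOf_sup_of_le_normalizer hCL hLC hsup).card_mul_card
    rwa [Nat.card_congr (subgroupOfEquivOfLe hLK).toEquiv,
      Nat.card_congr (subgroupOfEquivOfLe (inf_le_left : C ≤ K)).toEquiv] at h1
  refine ⟨hLcyc, hLZ, hsup, hcard, ?_⟩
  apply Nat.coprime_of_dvd
  intro p hp hpL hpC
  have hpf : Fact p.Prime := ⟨hp⟩
  obtain ⟨P₀, hP₀⟩ := coprime_exists_invariant_sylow A K hAK hcop hsolv p
  set P : Subgroup X := (P₀ : Subgroup K).map K.subtype with hPdef
  have hPK : P ≤ K := map_subtype_le _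
  have hPp : IsPGroup p P := P₀.2.map _
  have hPcyc : IsCyclic P :=
    isCyclic_of_surjective _
      ((P₀ : Subgroup K).equivMapOfInjective K.subtype K.subtype_injective).surjective
  have hcardP : Nat.card P = p ^ (Nat.card K).factorization p := by
    rw [hPdef, card_map_of_injective (subtype_injective _), Sylow.card_eq_multiplicity]
  have hcopP : (Nat.card A).Coprime (Nat.card P) :=
    hcop.coprime_dvd_right (card_dvd_of_le hPK)
  obtain ⟨hd1, hd2⟩ := coprime_abelian_decomp A P hP₀ hcopP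
  have hL0 : Nat.card L ≠ 0 := Nat.card_pos.ne'
  have hC0 : Nat.card C ≠ 0 := Nat.card_pos.ne'
  have hfac : (Nat.card K).factorization p =
      (Nat.card L).factorization p + (Nat.card C).factorization p := by
    rw [← hcard, Nat.factorization_mul hL0 hC0, Finsupp.add_apply]
  have hLpos : 0 < (Nat.card L).factorization p :=
    hp.factorization_pos_of_dvd hL0 hpL
  have hCpos : 0 < (Nat.card C).factorization p :=
    hp.factorization_pos_of_dvd hC0 hpC
  rcases eq_bot_or_eq_bot_of_isCyclic_pgroup hPp (inf_le_left : P ⊓ centralizer (A : Set X) ≤ P)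
    (commutator_le_of_le_normalizer hP₀) hd1 with h | h
  · -- `P = [P,A] ≤ L`
    rw [h, bot_sup_eq] at hd2
    have hPL : P ≤ L := by
      rw [← hd2]; exact commutator_mono hPK le_rfl
    have h1 := card_dvd_of_le hPL
    rw [hcardP] at h1
    have h2 := (hp.pow_dvd_iff_le_factorization hL0).mp h1
    omega
  · -- `P ≤ C`
    rw [h, sup_bot_eq] at hd2
    have hPC : P ≤ C := by
      rw [← hd2]; exact inf_le_inf_right _ hPK
    have h1 := card_dvd_of_le hPC
    rw [hcardP] at h1
    have h2 := (hp.pow_dvd_iff_le_factorization hC0).mp h1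
    omega

end Cfsg.Agent.Lead
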