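import Mathlib
import Cfsg.Prelude.Def_OddOrderLocal
import Cfsg.Agent.Lead.BG142b

set_option autoImplicit false
set_option linter.unusedSectionVars false
set_option linter.unusedVariables false
set_option linter.style.haveILetI false

/-! # B&G Theorem 14.2 (= S1430), assembly, part (c): no `τ₂(M)`-element centralizes `X` and
`C_{M_σ}(X)` for `X` of order `p ∈ κ(M)`. -/

namespace Cfsg.Agent.Lead.BG142

open Subgroup Cfsg
open Cfsg.Agent.Helper14 (IsSylowIn cj)
open Cfsg.Agent.H9.BG12 (St1350 St1420 NC1210 sigmaCore_le le_normalizer_sigmaCore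
  mem_sigma_of_dvd_card_sigmaCore isPiHallOf_compl prime_ne_two_of_dvd exists_complIn_sigmaCore
  nc1210_of le_sigmaCore_of_isPGroup)
open Cfsg.Agent.Lead (IsPiNum)
open Cfsg.Agent.Lead.BG143 (pRankLE_one_of_mem_kappa mem_kappa_or_mem_tau2)
open Cfsg.Agent.Helper4.BG10 (Uniq centralizer_zpowers_eq)
open Cfsg.Agent.Helper21.BG12 (St1417 St1418 lem_12_15_e13)

universe u
variable {G : Type u} [Group G] [Finite G]

/-- a coatom is not the whole group -/
theorem zpowers_ne_top_of_mem_coatom {M : Subgroup G} (hM : IsCoatom M) {c : G} (hc : c ∈ M) :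
    zpowers c ≠ ⊤ := by
  intro h
  apply hM.1
  rw [eq_top_iff, ← h]
  exact zpowers_le.mpr hc

/-- for an element `c` of `τ₂(M)`-order in `M̂_σ`, `N_G(⟨c⟩) ≤ M` (from S1420(d)) -/
theorem normalizer_zpowers_le_of_tau2 (hG : Cfsg.IsMinSimpleOddOrder G) (h1350 : St1350 G)
    (h1420 : St1420 G) {M : Subgroup G} (hM : IsCoatom M) {r : ℕ} (hr : r ∈ Cfsg.tau2 M) {c : G}
    (hcM : c ∈ M) (hco : orderOf c = r) {y : G} (hy : y ∈ Cfsg.sigmaCore M) (hy1 : y ≠ 1)
    (hcy : c * y = y * c) :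
    centralizer ({c} : Set G) ≤ M ∧ normalizer ((zpowers c : Subgroup G) : Set G) ≤ M ∧
      ∀ L : Subgroup G, IsCoatom L → centralizer ({c} : Set G) ≤ L → L = M := by
  obtain ⟨E, hE⟩ := exists_complIn_sigmaCore h1350 hM
  have hc1 : c ≠ 1 := by
    intro h
    rw [h, orderOf_one] at hco
    exact hr.1.one_lt.ne hco
  have h4 := (h1420 M hM E hE).2.2.2 c hcM hc1 (fun q hq hqd => by
    rw [hco] at hqd
    rw [(Nat.prime_dvd_prime_iff_eq hq hr.1).mp hqd]
    exact hr) ⟨hcM, y, hy, hy1, hcy⟩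
  refine ⟨h4.1, ?_, h4.2⟩
  have hZ1 : zpowers c ≠ ⊥ := by
    intro h
    exact hc1 (Subgroup.zpowers_eq_bot.mp h)
  obtain ⟨L, hL, hNL⟩ := Cfsg.Agent.Helper21.BG10.exists_coatom_normalizer_le hG.2.1 hZ1
    (zpowers_ne_top_of_mem_coatom hM hcM)
  have hCL : centralizer ({c} : Set G) ≤ L := by
    rw [← centralizer_zpowers_eq]
    exact (centralizer_le_normalizer _).trans hNL
  rw [← h4.2 L hL hCL]
  exact hNL

/-- **no `τ₂`-element centralizes `X` and `C_{M_σ}(X)`**, `X` of order `p ∈ κ(M)`. -/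
theorem tau2_centralizer_false (hG : Cfsg.IsMinSimpleOddOrder G) (hU : Uniq G) (h1350 : St1350 G)
    (h1417 : St1417 G) (h1418 : St1418 G) (h1420 : St1420 G) (hNS : NoStar G)
    {M : Subgroup G} (hM : IsCoatom M) {p : ℕ} (hp : p ∈ Cfsg.kappa M) {X : Subgroup G}
    (hXM : X ≤ M) (hX : Nat.card X = p) {r : ℕ} (hr : r ∈ Cfsg.tau2 M) {c : G} (hcM : c ∈ M)
    (hco : orderOf c = r) (hcX : c ∈ centralizer (X : Set G))
    (hcY : Cfsg.sigmaCore M ⊓ centralizer (X : Set G) ≤ centralizer ({c} : Set G)) : False := by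
  haveI : Fact p.Prime := ⟨hp.1⟩
  haveI : Fact r.Prime := ⟨hr.1⟩
  have hNC : NC1210 G := nc1210_of h1350 h1420
  have hYne := kappa_inf_centralizer_ne_bot hp hXM hX
  -- a non-identity element of `Y`
  obtain ⟨y, hy1⟩ := (Subgroup.ne_bot_iff_exists_ne_one).mp hYne
  have hyY' : (y : G) ∈ Cfsg.sigmaCore M ⊓ centralizer (X : Set G) := y.2
  have hyσ : (y : G) ∈ Cfsg.sigmaCore M := (Subgroup.mem_inf.mp hyY').1
  have hyX : (y : G) ∈ centralizer (X : Set G) := (Subgroup.mem_inf.mp hyY').2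
  have hy1' : (y : G) ≠ 1 := fun h => hy1 (Subtype.ext h)
  have hcy : c * (y : G) = (y : G) * c :=
    (Subgroup.mem_centralizer_singleton_iff.mp (hcY hyY')).symm
  obtain ⟨hCM, hNM, huniq⟩ := normalizer_zpowers_le_of_tau2 hG h1350 h1420 hM hr hcM hco hyσ hy1' hcy
  -- the maximal subgroup `H` containing `N_G(X)`
  have hX1 : X ≠ ⊥ := by
    intro h
    rw [h] at hX
    simp at hX
    exact hp.1.one_lt.ne hX
  have hXt : X ≠ ⊤ := by
    intro h
    apply hM.1
    rw [eq_top_iff, ← h]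
    exact hXM
  obtain ⟨H, hH, hNH⟩ := Cfsg.Agent.Helper21.BG10.exists_coatom_normalizer_le hG.2.1 hX1 hXt
  have hpH : p ∈ Cfsg.sigma H := hNS M hM p hp X hXM hX hYne H hH hNH
  have hHM : H ≠ M := by
    intro h
    rw [h] at hpH
    exact hp.2.2.1 hpH
  have hcH : c ∈ H := hNH (centralizer_le_normalizer _ hcX)
  have hXH : X ≤ H := le_normalizer.trans hNH
  have hXp : IsPGroup p X := IsPGroup.of_card (n := 1) (by rw [hX, pow_one])
  have hXσH : X ≤ Cfsg.sigmaCore H := le_sigmaCore_of_isPGroup h1350 hH hpH hXH hXp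
  -- a generator-like non-identity element of `X`
  obtain ⟨x, hx1⟩ := (Subgroup.ne_bot_iff_exists_ne_one).mp hX1
  have hx1' : (x : G) ≠ 1 := fun h => hx1 (Subtype.ext h)
  have hcx : c * (x : G) = (x : G) * c :=
    ((Subgroup.mem_centralizer_iff.mp hcX) x x.2).symm
  have hc1 : c ≠ 1 := by
    intro h
    rw [h, orderOf_one] at hco
    exact hr.1.one_lt.ne hco
  have hZr : IsPGroup r (zpowers c) :=
    IsPGroup.of_card (n := 1) (by rw [Nat.card_zpowers, hco, pow_one])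
  have hZ1 : zpowers c ≠ ⊥ := fun h => hc1 (Subgroup.zpowers_eq_bot.mp h)
  have hrM : r ∉ Cfsg.sigma M := hr.2.1
  by_cases hrH : r ∈ Cfsg.sigma H
  · -- 12.15(e3) for `(H, M, r, ⟨c⟩)`
    have hZHM : zpowers c ≤ H ⊓ M := zpowers_le.mpr (Subgroup.mem_inf.mpr ⟨hcH, hcM⟩)
    obtain ⟨S, hS, hZS⟩ := Cfsg.Agent.Helper14.exists_isSylowIn_ge hZHM hZr
    have h3 := (lem_12_15_e13 hG h1417 h1418 hNC hH hM (Ne.symm hHM) hrH hZr hZ1
      (zpowers_le.mpr hcH) hNM hS hZS hrM).2.1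
    have h4 : (y : G) ∈ (H ⊓ M) ⊓ Cfsg.sigmaCore M := by
      refine Subgroup.mem_inf.mpr ⟨Subgroup.mem_inf.mpr ⟨?_, sigmaCore_le M hyσ⟩, hyσ⟩
      exact hNH (centralizer_le_normalizer _ hyX)
    rw [h3.2.2.1, Subgroup.mem_bot] at h4
    exact hy1' h4
  · rcases mem_kappa_or_mem_tau2 hG hU hH hr.1 hrH hcH hco (hXσH x.2) hx1' hcx with hκ | hτ
    · -- `r ∈ κ(H)`: NoStar for `(H, r, ⟨c⟩)` and `M`
      have hne : Cfsg.sigmaCore H ⊓ centralizer ((zpowers c : Subgroup G) : Set G) ≠ ⊥ := by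
        intro hb
        have : (x : G) ∈ Cfsg.sigmaCore H ⊓ centralizer ((zpowers c : Subgroup G) : Set G) := by
          refine Subgroup.mem_inf.mpr ⟨hXσH x.2, ?_⟩
          rw [centralizer_zpowers_eq, Subgroup.mem_centralizer_singleton_iff]
          exact hcx.symm
        rw [hb, Subgroup.mem_bot] at this
        exact hx1' this
      have := hNS H hH r hκ (zpowers c) (zpowers_le.mpr hcH) (by rw [Nat.card_zpowers, hco]) hne
        M hM hNM
      exact hrM this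
    · -- `r ∈ τ₂(H)`: S1420(d) for `H`
      obtain ⟨-, -, huniqH⟩ := normalizer_zpowers_le_of_tau2 hG h1350 h1420 hH hτ hcH hco
        (hXσH x.2) hx1' hcx
      have hCH : centralizer ({c} : Set G) ≤ H := by
        obtain ⟨h1, -, -⟩ := normalizer_zpowers_le_of_tau2 hG h1350 h1420 hH hτ hcH hco
          (hXσH x.2) hx1' hcx
        exact h1
      exact hHM (huniq H hH hCH)

end Cfsg.Agent.Lead.BG142
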