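import Mathlib
import Cfsg.Prelude.Def_OddOrderLocal
import Cfsg.Agent.Lead.BG142c

set_option autoImplicit false
set_option linter.unusedSectionVars false
set_option linter.unusedVariables false
set_option linter.style.haveILetI false

/-! # B&G Theorem 14.2 (= S1430), assembly, part (d): the case `κ(M) ⊆ τ₁(M)`. -/

namespace Cfsg.Agent.Lead.BG142

open Subgroup Cfsg
open Cfsg.Agent.Helper14 (IsSylowIn cj)
open Cfsg.Agent.H9.BG12 (St1350 St1420 NC1210 sigmaCore_le le_normalizer_sigmaCore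
  mem_sigma_of_dvd_card_sigmaCore isPiHallOf_compl prime_ne_two_of_dvd exists_complIn_sigmaCore
  nc1210_of le_sigmaCore_of_isPGroup)
open Cfsg.Agent.Lead (IsPiNum)
open Cfsg.Agent.Lead.BG143 (pRankLE_one_of_mem_kappa mem_kappa_or_mem_tau2 ppart orderOf_ppart
  ppart_ne_one ppart_mem ppart_comm card_zpowers_ppart)
open Cfsg.Agent.Helper4.BG10 (Uniq centralizer_zpowers_eq)
open Cfsg.Agent.Helper21.BG12 (St1417 St1418 lem_12_15_e13 exists_complIn_sigmaCore_ge)

universe u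
variable {G : Type u} [Group G] [Finite G]

/-- a Hall `κ(M)`-subgroup meets `M_σ` trivially -/
theorem kappa_hall_inf_sigmaCore {M K : Subgroup G} (hK : Cfsg.IsPiHallOf (Cfsg.kappa M) K M) :
    K ⊓ Cfsg.sigmaCore M = ⊥ := by
  apply Disjoint.eq_bot
  apply Subgroup.disjoint_of_coprime_natCard
  apply Nat.coprime_of_dvd
  intro r hr h1 h2
  exact (hK.2.1 r hr h1).2.2.1 (mem_sigma_of_dvd_card_sigmaCore hr h2)

/-- elements of a cyclic subgroup commute -/
theorem comm_of_isCyclic {K : Subgroup G} (hK : IsCyclic K) {a b : G} (ha : a ∈ K) (hb : b ∈ K) :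
    a * b = b * a := by
  haveI := hK
  have h := isMulCommutative_iff.mp (IsCyclic.isMulCommutative (α := ↥K)) ⟨a, ha⟩ ⟨b, hb⟩
  exact congrArg Subtype.val h

/-- an abelian-acting subgroup lies in the centralizer of each of its subgroups -/
theorem le_centralizer_of_comm {K X : Subgroup G} (hXK : X ≤ K)
    (hab : ∀ a ∈ K, ∀ b ∈ K, a * b = b * a) : K ≤ centralizer (X : Set G) := by
  intro k hk
  rw [Subgroup.mem_centralizer_iff]
  intro x hx
  exact hab x (hXK hx) k hk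

/-- Cauchy inside a subgroup, with the element in the ambient group -/
theorem exists_mem_orderOf_eq {C : Subgroup G} {s : ℕ} (hs : s.Prime) (hd : s ∣ Nat.card C) :
    ∃ c ∈ C, orderOf c = s := by
  haveI : Fact s.Prime := ⟨hs⟩
  obtain ⟨c, hc⟩ := exists_prime_orderOf_dvd_card' (G := ↥C) s hd
  exact ⟨c, c.2, by rw [← hc, Subgroup.orderOf_coe]⟩

/-- **K is cyclic and lies in a complement** when `κ(M) ⊆ τ₁(M)` -/
theorem exists_compl_ge_cyclic_of_tau1 (hG : Cfsg.IsMinSimpleOddOrder G) (h1415 : St1415 G)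
    {M : Subgroup G} (hM : IsCoatom M) {K : Subgroup G}
    (hK : Cfsg.IsPiHallOf (Cfsg.kappa M) K M) (hτ : ∀ p ∈ Cfsg.kappa M, p ∈ Cfsg.tau1 M) :
    ∃ E : Subgroup G, Cfsg.IsComplIn E (Cfsg.sigmaCore M) M ∧ K ≤ E ∧ IsCyclic K := by
  obtain ⟨E, hE, hKE⟩ := exists_complIn_sigmaCore_ge hG hM hK.1 (kappa_hall_inf_sigmaCore hK)
  refine ⟨E, hE, hKE, ?_⟩
  have hEt : E ≠ ⊤ := by
    intro h
    apply hM.1
    rw [eq_top_iff, ← h]
    exact hE.1
  have hEsolv : Group.IsSolvable E := hG.2.2.2 E hEt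
  have hKπ : IsPiNum (Cfsg.tau1 M) (Nat.card K) := fun q hq hqd => hτ q (hK.2.1 q hq hqd)
  obtain ⟨E₁, hE₁, hKE₁⟩ := Cfsg.Agent.Lead.exists_isPiHallOf_ge hEsolv hKE hKπ
  have hc : IsCyclic E₁ := (h1415 M hM E hE).2.1 E₁ hE₁
  haveI := hc
  exact isCyclic_of_injective (Subgroup.inclusion hKE₁) (Subgroup.inclusion_injective hKE₁)

/-- **`C_E(X) = K`** for `X ≤ K` of prime order, when `κ(M) ⊆ τ₁(M)` -/
theorem inf_centralizer_eq_of_tau1 (hG : Cfsg.IsMinSimpleOddOrder G) (hU : Uniq G)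
    (h1350 : St1350 G) (h1417 : St1417 G) (h1418 : St1418 G) (h1420 : St1420 G)
    (h1428 : St1428 G) (hNS : NoStar G) {M : Subgroup G} (hM : IsCoatom M) {K E : Subgroup G}
    (hK : Cfsg.IsPiHallOf (Cfsg.kappa M) K M) (hτ : ∀ p ∈ Cfsg.kappa M, p ∈ Cfsg.tau1 M)
    (hE : Cfsg.IsComplIn E (Cfsg.sigmaCore M) M) (hKE : K ≤ E) (hKc : IsCyclic K)
    {X : Subgroup G} (hXK : X ≤ K) (hXp : (Nat.card X).Prime) :
    E ⊓ centralizer (X : Set G) = K := by
  have hpκ : Nat.card X ∈ Cfsg.kappa M := hK.2.1 _ hXp (Subgroup.card_dvd_of_le hXK)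
  have hXM : X ≤ M := hXK.trans hK.1
  have hXE : X ≤ E := hXK.trans hKE
  have hKC : K ≤ E ⊓ centralizer (X : Set G) :=
    le_inf hKE (le_centralizer_of_comm hXK (fun a ha b hb => comm_of_isCyclic hKc ha hb))
  have hCM : E ⊓ centralizer (X : Set G) ≤ M := inf_le_left.trans hE.1
  apply eq_of_hall_le hK hKC hCM
  intro s hs hsd
  obtain ⟨c, hcC, hco⟩ := exists_mem_orderOf_eq hs hsd
  have hcE : c ∈ E := (Subgroup.mem_inf.mp hcC).1
  have hcX : c ∈ centralizer (X : Set G) := (Subgroup.mem_inf.mp hcC).2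
  have hcM : c ∈ M := hE.1 hcE
  have hsE : s ∣ Nat.card E := hsd.trans (Subgroup.card_dvd_of_le inf_le_left)
  have hsσ : s ∉ Cfsg.sigma M := (isPiHallOf_compl h1350 hM hE).2.1 s hs hsE
  have hYne := kappa_inf_centralizer_ne_bot hpκ hXM rfl
  have hZC : zpowers c ≤ E ⊓ centralizer (X : Set G) := zpowers_le.mpr hcC
  have hZp : (Nat.card (zpowers c)).Prime := by rw [Nat.card_zpowers, hco]; exact hs
  have hY := h1428 M hM E hE (Nat.card X) (hτ _ hpκ) X hXE rfl (zpowers c) hZC hZp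
  obtain ⟨y, hy1⟩ := (Subgroup.ne_bot_iff_exists_ne_one).mp hYne
  have hyY : (y : G) ∈ Cfsg.sigmaCore M ⊓ centralizer (X : Set G) := y.2
  have hy1' : (y : G) ≠ 1 := fun h => hy1 (Subtype.ext h)
  have hyc : (y : G) ∈ centralizer ({c} : Set G) := by
    have := (Subgroup.mem_inf.mp (hY hyY)).2
    rwa [centralizer_zpowers_eq] at this
  have hcy : c * (y : G) = (y : G) * c := (Subgroup.mem_centralizer_singleton_iff.mp hyc).symm
  rcases mem_kappa_or_mem_tau2 hG hU hM hs hsσ hcM hco (Subgroup.mem_inf.mp hyY).1 hy1' hcy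
    with hκ | hτ2
  · exact hκ
  · exfalso
    refine tau2_centralizer_false hG hU h1350 h1417 h1418 h1420 hNS hM hpκ hXM rfl hτ2 hcM hco hcX ?_
    intro w hw
    have := (Subgroup.mem_inf.mp (hY hw)).2
    rwa [centralizer_zpowers_eq] at this

end Cfsg.Agent.Lead.BG142
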