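import Mathlib
import Cfsg.Prelude.Def_OddOrderLocal
import Cfsg.Agent.Lead.BG142d

set_option autoImplicit false
set_option linter.unusedSectionVars false
set_option linter.unusedVariables false
set_option linter.style.haveILetI false

/-! # B&G Theorem 14.2 (= S1430), assembly, part (e): the case `κ(M) ⊆ τ₁(M)`, conclusion. -/

namespace Cfsg.Agent.Lead.BG142

open Subgroup Cfsg
open Cfsg.Agent.Helper14 (IsSylowIn cj)
open Cfsg.Agent.H9.BG12 (St1350 St1420 NC1210 sigmaCore_le le_normalizer_sigmaCore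
  mem_sigma_of_dvd_card_sigmaCore isPiHallOf_compl prime_ne_two_of_dvd exists_complIn_sigmaCore
  nc1210_of le_sigmaCore_of_isPGroup)
open Cfsg.Agent.Lead (IsPiNum)
open Cfsg.Agent.Lead.BG143 (pRankLE_one_of_mem_kappa mem_kappa_or_mem_tau2 ppart orderOf_ppart
  ppart_ne_one ppart_mem ppart_comm card_zpowers_ppart)
open Cfsg.Agent.Helper4.BG10 (Uniq centralizer_zpowers_eq)
open Cfsg.Agent.Helper21.BG12 (St1417 St1418 lem_12_15_e13 exists_complIn_sigmaCore_ge)

universe u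
variable {G : Type u} [Group G] [Finite G]

/-- part (d) of 14.2 from `NoStar` -/
theorem part_d_of_noStar (h1350 : St1350 G) (hNS : NoStar G) {M : Subgroup G} (hM : IsCoatom M)
    {K : Subgroup G} (hK : Cfsg.IsPiHallOf (Cfsg.kappa M) K M) {X : Subgroup G} (hXK : X ≤ K)
    (hXp : (Nat.card X).Prime) :
    ∀ Mstar : Subgroup G, IsCoatom Mstar → normalizer (X : Set G) ≤ Mstar →
      X ≤ Cfsg.sigmaCore Mstar := by
  intro Ms hMs hN
  have hpκ : Nat.card X ∈ Cfsg.kappa M := hK.2.1 _ hXp (Subgroup.card_dvd_of_le hXK)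
  have hXM : X ≤ M := hXK.trans hK.1
  have hYne := kappa_inf_centralizer_ne_bot hpκ hXM rfl
  have hσ := hNS M hM _ hpκ X hXM rfl hYne Ms hMs hN
  haveI : Fact (Nat.card X).Prime := ⟨hXp⟩
  exact le_sigmaCore_of_isPGroup h1350 hMs hσ (le_normalizer.trans hN)
    (IsPGroup.of_card (n := 1) (by rw [pow_one]))

/-- a subgroup containing the derived subgroup of `E` is normalized by `E` -/
theorem le_normalizer_of_commutator_le {E U : Subgroup G} (hUE : U ≤ E) (h : ⁅E, E⁆ ≤ U) :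
    E ≤ normalizer (U : Set G) := by
  intro e he
  apply Cfsg.Agent.Helper26.BG36L3.mem_normalizer_of_conj_mem
  intro u hu
  have h1 : e * u * e⁻¹ * u⁻¹ ∈ ⁅E, E⁆ := Subgroup.commutator_mem_commutator he (hUE hu)
  have h2 : e * u * e⁻¹ = (e * u * e⁻¹ * u⁻¹) * u := by group
  rw [h2]
  exact mul_mem (h h1) hu

/-- the centralizer in `M_σ` of a nontrivial subgroup `X` of `K`, given prime action -/
theorem inf_centralizer_eq_of_semiprime {M K X : Subgroup G}
    (hsp : ∀ k ∈ K, k ≠ 1 → Cfsg.sigmaCore M ⊓ centralizer ({k} : Set G) =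
      Cfsg.sigmaCore M ⊓ centralizer (K : Set G)) (hXK : X ≤ K) (hX1 : X ≠ ⊥) :
    Cfsg.sigmaCore M ⊓ centralizer (X : Set G) = Cfsg.sigmaCore M ⊓ centralizer (K : Set G) := by
  apply le_antisymm
  · obtain ⟨x, hx1⟩ := (Subgroup.ne_bot_iff_exists_ne_one).mp hX1
    have hx1' : (x : G) ≠ 1 := fun h => hx1 (Subtype.ext h)
    rw [← hsp x (hXK x.2) hx1']
    exact inf_le_inf_left _ (centralizer_le (Set.singleton_subset_iff.mpr x.2))
  · exact inf_le_inf_left _ (centralizer_le hXK)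

/-- **S1430 when `κ(M) ⊆ τ₁(M)`** (parts (a), (b), (c)). -/
theorem s1430_tau1 (hG : Cfsg.IsMinSimpleOddOrder G) (hU : Uniq G) (h1350 : St1350 G)
    (h1415 : St1415 G) (h1417 : St1417 G) (h1418 : St1418 G) (h1420 : St1420 G)
    (h1427 : St1427 G) (h1428 : St1428 G) (hNS : NoStar G) {M : Subgroup G} (hM : IsCoatom M)
    {K : Subgroup G} (hK : Cfsg.IsPiHallOf (Cfsg.kappa M) K M) (hK1 : K ≠ ⊥)
    (hτ : ∀ p ∈ Cfsg.kappa M, p ∈ Cfsg.tau1 M) :
    (∀ k ∈ K, k ≠ 1 → Cfsg.sigmaCore M ⊓ centralizer ({k} : Set G) =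
        Cfsg.sigmaCore M ⊓ centralizer (K : Set G)) ∧
      (∃ U : Subgroup G, IsMulCommutative U ∧
        Cfsg.IsPiHallOf {q | q.Prime ∧ q ∉ Cfsg.kappa M ∧ q ∉ Cfsg.sigma M} U M ∧
        K ≤ normalizer (U : Set G) ∧ ∀ k ∈ K, k ≠ 1 → U ⊓ centralizer ({k} : Set G) = ⊥) ∧
      ∀ X : Subgroup G, X ≤ K → (Nat.card X).Prime →
        M ⊓ normalizer (X : Set G) = K ⊔ (Cfsg.sigmaCore M ⊓ centralizer (K : Set G)) ∧
        M ⊓ normalizer (K : Set G) = K ⊔ (Cfsg.sigmaCore M ⊓ centralizer (K : Set G)) := by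
  obtain ⟨E, hE, hKE, hKc⟩ := exists_compl_ge_cyclic_of_tau1 hG h1415 hM hK hτ
  have hEM : E ≤ M := hE.1
  have hEt : E ≠ ⊤ := by
    intro h
    apply hM.1
    rw [eq_top_iff, ← h]
    exact hE.1
  have hEsolv : Group.IsSolvable E := hG.2.2.2 E hEt
  have hKab : ∀ a ∈ K, ∀ b ∈ K, a * b = b * a := fun a ha b hb => comm_of_isCyclic hKc ha hb
  have hEhall := isPiHallOf_compl h1350 hM hE
  -- (a)
  have hrank : ∀ q : ℕ, q.Prime → q ∣ Nat.card K → Cfsg.PRankLE q 1 M :=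
    fun q hq hqd => pRankLE_one_of_mem_kappa (hK.2.1 q hq hqd)
  have hcommon : ∀ R₁ R₂ : Subgroup G, R₁ ≤ K → R₂ ≤ K → (Nat.card R₁).Prime →
      (Nat.card R₂).Prime →
      Cfsg.sigmaCore M ⊓ centralizer (R₁ : Set G) ≤ Cfsg.sigmaCore M ⊓ centralizer (R₂ : Set G) := by
    intro R₁ R₂ h1 h2 hp1 hp2
    have hκ1 : Nat.card R₁ ∈ Cfsg.kappa M := hK.2.1 _ hp1 (Subgroup.card_dvd_of_le h1)
    exact h1428 M hM E hE _ (hτ _ hκ1) R₁ (h1.trans hKE) rfl R₂
      (le_inf (h2.trans hKE) (h2.trans (le_centralizer_of_comm h1 hKab))) hp2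
  have hsp := semiprime_of_prime hG h1427 hM hE hKE hrank hcommon
  -- `C_E(X) = K`
  have hCE : ∀ X : Subgroup G, X ≤ K → (Nat.card X).Prime → E ⊓ centralizer (X : Set G) = K :=
    fun X hXK hXp => inf_centralizer_eq_of_tau1 hG hU h1350 h1417 h1418 h1420 h1428 hNS hM hK hτ
      hE hKE hKc hXK hXp
  -- (c)
  have hc : ∀ X : Subgroup G, X ≤ K → (Nat.card X).Prime →
      M ⊓ normalizer (X : Set G) = K ⊔ (Cfsg.sigmaCore M ⊓ centralizer (K : Set G)) ∧
      M ⊓ normalizer (K : Set G) = K ⊔ (Cfsg.sigmaCore M ⊓ centralizer (K : Set G)) := by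
    intro X hXK hXp
    have hX1 : X ≠ ⊥ := by
      intro h
      rw [h] at hXp
      simp at hXp
      exact Nat.not_prime_one hXp
    have hXM : X ≤ M := hXK.trans hK.1
    have hpκ : Nat.card X ∈ Cfsg.kappa M := hK.2.1 _ hXp (Subgroup.card_dvd_of_le hXK)
    have hpτ := hτ _ hpκ
    have h1 := inf_normalizer_eq_sup hE (le_normalizer_sigmaCore M) (hXK.trans hKE)
    have h2 : E ⊓ normalizer (X : Set G) = E ⊓ centralizer (X : Set G) := by
      apply le_antisymm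
      · refine le_inf inf_le_left ?_
        refine le_trans ?_ (inf_normalizer_le_centralizer hXM
          (inf_commutator_eq_bot hXp rfl hpτ.2.2.2.1))
        exact inf_le_inf_right _ hEM
      · exact inf_le_inf_left _ (centralizer_le_normalizer _)
    have h3 := inf_centralizer_eq_of_semiprime hsp hXK hX1
    have hNX : M ⊓ normalizer (X : Set G) =
        K ⊔ (Cfsg.sigmaCore M ⊓ centralizer (K : Set G)) := by
      rw [h1, h2, hCE X hXK hXp, h3]
    refine ⟨hNX, ?_⟩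
    apply le_antisymm
    · rw [← hNX]
      exact inf_le_inf_left _
        (Cfsg.Agent.H9.BG12.normalizer_le_normalizer_of_isCyclic hKc hXK)
    · apply sup_le
      · exact le_inf hK.1 le_normalizer
      · refine le_inf (inf_le_left.trans (sigmaCore_le M)) ?_
        exact inf_le_right.trans (centralizer_le_normalizer _)
  refine ⟨hsp, ?_, hc⟩
  -- (b)
  set π : Set ℕ := {q | q.Prime ∧ q ∉ Cfsg.kappa M ∧ q ∉ Cfsg.sigma M} with hπ
  have hE'E : ⁅E, E⁆ ≤ E := Subgroup.commutator_le_self E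
  have hE'π : IsPiNum π (Nat.card ↥⁅E, E⁆) := by
    intro q hq hqd
    refine ⟨hq, ?_, ?_⟩
    · intro hqκ
      have := (hτ q hqκ).2.2.2.1
      apply this
      exact hqd.trans (Subgroup.card_dvd_of_le (Subgroup.commutator_mono hEM hEM))
    · exact hEhall.2.1 q hq (hqd.trans (Subgroup.card_dvd_of_le hE'E))
  obtain ⟨U, hUE, hE'U⟩ := Cfsg.Agent.Lead.exists_isPiHallOf_ge hEsolv hE'E hE'π
  have hEN : E ≤ normalizer (U : Set G) := le_normalizer_of_commutator_le hUE.1 hE'U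
  have hUM : U ≤ M := hUE.1.trans hEM
  have hUK : U ⊓ K = ⊥ := by
    apply Disjoint.eq_bot
    apply Subgroup.disjoint_of_coprime_natCard
    apply Nat.coprime_of_dvd
    intro r hr h1 h2
    exact (hUE.2.1 r hr h1).2.1 (hK.2.1 r hr h2)
  have hfpf : ∀ k ∈ K, k ≠ 1 → U ⊓ centralizer ({k} : Set G) = ⊥ := by
    intro k hk hk1
    rw [eq_bot_iff]
    intro u hu
    rw [Subgroup.mem_inf] at hu
    have hok : orderOf k ≠ 1 := fun h => hk1 (orderOf_eq_one_iff.mp h)
    obtain ⟨s, hs, hsd⟩ := Nat.exists_prime_and_dvd hok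
    have hksK : ppart k s ∈ K := ppart_mem hk s
    have hPc : (Nat.card (zpowers (ppart k s))).Prime := by rw [card_zpowers_ppart hsd]; exact hs
    have hku : k * u = u * k := (Subgroup.mem_centralizer_singleton_iff.mp hu.2).symm
    have huC : u ∈ E ⊓ centralizer ((zpowers (ppart k s) : Subgroup G) : Set G) :=
      Subgroup.mem_inf.mpr ⟨hUE.1 hu.1, mem_centralizer_zpowers_of_comm (ppart_comm hku s)⟩
    rw [hCE _ (zpowers_le.mpr hksK) hPc] at huC
    have : u ∈ U ⊓ K := Subgroup.mem_inf.mpr ⟨hu.1, huC⟩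
    rwa [hUK] at this
  refine ⟨U, ?_, ?_, hKE.trans hEN, hfpf⟩
  · -- abelian
    obtain ⟨k, hk1⟩ := (Subgroup.ne_bot_iff_exists_ne_one).mp hK1
    have hk1' : (k : G) ≠ 1 := fun h => hk1 (Subtype.ext h)
    have hok : orderOf (k : G) ≠ 1 := fun h => hk1' (orderOf_eq_one_iff.mp h)
    obtain ⟨s, hs, hsd⟩ := Nat.exists_prime_and_dvd hok
    have hksK : ppart (k : G) s ∈ K := ppart_mem k.2 s
    have hks1 : ppart (k : G) s ≠ 1 := ppart_ne_one hs hsd
    have hpow : ppart (k : G) s ^ s = 1 := by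
      have := pow_orderOf_eq_one (ppart (k : G) s)
      rwa [orderOf_ppart hsd] at this
    have hnil : Group.IsNilpotent U :=
      Cfsg.Agent.Helper1.RankOneQ.nilpotent_of_fpf_conj U hs (hEN (hKE hksK)) hpow
        (hfpf _ hksK hks1)
    exact (h1420 M hM E hE).1 U hUM hnil (fun q hq hqd => (hUE.2.1 q hq hqd).2.2)
  · -- Hall in `M`
    refine ⟨hUM, hUE.2.1, ?_⟩
    intro q hq hqπ hqd
    rw [← Subgroup.relIndex_mul_relIndex U E M hUE.1 hEM] at hqd
    rcases (Nat.Prime.dvd_mul hq).mp hqd with h | h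
    · exact hUE.2.2 q hq hqπ h
    · exact hEhall.2.2 q hq hqπ.2.2 h

end Cfsg.Agent.Lead.BG142
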