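import Mathlib
import Cfsg.Prelude.Def_OddOrderLocal
import Cfsg.Agent.Lead.BG142e

set_option autoImplicit false
set_option linter.unusedSectionVars false
set_option linter.unusedVariables false
set_option linter.style.haveILetI false

/-! # B&G Theorem 14.2 (= S1430), assembly, part (f): the case `κ(M) ∩ τ₃(M) ≠ ∅`, and the
final statement relative to `NoStar` and `Tau3`. -/

namespace Cfsg.Agent.Lead.BG142

open Subgroup Cfsg
open Cfsg.Agent.Helper14 (IsSylowIn cj)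
open Cfsg.Agent.H9.BG12 (St1350 St1420 NC1210 sigmaCore_le le_normalizer_sigmaCore
  mem_sigma_of_dvd_card_sigmaCore isPiHallOf_compl prime_ne_two_of_dvd exists_complIn_sigmaCore
  nc1210_of le_sigmaCore_of_isPGroup card_mul_of_isComplIn)
open Cfsg.Agent.Lead (IsPiNum)
open Cfsg.Agent.Lead.BG143 (pRankLE_one_of_mem_kappa mem_kappa_or_mem_tau2 ppart orderOf_ppart
  ppart_ne_one ppart_mem ppart_comm card_zpowers_ppart St1430)
open Cfsg.Agent.Helper4.BG10 (Uniq centralizer_zpowers_eq)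
open Cfsg.Agent.Helper21.BG12 (St1417 St1418 lem_12_15_e13 exists_complIn_sigmaCore_ge)

universe u
variable {G : Type u} [Group G] [Finite G]

/-- **S1430 when `κ(M)` meets `τ₃(M)`** (parts (a), (b), (c)). -/
theorem s1430_tau3 (hG : Cfsg.IsMinSimpleOddOrder G) (hU : Uniq G) (h1350 : St1350 G)
    (h1427 : St1427 G) (hT3 : Tau3 G) {M : Subgroup G} (hM : IsCoatom M)
    {K : Subgroup G} (hK : Cfsg.IsPiHallOf (Cfsg.kappa M) K M) (hK1 : K ≠ ⊥)
    {p : ℕ} (hpκ : p ∈ Cfsg.kappa M) (hpτ : p ∈ Cfsg.tau3 M) :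
    (∀ k ∈ K, k ≠ 1 → Cfsg.sigmaCore M ⊓ centralizer ({k} : Set G) =
        Cfsg.sigmaCore M ⊓ centralizer (K : Set G)) ∧
      (∃ U : Subgroup G, IsMulCommutative U ∧
        Cfsg.IsPiHallOf {q | q.Prime ∧ q ∉ Cfsg.kappa M ∧ q ∉ Cfsg.sigma M} U M ∧
        K ≤ normalizer (U : Set G) ∧ ∀ k ∈ K, k ≠ 1 → U ⊓ centralizer ({k} : Set G) = ⊥) ∧
      ∀ X : Subgroup G, X ≤ K → (Nat.card X).Prime →
        M ⊓ normalizer (X : Set G) = K ⊔ (Cfsg.sigmaCore M ⊓ centralizer (K : Set G)) ∧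
        M ⊓ normalizer (K : Set G) = K ⊔ (Cfsg.sigmaCore M ⊓ centralizer (K : Set G)) := by
  obtain ⟨E, hE, hKE⟩ := exists_complIn_sigmaCore_ge hG hM hK.1 (kappa_hall_inf_sigmaCore hK)
  have hEM : E ≤ M := hE.1
  have hEhall := isPiHallOf_compl h1350 hM hE
  have hcard := card_mul_of_isComplIn hE
  obtain ⟨hrk, hall⟩ := hT3 M hM E hE p hpτ hpκ
  -- an element of order `p` in `E`
  have hpE : p ∣ Nat.card E := by
    have h1 : p ∣ Nat.card E * Nat.card (Cfsg.sigmaCore M) := hcard ▸ hpκ.2.1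
    rcases (Nat.Prime.dvd_mul hpκ.1).mp h1 with h | h
    · exact h
    · exact absurd (mem_sigma_of_dvd_card_sigmaCore hpκ.1 h) hpκ.2.2.1
  obtain ⟨c, hcE, hco⟩ := exists_mem_orderOf_eq hpκ.1 hpE
  have hX₀E : zpowers c ≤ E := zpowers_le.mpr hcE
  have hX₀c : Nat.card (zpowers c) = p := by rw [Nat.card_zpowers, hco]
  have hYne := kappa_inf_centralizer_ne_bot hpκ (hX₀E.trans hEM) hX₀c
  -- every prime dividing `#E` is in `κ(M)`
  have hEπ : IsPiNum (Cfsg.kappa M) (Nat.card E) := by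
    intro s hs hsd
    obtain ⟨c', hc'E, hc'o⟩ := exists_mem_orderOf_eq hs hsd
    have hsσ : s ∉ Cfsg.sigma M := hEhall.2.1 s hs hsd
    have h2 := (hall (zpowers c) hX₀E hX₀c (zpowers c') (zpowers_le.mpr hc'E)
      (by rw [Nat.card_zpowers, hc'o]; exact hs)).2
    obtain ⟨⟨y, hyY⟩, hy1⟩ := (Subgroup.ne_bot_iff_exists_ne_one).mp hYne
    have hy1' : y ≠ 1 := fun h => hy1 (Subtype.ext h)
    rw [← h2, centralizer_zpowers_eq] at hyY
    have hcy : c' * y = y * c' :=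
      (Subgroup.mem_centralizer_singleton_iff.mp (Subgroup.mem_inf.mp hyY).2).symm
    rcases mem_kappa_or_mem_tau2 hG hU hM hs hsσ (hEM hc'E) hc'o (Subgroup.mem_inf.mp hyY).1 hy1'
      hcy with hκ | hτ2
    · exact hκ
    · exact absurd (hrk s hs hsσ) hτ2.2.2.2
  have hEK : E = K := eq_of_hall_le hK hKE hEM hEπ
  subst hEK
  -- (a)
  have hrank : ∀ q : ℕ, q.Prime → q ∣ Nat.card E → Cfsg.PRankLE q 1 M :=
    fun q hq hqd => pRankLE_one_of_mem_kappa (hK.2.1 q hq hqd)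
  have hcommon : ∀ R₁ R₂ : Subgroup G, R₁ ≤ E → R₂ ≤ E → (Nat.card R₁).Prime →
      (Nat.card R₂).Prime →
      Cfsg.sigmaCore M ⊓ centralizer (R₁ : Set G) ≤ Cfsg.sigmaCore M ⊓ centralizer (R₂ : Set G) := by
    intro R₁ R₂ h1 h2 hp1 hp2
    rw [(hall (zpowers c) hX₀E hX₀c R₁ h1 hp1).2, (hall (zpowers c) hX₀E hX₀c R₂ h2 hp2).2]
  have hsp := semiprime_of_prime hG h1427 hM hE le_rfl hrank hcommon
  refine ⟨hsp, ⟨⊥, ?_, ?_, ?_, ?_⟩, ?_⟩
  · exact ⟨⟨fun a b => Subsingleton.elim _ _⟩⟩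
  · refine ⟨bot_le, ?_, ?_⟩
    · intro q hq hqd
      rw [Subgroup.card_bot] at hqd
      exact absurd (Nat.dvd_one.mp hqd) hq.one_lt.ne'
    · intro q hq hqπ hqd
      rw [Subgroup.relIndex_bot_left, ← hcard] at hqd
      rcases (Nat.Prime.dvd_mul hq).mp hqd with h | h
      · exact hqπ.2.1 (hK.2.1 q hq h)
      · exact hqπ.2.2 (mem_sigma_of_dvd_card_sigmaCore hq h)
  · intro k _
    rw [Subgroup.coe_bot]
    have : normalizer (({1} : Set G)) = ⊤ := by
      rw [← Subgroup.coe_bot, Subgroup.normalizer_eq_top_iff]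
      infer_instance
    rw [this]
    exact Subgroup.mem_top k
  · intro k _ _
    exact bot_inf_eq _
  · intro X hXE hXp
    have hX1 : X ≠ ⊥ := by
      intro h
      rw [h] at hXp
      simp at hXp
      exact Nat.not_prime_one hXp
    have h3 := inf_centralizer_eq_of_semiprime hsp hXE hX1
    have hEN : E ≤ normalizer (X : Set G) := (hall (zpowers c) hX₀E hX₀c X hXE hXp).1
    constructor
    · rw [inf_normalizer_eq_sup hE (le_normalizer_sigmaCore M) hXE, h3, inf_eq_left.mpr hEN]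
    · have h4 := inf_normalizer_eq_sup hE (le_normalizer_sigmaCore M) (le_refl E)
      rw [h4, inf_eq_left.mpr le_normalizer]

/-- **S1430 relative to `NoStar` (13.7) and `Tau3` (13.8, 13.10)** and the landed results of
sections 12 and 13. -/
theorem s1430_of (hG : Cfsg.IsMinSimpleOddOrder G) (hU : Uniq G) (h1350 : St1350 G)
    (h1415 : St1415 G) (h1417 : St1417 G) (h1418 : St1418 G) (h1420 : St1420 G)
    (h1427 : St1427 G) (h1428 : St1428 G) (hNS : NoStar G) (hT3 : Tau3 G) : St1430 G := by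
  intro M hM K hK hK1
  by_cases h : ∀ p ∈ Cfsg.kappa M, p ∈ Cfsg.tau1 M
  · obtain ⟨ha, hb, hc⟩ := s1430_tau1 hG hU h1350 h1415 h1417 h1418 h1420 h1427 h1428 hNS hM hK hK1 h
    refine ⟨ha, hb, fun X hXK hXp => ⟨(hc X hXK hXp).1, (hc X hXK hXp).2, ?_⟩⟩
    exact part_d_of_noStar h1350 hNS hM hK hXK hXp
  · push Not at h
    obtain ⟨p, hpκ, hpτ1⟩ := h
    have hpτ3 : p ∈ Cfsg.tau3 M := by
      rcases mem_tau1_or_mem_tau3 hpκ with h1 | h3
      · exact absurd h1 hpτ1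
      · exact h3
    obtain ⟨ha, hb, hc⟩ := s1430_tau3 hG hU h1350 h1427 hT3 hM hK hK1 hpκ hpτ3
    refine ⟨ha, hb, fun X hXK hXp => ⟨(hc X hXK hXp).1, (hc X hXK hXp).2, ?_⟩⟩
    exact part_d_of_noStar h1350 hNS hM hK hXK hXp

end Cfsg.Agent.Lead.BG142
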