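import Mathlib
import Cfsg.Agent.Helper10.S2548Defs

/-! S2548 project (driver helper10), piece N0PERM: the permutation of the longest element of `W(D_m)` lies in the
group generated by the permutations of the simple reflections. -/

set_option autoImplicit false

namespace Cfsg.Agent.S2548P

namespace N0PERM

/-- the transposition `(a, rev a)` by natural-number index (identity if out of range) -/
def fl (n a : ℕ) : Equiv.Perm (Fin n) :=
  if h : a < n then Equiv.swap ⟨a, h⟩ ⟨n - 1 - a, by omega⟩ else 1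

theorem fl_apply {n a : ℕ} (h : a < n) (x : Fin n) :
    (fl n a x).val = if x.val = a then n - 1 - a else if x.val = n - 1 - a then a else x.val := by
  unfold fl
  rw [dif_pos h, Equiv.swap_apply_def]
  simp only [Fin.ext_iff]
  split_ifs <;> rfl

theorem swap_val {n : ℕ} (a b x : Fin n) :
    (Equiv.swap a b x).val = if x.val = a.val then b.val else if x.val = b.val then a.val else x.val := by
  rw [Equiv.swap_apply_def]
  simp only [Fin.ext_iff]
  split_ifs <;> rfl

theorem tauIK_apply {n i k : ℕ} (hn : n % 2 = 0) (hi : i < n) (hk : k < n) (hik : i ≠ k) (hr : i + k ≠ n - 1)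
    (x : Fin n) :
    (tauIK n i k x).val =
      if x.val = i then k else if x.val = k then i else if x.val = n - 1 - i then n - 1 - k
      else if x.val = n - 1 - k then n - 1 - i else x.val := by
  unfold tauIK
  rw [dif_pos ⟨hi, hk⟩, Equiv.Perm.mul_apply, swap_val, swap_val]
  have hx := x.2
  simp only
  split_ifs <;> omega

theorem fl_spec {n a : ℕ} (h : a < n) (x : Fin n) :
    (x.val = a ∧ (fl n a x).val = n - 1 - a) ∨ (x.val ≠ a ∧ x.val = n - 1 - a ∧ (fl n a x).val = a) ∨
      (x.val ≠ a ∧ x.val ≠ n - 1 - a ∧ (fl n a x).val = x.val) := by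
  rw [fl_apply h]
  split_ifs <;> omega

theorem tauIK_spec {n i k : ℕ} (hn : n % 2 = 0) (hi : i < n) (hk : k < n) (hik : i ≠ k) (hr : i + k ≠ n - 1)
    (x : Fin n) :
    (x.val = i ∧ (tauIK n i k x).val = k) ∨ (x.val = k ∧ (tauIK n i k x).val = i) ∨
      (x.val = n - 1 - i ∧ (tauIK n i k x).val = n - 1 - k) ∨
      (x.val = n - 1 - k ∧ (tauIK n i k x).val = n - 1 - i) ∨
      (x.val ≠ i ∧ x.val ≠ k ∧ x.val ≠ n - 1 - i ∧ x.val ≠ n - 1 - k ∧ (tauIK n i k x).val = x.val) := by
  rw [tauIK_apply hn hi hk hik hr]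
  have hx := x.2
  split_ifs <;> omega

/-- the flip of the first `k` coordinates and their mirrors -/
def flipB (n k : ℕ) : Equiv.Perm (Fin n) :=
  Function.Involutive.toPerm (fun x : Fin n => if x.val < k ∨ n - 1 - x.val < k then x.rev else x) (by
    intro x
    by_cases hx : x.val < k ∨ n - 1 - x.val < k
    · have hx' : (x.rev).val < k ∨ n - 1 - (x.rev).val < k := by
        rw [Fin.val_rev]
        have := x.2
        omega
      simp only [if_pos hx, if_pos hx', Fin.rev_rev]
    · simp only [if_neg hx])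

theorem flipB_apply (n k : ℕ) (x : Fin n) :
    (flipB n k x).val = if x.val < k ∨ n - 1 - x.val < k then n - 1 - x.val else x.val := by
  have h : flipB n k x = if x.val < k ∨ n - 1 - x.val < k then x.rev else x := rfl
  rw [h]
  have hx := x.2
  split_ifs
  · rw [Fin.val_rev]; omega
  · rfl

theorem flipB_zero (n : ℕ) : flipB n 0 = 1 := by
  ext x
  rw [flipB_apply]
  simp

theorem flipB_succ_succ {n k : ℕ} (hk : 2 * (k + 2) ≤ n) :
    flipB n (k + 2) = flipB n k * (fl n k * fl n (k + 1)) := by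
  ext x
  have hx := x.2
  rw [Equiv.Perm.mul_apply, Equiv.Perm.mul_apply, flipB_apply, flipB_apply,
    fl_apply (by omega), fl_apply (by omega)]
  split_ifs <;> omega

theorem pi0_even {n : ℕ} (hn : n % 2 = 0) (hm : (n / 2) % 2 = 0) : pi0 n = flipB n (n / 2) := by
  ext x
  have hx := x.2
  unfold pi0
  rw [if_pos hm, Fin.revPerm_apply, Fin.val_rev, flipB_apply]
  split_ifs <;> omega

theorem midSwap_apply {n : ℕ} (h : 2 ≤ n) (x : Fin n) :
    (midSwap n x).val = if x.val = n / 2 - 1 then n / 2 else if x.val = n / 2 then n / 2 - 1 else x.val := by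
  unfold midSwap
  rw [dif_pos h, Equiv.swap_apply_def]
  simp only [Fin.ext_iff]
  split_ifs <;> rfl

theorem pi0_odd {n : ℕ} (hn : n % 2 = 0) (hn4 : 4 ≤ n) (hm : ¬ (n / 2) % 2 = 0) :
    pi0 n = flipB n (n / 2 - 1) := by
  ext x
  have hx := x.2
  unfold pi0
  rw [if_neg hm, Equiv.Perm.mul_apply, Fin.revPerm_apply, Fin.val_rev, midSwap_apply (by omega), flipB_apply]
  split_ifs <;> omega

/-- conjugating a flip -/
theorem conj_fl {n b : ℕ} (hb : b < n) (σ : Equiv.Perm (Fin n)) :
    σ * fl n b * σ⁻¹ = Equiv.swap (σ ⟨b, hb⟩) (σ ⟨n - 1 - b, by omega⟩) := by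
  unfold fl
  rw [dif_pos hb, Equiv.mul_swap_eq_swap_mul, mul_inv_cancel_right]

theorem fl_eq_swap {n b : ℕ} (hb : b < n) : fl n b = Equiv.swap ⟨b, hb⟩ ⟨n - 1 - b, by omega⟩ := by
  unfold fl
  rw [dif_pos hb]

/-- the top double sign change is the product of the last two simple reflections -/
theorem top_eq {n : ℕ} (hn : n % 2 = 0) (hn4 : 4 ≤ n) :
    fl n (n / 2 - 2) * fl n (n / 2 - 1) = tau n (n / 2 - 2) * tau n (n / 2 - 1) := by
  have e1 : nodeI n (n / 2 - 2) = n / 2 - 2 := by
    unfold nodeI; rw [if_pos (by omega)]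
  have e2 : nodeK n (n / 2 - 2) = n / 2 - 1 := by
    unfold nodeK; omega
  have e3 : nodeI n (n / 2 - 1) = n / 2 - 2 := by
    unfold nodeI; rw [if_neg (by omega)]; omega
  have e4 : nodeK n (n / 2 - 1) = n / 2 := by
    unfold nodeK; omega
  unfold tau
  rw [e1, e2, e3, e4]
  ext x
  have hx := x.2
  rw [Equiv.Perm.mul_apply, Equiv.Perm.mul_apply]
  have g1 : n / 2 - 1 < n := by omega
  have g2 : n / 2 - 2 < n := by omega
  have g3 : n / 2 < n := by omega
  have g4 : n / 2 - 2 ≠ n / 2 := by omega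
  have g5 : n / 2 - 2 + n / 2 ≠ n - 1 := by omega
  have g6 : n / 2 - 2 ≠ n / 2 - 1 := by omega
  have g7 : n / 2 - 2 + (n / 2 - 1) ≠ n - 1 := by omega
  have s1 := fl_spec g1 x
  have s2 := fl_spec g2 (fl n (n / 2 - 1) x)
  have s3 := tauIK_spec hn g2 g3 g4 g5 x
  have s4 := tauIK_spec hn g2 g1 g6 g7 (tauIK n (n / 2 - 2) (n / 2) x)
  generalize (fl n (n / 2 - 1) x) = y1 at *
  generalize (tauIK n (n / 2 - 2) (n / 2) x) = y2 at *
  generalize (fl n (n / 2 - 2) y1).val = b at *
  generalize (tauIK n (n / 2 - 2) (n / 2 - 1) y2).val = d at *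
  generalize y1.val = a at *
  generalize y2.val = c at *
  generalize x.val = xv at *
  clear g1 g2 g3 g4 g5 g6 g7 e1 e2 e3 e4
  rcases s3 with h | h | h | h | h <;> rcases s1 with g | g | g <;> omega

/-- values of `tau (a+1) * tau a` -/
theorem sigma_val {n a : ℕ} (hn : n % 2 = 0) (ha : a + 2 < n / 2) (x : Fin n) :
    (x.val = a + 1 → ((tau n (a + 1) * tau n a) x).val = a) ∧
    (x.val = a + 2 → ((tau n (a + 1) * tau n a) x).val = a + 1) ∧
    (x.val = n - 1 - (a + 1) → ((tau n (a + 1) * tau n a) x).val = n - 1 - a) ∧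
    (x.val = n - 1 - (a + 2) → ((tau n (a + 1) * tau n a) x).val = n - 1 - (a + 1)) := by
  have e1 : nodeI n (a + 1) = a + 1 := by
    unfold nodeI; rw [if_pos (by omega)]
  have e2 : nodeK n (a + 1) = a + 2 := by
    unfold nodeK; omega
  have e3 : nodeI n a = a := by
    unfold nodeI; rw [if_pos (by omega)]
  have e4 : nodeK n a = a + 1 := by
    unfold nodeK; omega
  unfold tau
  have hx := x.2
  rw [e1, e2, e3, e4, Equiv.Perm.mul_apply]
  have g1 : a < n := by omega
  have g2 : a + 1 < n := by omega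
  have g3 : a + 2 < n := by omega
  have g4 : a ≠ a + 1 := by omega
  have g5 : a + (a + 1) ≠ n - 1 := by omega
  have g6 : a + 1 ≠ a + 2 := by omega
  have g7 : a + 1 + (a + 2) ≠ n - 1 := by omega
  have s3 := tauIK_spec hn g1 g2 g4 g5 x
  have s4 := tauIK_spec hn g2 g3 g6 g7 (tauIK n a (a + 1) x)
  generalize (tauIK n a (a + 1) x) = y2 at *
  generalize (tauIK n (a + 1) (a + 2) y2).val = d at *
  generalize y2.val = c at *
  generalize x.val = xv at *
  clear g1 g2 g3 g4 g5 g6 g7 e1 e2 e3 e4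
  refine ⟨?_, ?_, ?_, ?_⟩ <;> intro hxv <;> rcases s3 with h | h | h | h | h <;> omega

/-- conjugating the double sign change at `(a+1, a+2)` to `(a, a+1)` -/
theorem conj_eq {n a : ℕ} (hn : n % 2 = 0) (ha : a + 2 < n / 2) :
    fl n a * fl n (a + 1) =
      (tau n (a + 1) * tau n a) * (fl n (a + 1) * fl n (a + 2)) * (tau n (a + 1) * tau n a)⁻¹ := by
  set σ := tau n (a + 1) * tau n a with hσ
  have h1 : σ * (fl n (a + 1) * fl n (a + 2)) * σ⁻¹ = (σ * fl n (a + 1) * σ⁻¹) * (σ * fl n (a + 2) * σ⁻¹) := by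
    group
  rw [h1, conj_fl (by omega), conj_fl (by omega), fl_eq_swap (by omega), fl_eq_swap (by omega)]
  have v1 : σ ⟨a + 1, by omega⟩ = ⟨a, by omega⟩ :=
    Fin.ext ((sigma_val hn ha _).1 rfl)
  have v2 : σ ⟨n - 1 - (a + 1), by omega⟩ = ⟨n - 1 - a, by omega⟩ :=
    Fin.ext ((sigma_val hn ha _).2.2.1 rfl)
  have v3 : σ ⟨a + 2, by omega⟩ = ⟨a + 1, by omega⟩ :=
    Fin.ext ((sigma_val hn ha _).2.1 rfl)
  have v4 : σ ⟨n - 1 - (a + 2), by omega⟩ = ⟨n - 1 - (a + 1), by omega⟩ :=
    Fin.ext ((sigma_val hn ha _).2.2.2 rfl)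
  rw [v1, v2, v3, v4]

end N0PERM

open N0PERM in
theorem N0PERM.pi0_mem {n : ℕ} (hn : n % 2 = 0) (hn4 : 4 ≤ n) :
    pi0 n ∈ Subgroup.closure (Set.range (fun j : Fin (n / 2) => tau n j)) := by
  set H := Subgroup.closure (Set.range (fun j : Fin (n / 2) => tau n j)) with hH
  have htau : ∀ j, j < n / 2 → tau n j ∈ H := fun j hj => Subgroup.subset_closure ⟨⟨j, hj⟩, rfl⟩
  -- all double sign changes at consecutive positions
  have hc : ∀ d a, a + 2 + d = n / 2 → fl n a * fl n (a + 1) ∈ H := by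
    intro d
    induction d with
    | zero =>
      intro a ha
      have h1 : a = n / 2 - 2 := by omega
      have h2 : a + 1 = n / 2 - 1 := by omega
      rw [h2, h1, top_eq hn hn4]
      exact H.mul_mem (htau _ (by omega)) (htau _ (by omega))
    | succ d ih =>
      intro a ha
      rw [conj_eq hn (by omega)]
      have hσ : tau n (a + 1) * tau n a ∈ H := H.mul_mem (htau _ (by omega)) (htau _ (by omega))
      exact H.mul_mem (H.mul_mem hσ (ih (a + 1) (by omega))) (H.inv_mem hσ)
  have hflip : ∀ j, 2 * j ≤ n / 2 → flipB n (2 * j) ∈ H := by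
    intro j
    induction j with
    | zero => intro _; rw [mul_zero, flipB_zero]; exact H.one_mem
    | succ j ih =>
      intro hj
      have : 2 * (j + 1) = 2 * j + 2 := by ring
      rw [this, flipB_succ_succ (by omega)]
      exact H.mul_mem (ih (by omega)) (hc (n / 2 - 2 - 2 * j) (2 * j) (by omega))
  by_cases hm : (n / 2) % 2 = 0
  · rw [pi0_even hn hm]
    have := hflip (n / 2 / 2) (by omega)
    rwa [show 2 * (n / 2 / 2) = n / 2 by omega] at this
  · rw [pi0_odd hn hn4 hm]
    have := hflip ((n / 2 - 1) / 2) (by omega)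
    rwa [show 2 * ((n / 2 - 1) / 2) = n / 2 - 1 by omega] at this

end Cfsg.Agent.S2548P
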