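import Mathlib
import Cfsg.Prelude.Def_Solvable

set_option autoImplicit false

/-! S2553 (subgroups `H` of `GL₄(2) ≅ A₈` with `O₂(H) = O₂'(H) = 1`): shared definitions for the
piece project (driver: lead). -/

namespace Cfsg.Agent.S2553P

/-- the ambient symmetric group of degree 8 -/
abbrev Γ8 : Type := Equiv.Perm (Fin 8)

/-- the alternating group of degree 8, as a subgroup of `Γ8` -/
abbrev A8 : Subgroup Γ8 := alternatingGroup (Fin 8)

/-- no nontrivial normal `2`-subgroup and no nontrivial normal subgroup of odd order -/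
def Clean (X : Type*) [Group X] : Prop :=
  (∀ N : Subgroup X, N.Normal → IsPGroup 2 ↥N → N = ⊥) ∧
  (∀ N : Subgroup X, N.Normal → (Nat.card ↥N).Coprime 2 → N = ⊥)

end Cfsg.Agent.S2553P
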