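import Mathlib
import Cfsg.Agent.Lead.S2553Defs

set_option autoImplicit false

/-! S2553 piece SYLAMB. -/

namespace Cfsg.Agent.S2553P

/-- SYLAMB: normalizers inside a subgroup `S ≤ A₈` are bounded by the ambient normalizers -/
theorem card_normalizer_dvd (S : Subgroup Γ8) (hSA : S ≤ A8) (P : Subgroup ↥S) :
    Nat.card ↥(Subgroup.normalizer (P : Set ↥S)) ∣
      Nat.card ↥(A8 ⊓ Subgroup.normalizer ((P.map S.subtype : Subgroup Γ8) : Set Γ8)) := by
  have hmem : ∀ g : ↥(Subgroup.normalizer (P : Set ↥S)),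
      (g.1.1 : Γ8) ∈ A8 ⊓ Subgroup.normalizer ((P.map S.subtype : Subgroup Γ8) : Set Γ8) := by
    intro g
    refine ⟨hSA g.1.2, ?_⟩
    change (g.1.1 : Γ8) ∈ Subgroup.normalizer ((P.map S.subtype : Subgroup Γ8) : Set Γ8)
    rw [Subgroup.mem_normalizer_iff]
    intro h
    have hg := Subgroup.mem_normalizer_iff.mp g.2
    constructor
    · rintro ⟨x, hx, rfl⟩
      exact ⟨g.1 * x * g.1⁻¹, (hg x).mp hx, rfl⟩
    · rintro ⟨y, hy, hyx⟩
      have hy' : g.1⁻¹ * y * g.1 ∈ P := by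
        have := (hg (g.1⁻¹ * y * g.1)).mpr (by simpa [mul_assoc] using hy)
        exact this
      refine ⟨g.1⁻¹ * y * g.1, hy', ?_⟩
      have : (S.subtype y : Γ8) = g.1.1 * h * (g.1.1)⁻¹ := hyx
      simp only [Subgroup.coe_subtype, Subgroup.coe_mul, Subgroup.coe_inv] at this ⊢
      rw [this]; group
  let f : ↥(Subgroup.normalizer (P : Set ↥S)) →*
      ↥(A8 ⊓ Subgroup.normalizer ((P.map S.subtype : Subgroup Γ8) : Set Γ8)) :=
    { toFun := fun g => ⟨g.1.1, hmem g⟩
      map_one' := rfl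
      map_mul' := fun _ _ => rfl }
  apply Subgroup.card_dvd_of_injective f
  intro a b hab
  apply Subtype.ext
  apply Subtype.ext
  exact congrArg (fun z => (z.1 : Γ8)) hab

end Cfsg.Agent.S2553P
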