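import Mathlib
import Cfsg.Agent.Helper7.S5655.Defs
import Cfsg.Agent.Helper2.UnitaryCount

/-! # S5655 (k = 1) piece FIX (lead): the fixed field of `σ` has `q` elements -/

set_option autoImplicit false

namespace Cfsg.Agent.S5655K1

open Matrix
open Cfsg.Agent.S2644 Cfsg.Agent.Helper2.SUGen Cfsg.Agent.Helper28.SimMax Cfsg.Agent.MonoP

variable {K : Type*} [Field K] {q n : ℕ}

open scoped Classical in
/-- FIX (S-M): the fixed field of `σ` has `q` elements. -/
theorem FIX.card (D : Frob K q) [Fintype K] (hK : Fintype.card K = q ^ 2) :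
    (Finset.univ.filter (fun x : K => D.σ x = x)).card = q := by
  have h := Cfsg.Agent.Helper2.Herm.card_K hK
  rw [Fintype.card_subtype] at h
  refine Eq.trans ?_ h
  congr 1
  ext c
  simp only [Finset.mem_filter, Finset.mem_univ, true_and]
  rw [D.pow]
  exact Iff.rfl

end Cfsg.Agent.S5655K1
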