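import Mathlib
import Cfsg.Agent.Helper7.S5655.Defs

/-! # S5655 (k = 1) piece TRFIB (lead): `t ↦ Tr (t z)` is at most 2-to-1 on `μ` -/

set_option autoImplicit false

namespace Cfsg.Agent.S5655K1

open Matrix
open Cfsg.Agent.S2644 Cfsg.Agent.Helper2.SUGen Cfsg.Agent.Helper28.SimMax Cfsg.Agent.MonoP

variable {K : Type*} [Field K] {q n : ℕ}

/-- for `z ≠ 0` at most two norm-one `t` have `Tr (t z) = c` -/
theorem TRFIB.two_roots (D : Frob K q) (z c : K) (hz : z ≠ 0) (S : Finset K)
    (hS : ∀ t ∈ S, IsU D t ∧ t * z + D.σ (t * z) = c) : S.card ≤ 2 := by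
  classical
  set P : Polynomial K := Polynomial.C z * Polynomial.X ^ 2 - Polynomial.C c * Polynomial.X +
    Polynomial.C (D.σ z) with hP
  have hdeg : P.natDegree ≤ 2 := by
    rw [hP]
    compute_degree
  have hP0 : P ≠ 0 := by
    intro h0
    have : P.coeff 2 = z := by
      rw [hP]
      simp
    rw [h0, Polynomial.coeff_zero] at this
    exact hz this.symm
  have hsub : S ⊆ P.roots.toFinset := by
    intro t ht
    obtain ⟨hu, htr⟩ := hS t ht
    rw [Multiset.mem_toFinset, Polynomial.mem_roots hP0, Polynomial.IsRoot.def, hP]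
    simp only [Polynomial.eval_add, Polynomial.eval_sub, Polynomial.eval_mul, Polynomial.eval_C,
      Polynomial.eval_pow, Polynomial.eval_X]
    have ht0 : t ≠ 0 := by
      rintro rfl
      unfold IsU at hu
      rw [zero_mul] at hu
      exact zero_ne_one hu
    have hσ : D.σ t = t⁻¹ := by
      unfold IsU at hu
      exact eq_inv_of_mul_eq_one_right hu
    rw [map_mul, hσ] at htr
    rw [← htr]
    field_simp
    ring
  calc S.card ≤ P.roots.toFinset.card := Finset.card_le_card hsub
    _ ≤ Multiset.card P.roots := Multiset.toFinset_card_le _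
    _ ≤ P.natDegree := Polynomial.card_roots' P
    _ ≤ 2 := hdeg

open scoped Classical in
/-- TRFIB (S): for `z ≠ 0` the map `t ↦ t z + σ (t z)` takes every value at most twice on `μ`. -/
theorem TRFIB.card_le (D : Frob K q) (S : Finset K) (hS : ∀ t ∈ S, IsU D t) (z : K) (hz : z ≠ 0) (c : K) :
    (S.filter (fun t => t * z + D.σ (t * z) = c)).card ≤ 2 := by
  apply TRFIB.two_roots D z c hz
  intro t ht
  rw [Finset.mem_filter] at ht
  exact ⟨hS t ht.1, ht.2⟩

end Cfsg.Agent.S5655K1
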