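import Mathlib
import Cfsg.Agent.Helper7.S5655.Defs
import Cfsg.Agent.Lead.S5655FIX
import Cfsg.Agent.Lead.S5655TRFIB

/-! # S5655 (k = 1) piece SUMSET (lead): the sumset pigeonhole -/

set_option autoImplicit false

namespace Cfsg.Agent.S5655K1

open Matrix
open Cfsg.Agent.S2644 Cfsg.Agent.Helper2.SUGen Cfsg.Agent.Helper28.SimMax Cfsg.Agent.MonoP

variable {K : Type*} [Field K] {q n : ℕ}

/-- SUMSET (M): the sumset pigeonhole. -/
theorem SUMSET.main (D : Frob K q) [Fintype K] (hK : Fintype.card K = q ^ 2) (S₁ S₂ : Finset K)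
    (h1 : ∀ t ∈ S₁, IsU D t) (h2 : ∀ t ∈ S₂, IsU D t) (z₁ z₂ : K) (hz1 : z₁ ≠ 0) (hz2 : z₂ ≠ 0)
    (hcard : 2 * q + 1 ≤ S₁.card + S₂.card) (c : K) (hc : D.σ c = c) :
    ∃ t₁ ∈ S₁, ∃ t₂ ∈ S₂, t₁ * z₁ + D.σ (t₁ * z₁) + (t₂ * z₂ + D.σ (t₂ * z₂)) = c := by
  classical
  set f1 : K → K := fun t => t * z₁ + D.σ (t * z₁) with hf1
  set f2 : K → K := fun t => c - (t * z₂ + D.σ (t * z₂)) with hf2
  have hA : S₁.image f1 ⊆ Finset.univ.filter (fun c : K => D.σ c = c) := by
    intro x hx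
    obtain ⟨t, _, rfl⟩ := Finset.mem_image.mp hx
    simp only [Finset.mem_filter, Finset.mem_univ, true_and, hf1]
    rw [map_add, D.invol, add_comm]
  have hB : S₂.image f2 ⊆ Finset.univ.filter (fun c : K => D.σ c = c) := by
    intro x hx
    obtain ⟨t, _, rfl⟩ := Finset.mem_image.mp hx
    simp only [Finset.mem_filter, Finset.mem_univ, true_and, hf2]
    rw [map_sub, map_add, D.invol, hc, add_comm]
  have hS1 : S₁.card ≤ 2 * (S₁.image f1).card := by
    apply Finset.card_le_mul_card_image S₁ 2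
    intro b _
    apply TRFIB.two_roots D z₁ b hz1
    intro t ht
    rw [Finset.mem_filter] at ht
    exact ⟨h1 t ht.1, ht.2⟩
  have hS2 : S₂.card ≤ 2 * (S₂.image f2).card := by
    apply Finset.card_le_mul_card_image S₂ 2
    intro b _
    apply TRFIB.two_roots D z₂ (c - b) hz2
    intro t ht
    rw [Finset.mem_filter] at ht
    refine ⟨h2 t ht.1, ?_⟩
    have := ht.2
    simp only [hf2] at this
    rw [← this]
    ring
  by_contra hcon
  push Not at hcon
  have hdisj : Disjoint (S₁.image f1) (S₂.image f2) := by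
    rw [Finset.disjoint_left]
    intro x hx1 hx2
    obtain ⟨t1, ht1, rfl⟩ := Finset.mem_image.mp hx1
    obtain ⟨t2, ht2, hx⟩ := Finset.mem_image.mp hx2
    apply hcon t1 ht1 t2 ht2
    simp only [hf1, hf2] at hx
    rw [← hx]
    ring
  have hle : (S₁.image f1).card + (S₂.image f2).card ≤ q := by
    rw [← Finset.card_union_of_disjoint hdisj, ← FIX.card D hK]
    exact Finset.card_le_card (Finset.union_subset hA hB)
  omega

end Cfsg.Agent.S5655K1
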