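import Cfsg.Agent.Lead.S5634BEE1

set_option autoImplicit false
set_option linter.unusedSectionVars false
set_option linter.unusedVariables false

/-! # S5634 (half `m ≥ 2`), piece B_EE2: conjugation and the two commutator formulas -/

namespace Cfsg.Agent.S5634P

open Matrix Cfsg.Agent.Helper28.SLMax
open scoped MatrixGroups

variable {F : Type*} [Field F] {n t m : ℕ} {D : Fin t → Submodule F (Fin n → F)}

theorem EE.inv_mulVec_mulVec (g : GL (Fin n) F) (x : Fin n → F) :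
    (g : Matrix (Fin n) (Fin n) F) *ᵥ (((g⁻¹ : GL (Fin n) F) : Matrix (Fin n) (Fin n) F) *ᵥ x) = x := by
  rw [Matrix.mulVec_mulVec, ← Units.val_mul, mul_inv_cancel, Units.val_one, Matrix.one_mulVec]

/-- `g T(v, φ) g⁻¹ = T(g v, φ ∘ g⁻¹)` (true also when `1 + φ v = 0`: both sides are `1`) -/
theorem EE.conj (g : GL (Fin n) F) (v φ : Fin n → F) :
    g * EE v φ * g⁻¹ = EE ((g : Matrix (Fin n) (Fin n) F) *ᵥ v) (dact g φ) := by
  have e : dact g φ ⬝ᵥ ((g : Matrix (Fin n) (Fin n) F) *ᵥ v) = φ ⬝ᵥ v := dact_dot_mulVec g φ v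
  by_cases h : 1 + φ ⬝ᵥ v ≠ 0
  · have h' : 1 + dact g φ ⬝ᵥ ((g : Matrix (Fin n) (Fin n) F) *ᵥ v) ≠ 0 := by rw [e]; exact h
    apply EE.ext_act
    intro x
    rw [EE.mul_mulVec, EE.mul_mulVec, EE_mulVec h, EE_mulVec h', Matrix.mulVec_add, Matrix.mulVec_smul,
      EE.inv_mulVec_mulVec, dact_dot]
  · have h' : ¬ (1 + dact g φ ⬝ᵥ ((g : Matrix (Fin n) (Fin n) F) *ᵥ v) ≠ 0) := by rw [e]; exact h
    have e1 : EE v φ = 1 := by unfold EE; rw [dif_neg h]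
    have e2 : EE ((g : Matrix (Fin n) (Fin n) F) *ᵥ v) (dact g φ) = 1 := by
      unfold EE; rw [dif_neg h']
    rw [e1, e2, mul_one, mul_inv_cancel]

theorem EE.dact_ne_zero (g : GL (Fin n) F) {φ : Fin n → F} (h : φ ≠ 0) : dact g φ ≠ 0 := by
  intro h0
  apply h
  funext i
  have := dact_dot_mulVec g φ (Pi.single i 1)
  rw [h0, zero_dotProduct, dotProduct_single, mul_one] at this
  exact this.symm

/-- a rank one update `1 + v φᵀ` with `ψ v = 0` fixes the functional `ψ` -/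
theorem EE.dact_fix {v φ ψ : Fin n → F} (hψ : ψ ⬝ᵥ v = 0) : dact (EE v φ) ψ = ψ := by
  have key : ψ ᵥ* ((EE v φ : GL (Fin n) F) : Matrix (Fin n) (Fin n) F) = ψ := by
    by_cases h : 1 + φ ⬝ᵥ v ≠ 0
    · rw [EE_val h, E, Matrix.vecMul_add, Matrix.vecMul_one, Matrix.vecMul_vecMulVec, hψ, zero_smul,
        add_zero]
    · have e1 : EE v φ = 1 := by unfold EE; rw [dif_neg h]
      rw [e1, Units.val_one, Matrix.vecMul_one]
  unfold dact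
  conv_lhs => rw [← key]
  rw [Matrix.vecMul_vecMul, ← Units.val_mul, mul_inv_cancel, Units.val_one, Matrix.vecMul_one]

theorem EE.dact_mul (g h : GL (Fin n) F) (φ : Fin n → F) : dact (g * h) φ = dact g (dact h φ) := by
  unfold dact
  rw [_root_.mul_inv_rev, Units.val_mul, Matrix.vecMul_vecMul]

/-- `[T(w,ψ), T(x,χ)] = T(-χ(w) x, ψ)` when `ψ x = 0` -/
theorem EE.comm_center {w ψ x χ : Fin n → F} (hw : ψ ⬝ᵥ w = 0) (hx : χ ⬝ᵥ x = 0) (h : ψ ⬝ᵥ x = 0) :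
    EE w ψ * EE x χ * (EE w ψ)⁻¹ * (EE x χ)⁻¹ = EE ((-(χ ⬝ᵥ w)) • x) ψ := by
  have hw' : ψ ⬝ᵥ (-w) = 0 := by rw [dotProduct_neg, hw, neg_zero]
  have hx' : χ ⬝ᵥ (-x) = 0 := by rw [dotProduct_neg, hx, neg_zero]
  have hr : ψ ⬝ᵥ ((-(χ ⬝ᵥ w)) • x) = 0 := by rw [dotProduct_smul, h, smul_zero]
  rw [EE.inv hw, EE.inv hx]
  apply EE.ext_act
  intro y
  rw [EE.mul_mulVec, EE.mul_mulVec, EE.mul_mulVec, EE_mulVec0 hx', EE_mulVec0 hw', EE_mulVec0 hx,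
    EE_mulVec0 hw, EE_mulVec0 hr]
  simp only [dotProduct_add, dotProduct_smul, dotProduct_neg, hw, hx, h, smul_eq_mul, mul_zero,
    neg_zero, add_zero, smul_neg]
  module

/-- `[T(w,ψ), T(x,χ)] = T(w, ψ(x) χ)` when `χ w = 0` -/
theorem EE.comm_axis {w ψ x χ : Fin n → F} (hw : ψ ⬝ᵥ w = 0) (hx : χ ⬝ᵥ x = 0) (h : χ ⬝ᵥ w = 0) :
    EE w ψ * EE x χ * (EE w ψ)⁻¹ * (EE x χ)⁻¹ = EE w ((ψ ⬝ᵥ x) • χ) := by
  have hw' : ψ ⬝ᵥ (-w) = 0 := by rw [dotProduct_neg, hw, neg_zero]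
  have hx' : χ ⬝ᵥ (-x) = 0 := by rw [dotProduct_neg, hx, neg_zero]
  have hr : ((ψ ⬝ᵥ x) • χ) ⬝ᵥ w = 0 := by rw [smul_dotProduct, h, smul_zero]
  rw [EE.inv hw, EE.inv hx]
  apply EE.ext_act
  intro y
  rw [EE.mul_mulVec, EE.mul_mulVec, EE.mul_mulVec, EE_mulVec0 hx', EE_mulVec0 hw', EE_mulVec0 hx,
    EE_mulVec0 hw, EE_mulVec0 hr]
  simp only [dotProduct_add, dotProduct_smul, dotProduct_neg, smul_dotProduct, hw, hx, h, smul_eq_mul,
    mul_zero, neg_zero, add_zero, smul_neg]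
  module

end Cfsg.Agent.S5634P
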