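import Mathlib
import Cfsg.Agent.Helper8.S2546Defs
import Cfsg.Agent.Helper17.S2546PRES

set_option autoImplicit false

namespace Cfsg.Agent.S2546P

open Cfsg.Agent.MatBN

variable {K : Type*} [Field K]

theorem exists_diag (σ : K →+* K) (hσ : ∀ x, σ (σ x) = x) (n : ℕ) (b : SUJ σ n)
    (hb : IsTri (rho σ n b)) :
    ∃ t : SUJ σ n, rho σ n t = Matrix.diagonal (fun i => rho σ n b i i) := by
  set B := rho σ n b with hB
  have hP := presJ_of_mem σ n b
  have hdet := det_of_mem σ n b
  rw [← hB] at hP hdet
  -- the key relation on the diagonal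
  have key : ∀ a : Fin n, B a a * σ (B a.rev a.rev) = 1 := by
    intro a
    have h1 := hP a a.rev
    rw [if_pos rfl] at h1
    rw [← h1]
    symm
    apply Finset.sum_eq_single a
    · intro i _ hia
      rcases lt_or_gt_of_ne hia with h | h
      · -- i < a: then a.rev < i.rev, so B i.rev a.rev = 0
        have : B i.rev a.rev = 0 := hb _ _ (Fin.rev_lt_rev.mpr h)
        rw [this, map_zero, mul_zero]
      · rw [hb i a h, zero_mul]
    · intro h
      exact absurd (Finset.mem_univ a) h
  apply exists_of_presJ
  · rw [Matrix.det_diagonal, ← hdet]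
    rw [Matrix.det_of_isUpperTriangular ((isTri_iff_blockTriangular _).1 hb)]
  · intro a c
    rw [Finset.sum_eq_single a]
    · rw [Matrix.diagonal_apply_eq]
      by_cases hc : c = a.rev
      · subst hc
        rw [Matrix.diagonal_apply_eq, if_pos rfl, key a]
      · rw [if_neg hc, Matrix.diagonal_apply_ne _ (fun h => hc h.symm), map_zero, mul_zero]
    · intro i _ hia
      rw [Matrix.diagonal_apply_ne _ hia, zero_mul]
    · intro h
      exact absurd (Finset.mem_univ a) h

end Cfsg.Agent.S2546P
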