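import Mathlib
import Cfsg.Agent.Helper8.S2546Defs

set_option autoImplicit false

namespace Cfsg.Agent.S2546P

namespace PERMREV

/-- the transposition `(k, n-1-k)` -/
def sw (n k : ℕ) : Equiv.Perm (Fin n) :=
  if h : k < n then Equiv.swap ⟨k, h⟩ ⟨n - 1 - k, by omega⟩ else 1

theorem swap_val {n : ℕ} (a b x : Fin n) :
    ((Equiv.swap a b) x).val =
      if x.val = a.val then b.val else if x.val = b.val then a.val else x.val := by
  by_cases h1 : x.val = a.val
  · have : x = a := Fin.ext h1
    rw [this, Equiv.swap_apply_left, if_pos rfl]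
  · by_cases h2 : x.val = b.val
    · have : x = b := Fin.ext h2
      rw [if_neg h1, if_pos h2, this, Equiv.swap_apply_right]
    · rw [if_neg h1, if_neg h2, Equiv.swap_apply_of_ne_of_ne]
      · intro h; exact h1 (by rw [h])
      · intro h; exact h2 (by rw [h])

theorem sw_val (n k : ℕ) (hk : k < n) (x : Fin n) :
    ((sw n k) x).val = if x.val = k then n - 1 - k else if x.val = n - 1 - k then k else x.val := by
  unfold sw
  rw [dif_pos hk, swap_val]

/-- the last reflection is a transposition `(m-1, n-m)` -/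
theorem tau_last (n k : ℕ) (hk : k + 1 = n / 2) : tau n k = sw n k := by
  unfold tau sw
  rw [dif_neg (by omega), dif_pos hk, dif_pos (by omega)]

theorem tau_val (n k : ℕ) (hk : k + 1 < n / 2) (x : Fin n) :
    ((tau n k) x).val = if x.val = k then k + 1 else if x.val = k + 1 then k else
      if x.val = n - 2 - k then n - 1 - k else if x.val = n - 1 - k then n - 2 - k else x.val := by
  have hx := x.isLt
  unfold tau
  rw [dif_pos hk, Equiv.Perm.mul_apply, swap_val, swap_val]
  simp only
  split_ifs <;> omega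

theorem sw_conj (n k : ℕ) (hk : k + 1 < n / 2) :
    sw n k = tau n k * sw n (k + 1) * (tau n k)⁻¹ := by
  have h1 : tau n k ⟨k + 1, by omega⟩ = ⟨k, by omega⟩ := by
    apply Fin.ext
    rw [tau_val n k hk]
    simp
  have h2 : tau n k ⟨n - 1 - (k + 1), by omega⟩ = ⟨n - 1 - k, by omega⟩ := by
    apply Fin.ext
    rw [tau_val n k hk]
    simp only
    split_ifs <;> omega
  unfold sw
  rw [dif_pos (by omega), dif_pos (by omega), ← Equiv.swap_apply_apply, h1, h2]

theorem sw_mem (n : ℕ) (d k : ℕ) (hk : k + 1 + d = n / 2) :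
    sw n k ∈ Subgroup.closure {π : Equiv.Perm (Fin n) | ∃ j, j < n / 2 ∧ π = tau n j} := by
  induction d generalizing k with
  | zero =>
    rw [← tau_last n k (by omega)]
    exact Subgroup.subset_closure ⟨k, by omega, rfl⟩
  | succ d ih =>
    rw [sw_conj n k (by omega)]
    have h1 : tau n k ∈ Subgroup.closure {π : Equiv.Perm (Fin n) | ∃ j, j < n / 2 ∧ π = tau n j} :=
      Subgroup.subset_closure ⟨k, by omega, rfl⟩
    exact Subgroup.mul_mem _ (Subgroup.mul_mem _ h1 (ih (k + 1) (by omega))) (Subgroup.inv_mem _ h1)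

/-- the product of the first `k` transpositions `(i, n-1-i)` -/
def f (n : ℕ) : ℕ → Equiv.Perm (Fin n)
  | 0 => 1
  | k + 1 => f n k * sw n k

theorem f_val (n k : ℕ) (hk : k ≤ n / 2) (x : Fin n) :
    ((f n k) x).val = if x.val < k ∨ n - 1 - x.val < k then n - 1 - x.val else x.val := by
  induction k generalizing x with
  | zero => simp [f]
  | succ k ih =>
    have hx := x.isLt
    rw [f, Equiv.Perm.mul_apply, ih (by omega), sw_val n k (by omega)]
    split_ifs <;> omega

theorem f_mem (n k : ℕ) (hk : k ≤ n / 2) :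
    f n k ∈ Subgroup.closure {π : Equiv.Perm (Fin n) | ∃ j, j < n / 2 ∧ π = tau n j} := by
  induction k with
  | zero => exact Subgroup.one_mem _
  | succ k ih =>
    rw [f]
    exact Subgroup.mul_mem _ (ih (by omega)) (sw_mem n (n / 2 - (k + 1)) k (by omega))

theorem f_eq_rev (n : ℕ) : f n (n / 2) = Fin.revPerm := by
  apply Equiv.ext
  intro x
  apply Fin.ext
  have hx := x.isLt
  rw [f_val n (n / 2) le_rfl, Fin.revPerm_apply, Fin.val_rev]
  split_ifs <;> omega

end PERMREV

theorem revPerm_mem_closure (n : ℕ) :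
    (Fin.revPerm : Equiv.Perm (Fin n)) ∈
      Subgroup.closure {π : Equiv.Perm (Fin n) | ∃ j, j < n / 2 ∧ π = tau n j} := by
  rw [← PERMREV.f_eq_rev n]
  exact PERMREV.f_mem n (n / 2) le_rfl

end Cfsg.Agent.S2546P
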