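import Mathlib
import Cfsg.Agent.Helper8.S2546Defs
import Cfsg.Agent.Helper23.S2546MONALG
import Cfsg.Agent.Lead.S2546PERMREV

set_option autoImplicit false

namespace Cfsg.Agent.S2546P

open Cfsg.Agent.MatBN

variable {K : Type*} [Field K]

theorem exists_n0 (σ : K →+* K) (n : ℕ) (s : Fin (n / 2) → SUJ σ n)
    (hs : ∀ j : Fin (n / 2), Mon (rho σ n (s j)) (tau n j)) :
    ∃ n₀ ∈ Subgroup.closure (Set.range s), Mon (rho σ n n₀) Fin.revPerm := by
  have key : ∀ π : Equiv.Perm (Fin n),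
      π ∈ Subgroup.closure {π : Equiv.Perm (Fin n) | ∃ j, j < n / 2 ∧ π = tau n j} →
      ∃ g ∈ Subgroup.closure (Set.range s), Mon (rho σ n g) π := by
    intro π hπ
    induction hπ using Subgroup.closure_induction with
    | mem x hx =>
      obtain ⟨j, hj, rfl⟩ := hx
      exact ⟨s ⟨j, hj⟩, Subgroup.subset_closure ⟨⟨j, hj⟩, rfl⟩, hs ⟨j, hj⟩⟩
    | one =>
      refine ⟨1, Subgroup.one_mem _, ?_⟩
      rw [map_one]
      exact Mon.one
    | mul x y _ _ hx hy =>
      obtain ⟨g, hg, hgm⟩ := hx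
      obtain ⟨g', hg', hgm'⟩ := hy
      refine ⟨g * g', Subgroup.mul_mem _ hg hg', ?_⟩
      rw [map_mul]
      exact Mon.mul hgm hgm'
    | inv x _ hx =>
      obtain ⟨g, hg, hgm⟩ := hx
      refine ⟨g⁻¹, Subgroup.inv_mem _ hg, ?_⟩
      refine Mon.of_mul_eq_one hgm ?_
      rw [← map_mul, mul_inv_cancel, map_one]
  exact key _ (revPerm_mem_closure n)

end Cfsg.Agent.S2546P
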