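import Cfsg.Agent.Helper27.S5634BDefs

set_option autoImplicit false
set_option linter.unusedSectionVars false
set_option linter.unusedVariables false

/-! # S5634 (half `m ≥ 2`), piece B_EE1: the algebra of `EE v φ = 1 + v φᵀ` -/

namespace Cfsg.Agent.S5634P

open Matrix Cfsg.Agent.Helper28.SLMax
open scoped MatrixGroups

variable {F : Type*} [Field F] {n t m : ℕ} {D : Fin t → Submodule F (Fin n → F)}

/-- two elements of `GL` with the same action are equal -/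
theorem EE.ext_act {g h : GL (Fin n) F}
    (H : ∀ x : Fin n → F, (g : Matrix (Fin n) (Fin n) F) *ᵥ x = (h : Matrix (Fin n) (Fin n) F) *ᵥ x) :
    g = h := by
  apply Units.ext
  ext i j
  have := congrFun (H (Pi.single j 1)) i
  rw [Matrix.mulVec_single_one, Matrix.mulVec_single_one] at this
  exact this

theorem EE.one_mulVec (x : Fin n → F) : ((1 : GL (Fin n) F) : Matrix (Fin n) (Fin n) F) *ᵥ x = x := by
  rw [Units.val_one, Matrix.one_mulVec]

theorem EE.mul_mulVec (g h : GL (Fin n) F) (x : Fin n → F) :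
    ((g * h : GL (Fin n) F) : Matrix (Fin n) (Fin n) F) *ᵥ x =
      (g : Matrix (Fin n) (Fin n) F) *ᵥ ((h : Matrix (Fin n) (Fin n) F) *ᵥ x) := by
  rw [Units.val_mul, Matrix.mulVec_mulVec]

theorem EE.zero_left (φ : Fin n → F) : EE (0 : Fin n → F) φ = 1 := by
  apply EE.ext_act
  intro x
  rw [EE_mulVec0 (dotProduct_zero φ), smul_zero, add_zero, EE.one_mulVec]

theorem EE.zero_right (v : Fin n → F) : EE v (0 : Fin n → F) = 1 := by
  apply EE.ext_act
  intro x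
  rw [EE_mulVec0 (zero_dotProduct v), zero_dotProduct, zero_smul, add_zero, EE.one_mulVec]

theorem EE.mul_center {v v' φ : Fin n → F} (h : φ ⬝ᵥ v = 0) (h' : φ ⬝ᵥ v' = 0) :
    EE v φ * EE v' φ = EE (v + v') φ := by
  have h'' : φ ⬝ᵥ (v + v') = 0 := by rw [dotProduct_add, h, h', add_zero]
  apply EE.ext_act
  intro x
  rw [EE.mul_mulVec, EE_mulVec0 h', EE_mulVec0 h, EE_mulVec0 h'', dotProduct_add, dotProduct_smul, h',
    smul_zero, add_zero, smul_add]
  abel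

theorem EE.mul_axis {v φ φ' : Fin n → F} (h : φ ⬝ᵥ v = 0) (h' : φ' ⬝ᵥ v = 0) :
    EE v φ * EE v φ' = EE v (φ + φ') := by
  have h'' : (φ + φ') ⬝ᵥ v = 0 := by rw [add_dotProduct, h, h', add_zero]
  apply EE.ext_act
  intro x
  rw [EE.mul_mulVec, EE_mulVec0 h', EE_mulVec0 h, EE_mulVec0 h'', dotProduct_add, dotProduct_smul, h,
    smul_zero, add_zero, add_dotProduct, add_smul]
  abel

theorem EE.inv {v φ : Fin n → F} (h : φ ⬝ᵥ v = 0) : (EE v φ)⁻¹ = EE (-v) φ := by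
  have h' : φ ⬝ᵥ (-v) = 0 := by rw [dotProduct_neg, h, neg_zero]
  apply inv_eq_of_mul_eq_one_right
  rw [EE.mul_center h h', add_neg_cancel, EE.zero_left]

theorem EE.smul (c : F) (v φ : Fin n → F) : EE (c • v) φ = EE v (c • φ) := by
  have e : φ ⬝ᵥ (c • v) = (c • φ) ⬝ᵥ v := by rw [dotProduct_smul, smul_dotProduct]
  by_cases h : 1 + φ ⬝ᵥ (c • v) ≠ 0
  · have h' : 1 + (c • φ) ⬝ᵥ v ≠ 0 := by rw [← e]; exact h
    apply EE.ext_act
    intro x
    rw [EE_mulVec h, EE_mulVec h', smul_dotProduct, smul_smul, smul_eq_mul, mul_comm]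
  · have h' : ¬ (1 + (c • φ) ⬝ᵥ v ≠ 0) := by rw [← e]; exact h
    unfold EE
    rw [dif_neg h, dif_neg h']

theorem EE.mem_SL {v φ : Fin n → F} (h : φ ⬝ᵥ v = 0) :
    EE v φ ∈ Cfsg.Geo.specialLinear (Fin n) F := by
  rw [mem_SL_iff, EE_val0 h, E_det, h, add_zero]

theorem EE.mul_mem_SL {v φ v' φ' : Fin n → F} (h : (1 + φ ⬝ᵥ v) * (1 + φ' ⬝ᵥ v') = 1) :
    EE v φ * EE v' φ' ∈ Cfsg.Geo.specialLinear (Fin n) F := by
  have h1 : 1 + φ ⬝ᵥ v ≠ 0 := by
    intro h0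
    rw [h0, zero_mul] at h
    exact zero_ne_one h
  have h2 : 1 + φ' ⬝ᵥ v' ≠ 0 := by
    intro h0
    rw [h0, mul_zero] at h
    exact zero_ne_one h
  rw [mem_SL_iff, Units.val_mul, Matrix.det_mul, EE_val h1, EE_val h2, E_det, E_det, h]

end Cfsg.Agent.S5634P
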