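import Mathlib
import Cfsg.Prelude.Def_GeometricClasses
import Cfsg.Agent.Helper2.S5886.Defs
import Cfsg.Agent.Helper20.S5886YBIMOD
import Cfsg.Agent.Helper22.S5886YADD
import Cfsg.Agent.Helper6.S5886KTVLE

/-! # S5886 piece YFULL (lead) -/

set_option autoImplicit false
set_option linter.unusedSectionVars false
set_option linter.unusedVariables false

namespace Cfsg.Agent.S5886P

variable {F K V : Type*} [Field F] [Field K] [Algebra F K]
  [AddCommGroup V] [Module F V] [Module K V] [IsScalarTower F K V]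

theorem YFULL.mem_Kline {v x : V} : x ∈ Kline (F := F) (K := K) v ↔ ∃ c : K, c • v = x := by
  unfold Kline
  rw [Submodule.restrictScalars_mem, Submodule.mem_span_singleton]

/-- the `F`-linear map `x ↦ ψ x • u` -/
noncomputable def YFULL.mkN (ψ : V →ₗ[K] K) (u : V) : V →ₗ[F] V :=
  ((LinearMap.toSpanSingleton K V u).restrictScalars F) ∘ₗ (ψ.restrictScalars F)

theorem YFULL.mkN_apply (ψ : V →ₗ[K] K) (u x : V) : YFULL.mkN (F := F) ψ u x = ψ x • u := rfl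

theorem YFULL.mkN_sq (ψ : V →ₗ[K] K) (u : V) (h : ψ u = 0) :
    YFULL.mkN (F := F) ψ u ∘ₗ YFULL.mkN (F := F) ψ u = 0 := by
  ext x
  rw [LinearMap.comp_apply, YFULL.mkN_apply, YFULL.mkN_apply, map_smul, h, smul_zero, zero_smul,
    LinearMap.zero_apply]

/-- the `K`-transvection `x ↦ x + ψ x • u` as an `F`-linear automorphism -/
noncomputable def YFULL.mkS (ψ : V →ₗ[K] K) (u : V) (h : ψ u = 0) : V ≃ₗ[F] V :=
  LinearEquiv.ofLinearMap (LinearMap.id + YFULL.mkN (F := F) ψ u) (LinearMap.id - YFULL.mkN (F := F) ψ u)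
    (by
      rw [LinearMap.add_comp, LinearMap.comp_sub, LinearMap.comp_sub, LinearMap.id_comp,
        LinearMap.id_comp, LinearMap.comp_id, YFULL.mkN_sq ψ u h]
      abel)
    (by
      rw [LinearMap.sub_comp, LinearMap.comp_add, LinearMap.comp_add, LinearMap.id_comp,
        LinearMap.id_comp, LinearMap.comp_id, YFULL.mkN_sq ψ u h]
      abel)

theorem YFULL.mkS_apply (ψ : V →ₗ[K] K) (u : V) (h : ψ u = 0) (x : V) :
    YFULL.mkS (F := F) ψ u h x = x + ψ x • u := rfl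

theorem YFULL.mkS_symm_apply (ψ : V →ₗ[K] K) (u : V) (h : ψ u = 0) (x : V) :
    (YFULL.mkS (F := F) ψ u h).symm x = x - ψ x • u := rfl

theorem YFULL.mkS_isKTv (ψ : V →ₗ[K] K) (u : V) (h : ψ u = 0) :
    IsKTv (K := K) (YFULL.mkS (F := F) ψ u h) :=
  ⟨ψ, u, h, fun x => YFULL.mkS_apply ψ u h x⟩

/-- a `K`-linear functional with value one at `v ≠ 0` -/
theorem YFULL.exists_dual (v : V) (hv : v ≠ 0) : ∃ φ : V →ₗ[K] K, φ v = 1 := by
  have h : ¬ ∀ φ : Module.Dual K V, φ v = 0 := fun h =>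
    hv ((Module.forall_dual_apply_eq_zero_iff K v).mp h)
  push Not at h
  obtain ⟨φ, hφ⟩ := h
  refine ⟨(φ v)⁻¹ • φ, ?_⟩
  rw [LinearMap.smul_apply, smul_eq_mul, inv_mul_cancel₀ hφ]

theorem YFULL.semi_smul (σ : K ≃ₐ[F] K) (c : K) (A : V →ₗ[F] V) (hA : IsSemi σ A) :
    IsSemi σ (c • A) := by
  intro k x
  rw [LinearMap.smul_apply, LinearMap.smul_apply, hA, smul_comm]

theorem YFULL.semi_sub (σ : K ≃ₐ[F] K) (A B : V →ₗ[F] V) (hA : IsSemi σ A) (hB : IsSemi σ B) :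
    IsSemi σ (A - B) := by
  intro k x
  rw [LinearMap.sub_apply, LinearMap.sub_apply, hA, hB, smul_sub]

theorem YFULL.ulie_smul (v : V) (c : K) (A : V →ₗ[F] V)
    (hA : A ∈ ulie (Kline (F := F) (K := K) v)) : c • A ∈ ulie (Kline (F := F) (K := K) v) := by
  refine ⟨fun x => ?_, fun x hx => ?_⟩
  · obtain ⟨d, hd⟩ := YFULL.mem_Kline.mp (hA.1 x)
    rw [LinearMap.smul_apply, ← hd, smul_smul]
    exact YFULL.mem_Kline.mpr ⟨_, rfl⟩
  · rw [LinearMap.smul_apply, hA.2 x hx, smul_zero]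

/-- YFULL : a non-zero `σ`-semilinear element of `yset` forces all of them. -/
theorem YFULL [Finite F] [Finite K] [Finite V] (hm : 2 ≤ Module.finrank K V)
    (h2 : 2 ≤ Module.finrank F K)
    (M : Subgroup (V ≃ₗ[F] V)) (hN : Nrm F K V ⊓ DetIn (⊥ : Subgroup Fˣ) ≤ M) (v : V) (hv : v ≠ 0)
    (σ : K ≃ₐ[F] K) (hσ : σ ∈ Sig (K := K) M (Kline (F := F) (K := K) v))
    (A : V →ₗ[F] V) (hA : A ∈ ulie (Kline (F := F) (K := K) v)) (hAσ : IsSemi σ A) :
    A ∈ yset M (Kline (F := F) (K := K) v) := by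
  obtain ⟨A₀, hA₀Y, hA₀σ, hA₀ne⟩ := hσ
  -- a vector `u` with `A₀ u ≠ 0`
  obtain ⟨u, hu⟩ : ∃ u, A₀ u ≠ 0 := by
    by_contra hcon
    push Not at hcon
    exact hA₀ne (LinearMap.ext hcon)
  obtain ⟨a₀, ha₀⟩ := YFULL.mem_Kline.mp (hA₀Y.1.1 u)
  have ha₀ne : a₀ ≠ 0 := by
    rintro rfl
    rw [zero_smul] at ha₀
    exact hu ha₀.symm
  -- normalise: `A₁ u = v`
  set A₁ : V →ₗ[F] V := a₀⁻¹ • A₀ with hA₁
  have hA₁Y : A₁ ∈ yset M (Kline (F := F) (K := K) v) := YBIMOD.lsmul hm h2 M hN v hv a₀⁻¹ A₀ hA₀Y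
  have hA₁σ : IsSemi σ A₁ := YFULL.semi_smul σ _ A₀ hA₀σ
  have hA₁u : A₁ u = v := by
    rw [hA₁, LinearMap.smul_apply, ← ha₀, smul_smul, inv_mul_cancel₀ ha₀ne, one_smul]
  -- `B := A - a • A₁` kills `u`
  obtain ⟨a, ha⟩ := YFULL.mem_Kline.mp (hA.1 u)
  set B : V →ₗ[F] V := A - a • A₁ with hB
  have hBu : B ∈ ulie (Kline (F := F) (K := K) v) :=
    (ulie _).sub_mem hA (YFULL.ulie_smul v a A₁ hA₁Y.1)
  have hBσ : IsSemi σ B := YFULL.semi_sub σ _ _ hAσ (YFULL.semi_smul σ a A₁ hA₁σ)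
  have hBu0 : B u = 0 := by
    rw [hB, LinearMap.sub_apply, LinearMap.smul_apply, hA₁u, ← ha, sub_self]
  -- the functional `ψ` with `B x = σ (ψ x) • v`
  obtain ⟨φ₀, hφ₀⟩ := YFULL.exists_dual (K := K) v hv
  have hBφ : ∀ x, B x = φ₀ (B x) • v := by
    intro x
    obtain ⟨c, hc⟩ := YFULL.mem_Kline.mp (hBu.1 x)
    rw [← hc, map_smul, hφ₀, smul_eq_mul, mul_one]
  let ψ : V →ₗ[K] K :=
    { toFun := fun x => σ.symm (φ₀ (B x))
      map_add' := fun x y => by rw [map_add, map_add, map_add]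
      map_smul' := fun k x => by
        rw [hBσ k x, map_smul, smul_eq_mul, map_mul, AlgEquiv.symm_apply_apply, RingHom.id_apply,
          smul_eq_mul] }
  have hψx : ∀ x, σ (ψ x) = φ₀ (B x) := fun x => σ.apply_symm_apply _
  have hψu : ψ u = 0 := by
    show σ.symm (φ₀ (B u)) = 0
    rw [hBu0, map_zero, map_zero]
  have hψv : ψ v = 0 := by
    show σ.symm (φ₀ (B v)) = 0
    rw [hBu.2 v (YFULL.mem_Kline.mpr ⟨1, one_smul K v⟩), map_zero, map_zero]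
  -- the transvection `s`
  set s : V ≃ₗ[F] V := YFULL.mkS (F := F) ψ u hψu with hs
  have hsM : s ∈ M := by
    apply hN
    apply KTVLE
    exact Subgroup.subset_closure (YFULL.mkS_isKTv ψ u hψu)
  have hsfix : ∀ x ∈ Kline (F := F) (K := K) v, s x = x := by
    intro x hx
    obtain ⟨c, rfl⟩ := YFULL.mem_Kline.mp hx
    rw [hs, YFULL.mkS_apply, map_smul, hψv, smul_zero, zero_smul, add_zero]
  have hconj : (s : V →ₗ[F] V) ∘ₗ A₁ ∘ₗ (s.symm : V →ₗ[F] V) ∈ yset M (Kline (F := F) (K := K) v) :=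
    YADD.conj M _ s hsM (fun x hx => by rw [hsfix x hx]; exact hx) A₁ hA₁Y
  have hconj_eq : (s : V →ₗ[F] V) ∘ₗ A₁ ∘ₗ (s.symm : V →ₗ[F] V) = A₁ - B := by
    ext x
    rw [LinearMap.comp_apply, LinearMap.comp_apply, LinearEquiv.coe_coe, LinearEquiv.coe_coe,
      hs, YFULL.mkS_symm_apply, map_sub, hA₁σ, hA₁u, hψx, ← hBφ, LinearMap.sub_apply]
    apply hsfix
    exact (Kline (F := F) (K := K) v).sub_mem (hA₁Y.1.1 x) (hBu.1 x)
  have hBY : B ∈ yset M (Kline (F := F) (K := K) v) := by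
    have h1 : B = A₁ + -(A₁ - B) := by abel
    rw [h1]
    apply YADD.add M _ _ _ hA₁Y
    apply YADD.neg
    rw [← hconj_eq]
    exact hconj
  have hAeq : A = B + a • A₁ := by rw [hB]; abel
  rw [hAeq]
  exact YADD.add M _ _ _ hBY (YBIMOD.lsmul hm h2 M hN v hv a A₁ hA₁Y)

end Cfsg.Agent.S5886P
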