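import Mathlib
import Cfsg.Agent.Lead.SylowNumber3

/-! M. Hall's theorem: `n_p(G)` is a product of prime powers `≡ 1 (mod p)` and of Sylow numbers
of simple groups. -/

namespace Cfsg.Agent.Lead

open Subgroup

universe u

/-- The "good" factors in M. Hall's theorem. -/
def HallGood (p : ℕ) (m : ℕ) : Prop :=
  (IsPrimePow m ∧ m % p = 1) ∨
    ∃ (S : Type u) (_ : Group S) (_ : Finite S), IsSimpleGroup S ∧ m = Nat.card (Sylow p S)

/-- A positive number all of whose prime-power parts are `≡ 1 (mod p)` is a product of prime
powers `≡ 1 (mod p)`. -/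
theorem exists_list_primePow (p : ℕ) [Fact p.Prime] (t : ℕ) (ht : t ≠ 0)
    (h : ∀ q : ℕ, q.Prime → q ^ t.factorization q ≡ 1 [MOD p]) :
    ∃ l : List ℕ, l.prod = t ∧ ∀ m ∈ l, IsPrimePow m ∧ m % p = 1 := by
  have hp : p.Prime := Fact.out
  refine ⟨t.primeFactors.toList.map (fun q => q ^ t.factorization q), ?_, ?_⟩
  · rw [Finset.prod_map_toList]
    have := Nat.prod_factorization_pow_eq_self ht
    rw [Finsupp.prod, Nat.support_factorization] at this
    exact this
  · intro m hm
    rw [List.mem_map] at hm
    obtain ⟨q, hq, rfl⟩ := hm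
    rw [Finset.mem_toList] at hq
    have hqp : q.Prime := Nat.prime_of_mem_primeFactors hq
    have hqd : q ∣ t := Nat.dvd_of_mem_primeFactors hq
    refine ⟨?_, ?_⟩
    · rw [isPrimePow_nat_iff]
      exact ⟨q, t.factorization q, hqp, hqp.factorization_pos_of_dvd ht hqd, rfl⟩
    · have := h q hqp
      rw [Nat.ModEq, Nat.one_mod_eq_one.mpr hp.one_lt.ne'] at this
      exact this

theorem hall_sylow_number (p : ℕ) [Fact p.Prime] :
    ∀ (n : ℕ) (G : Type u) [Group G] [Finite G], Nat.card G = n →
      ∃ l : List ℕ, l.prod = Nat.card (Sylow p G) ∧ ∀ m ∈ l, HallGood.{u} p m := by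
  have hp : p.Prime := Fact.out
  intro n
  induction n using Nat.strong_induction_on with
  | _ n ih =>
    intro G _ _ hcard
    rcases subsingleton_or_nontrivial G with hG | hG
    · refine ⟨[], ?_, by simp⟩
      have : Nat.card (Sylow p G) = 1 := by
        rw [Nat.card_eq_one_iff_unique]
        refine ⟨⟨fun P Q => ?_⟩, inferInstance⟩
        apply Sylow.ext
        exact Subsingleton.elim _ _
      rw [this]; simp
    by_cases hsimp : IsSimpleGroup G
    · exact ⟨[Nat.card (Sylow p G)], by simp, by
        intro m hm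
        rw [List.mem_singleton] at hm
        exact Or.inr ⟨G, inferInstance, inferInstance, hsimp, hm⟩⟩
    -- a proper nontrivial normal subgroup
    have hK : ∃ K : Subgroup G, K.Normal ∧ K ≠ ⊥ ∧ K ≠ ⊤ := by
      by_contra hcon
      push Not at hcon
      apply hsimp
      exact ⟨fun H hH => by
        by_cases hb : H = ⊥
        · exact Or.inl hb
        · exact Or.inr (hcon H hH hb)⟩
    obtain ⟨K, hKn, hKbot, hKtop⟩ := hK
    have P : Sylow p G := default
    have hcK : Nat.card G = Nat.card (G ⧸ K) * Nat.card K :=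
      Subgroup.card_eq_card_quotient_mul_card_subgroup K
    have hK1 : 1 < Nat.card K := (Subgroup.one_lt_card_iff_ne_bot K).mpr hKbot
    have hQ1 : 1 < Nat.card (G ⧸ K) := by
      rw [← Subgroup.index_eq_card]
      have h0 : K.index ≠ 0 := Subgroup.index_ne_zero_of_finite
      have h1 : K.index ≠ 1 := fun h => hKtop (Subgroup.index_eq_one.mp h)
      omega
    have hltQ : Nat.card (G ⧸ K) < n := by rw [← hcard, hcK]; nlinarith
    have hltK : Nat.card K < n := by rw [← hcard, hcK]; nlinarith
    obtain ⟨l1, hl1, hl1g⟩ := ih _ hltQ (G ⧸ K) rfl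
    by_cases hpK : p ∣ Nat.card K
    · -- `P ∩ K ≠ 1`: use the three-factor formula
      have hQbot : (P : Subgroup G) ⊓ K ≠ ⊥ := by
        intro hb
        apply P.not_dvd_index
        have e1 : Nat.card K = (P : Subgroup G).relIndex K * Nat.card ((P : Subgroup G) ⊓ K : Subgroup G) := by
          rw [card_eq_relIndex_mul_card (inf_le_right : (P : Subgroup G) ⊓ K ≤ K), inf_relIndex_right]
        rw [hb, Subgroup.card_bot, mul_one] at e1
        rw [e1, ← relIndex_sup_of_normal_right (P : Subgroup G) K] at hpK
        exact hpK.trans (relIndex_dvd_index_of_le le_sup_left)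
      set Q : Subgroup G := (P : Subgroup G) ⊓ K with hQ
      set N : Subgroup G := ((P : Subgroup G) ⊔ K) ⊓ normalizer (Q : Set G) with hN
      have hQN : Q ≤ N := le_inf (inf_le_left.trans le_sup_left) le_normalizer
      have hn : (Q.subgroupOf N).Normal :=
        (normal_subgroupOf_iff_le_normalizer hQN).mpr inf_le_right
      have hmul := card_sylow_hall_factorization p K P N rfl
      obtain ⟨l2, hl2, hl2g⟩ := ih _ hltK K rfl
      have hltN : Nat.card (N ⧸ Q.subgroupOf N) < n := by
        have e1 : Nat.card N = Nat.card (N ⧸ Q.subgroupOf N) * Nat.card (Q.subgroupOf N) :=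
          Subgroup.card_eq_card_quotient_mul_card_subgroup _
        have e2 : Nat.card (Q.subgroupOf N) = Nat.card Q :=
          Nat.card_congr (subgroupOfEquivOfLe hQN).toEquiv
        have e3 : 1 < Nat.card Q := (Subgroup.one_lt_card_iff_ne_bot Q).mpr hQbot
        have e4 : Nat.card N ≤ Nat.card G := Subgroup.card_le_card_group N
        have e5 : 0 < Nat.card (N ⧸ Q.subgroupOf N) := Nat.card_pos
        rw [← hcard]
        rw [e2] at e1
        nlinarith
      obtain ⟨l3, hl3, hl3g⟩ := ih _ hltN (N ⧸ Q.subgroupOf N) rfl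
      refine ⟨l1 ++ l2 ++ l3, ?_, ?_⟩
      · rw [List.prod_append, List.prod_append, hl1, hl2, hl3, hmul]
      · intro m hm
        rw [List.mem_append, List.mem_append] at hm
        rcases hm with (hm | hm) | hm
        · exact hl1g m hm
        · exact hl2g m hm
        · exact hl3g m hm
    · -- `K` is a `p'`-group
      have hmul := card_sylow_eq_mul p K P
      have hpos : (normalizer ((P : Subgroup G) : Set G)).relIndex K ≠ 0 := by
        intro h0
        rw [h0, mul_zero] at hmul
        exact Nat.card_pos.ne' hmul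
      obtain ⟨l2, hl2, hl2g⟩ := exists_list_primePow p _ hpos (fun q hq => by
        have := Fact.mk hq
        exact prime_part_relIndex_normalizer_modEq_one p P K le_normalizer_of_normal hpK q)
      refine ⟨l1 ++ l2, ?_, ?_⟩
      · rw [List.prod_append, hl1, hl2, hmul]
      · intro m hm
        rw [List.mem_append] at hm
        rcases hm with hm | hm
        · exact hl1g m hm
        · exact Or.inl (hl2g m hm)

end Cfsg.Agent.Lead
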