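import Mathlib
import Cfsg.Agent.Lead.SylowNumber4
import Cfsg.Agent.Lead.Hall2
import Cfsg.Agent.Lead.PiHall2

/-! P. Hall: the number of Hall subgroups of a finite solvable group (preparations). -/

set_option linter.style.haveILetI false

namespace Cfsg.Agent.Lead

open Subgroup
open Pointwise

universe u

section
variable {G : Type*} [Group G]

/-- The number of conjugates of `H` is the index of its normalizer. -/
theorem card_conjugates_eq_index_normalizer (H : Subgroup G) :
    Nat.card {K : Subgroup G // ∃ g : G, MulAut.conj g • H = K} =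
      (normalizer (H : Set G)).index := by
  letI : MulAction G (Subgroup G) :=
    MulAction.compHom (Subgroup G) (MulAut.conj : G →* MulAut G)
  have hs : MulAction.stabilizer G H = normalizer (H : Set G) := by
    ext g
    rw [MulAction.mem_stabilizer_iff]
    exact conj_smul_eq_self_iff_mem_normalizer g H
  rw [← hs, MulAction.index_stabilizer, ← Nat.card_coe_set_eq]
  rfl

/-- Frattini argument for Hall subgroups: `N_G(HN) = N_G(H) N`. -/
theorem normalizer_sup_normal_eq_of_coprime [Finite G] [Group.IsSolvable G] (N : Subgroup G)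
    [N.Normal] (H : Subgroup G) (hcop : (Nat.card H).Coprime (Nat.card N)) :
    normalizer ((H ⊔ N : Subgroup G) : Set G) = normalizer (H : Set G) ⊔ N := by
  apply le_antisymm
  · set L := normalizer ((H ⊔ N : Subgroup G) : Set G) with hL
    have hML : H ⊔ N ≤ L := le_normalizer
    have hHL : H ≤ L := le_sup_left.trans hML
    haveI hn : ((H ⊔ N).subgroupOf L).Normal :=
      (normal_subgroupOf_iff_le_normalizer hML).mpr le_rfl
    haveI : Group.IsSolvable L := isSolvable_subgroup L
    have hsol : Group.IsSolvable ((H ⊔ N).subgroupOf L) := isSolvable_subgroup _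
    have hle : H.subgroupOf L ≤ (H ⊔ N).subgroupOf L := comap_mono le_sup_left
    have hcard : Nat.card (H.subgroupOf L) = Nat.card H :=
      Nat.card_congr (subgroupOfEquivOfLe hHL).toEquiv
    have hrel : (H.subgroupOf L).relIndex ((H ⊔ N).subgroupOf L) = H.relIndex N := by
      rw [relIndex_subgroupOf hML, relIndex_sup_of_normal_right]
    have hHall : (Nat.card (H.subgroupOf L)).Coprime
        ((H.subgroupOf L).relIndex ((H ⊔ N).subgroupOf L)) := by
      rw [hcard, hrel]
      exact hcop.coprime_dvd_right (relIndex_dvd_card H N)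
    have h1 := hall_frattini ((H ⊔ N).subgroupOf L) hsol (H.subgroupOf L) hle hHall
    rw [← subgroupOf_normalizer_eq hHL] at h1
    intro g hg
    have h2 : (⟨g, hg⟩ : L) ∈ ((H ⊔ N).subgroupOf L) ⊔
        (normalizer (H : Set G)).subgroupOf L := by
      rw [h1]; trivial
    have h3 : ((H ⊔ N).subgroupOf L) ⊔ (normalizer (H : Set G)).subgroupOf L ≤
        (normalizer (H : Set G) ⊔ N).subgroupOf L := by
      apply sup_le
      · exact comap_mono (sup_le (le_normalizer.trans le_sup_left) le_sup_right)
      · exact comap_mono le_sup_left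
    exact h3 h2
  · apply sup_le
    · exact le_normalizer_sup' le_rfl le_normalizer_of_normal
    · exact le_sup_right.trans le_normalizer

end

/-- `h_m(G) = h_m(G/N) * [N : N_N(H)]` for a normal subgroup `N` of order coprime to `m`. -/
theorem card_hall_eq_mul {G : Type u} [Group G] [Finite G] [Group.IsSolvable G]
    (N : Subgroup G) [N.Normal] (m n : ℕ) (hG : Nat.card G = m * n) (hmn : m.Coprime n)
    (hN : (Nat.card N).Coprime m) (H : Subgroup G) (hH : Nat.card H = m) :
    ∃ n' : ℕ, Nat.card (G ⧸ N) = m * n' ∧ m.Coprime n' ∧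
    Nat.card {K : Subgroup G // Nat.card K = m} =
      Nat.card {K : Subgroup (G ⧸ N) // Nat.card K = m} *
        (normalizer (H : Set G)).relIndex N := by
  have hf : Function.Surjective (QuotientGroup.mk' N) := QuotientGroup.mk'_surjective N
  have hNn : Nat.card N ∣ n := by
    have h1 : Nat.card N ∣ m * n := hG ▸ Subgroup.card_subgroup_dvd_card N
    exact hN.dvd_of_dvd_mul_left h1
  obtain ⟨n', hn'⟩ := hNn
  have hcQ : Nat.card (G ⧸ N) = m * n' := by
    have h1 := Subgroup.card_eq_card_quotient_mul_card_subgroup N
    have hpos : 0 < Nat.card N := Nat.card_pos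
    apply Nat.eq_of_mul_eq_mul_right hpos
    rw [← h1, hG, hn']; ring
  have hmn' : m.Coprime n' := hmn.coprime_dvd_right ⟨Nat.card N, by rw [hn']; ring⟩
  refine ⟨n', hcQ, hmn', ?_⟩
  have e1 : Nat.card {K : Subgroup G // Nat.card K = m} = (normalizer (H : Set G)).index := by
    rw [← card_conjugates_eq_index_normalizer H]
    apply Nat.card_congr
    apply Equiv.subtypeEquivRight
    intro K
    constructor
    · intro hK; exact hall_conj_aux _ rfl m n hG hmn H K hH hK
    · rintro ⟨g, rfl⟩; rw [card_conj_smul, hH]
  set H' := H.map (QuotientGroup.mk' N) with hH'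
  have hHN : N ⊓ H = ⊥ :=
    (disjoint_of_coprime_natCard (by rw [hH]; exact hN)).eq_bot
  have hH'c : Nat.card H' = m := by rw [hH', card_map_mk'_of_inf_eq_bot N H hHN, hH]
  have e2 : Nat.card {K : Subgroup (G ⧸ N) // Nat.card K = m} =
      (normalizer (H' : Set (G ⧸ N))).index := by
    rw [← card_conjugates_eq_index_normalizer H']
    apply Nat.card_congr
    apply Equiv.subtypeEquivRight
    intro K
    constructor
    · intro hK; exact hall_conj_aux _ rfl m n' hcQ hmn' H' K hH'c hK
    · rintro ⟨g, rfl⟩; rw [card_conj_smul, hH'c]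
  have e3 : (normalizer (H' : Set (G ⧸ N))).index =
      (normalizer ((H ⊔ N : Subgroup G) : Set G)).index := by
    have h1 := Subgroup.comap_normalizer_eq_of_surjective H' hf
    rw [hH', Subgroup.comap_map_eq, QuotientGroup.ker_mk'] at h1
    rw [← h1, Subgroup.index_comap_of_surjective _ hf]
  rw [e1, e2, e3, normalizer_sup_normal_eq_of_coprime N H (by rw [hH]; exact hN.symm),
    ← relIndex_sup_of_normal_right (normalizer (H : Set G)) N, mul_comm]
  exact (relIndex_mul_index le_sup_left).symm

end Cfsg.Agent.Lead
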