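import Mathlib
import Cfsg.Prelude.Def_LieExceptional
import Cfsg.Prelude.Def_Involutions
import Cfsg.Agent.Helper18.AIDefs
set_option autoImplicit false

/-! S2202 piece SLPSL. -/

namespace Cfsg.Agent.Lead.AI

open Cfsg Cfsg.Agent.Helper18.AI MulAction

theorem center_sl2_eq_bot {F : Type*} [Field F] [CharP F 2] :
    Subgroup.center (Matrix.SpecialLinearGroup (Fin 2) F) = ⊥ := by
  rw [eq_bot_iff]
  intro A hA
  rw [Matrix.SpecialLinearGroup.mem_center_iff] at hA
  obtain ⟨r, hr, hrA⟩ := hA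
  rw [Fintype.card_fin] at hr
  have h2 : (2 : F) = 0 := CharTwo.two_eq_zero
  have h1 : (r - 1) ^ 2 = 0 := by
    have : (r - 1) ^ 2 = r ^ 2 - 2 * r + 1 := by ring
    rw [this, hr, h2]; ring_nf
    rw [h2]
  have hr1 : r = 1 := by
    have := pow_eq_zero_iff (two_ne_zero) |>.mp h1
    exact sub_eq_zero.mp this
  rw [Subgroup.mem_bot]
  apply Subtype.ext
  rw [← hrA, hr1]
  simp

theorem nonempty_sl2_equiv_psl2 {F : Type*} [Field F] [CharP F 2] :
    Nonempty (Matrix.SpecialLinearGroup (Fin 2) F ≃*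
      Matrix.ProjectiveSpecialLinearGroup (Fin 2) F) := by
  have h := center_sl2_eq_bot (F := F)
  exact ⟨(QuotientGroup.quotientBot (G := Matrix.SpecialLinearGroup (Fin 2) F)).symm.trans
    (QuotientGroup.quotientMulEquivOfEq h.symm)⟩

theorem field_cond {F : Type*} [Field F] [Fintype F] (hF : 4 ≤ Fintype.card F) :
    ∃ a : F, a ≠ 0 ∧ a ^ 2 ≠ 1 := by
  classical
  by_contra hcon
  push Not at hcon
  -- every element is a root of X * (X^2 - 1), at most 3 roots
  have hsub : (Finset.univ : Finset F) ⊆ ({0, 1, -1} : Finset F) := by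
    intro a _
    by_cases ha : a = 0
    · simp [ha]
    · have h := hcon a ha
      have h1 : (a - 1) * (a + 1) = 0 := by ring_nf; rw [h]; ring
      rcases mul_eq_zero.mp h1 with h2 | h2
      · have : a = 1 := sub_eq_zero.mp h2
        simp [this]
      · have : a = -1 := eq_neg_of_add_eq_zero_left h2
        simp [this]
  have hcard := Finset.card_le_card hsub
  rw [Finset.card_univ] at hcard
  have h3 : ({0, 1, -1} : Finset F).card ≤ 3 := Finset.card_le_three
  omega

theorem sl2_commutator_eq_top {F : Type*} [Field F] [Fintype F]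
    (hF : 4 ≤ Fintype.card F) : commutator (Matrix.SpecialLinearGroup (Fin 2) F) = ⊤ := by
  obtain ⟨a, ha, hasq⟩ := field_cond hF
  exact Matrix.SL2.commutator_eq_top ha hasq

theorem sl2_isSimpleGroup {F : Type*} [Field F] [Fintype F] [CharP F 2]
    (hF : 4 ≤ Fintype.card F) : IsSimpleGroup (Matrix.SpecialLinearGroup (Fin 2) F) := by
  obtain ⟨e⟩ := nonempty_sl2_equiv_psl2 (F := F)
  have : IsSimpleGroup (Matrix.ProjectiveSpecialLinearGroup (Fin 2) F) :=
    Matrix.ProjectiveSpecialLinearGroup.rank_two_simple' (field_cond hF)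
  exact e.isSimpleGroup

theorem charP_two_of_card {F : Type*} [Field F] [Fintype F] {k : ℕ} (_hk : k ≠ 0)
    (h : Fintype.card F = 2 ^ k) : CharP F 2 := by
  obtain ⟨p, hp⟩ := CharP.exists F
  obtain ⟨n, hpp, hn⟩ := FiniteField.card F p
  rw [h] at hn
  have hdvd : p ∣ 2 ^ k := by
    rw [hn]; exact dvd_pow_self p n.ne_zero
  have hp2 : p ∣ 2 := hpp.dvd_of_dvd_pow hdvd
  have : p = 2 := (Nat.prime_dvd_prime_iff_eq hpp Nat.prime_two).mp hp2
  rw [← this]; exact hp

end Cfsg.Agent.Lead.AI
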