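import Cfsg.Agent.Helper12.S5702Defs2

set_option autoImplicit false
set_option linter.unusedSectionVars false
set_option linter.unusedVariables false

/-! # S5702 piece REDF1: the rational quadratic form `u ↦ ζ Q(P u)` over `↥F₀` -/

namespace Cfsg.Agent.S5702P

open Matrix Cfsg.Agent.Helper28.Sg Cfsg.Agent.Helper28.Spin Cfsg.Agent.Helper12.OrthGen
  Cfsg.Agent.S5683P

variable {F : Type*} [Field F] {m : ℕ} {a b : F}

/-- the inclusion of rational vectors -/
def REDF1.inc {n : ℕ} (F₀ : Subfield F) (u : Fin n → ↥F₀) : Fin n → F := fun i => ((u i : ↥F₀) : F)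

theorem REDF1.inc_add {n : ℕ} (F₀ : Subfield F) (u v : Fin n → ↥F₀) :
    REDF1.inc F₀ (u + v) = REDF1.inc F₀ u + REDF1.inc F₀ v := by
  funext i
  simp [REDF1.inc]

theorem REDF1.inc_smul {n : ℕ} (F₀ : Subfield F) (c : ↥F₀) (u : Fin n → ↥F₀) :
    REDF1.inc F₀ (c • u) = (c : F) • REDF1.inc F₀ u := by
  funext i
  simp [REDF1.inc]

/-- REDF1 -/
theorem REDF1.exists_form {n : ℕ} (Q : (Fin n → F) → F)
    (hQ : Cfsg.Geo.IsNondegenerateQuadraticForm Q) (F₀ : Subfield F)
    (P : Matrix.GeneralLinearGroup (Fin n) F) (ζ : F) (hζ : ζ ≠ 0)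
    (hP : Cfsg.Geo.IsQuadFormRationalStructure (fun v : Fin n → F => ζ * Q v) F₀ P) :
    ∃ Q₀ : QuadraticForm ↥F₀ (Fin n → ↥F₀),
      (∀ u : Fin n → ↥F₀, ((Q₀ u : ↥F₀) : F) =
        ζ * Q ((P : Matrix (Fin n) (Fin n) F) *ᵥ (fun i => ((u i : ↥F₀) : F)))) ∧
      (∀ v : Fin n → ↥F₀, (∀ w, QuadraticMap.polar Q₀ v w = 0) → v = 0) := by
  classical
  obtain ⟨L, hL⟩ : ∃ L : (Fin n → ↥F₀) → (Fin n → F),
      L = fun u => (P : Matrix (Fin n) (Fin n) F) *ᵥ REDF1.inc F₀ u := ⟨_, rfl⟩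
  have hLadd : ∀ u v, L (u + v) = L u + L v := by
    intro u v
    rw [hL]
    show _ *ᵥ REDF1.inc F₀ (u + v) = _
    rw [REDF1.inc_add, Matrix.mulVec_add]
  have hLsmul : ∀ (c : ↥F₀) u, L (c • u) = (c : F) • L u := by
    intro c u
    rw [hL]
    show _ *ᵥ REDF1.inc F₀ (c • u) = _
    rw [REDF1.inc_smul, Matrix.mulVec_smul]
  have hmem : ∀ u : Fin n → ↥F₀, ζ * Q (L u) ∈ F₀ := by
    intro u
    rw [hL]
    exact hP (REDF1.inc F₀ u) (fun i => (u i).2)
  obtain ⟨q₀, hq₀⟩ : ∃ q₀ : (Fin n → ↥F₀) → ↥F₀, ∀ u, ((q₀ u : ↥F₀) : F) = ζ * Q (L u) :=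
    ⟨fun u => ⟨ζ * Q (L u), hmem u⟩, fun u => rfl⟩
  have hpol : ∀ x y, ((QuadraticMap.polar q₀ x y : ↥F₀) : F) =
      ζ * QuadraticMap.polar Q (L x) (L y) := by
    intro x y
    unfold QuadraticMap.polar
    rw [Subfield.coe_sub, Subfield.coe_sub, hq₀, hq₀, hq₀, hLadd]
    ring
  have hbil := hQ.polar_bilinear
  have h1 : ∀ (c : ↥F₀) (x : Fin n → ↥F₀), q₀ (c • x) = (c * c) • q₀ x := by
    intro c x
    apply Subtype.ext
    rw [hq₀, hLsmul, hQ.smul, smul_eq_mul, Subfield.coe_mul, Subfield.coe_mul, hq₀]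
    ring
  have h2 : ∀ x x' y : Fin n → ↥F₀, QuadraticMap.polar q₀ (x + x') y =
      QuadraticMap.polar q₀ x y + QuadraticMap.polar q₀ x' y := by
    intro x x' y
    apply Subtype.ext
    rw [Subfield.coe_add, hpol, hpol, hpol, hLadd, hbil.add_left]
    ring
  have h3 : ∀ (c : ↥F₀) (x y : Fin n → ↥F₀), QuadraticMap.polar q₀ (c • x) y =
      c • QuadraticMap.polar q₀ x y := by
    intro c x y
    apply Subtype.ext
    rw [smul_eq_mul, Subfield.coe_mul, hpol, hpol, hLsmul, hbil.smul_left]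
    ring
  refine ⟨QuadraticMap.ofPolar q₀ h1 h2 h3, ?_, ?_⟩
  · intro u
    show ((q₀ u : ↥F₀) : F) = _
    rw [hq₀, hL]
    rfl
  · intro v hv
    have hv' : ∀ w : Fin n → ↥F₀, QuadraticMap.polar Q (L v) (L w) = 0 := by
      intro w
      have := hv w
      have h4 : ((QuadraticMap.polar q₀ v w : ↥F₀) : F) = 0 := by
        have h5 : QuadraticMap.polar q₀ v w = 0 := this
        rw [h5]
        rfl
      rw [hpol] at h4
      exact (mul_eq_zero.mp h4).resolve_left hζ
    -- the linear functional `x ↦ polar Q (L v) (P x)`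
    let g : (Fin n → F) →ₗ[F] F :=
      { toFun := fun x => QuadraticMap.polar Q (L v) ((P : Matrix (Fin n) (Fin n) F) *ᵥ x)
        map_add' := by
          intro x y
          show QuadraticMap.polar Q (L v) (_ *ᵥ (x + y)) = _
          rw [Matrix.mulVec_add, hbil.add_right]
        map_smul' := by
          intro c x
          show QuadraticMap.polar Q (L v) (_ *ᵥ (c • x)) = _
          rw [Matrix.mulVec_smul, hbil.smul_right]
          rfl }
    have hg : g = 0 := by
      apply (Pi.basisFun F (Fin n)).ext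
      intro i
      show QuadraticMap.polar Q (L v) ((P : Matrix (Fin n) (Fin n) F) *ᵥ (Pi.basisFun F (Fin n) i)) = 0
      have e : (Pi.basisFun F (Fin n) i : Fin n → F) = REDF1.inc F₀ (Pi.single i 1) := by
        funext j
        rw [Pi.basisFun_apply]
        unfold REDF1.inc
        by_cases hij : j = i
        · subst hij; simp
        · simp [Pi.single_apply, hij]
      rw [e]
      have := hv' (Pi.single i 1)
      rw [hL] at this ⊢
      exact this
    have hall : ∀ x : Fin n → F, QuadraticMap.polar Q (L v) x = 0 := by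
      intro x
      have h6 : x = (P : Matrix (Fin n) (Fin n) F) *ᵥ
          (((P⁻¹ : Matrix.GeneralLinearGroup (Fin n) F) : Matrix (Fin n) (Fin n) F) *ᵥ x) := by
        rw [Matrix.mulVec_mulVec, ← Matrix.GeneralLinearGroup.coe_mul, mul_inv_cancel]
        simp
      rw [h6]
      have := LinearMap.congr_fun hg
        (((P⁻¹ : Matrix.GeneralLinearGroup (Fin n) F) : Matrix (Fin n) (Fin n) F) *ᵥ x)
      exact this
    have hLv : L v = 0 := by
      by_contra hne
      obtain ⟨_, x, hx⟩ := hQ.nondegenerate (L v) hne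
      exact hx (hall x)
    -- `P` is injective
    have hinc : REDF1.inc F₀ v = 0 := by
      rw [hL] at hLv
      have h7 : ((P⁻¹ : Matrix.GeneralLinearGroup (Fin n) F) : Matrix (Fin n) (Fin n) F) *ᵥ
          ((P : Matrix (Fin n) (Fin n) F) *ᵥ REDF1.inc F₀ v) = 0 := by
        have : (P : Matrix (Fin n) (Fin n) F) *ᵥ REDF1.inc F₀ v = 0 := hLv
        rw [this, Matrix.mulVec_zero]
      rw [Matrix.mulVec_mulVec, ← Matrix.GeneralLinearGroup.coe_mul, inv_mul_cancel] at h7
      simpa using h7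
    funext i
    apply Subtype.ext
    have := congrFun hinc i
    exact this

end Cfsg.Agent.S5702P
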