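import Cfsg.Agent.Helper12.S5702Defs2
import Cfsg.Agent.Helper13.QuadWitt
import Cfsg.Agent.Helper13.QuadExt

set_option autoImplicit false
set_option linter.unusedSectionVars false
set_option linter.unusedVariables false

/-! # S5702 piece REDF3: from the rational normalised basis to the rational matrix `T` -/

namespace Cfsg.Agent.S5702P

open Matrix Cfsg.Agent.Helper28.Sg Cfsg.Agent.Helper28.Spin Cfsg.Agent.Helper12.OrthGen
  Cfsg.Agent.S5683P

variable {F : Type*} [Field F] {m : ℕ} {a b : F}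

/-- the inclusion of rational vectors -/
def REDF3.inc {ι : Type} (F₀ : Subfield F) (u : ι → ↥F₀) : ι → F := fun i => ((u i : ↥F₀) : F)

/-- base change of the standard form -/
theorem REDF3.Qf_inc (F₀ : Subfield F) (a₀ b₀ : ↥F₀) (x : Idx m → ↥F₀) :
    QfMinus m F (a₀ : F) (b₀ : F) (REDF3.inc F₀ x) = ((QfMinus m ↥F₀ a₀ b₀ x : ↥F₀) : F) := by
  rw [Q_apply, Q_apply]
  unfold REDF3.inc
  push_cast
  rfl

theorem REDF3.Q_zero {n : ℕ} (Q : (Fin n → F) → F)
    (hQ : Cfsg.Geo.IsNondegenerateQuadraticForm Q) : Q 0 = 0 := by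
  have := hQ.smul 0 0
  rw [zero_smul] at this
  rw [this]
  ring


/-- the sum `Σ x_k • bv_k` as a matrix-vector product -/
theorem REDF3.mulVec_eq {n : ℕ} {K : Type*} [Field K] (e : Idx m ≃ Fin n)
    (bv : Idx m → (Fin n → K)) (x : Idx m → K) :
    (Matrix.of fun i j => bv (e.symm j) i : Matrix (Fin n) (Fin n) K) *ᵥ (fun j => x (e.symm j)) =
      ∑ k, x k • bv k := by
  funext i
  rw [Matrix.mulVec, dotProduct, Finset.sum_apply]
  simp only [Matrix.of_apply, Pi.smul_apply, smul_eq_mul]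
  rw [← Equiv.sum_comp e.symm (fun k => x k * bv k i)]
  apply Finset.sum_congr rfl
  intro j _
  ring

/-- REDF3 -/
theorem REDF3.exists_T {n : ℕ} (Q : (Fin n → F) → F)
    (hQ : Cfsg.Geo.IsNondegenerateQuadraticForm Q) (F₀ : Subfield F)
    (P : Matrix.GeneralLinearGroup (Fin n) F) (ζ : F) (hζ : ζ ≠ 0)
    (m : ℕ) (a₀ b₀ c₀ : ↥F₀) (bv : Idx m → (Fin n → ↥F₀)) (hmn : 2 * m + 2 = n)
    (hab : 4 * b₀ - a₀ ^ 2 ≠ 0) (hc : c₀ ≠ 0)
    (hbv : ∀ x : Idx m → ↥F₀,
      ζ * Q ((P : Matrix (Fin n) (Fin n) F) *ᵥ (fun i => (((∑ k, x k • bv k) i : ↥F₀) : F))) =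
        ((c₀ * QfMinus m ↥F₀ a₀ b₀ x : ↥F₀) : F)) :
    ∃ (e : Idx m ≃ Fin n) (T : Matrix.GeneralLinearGroup (Fin n) F),
      RatM F₀ (T : Matrix (Fin n) (Fin n) F) ∧
      RatM F₀ ((T⁻¹ : Matrix.GeneralLinearGroup (Fin n) F) : Matrix (Fin n) (Fin n) F) ∧
      ∀ x : Idx m → F,
        Q (((P * T : Matrix.GeneralLinearGroup (Fin n) F) : Matrix (Fin n) (Fin n) F) *ᵥ
          (fun i => x (e.symm i))) = ((c₀ : F) * ζ⁻¹) * QfMinus m F (a₀ : F) (b₀ : F) x := by
  classical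
  have hcard : Fintype.card (Idx m) = Fintype.card (Fin n) := by
    rw [card_Idx, Fintype.card_fin, hmn]
  obtain ⟨e⟩ : Nonempty (Idx m ≃ Fin n) := Fintype.card_eq.mp hcard
  obtain ⟨T₀, hT₀⟩ : ∃ T₀ : Matrix (Fin n) (Fin n) ↥F₀, T₀ = Matrix.of fun i j => bv (e.symm j) i :=
    ⟨_, rfl⟩
  have hT₀mul : ∀ x : Idx m → ↥F₀, T₀ *ᵥ (fun j => x (e.symm j)) = ∑ k, x k • bv k := by
    intro x
    rw [hT₀]
    exact REDF3.mulVec_eq e bv x
  have hQ0 : Q 0 = 0 := REDF3.Q_zero Q hQ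
  -- injectivity
  have hinj : Function.Injective T₀.mulVec := by
    intro z z' hzz'
    have hz : T₀ *ᵥ (z - z') = 0 := by
      rw [Matrix.mulVec_sub]
      exact sub_eq_zero.mpr hzz'
    suffices h : z - z' = 0 from sub_eq_zero.mp h
    obtain ⟨x, hx⟩ : ∃ x : Idx m → ↥F₀, x = fun k => (z - z') (e k) := ⟨_, rfl⟩
    have hzx : (z - z') = fun j => x (e.symm j) := by
      funext j
      rw [hx]
      simp
    rw [hzx, hT₀mul] at hz
    have hx0 : x = 0 := by
      apply (nondeg_even (F := ↥F₀) hab m).1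
      intro y
      rw [QuadraticMap.polarBilin_apply_apply]
      unfold QuadraticMap.polar
      have h1 := hbv (x + y)
      have h2 := hbv x
      have h3 := hbv y
      have hsum : ∑ k, (x + y) k • bv k = ∑ k, y k • bv k := by
        have : ∑ k, (x + y) k • bv k = ∑ k, x k • bv k + ∑ k, y k • bv k := by
          rw [← Finset.sum_add_distrib]
          apply Finset.sum_congr rfl
          intro k _
          rw [Pi.add_apply, add_smul]
        rw [this, hz, zero_add]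
      rw [hsum, h3] at h1
      rw [hz] at h2
      have h2' : ((c₀ * QfMinus m ↥F₀ a₀ b₀ x : ↥F₀) : F) = 0 := by
        rw [← h2]
        have : (fun i => (((0 : Fin n → ↥F₀) i : ↥F₀) : F)) = (0 : Fin n → F) := by
          funext i; simp
        rw [this, Matrix.mulVec_zero, hQ0, mul_zero]
      have e1 : c₀ * QfMinus m ↥F₀ a₀ b₀ (x + y) = c₀ * QfMinus m ↥F₀ a₀ b₀ y :=
        Subtype.ext h1.symm
      have e2 : c₀ * QfMinus m ↥F₀ a₀ b₀ x = 0 := Subtype.ext h2'
      have e1' := mul_left_cancel₀ hc e1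
      have e2' := (mul_eq_zero.mp e2).resolve_left hc
      rw [e1', e2']
      ring
    rw [hzx, hx0]
    rfl
  have hU : IsUnit T₀ := Matrix.mulVec_injective_iff_isUnit.mp hinj
  obtain ⟨T₀', hT₀'⟩ : ∃ T₀' : Matrix.GeneralLinearGroup (Fin n) ↥F₀,
      (T₀' : Matrix (Fin n) (Fin n) ↥F₀) = T₀ := ⟨hU.unit, rfl⟩
  obtain ⟨T, hT⟩ : ∃ T : Matrix.GeneralLinearGroup (Fin n) F,
      T = Matrix.GeneralLinearGroup.map F₀.subtype T₀' := ⟨_, rfl⟩
  have hTval : ∀ (g : Matrix.GeneralLinearGroup (Fin n) ↥F₀) (i j : Fin n),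
      ((Matrix.GeneralLinearGroup.map F₀.subtype g : Matrix.GeneralLinearGroup (Fin n) F) :
        Matrix (Fin n) (Fin n) F) i j = ((g : Matrix (Fin n) (Fin n) ↥F₀) i j : F) := by
    intro g i j
    rfl
  have hrat : ∀ g : Matrix.GeneralLinearGroup (Fin n) ↥F₀,
      RatM F₀ ((Matrix.GeneralLinearGroup.map F₀.subtype g : Matrix.GeneralLinearGroup (Fin n) F) :
        Matrix (Fin n) (Fin n) F) := by
    intro g i j
    rw [hTval]
    exact ((g : Matrix (Fin n) (Fin n) ↥F₀) i j).2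
  -- the action of `T` on rational vectors
  have hTmul : ∀ z : Fin n → ↥F₀, (T : Matrix (Fin n) (Fin n) F) *ᵥ REDF3.inc F₀ z =
      REDF3.inc F₀ (T₀ *ᵥ z) := by
    intro z
    funext i
    unfold REDF3.inc
    rw [Matrix.mulVec, dotProduct, Matrix.mulVec, dotProduct]
    rw [hT]
    simp only [hTval, hT₀']
    push_cast
    rfl
  -- the quadratic form `Q` as a `QuadraticForm`
  have hbil := hQ.polar_bilinear
  obtain ⟨q, hq⟩ : ∃ q : QuadraticForm F (Fin n → F), ∀ v, q v = Q v := by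
    refine ⟨QuadraticMap.ofPolar Q ?_ ?_ ?_, fun v => rfl⟩
    · intro c x
      rw [hQ.smul, smul_eq_mul]
      ring
    · intro x x' y
      exact hbil.add_left x x' y
    · intro c x y
      rw [hbil.smul_left]
      rfl
  -- the two quadratic forms on `Idx m → F`
  obtain ⟨lin, hlin⟩ : ∃ lin : (Idx m → F) →ₗ[F] (Fin n → F), ∀ x, lin x =
      ((P * T : Matrix.GeneralLinearGroup (Fin n) F) : Matrix (Fin n) (Fin n) F) *ᵥ
        (fun i => x (e.symm i)) :=
    ⟨(Matrix.toLin' ((P * T : Matrix.GeneralLinearGroup (Fin n) F) : Matrix (Fin n) (Fin n) F)).comp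
      (LinearMap.funLeft F F e.symm), fun x => by
        rw [LinearMap.comp_apply, Matrix.toLin'_apply]
        rfl⟩
  obtain ⟨Q₁, hQ₁⟩ : ∃ Q₁ : QuadraticForm F (Idx m → F), ∀ x, Q₁ x = Q (lin x) :=
    ⟨q.comp lin, fun x => by rw [QuadraticMap.comp_apply, hq]⟩
  obtain ⟨Q₂, hQ₂⟩ : ∃ Q₂ : QuadraticForm F (Idx m → F), ∀ x, Q₂ x =
      ((c₀ : F) * ζ⁻¹) * QfMinus m F (a₀ : F) (b₀ : F) x :=
    ⟨((c₀ : F) * ζ⁻¹) • QfMinus m F (a₀ : F) (b₀ : F), fun x => by
      rfl⟩
  -- they agree on rational vectors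
  have hagree : ∀ x : Idx m → ↥F₀, Q₁ (REDF3.inc F₀ x) = Q₂ (REDF3.inc F₀ x) := by
    intro x
    rw [hQ₁, hQ₂, hlin, REDF3.Qf_inc]
    have h1 : (fun i => REDF3.inc F₀ x (e.symm i)) = REDF3.inc F₀ (fun j => x (e.symm j)) := rfl
    rw [h1, Matrix.GeneralLinearGroup.coe_mul, ← Matrix.mulVec_mulVec, hTmul, hT₀mul]
    have h2 := hbv x
    have h3 : REDF3.inc F₀ (∑ k, x k • bv k) =
        fun i => (((∑ k, x k • bv k) i : ↥F₀) : F) := rfl
    rw [h3]
    have h4 : Q ((P : Matrix (Fin n) (Fin n) F) *ᵥ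
        (fun i => (((∑ k, x k • bv k) i : ↥F₀) : F))) =
        ζ⁻¹ * ((c₀ * QfMinus m ↥F₀ a₀ b₀ x : ↥F₀) : F) := by
      rw [← h2, ← mul_assoc, inv_mul_cancel₀ hζ, one_mul]
    rw [h4]
    push_cast
    ring
  have hQeq : Q₁ = Q₂ := by
    apply Cfsg.Agent.Helper13.quadraticForm_ext_basis (Pi.basisFun F (Idx m))
    · intro i
      have e1 : (Pi.basisFun F (Idx m) i : Idx m → F) = REDF3.inc F₀ (Pi.single i 1) := by
        funext j
        rw [Pi.basisFun_apply]
        unfold REDF3.inc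
        by_cases hij : j = i
        · subst hij; simp
        · simp [hij]
      rw [e1]
      exact hagree _
    · intro i j
      have e1 : ∀ i : Idx m, (Pi.basisFun F (Idx m) i : Idx m → F) =
          REDF3.inc F₀ (Pi.single i 1) := by
        intro i
        funext j
        rw [Pi.basisFun_apply]
        unfold REDF3.inc
        by_cases hij : j = i
        · subst hij; simp
        · simp [hij]
      have e2 : REDF3.inc F₀ (Pi.single i 1 : Idx m → ↥F₀) + REDF3.inc F₀ (Pi.single j 1) =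
          REDF3.inc F₀ (Pi.single i 1 + Pi.single j 1) := by
        funext k
        unfold REDF3.inc
        simp
      unfold QuadraticMap.polar
      rw [e1 i, e1 j, e2, hagree, hagree, hagree]
  refine ⟨e, T, ?_, ?_, ?_⟩
  · rw [hT]
    exact hrat T₀'
  · rw [hT, ← map_inv]
    exact hrat T₀'⁻¹
  · intro x
    rw [← hlin, ← hQ₁, hQeq, hQ₂]

end Cfsg.Agent.S5702P
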