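import Cfsg.Agent.Helper21.SZTREMT1
import Cfsg.Agent.Helper21.SZTREMT2
import Cfsg.Agent.Helper24.RealChar
import Cfsg.Agent.Helper24.Regular

set_option autoImplicit false

namespace Cfsg.Agent.SZT

open Cfsg Cfsg.Agent.Helper11.SCTI Cfsg.Agent.Helper24
open scoped Classical ComplexConjugate

universe u

variable {G : Type u} [Group G] [Fintype G]

/-- if `w + conj w = 2 c` and `w conj w = c^2` with `c` real then `w = c` -/
theorem TABREM_eq_of_re_of_norm {w : ℂ} {c : ℝ} (h1 : w + conj w = 2 * (c : ℂ))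
    (h2 : w * conj w = (c : ℂ) ^ 2) : w = (c : ℂ) := by
  have hre : w.re = c := by
    have := congrArg Complex.re h1
    simp at this
    linarith
  have him : w.im = 0 := by
    have := congrArg Complex.re h2
    simp [pow_two] at this
    rw [hre] at this
    nlinarith
  apply Complex.ext <;> simp [hre, him]

/-- if `w + conj w = 0` and `w conj w = c` then `w^2 = -c` -/
theorem TABREM_sq_of_re_zero {w c : ℂ} (h1 : w + conj w = 0) (h2 : w * conj w = c) :
    w ^ 2 = -c := by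
  have : conj w = -w := by linear_combination h1
  rw [this] at h2
  linear_combination -h2

namespace Cfg

variable (C : Cfg G)

theorem table_of_rem (W₁ W₂ : IrrCharacter G)
    (hc : ∀ g : G, (W₂ : G → ℂ) g = conj ((W₁ : G → ℂ) g))
    (h : C.IsRest (W₁ : G → ℂ) (W₂ : G → ℂ)) : C.IsTable (W₁ : G → ℂ) (W₂ : G → ℂ) := by
  have hr4 : 4 ≤ C.r := C.four_le_r
  have hq8 : 8 ≤ C.q := C.hq
  have hrR : (C.r : ℝ) ^ 2 = 2 * (C.q : ℝ) := by exact_mod_cast C.hr
  have hrC := C.hrC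
  have hr0 : (C.r : ℂ) ≠ 0 := by
    have : C.r ≠ 0 := by omega
    exact_mod_cast this
  have hq1 : (C.q : ℂ) - 1 ≠ 0 := by
    have : (C.q : ℝ) - 1 ≠ 0 := by
      have : (8 : ℝ) ≤ C.q := by exact_mod_cast hq8
      linarith
    exact_mod_cast this
  -- the degree
  obtain ⟨a, ha0, ha⟩ := isIrrCharacter_one W₁.2
  have ha2 : (W₂ : G → ℂ) 1 = a := by rw [hc, ha, Complex.conj_natCast]
  have h11 := C.rem_one_one h
  rw [ha, ha2, Complex.conj_natCast] at h11
  -- 2 a^2 = q (q-1)^2, so (2a)^2 = (r (q-1))^2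
  have haR : (2 * (a : ℝ)) ^ 2 = ((C.r : ℝ) * ((C.q : ℝ) - 1)) ^ 2 := by
    have h11R : (a : ℝ) * a + a * a = (C.q : ℝ) * ((C.q : ℝ) - 1) ^ 2 := by exact_mod_cast h11
    have : ((C.r : ℝ) * ((C.q : ℝ) - 1)) ^ 2 = 2 * (C.q : ℝ) * ((C.q : ℝ) - 1) ^ 2 := by
      rw [mul_pow, hrR]
    rw [this]
    linarith
  have hqR : (0 : ℝ) < (C.q : ℝ) - 1 := by
    have : (8 : ℝ) ≤ C.q := by exact_mod_cast hq8
    linarith
  have hrpos : (0 : ℝ) < C.r := by
    have : (4 : ℝ) ≤ C.r := by exact_mod_cast hr4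
    linarith
  have haR' : 2 * (a : ℝ) = (C.r : ℝ) * ((C.q : ℝ) - 1) := by
    have h1 : (0 : ℝ) ≤ 2 * (a : ℝ) := by positivity
    have h2 : (0 : ℝ) ≤ (C.r : ℝ) * ((C.q : ℝ) - 1) := by positivity
    exact (sq_eq_sq₀ h1 h2).mp haR
  have haC : 2 * (a : ℂ) = (C.r : ℂ) * ((C.q : ℂ) - 1) := by exact_mod_cast haR'
  have haC' : (a : ℂ) = (C.r : ℂ) * ((C.q : ℂ) - 1) / 2 := by
    rw [← haC]; ring
  have ha_ne : (a : ℂ) ≠ 0 := by
    have : a ≠ 0 := by omega
    exact_mod_cast this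
  -- linear relation: a (w + conj w) = X gives w + conj w = 2 X / (r (q-1))
  have lin : ∀ (g : G) (X : ℂ),
      (W₁ : G → ℂ) 1 * conj ((W₁ : G → ℂ) g) + (W₂ : G → ℂ) 1 * conj ((W₂ : G → ℂ) g) = X →
      (W₁ : G → ℂ) g + conj ((W₁ : G → ℂ) g) = 2 * X / ((C.r : ℂ) * ((C.q : ℂ) - 1)) := by
    intro g X hX
    rw [ha, ha2, hc, Complex.conj_conj] at hX
    have hne : (C.r : ℂ) * ((C.q : ℂ) - 1) ≠ 0 := mul_ne_zero hr0 hq1
    rw [eq_div_iff hne, ← haC]
    linear_combination 2 * hX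
  have quad : ∀ (g : G) (Y : ℂ),
      (W₁ : G → ℂ) g * conj ((W₁ : G → ℂ) g) + (W₂ : G → ℂ) g * conj ((W₂ : G → ℂ) g) = Y →
      (W₁ : G → ℂ) g * conj ((W₁ : G → ℂ) g) = Y / 2 := by
    intro g Y hY
    rw [hc, Complex.conj_conj] at hY
    linear_combination hY / 2
  have key2 : ∀ g : G, orderOf g = 2 → (W₁ : G → ℂ) g = -(C.r : ℂ) / 2 := by
    intro g hg
    have h1 := lin g _ (C.rem_one_two h hg)
    have h2 := quad g _ (C.rem_two_two h hg)
    have := TABREM_eq_of_re_of_norm (w := (W₁ : G → ℂ) g) (c := -(C.r : ℝ) / 2) ?_ ?_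
    · rw [this]; push_cast; ring
    · rw [h1]
      push_cast
      field_simp
      linear_combination (1 : ℂ) * hrC
    · rw [h2]
      push_cast
      linear_combination (-(1 : ℂ) / 4) * hrC
  have key4 : ∀ g : G, orderOf g = 4 →
      (W₁ : G → ℂ) g + conj ((W₁ : G → ℂ) g) = 0 ∧ (W₁ : G → ℂ) g ^ 2 = -(C.q : ℂ) / 2 := by
    intro g hg
    have h1 := lin g _ (C.rem_one_four h hg)
    have h2 := quad g _ (C.rem_four_four h hg)
    have h1' : (W₁ : G → ℂ) g + conj ((W₁ : G → ℂ) g) = 0 := by rw [h1]; simp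
    refine ⟨h1', ?_⟩
    rw [TABREM_sq_of_re_zero h1' h2]
    ring
  have key0 : ∀ g : G, C.T0 g → (W₁ : G → ℂ) g = 0 := by
    intro g hg
    have h2 := quad g _ (C.rem_T0 h hg)
    rw [zero_div, Complex.mul_conj] at h2
    have : Complex.normSq ((W₁ : G → ℂ) g) = 0 := by exact_mod_cast h2
    exact Complex.normSq_eq_zero.mp this
  have keyT1 : ∀ g : G, C.T1 g → (W₁ : G → ℂ) g = 1 := by
    intro g hg
    have h1 := lin g _ (C.rem_one_T1 h hg)
    have h2 := quad g _ (C.rem_T1 h hg)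
    have := TABREM_eq_of_re_of_norm (w := (W₁ : G → ℂ) g) (c := 1) ?_ ?_
    · rw [this]; simp
    · rw [h1]
      push_cast
      field_simp
    · rw [h2]
      norm_num
  have keyT2 : ∀ g : G, C.T2 g → (W₁ : G → ℂ) g = -1 := by
    intro g hg
    have h1 := lin g _ (C.rem_one_T2 h hg)
    have h2 := quad g _ (C.rem_T2 h hg)
    have := TABREM_eq_of_re_of_norm (w := (W₁ : G → ℂ) g) (c := -1) ?_ ?_
    · rw [this]; simp
    · rw [h1]
      push_cast
      field_simp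
    · rw [h2]
      norm_num
  refine
    { rest := h, irr₁ := W₁.2, irr₂ := W₂.2, one₁ := ?_, one₂ := ?_, two₁ := ?_, two₂ := ?_,
      four_sq₁ := ?_, four_sq₂ := ?_, four_add := ?_, t0₁ := ?_, t0₂ := ?_, t1₁ := ?_,
      t1₂ := ?_, t2₁ := ?_, t2₂ := ?_ }
  · rw [ha, haC']
  · rw [ha2, haC']
  · -- order 2, W₁
    intro g hg
    exact key2 g hg
  · intro g hg
    rw [hc, key2 g hg]
    simp [map_ofNat]
  · intro g hg
    exact (key4 g hg).2
  · intro g hg
    rw [hc, ← map_pow, (key4 g hg).2]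
    simp [map_ofNat]
  · intro g hg
    rw [hc]
    exact (key4 g hg).1
  · intro g hg
    exact key0 g hg
  · intro g hg
    rw [hc, key0 g hg]
    simp
  · intro g hg
    exact keyT1 g hg
  · intro g hg
    rw [hc, keyT1 g hg]
    simp
  · intro g hg
    exact keyT2 g hg
  · intro g hg
    rw [hc, keyT2 g hg]
    simp

end Cfg

end Cfsg.Agent.SZT
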