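import Cfsg.Agent.Helper21.SZTREM2S
import Cfsg.Agent.Helper1.SZTIRRCASES
import Cfsg.Agent.Helper24.RealChar
import Cfsg.Agent.Helper24.Regular

set_option autoImplicit false

namespace Cfsg.Agent.SZT

open Cfsg Cfsg.Agent.Helper11.SCTI Cfsg.Agent.Helper24
open scoped Classical ComplexConjugate

universe u

variable {G : Type u} [Group G] [Fintype G]

/-- the complex conjugate of a value of a linear character of a finite group is the value of
the inverse character -/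
theorem WCONJ_conj_dual {A : Type u} [Group A] [Finite A] (θ : A →* ℂˣ) (a : A) :
    conj ((θ a : ℂˣ) : ℂ) = ((θ⁻¹ a : ℂˣ) : ℂ) := by
  have hn : ((θ a : ℂˣ) : ℂ) ^ (orderOf a) = 1 := by
    rw [← Units.val_pow_eq_pow_val, ← map_pow, pow_orderOf_eq_one, map_one, Units.val_one]
  have hnorm : ‖((θ a : ℂˣ) : ℂ)‖ = 1 :=
    Complex.norm_eq_one_of_pow_eq_one hn (orderOf_pos a).ne'
  rw [MonoidHom.inv_apply, Units.val_inv_eq_inv_val, Complex.inv_eq_conj hnorm]

theorem WCONJ_inv_ne_one {A : Type u} [Group A] (θ : A →* ℂˣ) (h : θ ≠ 1) : θ⁻¹ ≠ 1 := by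
  intro hh
  apply h
  apply MonoidHom.ext
  intro a
  have h2 := DFunLike.congr_fun hh a
  rw [MonoidHom.inv_apply, MonoidHom.one_apply, inv_eq_one] at h2
  rw [h2, MonoidHom.one_apply]

omit [Fintype G] in
theorem WCONJ_conj_base (d s t : ℂ) (g : G) :
    conj (base d s t g) = base (conj d) (conj s) (conj t) g := by
  unfold base
  simp only [map_add, apply_ite (starRingEnd ℂ), map_zero]

theorem WCONJ_conj_orbSum (A : Subgroup G) (θ : A →* ℂˣ) (g : G) :
    conj (orbSum A θ g) = orbSum A θ⁻¹ g := by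
  unfold orbSum
  rw [map_sum]
  refine Finset.sum_congr rfl fun a _ => ?_
  rw [apply_ite (starRingEnd ℂ), map_zero, WCONJ_conj_dual]

theorem WCONJ_conj_phi (d s t ε : ℂ) (A : Subgroup G) (θ : A →* ℂˣ) (g : G) :
    conj (phi d s t ε A θ g) = phi (conj d) (conj s) (conj t) (conj ε) A θ⁻¹ g := by
  unfold phi
  rw [map_add, map_mul, WCONJ_conj_base, WCONJ_conj_orbSum]

namespace Cfg

variable (C : Cfg G)

theorem WCONJ_conj_cF0 (θ : C.A0 →* ℂˣ) (g : G) : conj (C.cF0 θ g) = C.cF0 θ⁻¹ g := by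
  unfold cF0
  rw [WCONJ_conj_phi]
  simp

theorem WCONJ_conj_cF1 (θ : C.A1 →* ℂˣ) (g : G) : conj (C.cF1 θ g) = C.cF1 θ⁻¹ g := by
  unfold cF1
  rw [WCONJ_conj_phi]
  simp

theorem WCONJ_conj_cF2 (θ : C.A2 →* ℂˣ) (g : G) : conj (C.cF2 θ g) = C.cF2 θ⁻¹ g := by
  unfold cF2
  rw [WCONJ_conj_phi]
  simp

theorem WCONJ_conj_cX (g : G) : conj (C.cX g) = C.cX g := by
  unfold cX
  have h1 : (1 : C.A0 →* ℂˣ)⁻¹ = 1 := MonoidHom.ext fun a => by simp
  rw [map_sub, WCONJ_conj_phi, h1]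
  simp

/-- the second unknown character is the complex conjugate of the first -/
theorem W_conj (W₁ W₂ : IrrCharacter G) (hne : W₁ ≠ W₂)
    (hW : ∀ W : IrrCharacter G, (W = W₁ ∨ W = W₂) →
      (W : G → ℂ) ≠ (fun _ => 1) ∧ (W : G → ℂ) ≠ C.cX ∧
      (∀ θ : C.A0 →* ℂˣ, θ ≠ 1 → (W : G → ℂ) ≠ C.cF0 θ) ∧
      (∀ θ : C.A1 →* ℂˣ, θ ≠ 1 → (W : G → ℂ) ≠ C.cF1 θ) ∧
      (∀ θ : C.A2 →* ℂˣ, θ ≠ 1 → (W : G → ℂ) ≠ C.cF2 θ))
    (h : C.IsRest (W₁ : G → ℂ) (W₂ : G → ℂ)) :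
    ∀ g : G, (W₂ : G → ℂ) g = conj ((W₁ : G → ℂ) g) := by
  -- `irrStar W` for `W ∈ {W₁, W₂}` is again `W₁` or `W₂`
  have key : ∀ W : IrrCharacter G, (W = W₁ ∨ W = W₂) →
      (irrStar W : G → ℂ) = (W₁ : G → ℂ) ∨ (irrStar W : G → ℂ) = (W₂ : G → ℂ) := by
    intro W hWW
    obtain ⟨h1, h2, h3, h4, h5⟩ := hW W hWW
    have hstar : ∀ g : G, (W : G → ℂ) g = conj ((irrStar W : G → ℂ) g) := by
      intro g; simp
    rcases C.irr_cases h (irrStar W) with hc | hc | ⟨θ, hθ, hc⟩ | ⟨θ, hθ, hc⟩ | ⟨θ, hθ, hc⟩ | hc | hc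
    · exfalso; apply h1; funext g; rw [hstar g, hc]; simp
    · exfalso; apply h2; funext g; rw [hstar g, hc, C.WCONJ_conj_cX]
    · exfalso; apply h3 θ⁻¹ (WCONJ_inv_ne_one θ hθ); funext g; rw [hstar g, hc, C.WCONJ_conj_cF0]
    · exfalso; apply h4 θ⁻¹ (WCONJ_inv_ne_one θ hθ); funext g; rw [hstar g, hc, C.WCONJ_conj_cF1]
    · exfalso; apply h5 θ⁻¹ (WCONJ_inv_ne_one θ hθ); funext g; rw [hstar g, hc, C.WCONJ_conj_cF2]
    · exact Or.inl hc
    · exact Or.inr hc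
  rcases key W₁ (Or.inl rfl) with h1 | h1
  · -- `W₁` is real valued; then so is `W₂`, contradiction at an element of order 4
    exfalso
    have h2 : (irrStar W₂ : G → ℂ) = (W₂ : G → ℂ) := by
      rcases key W₂ (Or.inr rfl) with h2 | h2
      · exfalso
        apply hne
        have e1 : irrStar W₂ = W₁ := Subtype.ext h2
        have e2 : irrStar W₁ = W₁ := Subtype.ext h1
        calc W₁ = irrStar W₁ := e2.symm
          _ = irrStar (irrStar W₂) := by rw [e1]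
          _ = W₂ := irrStar_irrStar W₂
      · exact h2
    have hpos : 0 < Nat.card {g : G // orderOf g = 4} := by
      rw [C.card_four]
      have := C.hq
      have h1 : 0 < C.q - 1 := by omega
      have h2 : 0 < C.q := by omega
      positivity
    obtain ⟨⟨ρ, hρ⟩⟩ := (Nat.card_pos_iff.mp hpos).1
    have r1 : conj ((W₁ : G → ℂ) ρ) = (W₁ : G → ℂ) ρ := by
      have := congrFun h1 ρ
      simpa using this
    have r2 : conj ((W₂ : G → ℂ) ρ) = (W₂ : G → ℂ) ρ := by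
      have := congrFun h2 ρ
      simpa using this
    have e4 := C.rem_four_four h hρ
    have e5 := C.rem_four_inv h hρ
    rw [irr_inv W₁ ρ, irr_inv W₂ ρ, Complex.conj_conj, Complex.conj_conj] at e5
    rw [r1, r2] at e4
    have : (C.q : ℂ) = 0 := by linear_combination (e5 - e4) / 2
    have hq := C.hq
    have : C.q = 0 := by exact_mod_cast this
    omega
  · intro g
    have := congrFun h1 g
    rw [← this]
    simp

end Cfg

end Cfsg.Agent.SZT
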