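import Mathlib
import Cfsg.Prelude.Def_LieExceptional
import Cfsg.Agent.Lead.BG9g
import Cfsg.Agent.Lead.GenCent
import Cfsg.Agent.Helper23.NilpotentElts

set_option autoImplicit false
set_option linter.unusedSectionVars false
set_option linter.unusedVariables false
set_option linter.style.haveILetI false

/-! # Uniqueness subgroups in minimal simple CN-groups of odd order

In a CN-group every `p'`-subgroup normalized by a noncyclic abelian `p`-subgroup `A` is
centralized by `A`; hence B&G Lemma 9.5 (`SCN3Uniq`) is immediate from B&G Theorem 9.1(b). -/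

namespace Cfsg.Agent.Lead.CN

open Subgroup Cfsg
open Cfsg.Agent.Helper14 (IsSylowIn cj)

universe u
variable {G : Type u} [Group G] [Finite G]

/-- in a CN-group a `p'`-subgroup normalized by a noncyclic abelian `p`-subgroup is centralized
by it -/
theorem inv_le_centralizer (hCN : Cfsg.IsCNGroup G) {p : ℕ} [hp : Fact p.Prime] {A Y : Subgroup G}
    (hAp : IsPGroup p A) (hAab : ∀ a ∈ A, ∀ b ∈ A, a * b = b * a) (hAnc : ¬ IsCyclic A)
    (hY : (Nat.card Y).Coprime p) (hAY : A ≤ normalizer (Y : Set G)) :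
    Y ≤ centralizer (A : Set G) := by
  haveI : IsMulCommutative A := ⟨⟨fun a b => Subtype.ext (hAab a a.2 b b.2)⟩⟩
  have hcop : (Nat.card A).Coprime (Nat.card Y) := by
    obtain ⟨k, hk⟩ := IsPGroup.iff_card.mp hAp
    rw [hk]
    exact Nat.Coprime.pow_left k hY.symm
  have hgen := Cfsg.Agent.Lead.generated_by_centralizers A Y hAnc hAY hcop
  rw [← hgen]
  apply iSup₂_le
  intro a ha
  obtain ⟨haA, ha1⟩ := ha
  intro y hy
  obtain ⟨hyY, hyC⟩ := mem_inf.mp hy
  rw [mem_centralizer_iff]
  intro b hb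
  have hb' : b ∈ A := hb
  haveI hnil : Group.IsNilpotent (centralizer ({a} : Set G)) := hCN a ha1
  have hbC : b ∈ centralizer ({a} : Set G) := by
    rw [mem_centralizer_singleton_iff]
    exact (hAab a haA b hb').symm
  have hbp : IsPGroup p (zpowers (⟨b, hbC⟩ : centralizer ({a} : Set G))) := by
    rintro ⟨x, hx⟩
    obtain ⟨i, rfl⟩ := mem_zpowers_iff.mp hx
    obtain ⟨k, hk⟩ := hAp ⟨b, hb'⟩
    refine ⟨k, ?_⟩
    apply Subtype.ext
    apply Subtype.ext
    have hk' : b ^ p ^ k = 1 := by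
      have := congrArg Subtype.val hk
      simpa using this
    simp only [SubgroupClass.coe_pow, SubgroupClass.coe_zpow, OneMemClass.coe_one]
    rw [← zpow_natCast, ← zpow_mul, mul_comm, zpow_mul, zpow_natCast, hk', one_zpow]
  have hyo : (orderOf (⟨y, hyC⟩ : centralizer ({a} : Set G))).Coprime p := by
    have h1 : orderOf (⟨y, hyC⟩ : centralizer ({a} : Set G)) = orderOf y :=
      Subgroup.orderOf_mk y hyC
    rw [h1]
    have h2 : orderOf y ∣ Nat.card Y := by
      have := orderOf_dvd_natCard (⟨y, hyY⟩ : Y)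
      rwa [Subgroup.orderOf_mk] at this
    exact Nat.Coprime.coprime_dvd_left h2 hY
  have hcomm := Cfsg.Agent.Helper23.commute_of_isNilpotent_of_coprime
    (⟨b, hbC⟩ : centralizer ({a} : Set G)) ⟨y, hyC⟩ hbp hyo
  have := congrArg Subtype.val hcomm.eq
  simpa using this

/-- B&G Lemma 9.5 holds in minimal simple CN-groups of odd order -/
theorem scn3Uniq (hG : Cfsg.IsMinSimpleOddOrder G) (hCN : Cfsg.IsCNGroup G) :
    Cfsg.Agent.Lead.BG9.SCN3Uniq G := by
  intro q hq S A hA hA3
  haveI := hq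
  have hAp : IsPGroup q A := S.isPGroup'.to_le hA.1
  have hAab : ∀ a ∈ A, ∀ b ∈ A, a * b = b * a := by
    intro a ha b hb
    have hb' : b ∈ (S : Subgroup G) ⊓ centralizer (A : Set G) := by rw [hA.2.2]; exact hb
    exact mem_centralizer_iff.mp hb'.2 a ha
  have hA1 : ¬ Cfsg.PRankLE q 1 ↥A := fun h =>
    hA3 (Cfsg.Agent.Lead.BG8.pRankLE_mono (by norm_num) h)
  have hAnc : ¬ IsCyclic A := Cfsg.Agent.Lead.BG9.not_isCyclic_of_not_pRankLE hA1
  have hAne : A ≠ ⊥ := by
    rintro rfl
    apply hAnc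
    infer_instance
  have hAtop : A ≠ ⊤ := Cfsg.Agent.Lead.BG9.ne_top_of_commute hG hAab
  have hAC : A ≤ centralizer (A : Set G) := by
    intro a ha
    rw [mem_centralizer_iff]
    intro b hb
    exact hAab b hb a ha
  have hCtop : centralizer (A : Set G) ≠ ⊤ := by
    obtain ⟨a, haA, ha1⟩ : ∃ a ∈ A, a ≠ 1 := by
      obtain ⟨a, ha⟩ := (Subgroup.ne_bot_iff_exists_ne_one).mp hAne
      exact ⟨(a : G), a.2, fun h => ha (Subtype.ext h)⟩
    have h1 := Cfsg.Agent.Lead.TT.centralizer_singleton_ne_top hG.2.1 hAtop haA ha1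
    intro h
    apply h1
    rw [eq_top_iff, ← h]
    exact centralizer_le (by simpa using haA)
  obtain ⟨M, hM, hCM⟩ := (eq_top_or_exists_le_coatom _).resolve_left hCtop
  have hctx : Cfsg.Agent.Lead.BG9.Ctx M A q :=
    { hG := hG
      hM := hM
      hBM := hAC.trans hCM
      hBp := hAp
      hBne := hAne
      hinv := fun Y hY hAY => (inv_le_centralizer hCN hAp hAab hAnc hY hAY).trans hCM }
  exact Cfsg.Agent.Lead.BG9.inUniqueMaximal_of hM (hAC.trans hCM) hctx.unique

end Cfsg.Agent.Lead.CN
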