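import Mathlib
import Cfsg.Prelude.Def_OddOrderLocal
import Cfsg.Prelude.Def_CaseTheorems
import Cfsg.Agent.S1450
import Cfsg.Agent.Helper19.Cores
import Cfsg.Agent.Helper10.PConstrained

set_option autoImplicit false
set_option linter.unusedSectionVars false
set_option linter.unusedVariables false
set_option linter.style.haveILetI false

/-! # Three-step groups: elementary structure

In a three-step group every element of `O_p(X) A` outside `O_p(X)` is conjugate to an element of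
`A`; a solvable three-step group of odd order has `r`-rank at least three for a suitable prime `r`. -/

namespace Cfsg.Agent.Lead.CN

open Subgroup Cfsg
open scoped commutatorElement

universe u
variable {X : Type u} [Group X] [Finite X]

/-- if `a` has no fixed points on the normal subgroup `O` then the coset `O a` is the `O`-class of
`a` -/
theorem fpf_conj {O : Subgroup X} [hO : O.Normal] {a : X}
    (h : O ⊓ centralizer ({a} : Set X) = ⊥) :
    ∀ o ∈ O, ∃ o₁ ∈ O, o * a = o₁⁻¹ * a * o₁ := by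
  intro o ho
  let φ : O → O := fun o₁ =>
    ⟨(o₁ : X)⁻¹ * (a * o₁ * a⁻¹), O.mul_mem (O.inv_mem o₁.2) (hO.conj_mem _ o₁.2 a)⟩
  have hinj : Function.Injective φ := by
    intro o₁ o₂ h12
    have h12' : (o₁ : X)⁻¹ * (a * o₁ * a⁻¹) = (o₂ : X)⁻¹ * (a * o₂ * a⁻¹) :=
      congrArg Subtype.val h12
    have hmem : (o₂ : X) * (o₁ : X)⁻¹ ∈ O ⊓ centralizer ({a} : Set X) := by
      refine mem_inf.mpr ⟨O.mul_mem o₂.2 (O.inv_mem o₁.2), ?_⟩
      rw [mem_centralizer_singleton_iff]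
      calc (o₂ : X) * (o₁ : X)⁻¹ * a
          = (o₂ : X) * ((o₁ : X)⁻¹ * (a * o₁ * a⁻¹)) * a * (o₁ : X)⁻¹ := by group
        _ = (o₂ : X) * ((o₂ : X)⁻¹ * (a * o₂ * a⁻¹)) * a * (o₁ : X)⁻¹ := by rw [h12']
        _ = a * ((o₂ : X) * (o₁ : X)⁻¹) := by group
    rw [h, mem_bot] at hmem
    apply Subtype.ext
    have := mul_inv_eq_one.mp hmem
    exact this.symm
  have hsurj := Finite.surjective_of_injective hinj
  obtain ⟨o₁, ho₁⟩ := hsurj ⟨o, ho⟩
  refine ⟨o₁, o₁.2, ?_⟩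
  have h1 : (o₁ : X)⁻¹ * (a * o₁ * a⁻¹) = o := congrArg Subtype.val ho₁
  rw [← h1]
  group

/-- elements of `O A` outside `O` are `O`-conjugate to elements of `A` -/
theorem exists_conj_of_mem_sup {O A : Subgroup X} [hO : O.Normal]
    (hfr : ∀ a ∈ A, a ≠ 1 → O ⊓ centralizer ({a} : Set X) = ⊥) {c : X} (hc : c ∈ O ⊔ A)
    (hcO : c ∉ O) : ∃ a ∈ A, a ≠ 1 ∧ ∃ o₁ ∈ O, c = o₁⁻¹ * a * o₁ := by
  have hc' : c ∈ ((O ⊔ A : Subgroup X) : Set X) := hc
  rw [Subgroup.normal_mul] at hc'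
  obtain ⟨o, ho, a, ha, rfl⟩ := Set.mem_mul.mp hc'
  have ha1 : a ≠ 1 := by
    rintro rfl
    apply hcO
    simpa using ho
  obtain ⟨o₁, ho₁, h⟩ := fpf_conj (hfr a ha ha1) o ho
  exact ⟨a, ha, ha1, o₁, ho₁, h⟩

/-- fixed-point-freeness is inherited by conjugates -/
theorem inf_centralizer_conj {O : Subgroup X} [hO : O.Normal] {a o₁ : X}
    (h : O ⊓ centralizer ({a} : Set X) = ⊥) :
    O ⊓ centralizer ({o₁⁻¹ * a * o₁} : Set X) = ⊥ := by
  rw [eq_bot_iff]
  intro y hy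
  obtain ⟨hyO, hyC⟩ := mem_inf.mp hy
  rw [mem_centralizer_singleton_iff] at hyC
  have hmem : o₁ * y * o₁⁻¹ ∈ O ⊓ centralizer ({a} : Set X) := by
    refine mem_inf.mpr ⟨hO.conj_mem y hyO o₁, ?_⟩
    rw [mem_centralizer_singleton_iff]
    calc o₁ * y * o₁⁻¹ * a = o₁ * (y * (o₁⁻¹ * a * o₁)) * o₁⁻¹ := by group
      _ = o₁ * ((o₁⁻¹ * a * o₁) * y) * o₁⁻¹ := by rw [hyC]
      _ = a * (o₁ * y * o₁⁻¹) := by group
  rw [h, mem_bot] at hmem
  rw [mem_bot]
  calc y = o₁⁻¹ * (o₁ * y * o₁⁻¹) * o₁ := by group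
    _ = 1 := by rw [hmem]; group

theorem orderOf_conj' (a o₁ : X) : orderOf (o₁⁻¹ * a * o₁) = orderOf a := by
  have := (MulAut.conj (o₁⁻¹ : X)).orderOf_eq a
  simpa [MulAut.conj_apply] using this

/-- a nontrivial normal subgroup of a solvable group contains a nontrivial abelian normal
subgroup -/
theorem exists_normal_abelian [hs : Group.IsSolvable X] {N : Subgroup X} [hN : N.Normal]
    (hN1 : N ≠ ⊥) :
    ∃ W : Subgroup X, W.Normal ∧ W ≤ N ∧ W ≠ ⊥ ∧ ∀ a ∈ W, ∀ b ∈ W, a * b = b * a := by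
  classical
  obtain ⟨m, hm⟩ := hs.solvable
  have hex : ∃ i, derivedSeries X i ⊓ N = ⊥ := ⟨m, by rw [hm]; exact bot_inf_eq _⟩
  have hj0 : Nat.find hex ≠ 0 := by
    intro h0
    have := Nat.find_spec hex
    rw [h0, derivedSeries_zero, top_inf_eq] at this
    exact hN1 this
  obtain ⟨i, hi⟩ := Nat.exists_eq_succ_of_ne_zero hj0
  have hi1 : derivedSeries X i ⊓ N ≠ ⊥ := Nat.find_min hex (by omega)
  have hi2 : derivedSeries X (i + 1) ⊓ N = ⊥ := by
    have := Nat.find_spec hex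
    rwa [hi] at this
  refine ⟨derivedSeries X i ⊓ N, inferInstance, inf_le_right, hi1, ?_⟩
  intro a ha b hb
  have h1 : ⁅a, b⁆ ∈ derivedSeries X (i + 1) := by
    rw [derivedSeries_succ]
    exact Subgroup.commutator_mem_commutator ha.1 hb.1
  have h2 : ⁅a, b⁆ ∈ N := by
    rw [commutatorElement_def]
    have : a * b * a⁻¹ * b⁻¹ = a * (b * a⁻¹ * b⁻¹) := by group
    rw [this]
    exact N.mul_mem ha.2 (hN.conj_mem _ (N.inv_mem ha.2) b)
  have h3 : ⁅a, b⁆ ∈ derivedSeries X (i + 1) ⊓ N := ⟨h1, h2⟩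
  rw [hi2, mem_bot] at h3
  exact (commutatorElement_eq_one_iff_commute.mp h3).eq

/-- the elements of order dividing `r` in an abelian normal subgroup -/
def omegaR (W : Subgroup X) (hW : ∀ a ∈ W, ∀ b ∈ W, a * b = b * a) (r : ℕ) : Subgroup X where
  carrier := {x | x ∈ W ∧ x ^ r = 1}
  mul_mem' := by
    rintro a b ⟨ha, ha'⟩ ⟨hb, hb'⟩
    refine ⟨W.mul_mem ha hb, ?_⟩
    have hc : Commute a b := hW a ha b hb
    rw [hc.mul_pow, ha', hb', one_mul]
  one_mem' := ⟨W.one_mem, one_pow _⟩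
  inv_mem' := by
    rintro a ⟨ha, ha'⟩
    exact ⟨W.inv_mem ha, by rw [inv_pow, ha', inv_one]⟩

/-- a nontrivial normal `n`-subgroup (any `n`) of a solvable group contains a nontrivial normal
`r`-subgroup for some prime `r ∣ n` -/
theorem exists_normal_rgroup [hs : Group.IsSolvable X] {n : ℕ} {N : Subgroup X} [hN : N.Normal]
    (hN1 : N ≠ ⊥) (hNn : IsPGroup n N) :
    ∃ r : ℕ, r.Prime ∧ r ∣ n ∧ ∃ U : Subgroup X, U.Normal ∧ U ≤ N ∧ U ≠ ⊥ ∧ IsPGroup r U := by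
  obtain ⟨W, hWn, hWN, hW1, hWab⟩ := exists_normal_abelian hN1
  have hcard : Nat.card W ≠ 1 := by
    intro h
    exact hW1 (Subgroup.card_eq_one.mp h)
  obtain ⟨r, hr, hrW⟩ := Nat.exists_prime_and_dvd hcard
  haveI : Fact r.Prime := ⟨hr⟩
  obtain ⟨w, hw⟩ := exists_prime_orderOf_dvd_card' r hrW
  have hw' : orderOf (w : X) = r := by rw [Subgroup.orderOf_coe, hw]
  have hrn : r ∣ n := by
    obtain ⟨k, hk⟩ := hNn ⟨(w : X), hWN w.2⟩
    have hk' : (w : X) ^ n ^ k = 1 := by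
      have := congrArg Subtype.val hk
      simpa using this
    have := orderOf_dvd_of_pow_eq_one hk'
    rw [hw'] at this
    exact hr.dvd_of_dvd_pow this
  refine ⟨r, hr, hrn, omegaR W hWab r, ?_, ?_, ?_, ?_⟩
  · constructor
    rintro x ⟨hx, hx'⟩ g
    refine ⟨hWn.conj_mem x hx g, ?_⟩
    rw [conj_pow, hx', mul_one, mul_inv_cancel]
  · rintro x ⟨hx, -⟩
    exact hWN hx
  · intro h
    have hmem : (w : X) ∈ omegaR W hWab r := ⟨w.2, by rw [← hw', pow_orderOf_eq_one]⟩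
    rw [h, mem_bot] at hmem
    rw [hmem, orderOf_one] at hw'
    exact hr.one_lt.ne hw'
  · rintro ⟨x, hx, hx'⟩
    refine ⟨1, ?_⟩
    apply Subtype.ext
    simpa using hx'

/-- the data extracted from a solvable three-step group of odd order -/
theorem threeStep_data [hs : Group.IsSolvable X] (hodd : Odd (Nat.card X)) {n : ℕ}
    (h3 : Cfsg.IsThreeStepGroup n X) :
    ∃ r : ℕ, r.Prime ∧ ∃ (U : Subgroup X) (c : X), U.Normal ∧ U ≠ ⊥ ∧ IsPGroup r U ∧
      (orderOf c).Coprime r ∧ c ∈ commutator X ∧ U ⊓ centralizer ({c} : Set X) = ⊥ ∧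
      ¬ Cfsg.PRankLE r 2 X := by
  obtain ⟨hO1, A, hA1, hAc, hAodd, hAn, hN, hT, ⟨k, hk⟩, hfr, hfr2⟩ := h3
  set O := Cfsg.pCore n X with hOdef
  haveI hOn : O.Normal := Cfsg.pCore_normal n X
  -- a nontrivial normal n-subgroup inside O
  obtain ⟨N, hNmem, hN1⟩ : ∃ N ∈ {N : Subgroup X | N.Normal ∧ IsPGroup n N}, N ≠ ⊥ := by
    by_contra hcon
    push Not at hcon
    apply hO1
    rw [hOdef]
    unfold Cfsg.pCore
    rw [eq_bot_iff]
    apply sSup_le
    intro N hN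
    rw [hcon N hN]
  have hNO : N ≤ O := le_sSup hNmem
  haveI := hNmem.1
  obtain ⟨r, hr, hrn, U, hUn, hUN, hU1, hUr⟩ := exists_normal_rgroup hN1 hNmem.2
  haveI : Fact r.Prime := ⟨hr⟩
  -- the element c
  obtain ⟨x, hx⟩ : ∃ x, x ∉ O ⊔ A := by
    by_contra hcon
    push Not at hcon
    exact hT (eq_top_iff.mpr (fun x _ => hcon x))
  obtain ⟨a, ha⟩ : ∃ a : X, a ∈ A ∧ a ≠ 1 := by
    obtain ⟨a, ha⟩ := (Subgroup.ne_bot_iff_exists_ne_one).mp hA1
    exact ⟨(a : X), a.2, fun h => ha (Subtype.ext h)⟩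
  set c := x * a * x⁻¹ * a⁻¹ with hc
  have hcO : c ∉ O := hfr2 x hx a ha.1 ha.2
  have haX1 : a ∈ O ⊔ A := (le_sup_right : A ≤ O ⊔ A) ha.1
  have hcX1 : c ∈ O ⊔ A := (O ⊔ A).mul_mem (hN.conj_mem a haX1 x) ((O ⊔ A).inv_mem haX1)
  obtain ⟨a', ha', ha'1, o₁, ho₁, hco⟩ := exists_conj_of_mem_sup hfr hcX1 hcO
  have hcent : O ⊓ centralizer ({c} : Set X) = ⊥ := by
    rw [hco]
    exact inf_centralizer_conj (hfr a' ha' ha'1)
  have hord : (orderOf c).Coprime r := by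
    rw [hco, orderOf_conj']
    have h1 : orderOf a' ∣ Nat.card A := by
      have := orderOf_dvd_natCard (⟨a', ha'⟩ : A)
      rwa [Subgroup.orderOf_mk] at this
    exact Nat.Coprime.coprime_dvd_left h1 (Nat.Coprime.coprime_dvd_right hrn hAn)
  have hccomm : c ∈ commutator X := by
    rw [commutator_def]
    have : c = ⁅x, a⁆ := by rw [commutatorElement_def]
    rw [this]
    exact Subgroup.commutator_mem_commutator (mem_top x) (mem_top a)
  have hUc : U ⊓ centralizer ({c} : Set X) = ⊥ := by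
    rw [eq_bot_iff, ← hcent]
    exact inf_le_inf_right _ (hUN.trans hNO)
  refine ⟨r, hr, U, c, hUn, hU1, hUr, hord, hccomm, hUc, ?_⟩
  -- rank
  intro hrk
  have hrU : r ∣ Nat.card U := by
    obtain ⟨j, hj⟩ := IsPGroup.iff_card.mp hUr
    have hj0 : j ≠ 0 := by
      rintro rfl
      rw [pow_zero] at hj
      exact hU1 (Subgroup.card_eq_one.mp hj)
    rw [hj]
    exact dvd_pow_self r hj0
  have hrX : r ∣ Nat.card X := hrU.trans (Subgroup.card_subgroup_dvd_card U)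
  obtain ⟨-, -, -, -, hcomm, -⟩ := Cfsg.Agent.S1450.result hodd r hrX hrk
  have hcL : c ∈ Cfsg.pPrimePCore r X := hcomm hccomm
  -- c ∈ O_{r'}
  have hcK : c ∈ Cfsg.pPrimeCore r X := by
    unfold Cfsg.pPrimePCore at hcL
    rw [Subgroup.mem_comap] at hcL
    have hpg : IsPGroup r (Cfsg.pCore r (X ⧸ Cfsg.pPrimeCore r X)) :=
      Cfsg.Agent.Helper19.pCore_isPGroup r
    obtain ⟨j, hj⟩ := hpg ⟨_, hcL⟩
    have hj' : (QuotientGroup.mk' (Cfsg.pPrimeCore r X) c) ^ r ^ j = 1 := by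
      have := congrArg Subtype.val hj
      simpa using this
    have h1 : orderOf (QuotientGroup.mk' (Cfsg.pPrimeCore r X) c) ∣ r ^ j :=
      orderOf_dvd_of_pow_eq_one hj'
    have h2 : orderOf (QuotientGroup.mk' (Cfsg.pPrimeCore r X) c) ∣ orderOf c :=
      orderOf_map_dvd _ c
    have h3 : orderOf (QuotientGroup.mk' (Cfsg.pPrimeCore r X) c) = 1 :=
      Nat.Coprime.eq_one_of_dvd (Nat.Coprime.coprime_dvd_left h2 (hord.pow_right j)) h1
    rw [orderOf_eq_one_iff] at h3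
    exact (QuotientGroup.eq_one_iff c).mp h3
  -- c centralizes U
  have hdisj : Disjoint U (Cfsg.pPrimeCore r X) := by
    apply Subgroup.disjoint_of_coprime_natCard
    obtain ⟨j, hj⟩ := IsPGroup.iff_card.mp hUr
    rw [hj]
    exact (Nat.Coprime.pow_right j (Cfsg.Agent.Helper19.pPrimeCore_coprime (G := X) r)).symm
  have hUle : U ≤ centralizer ({c} : Set X) := by
    intro u hu
    rw [mem_centralizer_singleton_iff]
    exact (Subgroup.commute_of_normal_of_disjoint U _ hUn inferInstance hdisj u c hu hcK).eq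
  apply hU1
  rw [eq_bot_iff, ← hUc]
  exact le_inf le_rfl hUle

end Cfsg.Agent.Lead.CN
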