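import Mathlib
import Cfsg.Prelude.Def_OddOrderLocal
import Cfsg.Prelude.Def_Solvable
import Cfsg.Agent.Lead.CN2
import Cfsg.Agent.Lead.Fpf5
import Cfsg.Agent.Lead.GenCent
import Cfsg.Agent.Lead.BG9a
import Cfsg.Agent.Helper23.NilpotentElts

set_option autoImplicit false
set_option linter.unusedSectionVars false
set_option linter.unusedVariables false
set_option linter.style.haveILetI false

/-! # The three alternatives for a maximal subgroup of a CN-group -/

namespace Cfsg.Agent.Lead.CN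

open Subgroup Cfsg
open scoped commutatorElement Pointwise

universe u
variable {Y : Type u} [Group Y] [Finite Y]

/-- in a group whose commutator subgroup lies in a nilpotent subgroup, an `r'`-element and an
`r`-element of the commutator subgroup commute -/
theorem final_kill {T : Subgroup Y} [hTn : Group.IsNilpotent T] (hT : commutator Y ≤ T) {r : ℕ}
    [hr : Fact r.Prime] {c d : Y} (hc : c ∈ commutator Y) (hd : d ∈ commutator Y)
    (hco : (orderOf c).Coprime r) (hdo : ∃ j : ℕ, d ^ r ^ j = 1) : c * d = d * c := by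
  obtain ⟨j, hj⟩ := hdo
  have hdp : IsPGroup r (zpowers (⟨d, hT hd⟩ : T)) := by
    have h1 : orderOf (⟨d, hT hd⟩ : T) ∣ r ^ j := by
      rw [Subgroup.orderOf_mk]
      exact orderOf_dvd_of_pow_eq_one hj
    obtain ⟨i, -, hi⟩ := (Nat.dvd_prime_pow hr.out).mp h1
    apply IsPGroup.of_card (n := i)
    rw [Nat.card_zpowers, hi]
  have hco' : (orderOf (⟨c, hT hc⟩ : T)).Coprime r := by
    rw [Subgroup.orderOf_mk]
    exact hco
  have := Cfsg.Agent.Helper23.commute_of_isNilpotent_of_coprime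
    (⟨d, hT hd⟩ : T) ⟨c, hT hc⟩ hdp hco'
  have h2 := congrArg Subtype.val this.eq
  simpa using h2.symm

/-- the quaternion alternative is impossible in a group of odd order -/
theorem no_quaternion (hodd : Odd (Nat.card Y)) (Q : Subgroup Y) (n : ℕ)
    (h : Nonempty (↥Q ≃* QuaternionGroup (2 ^ n))) : False := by
  obtain ⟨e⟩ := h
  have h1 : (4 : ℕ) ∣ Nat.card (QuaternionGroup (2 ^ n)) := by
    have := orderOf_dvd_natCard (QuaternionGroup.xa (0 : ZMod (2 * 2 ^ n)))
    rwa [QuaternionGroup.orderOf_xa] at this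
  rw [← Nat.card_congr e.toEquiv] at h1
  have h2 : 4 ∣ Nat.card Y := h1.trans (Subgroup.card_subgroup_dvd_card Q)
  rcases hodd with ⟨m, hm⟩
  omega

/-- a Frobenius group with cyclic complement: the kernel is nilpotent and contains the
commutator subgroup -/
theorem frob_kernel_facts {K E : Subgroup Y} (hKn : K.Normal) (hKE : Subgroup.IsComplement' K E)
    (hE : Cfsg.IsFrobeniusComplement E) (hcyc : IsCyclic E) :
    Group.IsNilpotent K ∧ commutator Y ≤ K := by
  haveI := hKn
  constructor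
  · -- Thompson
    have hE1 : Nat.card E ≠ 1 := fun h => hE.1 (Subgroup.card_eq_one.mp h)
    obtain ⟨r, hr, hrE⟩ := Nat.exists_prime_and_dvd hE1
    haveI : Fact r.Prime := ⟨hr⟩
    obtain ⟨h, hh⟩ := exists_prime_orderOf_dvd_card' r hrE
    have hh1 : (h : Y) ≠ 1 := by
      intro h0
      have h1 : h = 1 := Subtype.ext h0
      rw [h1, orderOf_one] at hh
      exact hr.one_lt.ne hh
    have hhr : (h : Y) ^ r = 1 := by
      have h1 : h ^ r = 1 := by rw [← hh]; exact pow_orderOf_eq_one h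
      have := congrArg Subtype.val h1
      simpa using this
    set φ : K ≃* K := MulAut.conjNormal (h : Y) with hφ
    have hfpf : ∀ n : K, φ n = n → n = 1 := by
      intro n hn
      have h1 : (h : Y) * n * (h : Y)⁻¹ = n := by
        have := congrArg Subtype.val hn
        rwa [hφ, MulAut.conjNormal_apply] at this
      by_contra hn1
      have hnE : (n : Y) ∉ E := by
        intro hnE
        have : (n : Y) ∈ K ⊓ E := mem_inf.mpr ⟨n.2, hnE⟩
        rw [hKE.disjoint.eq_bot, mem_bot] at this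
        exact hn1 (Subtype.ext this)
      have h2 := hE.2.2 (n : Y) hnE
      have h3 : (h : Y) ∈ E ⊓ (MulAut.conj (n : Y) • E) := by
        refine mem_inf.mpr ⟨h.2, ?_⟩
        rw [Subgroup.mem_pointwise_smul_iff_inv_smul_mem]
        have : (MulAut.conj (n : Y))⁻¹ • (h : Y) = (h : Y) := by
          rw [← map_inv, MulAut.smul_def, MulAut.conj_apply]
          calc (n : Y)⁻¹ * h * (n : Y)⁻¹⁻¹ = (n : Y)⁻¹ * ((h : Y) * n * (h : Y)⁻¹) * h := by
                group
            _ = (n : Y)⁻¹ * n * h := by rw [h1]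
            _ = h := by group
        rw [this]
        exact h.2
      rw [h2, mem_bot] at h3
      exact hh1 h3
    have hpow : ∀ n : K, φ^[r] n = n := by
      intro n
      rw [← Cfsg.Agent.Lead.Fpf.mulAut_pow_apply, hφ, ← map_pow, hhr, map_one]
      rfl
    exact Cfsg.Agent.Lead.Fpf.nilpotent_of_fpfAut hr _ K φ rfl ⟨hfpf, hpow⟩
  · rw [_root_.commutator_def, Subgroup.commutator_le]
    intro a _ b _
    have hdec : ∀ g : Y, ∃ k ∈ K, ∃ e ∈ E, g = k * e := by
      intro g
      have hg : g ∈ ((K ⊔ E : Subgroup Y) : Set Y) := by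
        rw [hKE.sup_eq_top]
        exact mem_top g
      rw [Subgroup.normal_mul] at hg
      obtain ⟨k, hk, e, he, rfl⟩ := Set.mem_mul.mp hg
      exact ⟨k, hk, e, he, rfl⟩
    obtain ⟨k₁, hk₁, e₁, he₁, rfl⟩ := hdec a
    obtain ⟨k₂, hk₂, e₂, he₂, rfl⟩ := hdec b
    have hcomm : e₁ * e₂ = e₂ * e₁ := by
      obtain ⟨g, hg⟩ := hcyc.exists_generator
      obtain ⟨i, hi⟩ := mem_zpowers_iff.mp (hg ⟨e₁, he₁⟩)
      obtain ⟨j, hj⟩ := mem_zpowers_iff.mp (hg ⟨e₂, he₂⟩)
      have hi' : e₁ = (g : Y) ^ i := by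
        have := congrArg Subtype.val hi
        simpa using this.symm
      have hj' : e₂ = (g : Y) ^ j := by
        have := congrArg Subtype.val hj
        simpa using this.symm
      rw [hi', hj', ← zpow_add, ← zpow_add, add_comm]
    rw [← QuotientGroup.eq_one_iff, commutatorElement_def]
    have hk₁' : ((k₁ : Y) : Y ⧸ K) = 1 := (QuotientGroup.eq_one_iff k₁).mpr hk₁
    have hk₂' : ((k₂ : Y) : Y ⧸ K) = 1 := (QuotientGroup.eq_one_iff k₂).mpr hk₂
    have hcomm' : ((e₁ : Y) : Y ⧸ K) * ((e₂ : Y) : Y ⧸ K) = ((e₂ : Y) : Y ⧸ K) * ((e₁ : Y) : Y ⧸ K) := by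
      rw [← QuotientGroup.mk_mul, ← QuotientGroup.mk_mul, hcomm]
    simp only [QuotientGroup.mk_mul, QuotientGroup.mk_inv, hk₁', hk₂', one_mul]
    rw [hcomm']
    group

/-- in a three-step group for the prime `p'`, a noncyclic abelian `r`-subgroup forces `p' = r` -/
theorem threeStep_prime_eq {p' : ℕ} [hp' : Fact p'.Prime] (h3 : Cfsg.IsThreeStepGroup p' Y)
    {r : ℕ} [hr : Fact r.Prime] (F : Subgroup Y) [hFc : IsMulCommutative F] (hFnc : ¬ IsCyclic F)
    (hFr : IsPGroup r F) : p' = r := by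
  by_contra hne
  obtain ⟨hO1, A, hA1, hAc, hAodd, hAn, hN, hT, ⟨k, hk⟩, hfr, hfr2⟩ := h3
  set O := Cfsg.pCore p' Y with hOdef
  haveI hOn : O.Normal := Cfsg.pCore_normal p' Y
  have hOp : IsPGroup p' O := Cfsg.Agent.Helper19.pCore_isPGroup p'
  have hcop : Nat.Coprime p' r := (Nat.coprime_primes hp'.out hr.out).mpr hne
  haveI := hN
  have hFle : F ≤ O ⊔ A := by
    apply Cfsg.Agent.Lead.BG9.le_of_isPGroup_of_index_coprime hFr
    rw [hk]
    exact Nat.Coprime.pow_left k hcop
  have hcards : (Nat.card F).Coprime (Nat.card O) := by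
    obtain ⟨i, hi⟩ := IsPGroup.iff_card.mp hFr
    obtain ⟨j, hj⟩ := IsPGroup.iff_card.mp hOp
    rw [hi, hj]
    exact Nat.Coprime.pow i j hcop.symm
  have hgen := Cfsg.Agent.Lead.generated_by_centralizers F O hFnc
    (by rw [normalizer_eq_top]; exact le_top) hcards
  apply hO1
  rw [eq_bot_iff, ← hgen]
  apply iSup₂_le
  intro f hf
  obtain ⟨hfF, hf1⟩ := hf
  have hfO : f ∉ O := by
    intro hfO
    have hmem : f ∈ F ⊓ O := mem_inf.mpr ⟨hfF, hfO⟩
    rw [(Subgroup.disjoint_of_coprime_natCard hcards).eq_bot, mem_bot] at hmem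
    exact hf1 hmem
  obtain ⟨a, ha, ha1, o₁, ho₁, hfo⟩ := exists_conj_of_mem_sup hfr (hFle hfF) hfO
  rw [hfo, inf_centralizer_conj (hfr a ha ha1)]

end Cfsg.Agent.Lead.CN
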