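import Mathlib
import Cfsg.Prelude.Def_OddOrderLocal
import Cfsg.Agent.Lead.CN1
import Cfsg.Agent.Lead.CN2
import Cfsg.Agent.Lead.CN3
import Cfsg.Agent.Lead.CN4
import Cfsg.Agent.Lead.TT8
import Cfsg.Agent.S1476
import Cfsg.Agent.Helper23.CNGroup

set_option autoImplicit false
set_option linter.unusedSectionVars false
set_option linter.unusedVariables false
set_option linter.style.haveILetI false

/-! # No subgroup of a minimal simple CN-group of odd order is a three-step group -/

namespace Cfsg.Agent.Lead.CN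

open Subgroup Cfsg
open scoped commutatorElement Pointwise

universe u
variable {G : Type u} [Group G] [Finite G]

/-- the common end of the nilpotent and the Frobenius case -/
theorem finish {H M : Subgroup G} (hHM : H ≤ M) {r : ℕ} [hr : Fact r.Prime] {U : Subgroup H}
    (hUn : U.Normal) (hU1 : U ≠ ⊥) (hUr : IsPGroup r U) {c : H} (hord : (orderOf c).Coprime r)
    (hccomm : c ∈ commutator H) (hUc : U ⊓ centralizer ({c} : Set H) = ⊥)
    (T : Subgroup M) [hTn : Group.IsNilpotent T] (hT : commutator M ≤ T) : False := by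
  obtain ⟨u, huU, hu1⟩ : ∃ u : H, u ∈ U ∧ u ≠ 1 := by
    obtain ⟨u, hu⟩ := (Subgroup.ne_bot_iff_exists_ne_one).mp hU1
    exact ⟨(u : H), u.2, fun h => hu (Subtype.ext h)⟩
  set d : H := ⁅c, u⁆ with hd
  have hdU : d ∈ U := by
    rw [hd, commutatorElement_def]
    exact U.mul_mem (hUn.conj_mem u huU c) (U.inv_mem huU)
  have hdcomm : d ∈ commutator H := by
    rw [_root_.commutator_def]
    exact Subgroup.commutator_mem_commutator (mem_top c) (mem_top u)
  have hmap : ∀ x : H, x ∈ commutator H → Subgroup.inclusion hHM x ∈ commutator M := by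
    intro x hx
    have h1 : Subgroup.inclusion hHM x ∈ (commutator H).map (Subgroup.inclusion hHM) :=
      ⟨x, hx, rfl⟩
    rw [_root_.commutator_def, Subgroup.map_commutator] at h1
    rw [_root_.commutator_def]
    exact Subgroup.commutator_mono le_top le_top h1
  have hinj : Function.Injective (Subgroup.inclusion hHM) := Subgroup.inclusion_injective hHM
  have hord' : (orderOf (Subgroup.inclusion hHM c)).Coprime r := by
    rw [orderOf_injective _ hinj]
    exact hord
  have hdo : ∃ j : ℕ, (Subgroup.inclusion hHM d) ^ r ^ j = 1 := by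
    obtain ⟨j, hj⟩ := hUr ⟨d, hdU⟩
    refine ⟨j, ?_⟩
    have hj' : d ^ r ^ j = 1 := by
      have := congrArg Subtype.val hj
      simpa using this
    rw [← map_pow, hj', map_one]
  have hcd := final_kill hT (hmap c hccomm) (hmap d hdcomm) hord' hdo
  rw [← map_mul, ← map_mul] at hcd
  have hcd' : c * d = d * c := hinj hcd
  have hd1 : d = 1 := by
    have hmem : d ∈ U ⊓ centralizer ({c} : Set H) := by
      refine mem_inf.mpr ⟨hdU, ?_⟩
      rw [mem_centralizer_singleton_iff]
      exact hcd'.symm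
    rwa [hUc, mem_bot] at hmem
  have hcu : Commute c u := commutatorElement_eq_one_iff_commute.mp hd1
  have hmem : u ∈ U ⊓ centralizer ({c} : Set H) := by
    refine mem_inf.mpr ⟨huU, ?_⟩
    rw [mem_centralizer_singleton_iff]
    exact hcu.eq.symm
  rw [hUc, mem_bot] at hmem
  exact hu1 hmem

/-- **no three-step subgroups** -/
theorem no_threeStep (hG : Cfsg.IsMinSimpleOddOrder G) (hCN : Cfsg.IsCNGroup G)
    (H : Subgroup G) (n : ℕ) : ¬ Cfsg.IsThreeStepGroup n ↥H := by
  intro h3
  haveI := hG.2.1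
  have hHtop : H ≠ ⊤ := by
    rintro rfl
    haveI : IsSimpleGroup (⊤ : Subgroup G) := Subgroup.topEquiv.isSimpleGroup
    obtain ⟨hO1, A, hA1, hAc, hAodd, hAn, hN, hT, -⟩ := h3
    rcases hN.eq_bot_or_eq_top with h | h
    · apply hO1
      rw [eq_bot_iff, ← h]
      exact le_sup_left
    · exact hT h
  haveI : Group.IsSolvable H := hG.2.2.2 H hHtop
  have hoddH : Odd (Nat.card H) := hG.1.of_dvd_nat (Subgroup.card_subgroup_dvd_card H)
  obtain ⟨r, hr, U, c, hUn, hU1, hUr, hord, hccomm, hUc, hrk⟩ := threeStep_data hoddH h3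
  haveI : Fact r.Prime := ⟨hr⟩
  obtain ⟨F, hFH, hFe, hFc⟩ := Cfsg.Agent.Lead.TT.exists_elementary_of_not_pRankLE' 2 H hrk
  obtain ⟨M, ⟨hM, hFM⟩, huniq⟩ :=
    Cfsg.Agent.Lead.BG9.uniq_of_elementary_cube hG (scn3Uniq hG hCN) hFe hFc
  -- `H ≤ M`
  have hHM : H ≤ M := by
    obtain ⟨L, hL, hHL⟩ := (eq_top_or_exists_le_coatom H).resolve_left hHtop
    have hLM : L = M := huniq L ⟨hL, hFH.trans hHL⟩
    rw [← hLM]
    exact hHL
  haveI : Group.IsSolvable M := hG.2.2.2 M hM.1
  have hoddM : Odd (Nat.card M) := hG.1.of_dvd_nat (Subgroup.card_subgroup_dvd_card M)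
  have hCNM := Cfsg.Agent.Helper23.isCNGroup_subgroup hCN M
  rcases Cfsg.Agent.S1476.result hCNM with hnil | ⟨K, E, hKn, hKE, hE, hcyc | hquat⟩ |
    ⟨p', hp', h3'⟩
  · -- nilpotent
    haveI : Group.IsNilpotent (⊤ : Subgroup M) :=
      (Group.isNilpotent_congr Subgroup.topEquiv).mpr hnil
    exact finish hHM hUn hU1 hUr hord hccomm hUc (⊤ : Subgroup M) le_top
  · -- Frobenius with cyclic complement
    obtain ⟨hKnil, hKc⟩ := frob_kernel_facts hKn hKE hE hcyc
    exact finish hHM hUn hU1 hUr hord hccomm hUc K hKc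
  · obtain ⟨C, Q, -, -, -, -, n', hn'⟩ := hquat
    exact no_quaternion hoddM Q n' hn'
  · -- three-step
    haveI : Fact p'.Prime := ⟨hp'⟩
    have hFp : IsPGroup r F := Cfsg.Agent.Helper14.isPGroup_of_isElementaryAbelian hFe
    have hFnc : ¬ IsCyclic F := by
      apply Cfsg.Agent.Lead.BG9.not_isCyclic_of_sq_le hFe
      have h23 : r ^ 2 ≤ r ^ (2 + 1) := Nat.pow_le_pow_right hr.pos (by norm_num)
      exact h23.trans hFc
    -- transport `F` to `M`
    have hFM' : IsPGroup r (F.subgroupOf M) := hFp.comap_subtype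
    haveI : IsMulCommutative (F.subgroupOf M) := by
      refine ⟨⟨fun a b => ?_⟩⟩
      have := hFe.1.is_comm.comm (⟨(a : M), a.2⟩ : F) ⟨(b : M), b.2⟩
      apply Subtype.ext
      apply Subtype.ext
      have h2 : ((a : M) : G) * ((b : M) : G) = ((b : M) : G) * ((a : M) : G) :=
        congrArg Subtype.val this
      simpa using h2
    have hFnc' : ¬ IsCyclic (F.subgroupOf M) := by
      intro h
      apply hFnc
      exact (Subgroup.subgroupOfEquivOfLe hFM).isCyclic.mp h
    have hpr : p' = r := threeStep_prime_eq h3' (F.subgroupOf M) hFnc' hFM'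
    subst hpr
    -- a Sylow subgroup containing `F`
    obtain ⟨P, hFP⟩ := hFp.exists_le_sylow
    have hPtop : (P : Subgroup G) ≠ ⊤ := by
      intro h
      have hnil : Group.IsNilpotent G := by
        have : IsPGroup p' G := by
          intro g
          obtain ⟨k, hk⟩ := P.isPGroup' ⟨g, by rw [h]; exact mem_top g⟩
          refine ⟨k, ?_⟩
          have := congrArg Subtype.val hk
          simpa using this
        exact this.isNilpotent
      haveI := hnil
      have hsolv : Group.IsSolvable G := inferInstance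
      exact hG.2.2.1 ⟨⟨IsSimpleGroup.comm_iff_isSolvable.mpr hsolv⟩⟩
    have hPM : (P : Subgroup G) ≤ M := by
      obtain ⟨L, hL, hPL⟩ := (eq_top_or_exists_le_coatom (P : Subgroup G)).resolve_left hPtop
      have hLM : L = M := huniq L ⟨hL, hFP.trans hPL⟩
      rw [← hLM]
      exact hPL
    have hP1 : (P : Subgroup G) ≠ ⊥ := by
      intro h
      rw [h] at hFP
      have : F = ⊥ := le_bot_iff.mp hFP
      apply hFnc
      rw [this]
      infer_instance
    have hW1 := Cfsg.Agent.Lead.BG9.W_ne_bot P.isPGroup' hP1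
    have hWtop : Cfsg.centerThompsonOf p' (P : Subgroup G) ≠ ⊤ := by
      intro h
      apply hPtop
      rw [eq_top_iff, ← h]
      exact Cfsg.Agent.Lead.BG9.W_le _
    have hNtop := Cfsg.Agent.Lead.TT.normalizer_ne_top_of_simple hG.2.1 hW1 hWtop
    have hPN : (P : Subgroup G) ≤ normalizer (Cfsg.centerThompsonOf p' (P : Subgroup G) : Set G) :=
      le_normalizer.trans (Cfsg.Agent.Lead.BG9.normalizer_le_normalizer_W _)
    have hNM : normalizer (Cfsg.centerThompsonOf p' (P : Subgroup G) : Set G) ≤ M := by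
      obtain ⟨L, hL, hNL⟩ := (eq_top_or_exists_le_coatom _).resolve_left hNtop
      have hLM : L = M := huniq L ⟨hL, (hFP.trans hPN).trans hNL⟩
      rw [← hLM]
      exact hNL
    obtain ⟨hO1, A, hA1, hAc, hAodd, hAn, hN, hT, hidx, -⟩ := h3'
    haveI := hN
    exact no_normal_rpower_index hG.1 hG.2.1 hG.2.2.1 P hPM hNM _ hT hidx

end Cfsg.Agent.Lead.CN
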