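import Mathlib
import Cfsg.Agent.Lead.NilpMax1

set_option autoImplicit false
set_option linter.style.haveILetI false
set_option linter.unusedSectionVars false

/-!
# Groups with a nilpotent maximal subgroup of odd order are solvable (Thompson)
-/

namespace Cfsg.Agent.Lead.NilpMax

open Subgroup
open Cfsg.Agent.Lead.TNC

universe u

variable {G : Type u} [Group G]

theorem solvable_of_caseB [Finite G] {M : Subgroup G} (hM : IsCoatom M)
    (hnil : Group.IsNilpotent M) (hodd : Odd (Nat.card M))
    (hB : ∀ X : Subgroup G, X.Normal → X ≤ M → X = ⊥) : Group.IsSolvable G := by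
  classical
  set K : Subgroup G := ⨅ p ∈ (Nat.card M).primeFactors, Cfsg.pResidual p G with hK
  have hKn : K.Normal := by
    apply Subgroup.normal_iInf_normal
    intro p
    apply Subgroup.normal_iInf_normal
    intro _
    exact Cfsg.Agent.Helper9.pResidual_normal p
  have hKle : ∀ p ∈ (Nat.card M).primeFactors, K ≤ Cfsg.pResidual p G := fun p hp =>
    iInf₂_le p hp
  -- `p ∤ |K|` for the primes dividing `|M|`
  have hpK : ∀ p : ℕ, p.Prime → p ∣ Nat.card M → ¬ p ∣ Nat.card K := by
    intro p hp hpM hpK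
    haveI : Fact p.Prime := ⟨hp⟩
    obtain ⟨hnpc, -⟩ := npc_of_caseB hM hnil hodd hB p hpM
    obtain ⟨S⟩ : Nonempty (Sylow p G) := inferInstance
    obtain ⟨N, hNn, hc⟩ := (Cfsg.Agent.Helper9.hasNormalPComplement_iff S).mp hnpc
    haveI := hNn
    have hNeq : N = Cfsg.pResidual p G := Cfsg.Agent.Helper9.normal_complement_eq_pResidual S N hc
    have h1 : (S : Subgroup G).index = Nat.card N := hc.index_eq_card
    have h2 : Nat.card K ∣ Nat.card N := by
      rw [hNeq]
      exact Subgroup.card_dvd_of_le (hKle p (Nat.mem_primeFactors.mpr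
        ⟨hp, hpM, Nat.card_pos.ne'⟩))
    exact S.not_dvd_index (h1 ▸ hpK.trans h2)
  have hKcop : (Nat.card K).Coprime (Nat.card M) := by
    by_contra hc
    obtain ⟨p, hp, hpK', hpM⟩ := Nat.Prime.not_coprime_iff_dvd.mp hc
    exact hpK p hp hpM hpK'
  have hKmem : ∀ g : G, (orderOf g).Coprime (Nat.card M) → g ∈ K := by
    intro g hg
    rw [hK, Subgroup.mem_iInf]
    intro p
    rw [Subgroup.mem_iInf]
    intro hp
    apply Cfsg.Agent.Helper9.mem_pResidual_of_coprime
    exact Nat.Coprime.coprime_dvd_right (Nat.dvd_of_mem_primeFactors hp) hg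
  have hKM0 : K ⊓ M = ⊥ := (Subgroup.disjoint_of_coprime_natCard hKcop).eq_bot
  -- `K M = G`
  have hKM : K ⊔ M = ⊤ := by
    by_contra hne
    have h1 : K ⊔ M = M := by
      by_contra h2
      exact hne (hM.2 _ (lt_of_le_of_ne le_sup_right (Ne.symm h2)))
    have hKleM : K ≤ M := h1 ▸ le_sup_left
    have hKbot : K = ⊥ := by
      rw [← hKM0]; exact le_antisymm (le_inf le_rfl hKleM) inf_le_left
    apply hM.1
    apply Subgroup.eq_top_of_le_card
    apply Nat.le_of_dvd Nat.card_pos
    rw [← Nat.factorization_le_iff_dvd Nat.card_pos.ne' Nat.card_pos.ne']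
    intro q
    by_cases hq : q.Prime
    · by_cases hqG : q ∣ Nat.card G
      · by_cases hqM : q ∣ Nat.card M
        · haveI : Fact q.Prime := ⟨hq⟩
          exact (npc_of_caseB hM hnil hodd hB q hqM).2.le
        · exfalso
          haveI : Fact q.Prime := ⟨hq⟩
          obtain ⟨g, hg⟩ := exists_prime_orderOf_dvd_card' q hqG
          have h2 : g ∈ K := by
            apply hKmem
            rw [hg]
            exact (Nat.Prime.coprime_iff_not_dvd hq).mpr hqM
          rw [hKbot, Subgroup.mem_bot] at h2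
          rw [h2, orderOf_one] at hg
          exact hq.one_lt.ne hg
      · rw [Nat.factorization_eq_zero_of_not_dvd hqG]
        exact Nat.zero_le _
    · rw [Nat.factorization_eq_zero_of_not_prime _ hq]
      exact Nat.zero_le _
  -- `G / K` is solvable
  haveI hMsolv : Group.IsSolvable M := inferInstance
  have hGK : Group.IsSolvable (G ⧸ K) := by
    refine Group.isSolvable_of_surjective (f := (QuotientGroup.mk' K).comp M.subtype) ?_
    intro y
    obtain ⟨g, rfl⟩ := QuotientGroup.mk'_surjective K y
    have hg : g ∈ ((K ⊔ M : Subgroup G) : Set G) := by rw [hKM]; exact Set.mem_univ g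
    haveI := hKn
    rw [Subgroup.normal_mul] at hg
    obtain ⟨k, hk, m, hm, rfl⟩ := Set.mem_mul.mp hg
    refine ⟨⟨m, hm⟩, ?_⟩
    have hk1 : (QuotientGroup.mk' K) k = 1 := (QuotientGroup.eq_one_iff k).mpr hk
    rw [MonoidHom.comp_apply, Subgroup.coe_subtype, map_mul, hk1, one_mul]
  -- `K` is a `q`-group
  have hKsolv : Group.IsSolvable K := by
    by_cases hK1 : K = ⊥
    · rw [hK1]; infer_instance
    have hKc1 : Nat.card K ≠ 1 := fun h => hK1 (Subgroup.card_eq_one.mp h)
    obtain ⟨q, hq, hqK⟩ := Nat.exists_prime_and_dvd hKc1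
    haveI : Fact q.Prime := ⟨hq⟩
    have hMK : M ≤ normalizer (K : Set G) := by
      rw [Subgroup.normalizer_eq_top_iff.mpr hKn]; exact le_top
    obtain ⟨Q, hQ⟩ := Cfsg.Agent.Lead.coprime_exists_invariant_sylow M K hMK hKcop.symm
      (Or.inl inferInstance) q
    set Q' : Subgroup G := (Q : Subgroup K).map K.subtype with hQ'
    have hQ'K : Q' ≤ K := Subgroup.map_subtype_le _
    have hQ'M : Q' ⊓ M = ⊥ := le_bot_iff.mp (hKM0 ▸ inf_le_inf_right _ hQ'K)
    have hQne : (Q : Subgroup K) ≠ ⊥ := Q.ne_bot_of_dvd_card hqK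
    have hQ'ne : Q' ≠ ⊥ := by
      intro h0
      rw [hQ', Subgroup.map_eq_bot_iff_of_injective _ K.subtype_injective] at h0
      exact hQne h0
    have hQM : Q' ⊔ M = ⊤ := by
      by_contra hne
      have h1 : Q' ⊔ M = M := by
        by_contra h2
        exact hne (hM.2 _ (lt_of_le_of_ne le_sup_right (Ne.symm h2)))
      have h2 : Q' ≤ M := h1 ▸ le_sup_left
      exact hQ'ne (le_bot_iff.mp (hQ'M ▸ le_inf le_rfl h2))
    have h1 := Cfsg.Agent.Helper17.card_sup_mul_card_inf Q' M hQ
    have h2 := Cfsg.Agent.Helper17.card_sup_mul_card_inf K M hMK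
    rw [hQM, hQ'M, Subgroup.card_bot, mul_one] at h1
    rw [hKM, hKM0, Subgroup.card_bot, mul_one] at h2
    have h3 : Nat.card Q' = Nat.card K :=
      Nat.eq_of_mul_eq_mul_right Nat.card_pos (h1.symm.trans h2)
    have h4 : Q' = K := Subgroup.eq_of_le_of_card_ge hQ'K h3.ge
    have h5 : (Q : Subgroup K) = ⊤ := by
      apply Subgroup.map_injective K.subtype_injective
      rw [← hQ', h4, ← MonoidHom.range_eq_map, Subgroup.range_subtype]
    have h6 : IsPGroup q (Q : Subgroup K) := Q.2
    rw [h5] at h6
    have h7 : IsPGroup q K := IsPGroup.of_equiv h6 Subgroup.topEquiv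
    haveI : Group.IsNilpotent K := h7.isNilpotent
    infer_instance
  exact solvable_of_normal_of_quotient K hKsolv hGK


theorem solvable_of_nilpotent_maximal_odd_aux : ∀ (n : ℕ) (G : Type u) [Group G] [Finite G],
    Nat.card G = n → ∀ M : Subgroup G, IsCoatom M → Group.IsNilpotent M → Odd (Nat.card M) →
      Group.IsSolvable G := by
  intro n
  induction n using Nat.strong_induction_on with
  | _ n ih =>
    intro G _ _ hn M hM hnil hodd
    by_cases hA : ∃ X : Subgroup G, X.Normal ∧ X ≤ M ∧ X ≠ ⊥
    · obtain ⟨X, hXn, hXM, hXne⟩ := hA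
      haveI := hXn
      have hcard : Nat.card (G ⧸ X) < n := by
        have h1 : Nat.card (G ⧸ X) * Nat.card X = Nat.card G :=
          (Subgroup.card_eq_card_quotient_mul_card_subgroup X).symm
        have h2 : 1 < Nat.card X := by
          rw [Subgroup.one_lt_card_iff_ne_bot]; exact hXne
        have h3 : 0 < Nat.card (G ⧸ X) := Nat.card_pos
        rw [← hn]
        nlinarith
      haveI : Group.IsNilpotent M := hnil
      have hnil' : Group.IsNilpotent (M.map (QuotientGroup.mk' X)) :=
        Group.nilpotent_of_surjective ((QuotientGroup.mk' X).subgroupMap M)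
          ((QuotientGroup.mk' X).subgroupMap_surjective M)
      have hodd' : Odd (Nat.card (M.map (QuotientGroup.mk' X))) :=
        Odd.of_dvd_nat hodd (Subgroup.card_map_dvd M _)
      have hsolvQ : Group.IsSolvable (G ⧸ X) :=
        ih _ hcard (G ⧸ X) rfl _ (isCoatom_map_mk' hM hXM) hnil' hodd'
      haveI : Group.IsNilpotent X := Cfsg.Agent.Helper29.nilpotent_of_le hXM hnil
      exact solvable_of_normal_of_quotient X inferInstance hsolvQ
    · push Not at hA
      refine solvable_of_caseB hM hnil hodd ?_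
      intro X hXn hXM
      exact hA X hXn hXM

/-- **Thompson**: a finite group with a nilpotent maximal subgroup of odd order is solvable. -/
theorem solvable_of_nilpotent_maximal_odd (G : Type u) [Group G] [Finite G] (M : Subgroup G)
    (hM : IsCoatom M) (hnil : Group.IsNilpotent M) (hodd : Odd (Nat.card M)) :
    Group.IsSolvable G :=
  solvable_of_nilpotent_maximal_odd_aux _ G rfl M hM hnil hodd

end Cfsg.Agent.Lead.NilpMax
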