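import Mathlib
import Cfsg.Prelude.Def_OddOrderLocal
import Cfsg.Agent.Lead.CN5
import Cfsg.Agent.Lead.NilpMax2
import Cfsg.Agent.Helper29.NilpHall
import Cfsg.Agent.Helper1.FrobeniusCompl

set_option autoImplicit false
set_option linter.unusedSectionVars false
set_option linter.unusedVariables false
set_option linter.style.haveILetI false

/-! # Proper subgroups of a minimal simple CN-group of odd order

Every proper subgroup is nilpotent or a Frobenius group with nilpotent kernel and cyclic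
complement; we record the Frobenius structure inside the ambient group. -/

namespace Cfsg.Agent.Lead.CN

open Subgroup Cfsg
open scoped commutatorElement Pointwise

universe u
variable {G : Type u} [Group G] [Finite G]

/-- `H` is a maximal nilpotent subgroup -/
def MaxNil (H : Subgroup G) : Prop :=
  Group.IsNilpotent H ∧ ∀ L : Subgroup G, Group.IsNilpotent L → H ≤ L → L = H

theorem fpf_conjN {O : Subgroup G} {a : G} (ha : a ∈ normalizer (O : Set G))
    (h : O ⊓ centralizer ({a} : Set G) = ⊥) :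
    ∀ o ∈ O, ∃ o₁ ∈ O, o * a = o₁⁻¹ * a * o₁ := by
  intro o ho
  let φ : O → O := fun o₁ =>
    ⟨(o₁ : G)⁻¹ * (a * o₁ * a⁻¹), O.mul_mem (O.inv_mem o₁.2) ((mem_normalizer_iff.mp ha _).mp o₁.2)⟩
  have hinj : Function.Injective φ := by
    intro o₁ o₂ h12
    have h12' : (o₁ : G)⁻¹ * (a * o₁ * a⁻¹) = (o₂ : G)⁻¹ * (a * o₂ * a⁻¹) :=
      congrArg Subtype.val h12
    have hmem : (o₂ : G) * (o₁ : G)⁻¹ ∈ O ⊓ centralizer ({a} : Set G) := by
      refine mem_inf.mpr ⟨O.mul_mem o₂.2 (O.inv_mem o₁.2), ?_⟩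
      rw [mem_centralizer_singleton_iff]
      calc (o₂ : G) * (o₁ : G)⁻¹ * a
          = (o₂ : G) * ((o₁ : G)⁻¹ * (a * o₁ * a⁻¹)) * a * (o₁ : G)⁻¹ := by group
        _ = (o₂ : G) * ((o₂ : G)⁻¹ * (a * o₂ * a⁻¹)) * a * (o₁ : G)⁻¹ := by rw [h12']
        _ = a * ((o₂ : G) * (o₁ : G)⁻¹) := by group
    rw [h, mem_bot] at hmem
    apply Subtype.ext
    have := mul_inv_eq_one.mp hmem
    exact this.symm
  have hsurj := Finite.surjective_of_injective hinj
  obtain ⟨o₁, ho₁⟩ := hsurj ⟨o, ho⟩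
  refine ⟨o₁, o₁.2, ?_⟩
  have h1 : (o₁ : G)⁻¹ * (a * o₁ * a⁻¹) = o := congrArg Subtype.val ho₁
  rw [← h1]
  group

theorem inf_centralizer_conjN {O : Subgroup G} {a o₁ : G} (ho₁ : o₁ ∈ normalizer (O : Set G))
    (h : O ⊓ centralizer ({a} : Set G) = ⊥) :
    O ⊓ centralizer ({o₁⁻¹ * a * o₁} : Set G) = ⊥ := by
  rw [eq_bot_iff]
  intro y hy
  obtain ⟨hyO, hyC⟩ := mem_inf.mp hy
  rw [mem_centralizer_singleton_iff] at hyC
  have hmem : o₁ * y * o₁⁻¹ ∈ O ⊓ centralizer ({a} : Set G) := by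
    refine mem_inf.mpr ⟨(mem_normalizer_iff.mp ho₁ y).mp hyO, ?_⟩
    rw [mem_centralizer_singleton_iff]
    calc o₁ * y * o₁⁻¹ * a = o₁ * (y * (o₁⁻¹ * a * o₁)) * o₁⁻¹ := by group
      _ = o₁ * ((o₁⁻¹ * a * o₁) * y) * o₁⁻¹ := by rw [hyC]
      _ = a * (o₁ * y * o₁⁻¹) := by group
  rw [h, mem_bot] at hmem
  rw [mem_bot]
  calc y = o₁⁻¹ * (o₁ * y * o₁⁻¹) * o₁ := by group
    _ = 1 := by rw [hmem]; group

/-- the Frobenius complement acts fixed-point-freely on a normal complement -/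
theorem frob_fpf_complement {Y : Type*} [Group Y] {K E : Subgroup Y} (hKE : K ⊓ E = ⊥)
    (hE : Cfsg.IsFrobeniusComplement E) :
    ∀ e ∈ E, e ≠ 1 → K ⊓ centralizer ({e} : Set Y) = ⊥ := by
  intro e he he1
  rw [eq_bot_iff]
  intro n hn
  obtain ⟨hnK, hnC⟩ := mem_inf.mp hn
  rw [mem_centralizer_singleton_iff] at hnC
  rw [mem_bot]
  by_contra hn1
  have hnE : n ∉ E := by
    intro hnE
    have : n ∈ K ⊓ E := mem_inf.mpr ⟨hnK, hnE⟩
    rw [hKE, mem_bot] at this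
    exact hn1 this
  have h2 := hE.2.2 n hnE
  have h3 : e ∈ E ⊓ (MulAut.conj n • E) := by
    refine mem_inf.mpr ⟨he, ?_⟩
    rw [Subgroup.mem_pointwise_smul_iff_inv_smul_mem]
    have : (MulAut.conj n)⁻¹ • e = e := by
      rw [← map_inv, MulAut.smul_def, MulAut.conj_apply]
      calc n⁻¹ * e * n⁻¹⁻¹ = n⁻¹ * (e * n) := by group
        _ = n⁻¹ * (n * e) := by rw [hnC]
        _ = e := by group
    rw [this]
    exact he
  rw [h2, mem_bot] at h3
  exact he1 h3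

/-- the Frobenius structure of a subgroup `X`, recorded in the ambient group -/
structure FrobIn (X K E : Subgroup G) : Prop where
  hK : K ≤ X
  hE : E ≤ X
  hnorm : X ≤ normalizer (K : Set G)
  hdisj : K ⊓ E = ⊥
  hprod : ∀ m ∈ X, ∃ k ∈ K, ∃ e ∈ E, m = k * e
  hK1 : K ≠ ⊥
  hE1 : E ≠ ⊥
  hnil : Group.IsNilpotent K
  hcyc : IsCyclic E
  hfpf : ∀ e ∈ E, e ≠ 1 → K ⊓ centralizer ({e} : Set G) = ⊥
  hcop : (Nat.card K).Coprime (Nat.card E)

namespace FrobIn

variable {X K E : Subgroup G}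

theorem exists_conj (h : FrobIn X K E) {y : G} (hy : y ∈ X) (hyK : y ∉ K) :
    ∃ e ∈ E, e ≠ 1 ∧ ∃ k₁ ∈ K, y = k₁⁻¹ * e * k₁ := by
  obtain ⟨k, hk, e, he, rfl⟩ := h.hprod y hy
  have he1 : e ≠ 1 := by
    rintro rfl
    apply hyK
    simpa using hk
  obtain ⟨k₁, hk₁, hke⟩ := fpf_conjN (h.hnorm (h.hE he)) (h.hfpf e he he1) k hk
  exact ⟨e, he, he1, k₁, hk₁, hke⟩

theorem fpf_of_not_mem (h : FrobIn X K E) {y : G} (hy : y ∈ X) (hyK : y ∉ K) :
    K ⊓ centralizer ({y} : Set G) = ⊥ := by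
  obtain ⟨e, he, he1, k₁, hk₁, rfl⟩ := h.exists_conj hy hyK
  exact inf_centralizer_conjN (h.hnorm (h.hK hk₁)) (h.hfpf e he he1)

theorem orderOf_coprime (h : FrobIn X K E) {y : G} (hy : y ∈ X) (hyK : y ∉ K) :
    (orderOf y).Coprime (Nat.card K) := by
  obtain ⟨e, he, he1, k₁, hk₁, rfl⟩ := h.exists_conj hy hyK
  rw [orderOf_conj']
  have h1 : orderOf e ∣ Nat.card E := by
    have := orderOf_dvd_natCard (⟨e, he⟩ : E)
    rwa [Subgroup.orderOf_mk] at this
  exact (Nat.Coprime.coprime_dvd_right h1 h.hcop).symm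

/-- a nilpotent subgroup of `X` containing the kernel is the kernel -/
theorem eq_of_nilpotent (h : FrobIn X K E) {L : Subgroup G} (hL : Group.IsNilpotent L)
    (hKL : K ≤ L) (hLX : L ≤ X) : L = K := by
  apply le_antisymm _ hKL
  intro y hy
  by_contra hyK
  have hK1 : Nat.card K ≠ 1 := fun hc => h.hK1 (Subgroup.card_eq_one.mp hc)
  obtain ⟨p, hp, hpK⟩ := Nat.exists_prime_and_dvd hK1
  haveI : Fact p.Prime := ⟨hp⟩
  obtain ⟨k, hk⟩ := exists_prime_orderOf_dvd_card' p hpK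
  have hk' : orderOf (k : G) = p := by rw [Subgroup.orderOf_coe, hk]
  have hcop : (orderOf (⟨(k : G), hKL k.2⟩ : L)).Coprime (orderOf (⟨y, hy⟩ : L)) := by
    rw [Subgroup.orderOf_mk, Subgroup.orderOf_mk, hk']
    exact (Nat.Coprime.coprime_dvd_right hpK (h.orderOf_coprime (hLX hy) hyK)).symm
  have hcomm := Cfsg.Agent.Helper29.commute_of_nilpotent_of_coprime_orderOf L _ _ hcop
  have hcomm' : (k : G) * y = y * k := congrArg Subtype.val hcomm.eq
  have hmem : (k : G) ∈ K ⊓ centralizer ({y} : Set G) := by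
    refine mem_inf.mpr ⟨k.2, ?_⟩
    rw [mem_centralizer_singleton_iff]
    exact hcomm'
  rw [h.fpf_of_not_mem (hLX hy) hyK, mem_bot] at hmem
  rw [hmem, orderOf_one] at hk'
  exact hp.one_lt.ne hk'

/-- commutators of elements of `X` lie in the kernel -/
theorem comm_mem (h : FrobIn X K E) {m₁ m₂ : G} (h₁ : m₁ ∈ X) (h₂ : m₂ ∈ X) :
    m₁ * m₂ * m₁⁻¹ * m₂⁻¹ ∈ K := by
  obtain ⟨k₁, hk₁, e₁, he₁, rfl⟩ := h.hprod m₁ h₁
  obtain ⟨k₂, hk₂, e₂, he₂, rfl⟩ := h.hprod m₂ h₂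
  have hcomm : e₁ * e₂ = e₂ * e₁ := by
    obtain ⟨g, hg⟩ := h.hcyc.exists_generator
    obtain ⟨i, hi⟩ := mem_zpowers_iff.mp (hg ⟨e₁, he₁⟩)
    obtain ⟨j, hj⟩ := mem_zpowers_iff.mp (hg ⟨e₂, he₂⟩)
    have hi' : e₁ = (g : G) ^ i := by
      have := congrArg Subtype.val hi
      simpa using this.symm
    have hj' : e₂ = (g : G) ^ j := by
      have := congrArg Subtype.val hj
      simpa using this.symm
    rw [hi', hj', ← zpow_add, ← zpow_add, add_comm]
  have hconj : ∀ x ∈ X, ∀ k ∈ K, x * k * x⁻¹ ∈ K := fun x hx k hk =>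
    (mem_normalizer_iff.mp (h.hnorm hx) k).mp hk
  have he₁X := h.hE he₁
  have he₂X := h.hE he₂
  have hid : k₁ * e₁ * (k₂ * e₂) * (k₁ * e₁)⁻¹ * (k₂ * e₂)⁻¹ =
      k₁ * (e₁ * k₂ * e₁⁻¹) * ((e₁ * e₂ * e₁⁻¹) * k₁⁻¹ * (e₁ * e₂ * e₁⁻¹)⁻¹) *
        (e₁ * e₂ * (e₂ * e₁)⁻¹) * k₂⁻¹ := by group
  rw [hid, hcomm, mul_inv_cancel, mul_one]
  refine K.mul_mem (K.mul_mem (K.mul_mem hk₁ (hconj e₁ he₁X k₂ hk₂)) ?_) (K.inv_mem hk₂)
  exact hconj _ (X.mul_mem (X.mul_mem he₂X he₁X) (X.inv_mem he₁X)) _ (K.inv_mem hk₁)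

end FrobIn

/-- a nonabelian simple group is not nilpotent -/
theorem not_isNilpotent (hG : Cfsg.IsMinSimpleOddOrder G) : ¬ Group.IsNilpotent G := by
  intro hnil
  haveI := hG.2.1
  haveI := hnil
  have hsolv : Group.IsSolvable G := inferInstance
  exact hG.2.2.1 ⟨⟨IsSimpleGroup.comm_iff_isSolvable.mpr hsolv⟩⟩

/-- maximal subgroups are not nilpotent (Thompson) -/
theorem coatom_not_nilpotent (hG : Cfsg.IsMinSimpleOddOrder G) {M : Subgroup G} (hM : IsCoatom M) :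
    ¬ Group.IsNilpotent M := by
  intro hnil
  haveI := hG.2.1
  have hodd : Odd (Nat.card M) := hG.1.of_dvd_nat (Subgroup.card_subgroup_dvd_card M)
  have hsolv := Cfsg.Agent.Lead.NilpMax.solvable_of_nilpotent_maximal_odd G M hM hnil hodd
  exact hG.2.2.1 ⟨⟨IsSimpleGroup.comm_iff_isSolvable.mpr hsolv⟩⟩

/-- **the structure of proper subgroups** -/
theorem proper_cases (hG : Cfsg.IsMinSimpleOddOrder G) (hCN : Cfsg.IsCNGroup G) (X : Subgroup G)
    (hX : X ≠ ⊤) : Group.IsNilpotent X ∨ ∃ K E : Subgroup G, FrobIn X K E := by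
  haveI : Group.IsSolvable X := hG.2.2.2 X hX
  have hoddX : Odd (Nat.card X) := hG.1.of_dvd_nat (Subgroup.card_subgroup_dvd_card X)
  have hCNX := Cfsg.Agent.Helper23.isCNGroup_subgroup hCN X
  rcases Cfsg.Agent.S1476.result hCNX with hnil | ⟨K₀, E₀, hKn, hKE, hE, hcyc | hquat⟩ |
    ⟨p', hp', h3'⟩
  · exact Or.inl hnil
  · right
    obtain ⟨hKnil, -⟩ := frob_kernel_facts hKn hKE hE hcyc
    have hinj := X.subtype_injective
    have hdisj₀ : K₀ ⊓ E₀ = ⊥ := hKE.disjoint.eq_bot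
    refine ⟨K₀.map X.subtype, E₀.map X.subtype, ?_⟩
    refine
      { hK := map_subtype_le _
        hE := map_subtype_le _
        hnorm := ?_
        hdisj := ?_
        hprod := ?_
        hK1 := ?_
        hE1 := ?_
        hnil := ?_
        hcyc := ?_
        hfpf := ?_
        hcop := ?_ }
    · have h1 := Subgroup.le_normalizer_map (H := K₀) X.subtype
      rw [Subgroup.normalizer_eq_top_iff.mpr hKn, ← MonoidHom.range_eq_map,
        Subgroup.range_subtype] at h1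
      exact h1
    · rw [← Subgroup.map_inf _ _ _ hinj, hdisj₀, Subgroup.map_bot]
    · intro m hm
      have hm' : (⟨m, hm⟩ : X) ∈ ((K₀ ⊔ E₀ : Subgroup X) : Set X) := by
        rw [hKE.sup_eq_top]
        exact mem_top _
      haveI := hKn
      rw [Subgroup.normal_mul] at hm'
      obtain ⟨k, hk, e, he, hke⟩ := Set.mem_mul.mp hm'
      refine ⟨(k : G), ⟨k, hk, rfl⟩, (e : G), ⟨e, he, rfl⟩, ?_⟩
      have := congrArg Subtype.val hke
      simpa using this.symm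
    · intro h0
      rw [Subgroup.map_eq_bot_iff_of_injective _ hinj] at h0
      apply hE.2.1
      have := hKE.sup_eq_top
      rwa [h0, bot_sup_eq] at this
    · intro h0
      rw [Subgroup.map_eq_bot_iff_of_injective _ hinj] at h0
      exact hE.1 h0
    · exact (Group.isNilpotent_congr (K₀.equivMapOfInjective X.subtype hinj)).mp hKnil
    · exact (E₀.equivMapOfInjective X.subtype hinj).isCyclic.mp hcyc
    · rintro _ ⟨e, he, rfl⟩ he1
      have he1' : e ≠ 1 := by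
        rintro rfl
        exact he1 rfl
      have hfpf := frob_fpf_complement hdisj₀ hE e he he1'
      rw [eq_bot_iff]
      rintro _ hy
      obtain ⟨⟨k, hk, rfl⟩, hyC⟩ := mem_inf.mp hy
      rw [mem_centralizer_singleton_iff] at hyC
      have hmem : k ∈ K₀ ⊓ centralizer ({e} : Set X) := by
        refine mem_inf.mpr ⟨hk, ?_⟩
        rw [mem_centralizer_singleton_iff]
        apply Subtype.ext
        simpa using hyC
      rw [hfpf, mem_bot] at hmem
      rw [hmem]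
      simp
    · rw [Subgroup.card_map_of_injective hinj, Subgroup.card_map_of_injective hinj,
        ← hKE.index_eq_card]
      exact (Cfsg.Agent.Helper1.frob_coprime hE).symm
  · obtain ⟨C, Q, -, -, -, -, n', hn'⟩ := hquat
    exact absurd (no_quaternion hoddX Q n' hn') id
  · exact absurd h3' (no_threeStep hG hCN X p')

end Cfsg.Agent.Lead.CN
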