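import Mathlib
import Cfsg.Prelude.Def_OddOrderLocal
import Cfsg.Agent.Lead.CN6
import Cfsg.Agent.S1477
import Cfsg.Agent.Helper11.SylowInter
import Cfsg.Agent.Helper14.Conj

set_option autoImplicit false
set_option linter.unusedSectionVars false
set_option linter.unusedVariables false
set_option linter.style.haveILetI false

/-! # Maximal nilpotent subgroups of a minimal simple CN-group of odd order are TI -/

namespace Cfsg.Agent.Lead.CN

open Subgroup Cfsg
open Cfsg.Agent.Helper14 (cj mem_map_cj map_cj_one map_cj_map_cj_inv map_cj_inv_map_cj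
  map_cj_le_iff cj_injective)
open scoped Pointwise

universe u
variable {G : Type u} [Group G] [Finite G]

theorem sylow_smul_coe {p : ℕ} (S : Sylow p G) (g : G) :
    ((g • S : Sylow p G) : Subgroup G) = (S : Subgroup G).map (cj g) := by
  ext x
  rw [mem_map_cj]
  exact Cfsg.Agent.Helper14.mem_sylow_smul S g x

theorem isNilpotent_map_cj {H : Subgroup G} (hH : Group.IsNilpotent H) (g : G) :
    Group.IsNilpotent (H.map (cj g)) :=
  (Group.isNilpotent_congr (H.equivMapOfInjective (cj g) (cj_injective g))).mp hH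

theorem MaxNil.conj {H : Subgroup G} (hH : MaxNil H) (g : G) : MaxNil (H.map (cj g)) := by
  refine ⟨isNilpotent_map_cj hH.1 g, ?_⟩
  intro L hL hHL
  have h1 : H ≤ L.map (cj g⁻¹) := by
    rw [← map_cj_le_iff]
    exact hHL
  have h2 := hH.2 _ (isNilpotent_map_cj hL g⁻¹) h1
  rw [← h2, map_cj_inv_map_cj]

theorem MaxNil.ne_bot (hG : Cfsg.IsMinSimpleOddOrder G) {H : Subgroup G} (hH : MaxNil H) :
    H ≠ ⊥ := by
  rintro rfl
  haveI := hG.2.1
  obtain ⟨g, hg⟩ := exists_ne (1 : G)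
  have hnil : Group.IsNilpotent (zpowers g) := by
    letI := IsCyclic.commGroup (α := Subgroup.zpowers g)
    infer_instance
  have := hH.2 (zpowers g) hnil bot_le
  apply hg
  have hmem : g ∈ zpowers g := mem_zpowers g
  rwa [this, mem_bot] at hmem

theorem MaxNil.ne_top (hG : Cfsg.IsMinSimpleOddOrder G) {H : Subgroup G} (hH : MaxNil H) :
    H ≠ ⊤ := by
  rintro rfl
  exact not_isNilpotent hG ((Group.isNilpotent_congr Subgroup.topEquiv).mp hH.1)

theorem exists_maxNil_ge {L : Subgroup G} (hL : Group.IsNilpotent L) :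
    ∃ H : Subgroup G, MaxNil H ∧ L ≤ H := by
  obtain ⟨H, ⟨hHn, hLH⟩, hmax⟩ := Set.exists_max_image
    {H : Subgroup G | Group.IsNilpotent H ∧ L ≤ H} (fun H => Nat.card H) (Set.toFinite _)
    ⟨L, hL, le_rfl⟩
  refine ⟨H, ⟨hHn, ?_⟩, hLH⟩
  intro L' hL' hHL'
  exact (Subgroup.eq_of_le_of_card_ge hHL' (hmax L' ⟨hL', hLH.trans hHL'⟩)).symm

theorem MaxNil.hall (hCN : Cfsg.IsCNGroup G) {H : Subgroup G} (hH : MaxNil H) :
    (Nat.card H).Coprime H.index :=
  (Cfsg.Agent.S1477.result hCN H hH.1 hH.2).1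

theorem MaxNil.centralizer_le (hCN : Cfsg.IsCNGroup G) {H : Subgroup G} (hH : MaxNil H)
    (hTI : ∀ g : G, H.map (cj g) ≠ H → H ⊓ H.map (cj g) = ⊥) :
    ∀ x ∈ H, x ≠ 1 → centralizer ({x} : Set G) ≤ H :=
  (Cfsg.Agent.S1477.result hCN H hH.1 hH.2).2.2 hTI

/-- in a nilpotent subgroup all `p`-subgroups lie in one `p`-subgroup -/
theorem nilpotent_sylow_contains {p : ℕ} [Fact p.Prime] (K : Subgroup G)
    (hK : Group.IsNilpotent K) :
    ∃ T : Subgroup G, IsPGroup p T ∧ ∀ R : Subgroup G, IsPGroup p R → R ≤ K → R ≤ T := by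
  obtain ⟨Pp⟩ : Nonempty (Sylow p K) := inferInstance
  haveI hPpn : (Pp : Subgroup K).Normal :=
    Sylow.normal_of_normalizerCondition Group.normalizerCondition_of_isNilpotent Pp
  refine ⟨(Pp : Subgroup K).map K.subtype, Pp.2.map _, ?_⟩
  intro Q hQ hQK
  have h1 : IsPGroup p (Q.subgroupOf K) := hQ.comap_subtype
  obtain ⟨S', hS'⟩ := h1.exists_le_sylow
  obtain ⟨g, rfl⟩ := MulAction.exists_smul_eq K Pp S'
  rw [Sylow.smul_eq_of_normal] at hS'
  intro x hx
  exact ⟨⟨x, hQK hx⟩, hS' (Subgroup.mem_subgroupOf.mpr hx), rfl⟩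

/-- if a maximal nilpotent subgroup is a `p`-group then centralizers of its nonidentity elements
are `p`-groups -/
theorem MaxNil.centralizer_isPGroup (hCN : Cfsg.IsCNGroup G) {H : Subgroup G} (hH : MaxNil H)
    {p : ℕ} [hp : Fact p.Prime] (hHp : IsPGroup p H) {x : G} (hx : x ∈ H) (hx1 : x ≠ 1) :
    IsPGroup p (centralizer ({x} : Set G)) := by
  haveI : Nontrivial H := ⟨⟨⟨x, hx⟩, 1, fun h => hx1 (congrArg Subtype.val h)⟩⟩
  haveI hcnt : Nontrivial (center H) := IsPGroup.center_nontrivial hHp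
  obtain ⟨z, hz⟩ := exists_ne (1 : center H)
  have hz1 : ((z : H) : G) ≠ 1 := fun h => hz (Subtype.ext (Subtype.ext h))
  have hzc : ∀ y ∈ H, y * ((z : H) : G) = ((z : H) : G) * y := by
    intro y hy
    have := (mem_center_iff.mp z.2) ⟨y, hy⟩
    exact congrArg Subtype.val this
  -- `C(z) = H`
  have hCz : centralizer ({((z : H) : G)} : Set G) = H := by
    apply hH.2 _ (hCN _ hz1)
    intro y hy
    rw [mem_centralizer_singleton_iff]
    exact hzc y hy
  set C := centralizer ({x} : Set G) with hC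
  haveI hCn : Group.IsNilpotent C := hCN x hx1
  have hzC : ((z : H) : G) ∈ C := by
    rw [hC, mem_centralizer_singleton_iff]
    exact (hzc x hx).symm
  have hcard0 : Nat.card C ≠ 0 := Nat.card_pos.ne'
  apply IsPGroup.of_card (n := (Nat.card C).primeFactorsList.length)
  apply Nat.eq_prime_pow_of_unique_prime_dvd hcard0
  intro q hq hqC
  by_contra hqp
  haveI : Fact q.Prime := ⟨hq⟩
  obtain ⟨y, hy⟩ := exists_prime_orderOf_dvd_card' q hqC
  -- orders of `z` and `y` are coprime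
  obtain ⟨k, hk⟩ := (IsPGroup.iff_orderOf.mp hHp) (z : H)
  have hzo : orderOf (⟨((z : H) : G), hzC⟩ : C) = p ^ k := by
    rw [Subgroup.orderOf_mk, Subgroup.orderOf_coe, hk]
  have hcop : (orderOf (⟨((z : H) : G), hzC⟩ : C)).Coprime (orderOf y) := by
    rw [hzo, hy]
    exact Nat.Coprime.pow_left k ((Nat.coprime_primes hp.out hq).mpr (Ne.symm hqp))
  have hcomm := Cfsg.Agent.Helper29.commute_of_nilpotent_of_coprime_orderOf C _ _ hcop
  have hcomm' : ((z : H) : G) * (y : G) = (y : G) * ((z : H) : G) := congrArg Subtype.val hcomm.eq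
  have hyH : (y : G) ∈ H := by
    rw [← hCz, mem_centralizer_singleton_iff]
    exact hcomm'.symm
  obtain ⟨j, hj⟩ := (IsPGroup.iff_orderOf.mp hHp) ⟨(y : G), hyH⟩
  rw [Subgroup.orderOf_mk, Subgroup.orderOf_coe, hy] at hj
  have hqdvd : q ∣ p ^ j := by rw [← hj]
  exact hqp ((Nat.prime_dvd_prime_iff_eq hq hp.out).mp (hq.dvd_of_dvd_pow hqdvd))

/-- a maximal nilpotent subgroup which is a `p`-group is TI -/
theorem MaxNil.ti_of_isPGroup (hG : Cfsg.IsMinSimpleOddOrder G) (hCN : Cfsg.IsCNGroup G)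
    {H : Subgroup G} (hH : MaxNil H) {p : ℕ} [hp : Fact p.Prime] (hHp : IsPGroup p H) :
    ∀ g : G, H.map (cj g) ≠ H → H ⊓ H.map (cj g) = ⊥ := by
  haveI := hG.2.1
  have hH1 := hH.ne_bot hG
  have hhall := hH.hall hCN
  have hpH : p ∣ Nat.card H := by
    obtain ⟨k, hk⟩ := IsPGroup.iff_card.mp hHp
    have hk0 : k ≠ 0 := by
      rintro rfl
      rw [pow_zero] at hk
      exact hH1 (Subgroup.card_eq_one.mp hk)
    rw [hk]
    exact dvd_pow_self p hk0
  have hidx : ¬ p ∣ H.index := by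
    intro h
    have := Nat.dvd_gcd hpH h
    rw [hhall] at this
    exact hp.out.one_lt.ne' (Nat.dvd_one.mp this)
  set P₀ : Sylow p G := hHp.toSylow hidx with hP₀def
  have hP₀ : (P₀ : Subgroup G) = H := hHp.toSylow_coe hidx
  have hconjge : ∀ T : Subgroup G, IsPGroup p T → ∃ g, T ≤ H.map (cj g) := by
    intro T hT
    obtain ⟨Q, hQ⟩ := hT.exists_le_sylow
    obtain ⟨g, hg⟩ := MulAction.exists_smul_eq G P₀ Q
    refine ⟨g, ?_⟩
    rw [← hP₀, ← sylow_smul_coe, hg]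
    exact hQ
  by_contra hcon
  push Not at hcon
  obtain ⟨g₀, hg₀, hne₀⟩ := hcon
  let 𝒮 : Set (Subgroup G × Subgroup G) :=
    {q | (∃ g, q.1 = H.map (cj g)) ∧ (∃ g, q.2 = H.map (cj g)) ∧ q.1 ≠ q.2 ∧ q.1 ⊓ q.2 ≠ ⊥}
  have h𝒮 : 𝒮.Nonempty :=
    ⟨(H, H.map (cj g₀)), ⟨1, (map_cj_one H).symm⟩, ⟨g₀, rfl⟩, hg₀.symm, hne₀⟩
  obtain ⟨⟨Q₁, Q₂⟩, ⟨⟨g₁, hQ₁⟩, ⟨g₂, hQ₂⟩, hQne, hD1⟩, hmax⟩ :=
    Set.exists_max_image 𝒮 (fun q => Nat.card ↥(q.1 ⊓ q.2)) (Set.toFinite _) h𝒮
  simp only at hQ₁ hQ₂ hQne hD1 hmax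
  set D := Q₁ ⊓ Q₂ with hD
  have hQ₁M : MaxNil Q₁ := hQ₁ ▸ hH.conj g₁
  have hQ₂M : MaxNil Q₂ := hQ₂ ▸ hH.conj g₂
  have hQ₁p : IsPGroup p Q₁ := hQ₁ ▸ hHp.map _
  have hQ₂p : IsPGroup p Q₂ := hQ₂ ▸ hHp.map _
  have hcardQ : Nat.card Q₁ = Nat.card Q₂ := by
    rw [hQ₁, hQ₂, Subgroup.card_map_of_injective (cj_injective g₁),
      Subgroup.card_map_of_injective (cj_injective g₂)]
  have hDQ₁ : D < Q₁ := by
    refine lt_of_le_of_ne inf_le_left (fun h => hQne ?_)
    have h12 : Q₁ ≤ Q₂ := by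
      rw [← h]
      exact inf_le_right
    exact Subgroup.eq_of_le_of_card_ge h12 hcardQ.ge
  have hDQ₂ : D < Q₂ := by
    refine lt_of_le_of_ne inf_le_right (fun h => hQne ?_)
    have h21 : Q₂ ≤ Q₁ := by
      rw [← h]
      exact inf_le_left
    exact (Subgroup.eq_of_le_of_card_ge h21 hcardQ.le).symm
  set N := normalizer (D : Set G) with hN
  have hR₁ : D < Q₁ ⊓ N := Cfsg.Agent.Helper11.lt_inf_normalizer Q₁ D hQ₁p hDQ₁
  have hR₂ : D < Q₂ ⊓ N := Cfsg.Agent.Helper11.lt_inf_normalizer Q₂ D hQ₂p hDQ₂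
  -- no `p`-subgroup contains both
  have hkey : ∀ T : Subgroup G, IsPGroup p T → Q₁ ⊓ N ≤ T → Q₂ ⊓ N ≤ T → False := by
    intro T hT h1 h2
    obtain ⟨g, hg⟩ := hconjge T hT
    have haux : ∀ (Q : Subgroup G) (gQ : G), Q = H.map (cj gQ) → D < Q ⊓ N → Q ⊓ N ≤ T →
        H.map (cj g) = Q := by
      intro Q gQ hQ hR hRT
      by_contra hne
      have hle : Q ⊓ N ≤ H.map (cj g) ⊓ Q := le_inf (hRT.trans hg) inf_le_left
      have hmem : (H.map (cj g), Q) ∈ 𝒮 := by
        refine ⟨⟨g, rfl⟩, ⟨gQ, hQ⟩, hne, ?_⟩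
        intro h0
        have : Q ⊓ N ≤ ⊥ := h0 ▸ hle
        exact (not_lt_bot (lt_of_lt_of_le hR this))
      have hc := hmax _ hmem
      simp only at hc
      have hDle : D ≤ H.map (cj g) ⊓ Q := hR.le.trans hle
      have := Subgroup.eq_of_le_of_card_ge hDle hc
      rw [← this] at hle
      exact (not_le_of_gt hR) hle
    have e1 := haux Q₁ g₁ hQ₁ hR₁ h1
    have e2 := haux Q₂ g₂ hQ₂ hR₂ h2
    exact hQne (e1.symm.trans e2)
  have hDtop : D ≠ ⊤ := by
    intro h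
    apply hQ₁M.ne_top hG
    rw [eq_top_iff, ← h]
    exact inf_le_left
  have hNtop : N ≠ ⊤ := Cfsg.Agent.Lead.TT.normalizer_ne_top_of_simple hG.2.1 hD1 hDtop
  have hDp : IsPGroup p D := hQ₁p.to_le inf_le_left
  rcases proper_cases hG hCN N hNtop with hnil | ⟨K, E, hF⟩
  · obtain ⟨T, hTp, hT⟩ := nilpotent_sylow_contains (p := p) N hnil
    exact hkey T hTp (hT _ (hQ₁p.to_le inf_le_left) inf_le_right)
      (hT _ (hQ₂p.to_le inf_le_left) inf_le_right)
  · by_cases hpE : p ∣ Nat.card E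
    · -- `p ∤ |K|` and `D` centralizes `K`
      have hpK : (Nat.card K).Coprime p := by
        rw [Nat.coprime_comm, Nat.Prime.coprime_iff_not_dvd hp.out]
        intro hpK
        have := Nat.dvd_gcd hpK hpE
        rw [hF.hcop] at this
        exact hp.out.one_lt.ne' (Nat.dvd_one.mp this)
      obtain ⟨x, hxD, hx1⟩ : ∃ x : G, x ∈ D ∧ x ≠ 1 := by
        obtain ⟨x, hx⟩ := (Subgroup.ne_bot_iff_exists_ne_one).mp hD1
        exact ⟨(x : G), x.2, fun h => hx (Subtype.ext h)⟩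
      obtain ⟨k, hkK, hk1⟩ : ∃ k : G, k ∈ K ∧ k ≠ 1 := by
        obtain ⟨k, hk⟩ := (Subgroup.ne_bot_iff_exists_ne_one).mp hF.hK1
        exact ⟨(k : G), k.2, fun h => hk (Subtype.ext h)⟩
      have hdisj : D ⊓ K = ⊥ := by
        apply (Subgroup.disjoint_of_coprime_natCard _).eq_bot
        obtain ⟨i, hi⟩ := IsPGroup.iff_card.mp hDp
        rw [hi]
        exact (Nat.Coprime.pow_right i hpK).symm
      have hxN : x ∈ N := le_normalizer hxD
      have hc : x * k * x⁻¹ * k⁻¹ ∈ D ⊓ K := by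
        refine mem_inf.mpr ⟨?_, ?_⟩
        · have h1 : k * x⁻¹ * k⁻¹ ∈ D :=
            (mem_normalizer_iff.mp (hF.hK hkK) x⁻¹).mp (D.inv_mem hxD)
          have : x * k * x⁻¹ * k⁻¹ = x * (k * x⁻¹ * k⁻¹) := by group
          rw [this]
          exact D.mul_mem hxD h1
        · have h1 : x * k * x⁻¹ ∈ K := (mem_normalizer_iff.mp (hF.hnorm hxN) k).mp hkK
          exact K.mul_mem h1 (K.inv_mem hkK)
      rw [hdisj, mem_bot] at hc
      have hxk : k * x = x * k := by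
        calc k * x = (x * k * x⁻¹ * k⁻¹)⁻¹ * (x * k) := by group
          _ = x * k := by rw [hc, inv_one, one_mul]
      have hkC : k ∈ centralizer ({x} : Set G) := by
        rw [mem_centralizer_singleton_iff]
        exact hxk
      have hCp := hQ₁M.centralizer_isPGroup hCN hQ₁p (inf_le_left (a := Q₁) (b := Q₂) hxD) hx1
      obtain ⟨j, hj⟩ := hCp ⟨k, hkC⟩
      have hj' : k ^ p ^ j = 1 := by
        have := congrArg Subtype.val hj
        simpa using this
      have h1 : orderOf k ∣ p ^ j := orderOf_dvd_of_pow_eq_one hj'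
      have h2 : orderOf k ∣ Nat.card K := by
        have := orderOf_dvd_natCard (⟨k, hkK⟩ : K)
        rwa [Subgroup.orderOf_mk] at this
      have h3 : orderOf k = 1 :=
        Nat.Coprime.eq_one_of_dvd (Nat.Coprime.coprime_dvd_left h2 (hpK.pow_right j)) h1
      exact hk1 (orderOf_eq_one_iff.mp h3)
    · -- all `p`-subgroups of `N` lie in `K`
      obtain ⟨T, hTp, hT⟩ := nilpotent_sylow_contains (p := p) K hF.hnil
      have hRK : ∀ R : Subgroup G, IsPGroup p R → R ≤ N → R ≤ K := by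
        intro R hR hRN y hy
        by_contra hyK
        obtain ⟨e, he, he1, k₁, hk₁, hyo⟩ := hF.exists_conj (hRN hy) hyK
        have ho : orderOf y = orderOf e := by rw [hyo, orderOf_conj']
        obtain ⟨j, hj⟩ := (IsPGroup.iff_orderOf.mp hR) ⟨y, hy⟩
        rw [Subgroup.orderOf_mk] at hj
        have hj0 : j ≠ 0 := by
          rintro rfl
          rw [pow_zero, orderOf_eq_one_iff] at hj
          apply hyK
          rw [hj]
          exact K.one_mem
        have h1 : orderOf e ∣ Nat.card E := by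
          have := orderOf_dvd_natCard (⟨e, he⟩ : E)
          rwa [Subgroup.orderOf_mk] at this
        apply hpE
        rw [← ho, hj] at h1
        exact (dvd_pow_self p hj0).trans h1
      exact hkey T hTp (hT _ (hQ₁p.to_le inf_le_left) (hRK _ (hQ₁p.to_le inf_le_left) inf_le_right))
        (hT _ (hQ₂p.to_le inf_le_left) (hRK _ (hQ₂p.to_le inf_le_left) inf_le_right))

/-- maximal nilpotent subgroups are TI -/
theorem MaxNil.ti (hG : Cfsg.IsMinSimpleOddOrder G) (hCN : Cfsg.IsCNGroup G)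
    {H : Subgroup G} (hH : MaxNil H) :
    ∀ g : G, H.map (cj g) ≠ H → H ⊓ H.map (cj g) = ⊥ := by
  by_cases hpp : IsPrimePow (Nat.card H)
  · obtain ⟨p, k, hp, hk, hpk⟩ := hpp
    haveI : Fact p.Prime := ⟨Nat.prime_iff.mpr hp⟩
    exact hH.ti_of_isPGroup hG hCN (IsPGroup.of_card hpk.symm)
  · have h1 : Nat.card H ≠ 1 := fun h => hH.ne_bot hG (Subgroup.card_eq_one.mp h)
    exact (Cfsg.Agent.S1477.result hCN H hH.1 hH.2).2.1 hpp h1

end Cfsg.Agent.Lead.CN
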