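import Mathlib
import Cfsg.Prelude.Def_OddOrderLocal
import Cfsg.Agent.Lead.CN7

set_option autoImplicit false
set_option linter.unusedSectionVars false
set_option linter.unusedVariables false
set_option linter.style.haveILetI false

/-! # Maximal subgroups of a minimal simple CN-group of odd order -/

namespace Cfsg.Agent.Lead.CN

open Subgroup Cfsg
open Cfsg.Agent.Helper14 (cj mem_map_cj map_cj_one map_cj_map_cj_inv map_cj_inv_map_cj
  map_cj_le_iff cj_injective)
open scoped Pointwise

universe u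
variable {G : Type u} [Group G] [Finite G]

/-- normalizers grow in nilpotent subgroups -/
theorem lt_inf_normalizer_of_nilpotent {L D : Subgroup G} (hL : Group.IsNilpotent L)
    (hDL : D < L) : D < L ⊓ normalizer (D : Set G) := by
  have hle : D ≤ L ⊓ normalizer (D : Set G) := le_inf hDL.le le_normalizer
  refine lt_of_le_of_ne hle ?_
  intro heq
  have hnc : NormalizerCondition ↥L := Group.normalizerCondition_of_isNilpotent
  have hlt : D.subgroupOf L < ⊤ := by
    refine lt_of_le_of_ne le_top ?_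
    intro h
    rw [Subgroup.subgroupOf_eq_top] at h
    exact absurd (le_antisymm hDL.le h) hDL.ne
  have h2 := hnc _ hlt
  rw [← Subgroup.subgroupOf_normalizer_eq hDL.le] at h2
  obtain ⟨x, hx1, hx2⟩ := SetLike.exists_of_lt h2
  rw [Subgroup.mem_subgroupOf] at hx1 hx2
  apply hx2
  rw [heq]
  exact ⟨x.2, hx1⟩

/-- the normalizer of a proper nontrivial subgroup normalized by a maximal subgroup -/
theorem normalizer_eq_of_coatom (hG : Cfsg.IsMinSimpleOddOrder G) {M K : Subgroup G}
    (hM : IsCoatom M) (hK1 : K ≠ ⊥) (hKM : K ≤ M) (hMK : M ≤ normalizer (K : Set G)) :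
    normalizer (K : Set G) = M := by
  have hKtop : K ≠ ⊤ := by
    rintro rfl
    exact hM.1 (top_le_iff.mp hKM)
  have hNtop := Cfsg.Agent.Lead.TT.normalizer_ne_top_of_simple hG.2.1 hK1 hKtop
  by_contra hne
  exact hNtop (hM.2 _ (lt_of_le_of_ne hMK (Ne.symm hne)))

/-- the kernel of a Frobenius maximal subgroup is a maximal nilpotent subgroup -/
theorem FrobIn.maxNil (hG : Cfsg.IsMinSimpleOddOrder G) {M K E : Subgroup G} (hM : IsCoatom M)
    (hF : FrobIn M K E) : MaxNil K := by
  refine ⟨hF.hnil, ?_⟩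
  intro L hL hKL
  by_contra hne
  have hlt : K < L := lt_of_le_of_ne hKL (Ne.symm hne)
  have h1 := lt_inf_normalizer_of_nilpotent hL hlt
  rw [normalizer_eq_of_coatom hG hM hF.hK1 hF.hK hF.hnorm] at h1
  have h2 : Group.IsNilpotent (L ⊓ M : Subgroup G) :=
    Cfsg.Agent.Helper23.isNilpotent_of_le inf_le_left hL
  have h3 := hF.eq_of_nilpotent h2 h1.le inf_le_right
  exact h1.ne h3.symm

theorem coatom_frob (hG : Cfsg.IsMinSimpleOddOrder G) (hCN : Cfsg.IsCNGroup G) {M : Subgroup G}
    (hM : IsCoatom M) : ∃ K E : Subgroup G, FrobIn M K E ∧ MaxNil K := by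
  rcases proper_cases hG hCN M hM.1 with hnil | ⟨K, E, hF⟩
  · exact absurd hnil (coatom_not_nilpotent hG hM)
  · exact ⟨K, E, hF, hF.maxNil hG hM⟩

/-- a nonidentity central element of prime order in a nontrivial nilpotent subgroup -/
theorem exists_central {K : Subgroup G} (hK : Group.IsNilpotent K) (hK1 : K ≠ ⊥) :
    ∃ z ∈ K, z ≠ 1 ∧ ∀ y ∈ K, y * z = z * y := by
  have hc : Nat.card K ≠ 1 := fun hc => hK1 (Subgroup.card_eq_one.mp hc)
  obtain ⟨p, hp, hpK⟩ := Nat.exists_prime_and_dvd hc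
  haveI : Fact p.Prime := ⟨hp⟩
  obtain ⟨t, ht, hto⟩ := Cfsg.Agent.Helper23.exists_mem_center_orderOf_eq (K := K) hpK
  refine ⟨(t : G), t.2, ?_, ?_⟩
  · intro h
    have : t = 1 := Subtype.ext h
    rw [this, orderOf_one] at hto
    exact hp.one_lt.ne hto
  · intro y hy
    have := (mem_center_iff.mp ht) ⟨y, hy⟩
    exact congrArg Subtype.val this

/-- two maximal nilpotent subgroups meeting nontrivially coincide -/
theorem MaxNil.eq_of_inf_ne_bot (hG : Cfsg.IsMinSimpleOddOrder G) (hCN : Cfsg.IsCNGroup G)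
    {H K : Subgroup G} (hH : MaxNil H) (hK : MaxNil K) (h : H ⊓ K ≠ ⊥) : H = K := by
  obtain ⟨x, hxH, hxK, hx1⟩ : ∃ x : G, x ∈ H ∧ x ∈ K ∧ x ≠ 1 := by
    obtain ⟨x, hx⟩ := (Subgroup.ne_bot_iff_exists_ne_one).mp h
    exact ⟨(x : G), (mem_inf.mp x.2).1, (mem_inf.mp x.2).2, fun h => hx (Subtype.ext h)⟩
  have hcH := hH.centralizer_le hCN (hH.ti hG hCN)
  obtain ⟨z, hzK, hz1, hzc⟩ := exists_central hK.1 (hK.ne_bot hG)
  have hzH : z ∈ H := by
    apply hcH x hxH hx1
    rw [mem_centralizer_singleton_iff]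
    exact (hzc x hxK).symm
  have hKH : K ≤ H := by
    intro y hy
    apply hcH z hzH hz1
    rw [mem_centralizer_singleton_iff]
    exact hzc y hy
  exact hK.2 H hH.1 hKH

/-- Burnside's transfer theorem excludes self-normalizing abelian maximal nilpotent subgroups -/
theorem MaxNil.burnside_contra (hG : Cfsg.IsMinSimpleOddOrder G) (hCN : Cfsg.IsCNGroup G)
    {H : Subgroup G} (hH : MaxNil H) (hab : ∀ a ∈ H, ∀ b ∈ H, a * b = b * a)
    (hself : normalizer (H : Set G) = H) : False := by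
  haveI := hG.2.1
  have hH1 := hH.ne_bot hG
  have hcent := hH.centralizer_le hCN (hH.ti hG hCN)
  have hc : Nat.card H ≠ 1 := fun hc => hH1 (Subgroup.card_eq_one.mp hc)
  obtain ⟨p, hp, hpH⟩ := Nat.exists_prime_and_dvd hc
  haveI : Fact p.Prime := ⟨hp⟩
  obtain ⟨Pp⟩ : Nonempty (Sylow p H) := inferInstance
  set P' : Subgroup G := (Pp : Subgroup H).map H.subtype with hP'
  have hP'p : IsPGroup p P' := Pp.2.map _
  have hP'H : P' ≤ H := map_subtype_le _
  have hP'1 : P' ≠ ⊥ := by
    intro h0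
    rw [hP', Subgroup.map_eq_bot_iff_of_injective _ H.subtype_injective] at h0
    exact Pp.ne_bot_of_dvd_card hpH h0
  have hidx : ¬ p ∣ P'.index := by
    rw [hP', Subgroup.index_map_subtype]
    intro h
    rcases (Nat.Prime.dvd_mul hp).mp h with h | h
    · exact Pp.not_dvd_index h
    · have := Nat.dvd_gcd hpH h
      rw [hH.hall hCN] at this
      exact hp.one_lt.ne' (Nat.dvd_one.mp this)
  set P : Sylow p G := hP'p.toSylow hidx with hPdef
  have hPc : (P : Subgroup G) = P' := hP'p.toSylow_coe hidx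
  -- `C(P') = H`
  have hCP : centralizer (P' : Set G) = H := by
    apply le_antisymm
    · obtain ⟨x, hx, hx1⟩ : ∃ x : G, x ∈ P' ∧ x ≠ 1 := by
        obtain ⟨x, hx⟩ := (Subgroup.ne_bot_iff_exists_ne_one).mp hP'1
        exact ⟨(x : G), x.2, fun h => hx (Subtype.ext h)⟩
      intro c hc
      apply hcent x (hP'H hx) hx1
      rw [mem_centralizer_singleton_iff]
      exact (mem_centralizer_iff.mp hc x hx).symm
    · intro h hh
      rw [mem_centralizer_iff]
      intro y hy
      exact hab y (hP'H hy) h hh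
  have hNC : normalizer ((P : Subgroup G) : Set G) ≤ centralizer ((P : Subgroup G) : Set G) := by
    rw [hPc]
    intro n hn
    have h1 : P'.map (cj n) = P' := Cfsg.Agent.Helper14.mem_normalizer_iff_map_cj.mp hn
    have h2 : n ∈ normalizer (H : Set G) := by
      rw [Cfsg.Agent.Helper14.mem_normalizer_iff_map_cj]
      have := Cfsg.Agent.Helper14.map_cj_centralizer P' n
      rw [h1, hCP] at this
      exact this
    rw [hself] at h2
    rw [hCP]
    exact h2
  have hcompl := MonoidHom.ker_transferSylow_isComplement' P hNC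
  rcases (inferInstance : ((MonoidHom.transferSylow P hNC).ker).Normal).eq_bot_or_eq_top with
    h | h
  · rw [h, Subgroup.isComplement'_bot_left, hPc] at hcompl
    apply hH.ne_top hG
    rw [eq_top_iff, ← hcompl]
    exact hP'H
  · rw [h, Subgroup.isComplement'_top_left, hPc] at hcompl
    exact hP'1 hcompl

/-- **the normalizer of a maximal nilpotent subgroup** is a maximal subgroup and a Frobenius
group with kernel `H` -/
theorem MaxNil.normalizer_frob (hG : Cfsg.IsMinSimpleOddOrder G) (hCN : Cfsg.IsCNGroup G)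
    {H : Subgroup G} (hH : MaxNil H) :
    IsCoatom (normalizer (H : Set G)) ∧ ∃ E : Subgroup G, FrobIn (normalizer (H : Set G)) H E := by
  haveI := hG.2.1
  have hH1 := hH.ne_bot hG
  have hcent := hH.centralizer_le hCN (hH.ti hG hCN)
  set N := normalizer (H : Set G) with hN
  have hNtop : N ≠ ⊤ :=
    Cfsg.Agent.Lead.TT.normalizer_ne_top_of_simple hG.2.1 hH1 (hH.ne_top hG)
  obtain ⟨x, hxH, hx1⟩ : ∃ x : G, x ∈ H ∧ x ≠ 1 := by
    obtain ⟨x, hx⟩ := (Subgroup.ne_bot_iff_exists_ne_one).mp hH1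
    exact ⟨(x : G), x.2, fun h => hx (Subtype.ext h)⟩
  obtain ⟨M, hM, hNM⟩ := (eq_top_or_exists_le_coatom N).resolve_left hNtop
  obtain ⟨K, E', hF, hKM⟩ := coatom_frob hG hCN hM
  by_cases hHK : H ⊓ K ≠ ⊥
  · have hHK' : H = K := hH.eq_of_inf_ne_bot hG hCN hKM hHK
    subst hHK'
    have hNM' : N = M := normalizer_eq_of_coatom hG hM hF.hK1 hF.hK hF.hnorm
    rw [hNM']
    exact ⟨hM, E', hF⟩
  · exfalso
    push Not at hHK
    -- `N ⊓ K = ⊥`
    have hNK : N ⊓ K = ⊥ := by
      rw [eq_bot_iff]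
      intro k hk
      obtain ⟨hkN, hkK⟩ := mem_inf.mp hk
      have hcomm : ∀ h ∈ H, k * h = h * k := by
        intro h hh
        have hc : k * h * k⁻¹ * h⁻¹ ∈ H ⊓ K := by
          refine mem_inf.mpr ⟨?_, ?_⟩
          · exact H.mul_mem ((mem_normalizer_iff.mp hkN h).mp hh) (H.inv_mem hh)
          · have h1 : h * k⁻¹ * h⁻¹ ∈ K :=
              (mem_normalizer_iff.mp (hF.hnorm (hNM (le_normalizer hh))) k⁻¹).mp (K.inv_mem hkK)
            have : k * h * k⁻¹ * h⁻¹ = k * (h * k⁻¹ * h⁻¹) := by group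
            rw [this]
            exact K.mul_mem hkK h1
        rw [hHK, mem_bot] at hc
        calc k * h = (k * h * k⁻¹ * h⁻¹) * (h * k) := by group
          _ = h * k := by rw [hc, one_mul]
      have hkH : k ∈ H := by
        apply hcent x hxH hx1
        rw [mem_centralizer_singleton_iff]
        exact hcomm x hxH
      have : k ∈ H ⊓ K := mem_inf.mpr ⟨hkH, hkK⟩
      rwa [hHK] at this
    -- `N` is abelian
    have hNab : ∀ a ∈ N, ∀ b ∈ N, a * b = b * a := by
      intro a ha b hb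
      have hc : a * b * a⁻¹ * b⁻¹ ∈ N ⊓ K :=
        mem_inf.mpr ⟨N.mul_mem (N.mul_mem (N.mul_mem ha hb) (N.inv_mem ha)) (N.inv_mem hb),
          hF.comm_mem (hNM ha) (hNM hb)⟩
      rw [hNK, mem_bot] at hc
      calc a * b = (a * b * a⁻¹ * b⁻¹) * (b * a) := by group
        _ = b * a := by rw [hc, one_mul]
    have hNnil : Group.IsNilpotent N := by
      haveI : IsMulCommutative N := ⟨⟨fun a b => Subtype.ext (hNab a a.2 b b.2)⟩⟩
      exact Cfsg.Agent.Helper7.isNilpotent_of_isMulCommutative N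
    have hNH : N = H := hH.2 N hNnil le_normalizer
    exact hH.burnside_contra hG hCN (fun a ha b hb => hNab a (le_normalizer ha) b (le_normalizer hb))
      hNH

end Cfsg.Agent.Lead.CN
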