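import Mathlib

set_option autoImplicit false

namespace Cfsg.Agent.S2262P

namespace GNUMT

theorem succ_le_two_pow (k : ℕ) : k + 1 ≤ 2 ^ k := by
  induction k with
  | zero => simp
  | succ n ih => rw [pow_succ]; omega

/-- a multiple of `q - 1` that is at most `q ^ n` is at most `q ^ n - 1` (for `q ≥ 3`) -/
theorem mul_le_pow_sub_one (q n L : ℕ) (hq : 3 ≤ q) (h : (q - 1) * L ≤ q ^ n) :
    (q - 1) * L ≤ q ^ n - 1 := by
  obtain ⟨G, hG⟩ : (q - 1) ∣ q ^ n - 1 := by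
    simpa only [one_pow] using Nat.sub_dvd_pow_sub_pow q 1 n
  have hpos : 1 ≤ q ^ n := Nat.one_le_pow _ _ (by omega)
  have h1 : (q - 1) * L ≤ (q - 1) * G + 1 := by omega
  have h2 : L ≤ G := by
    by_contra hlt
    have h3 : G + 1 ≤ L := by omega
    have h4 : (q - 1) * (G + 1) ≤ (q - 1) * L := Nat.mul_le_mul_left _ h3
    have h5 : 2 ≤ q - 1 := by omega
    nlinarith
  rw [hG]
  exact Nat.mul_le_mul_left _ h2

end GNUMT

/-- GNUMT (pure arithmetic). -/
theorem gnum_t (p f q d Aw E L b : ℕ) (hp : p.Prime) (hq : q = p ^ f) (hf : 1 ≤ f) (hd : 3 ≤ d)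
    (hexc : ¬ (d = 3 ∧ q = 2)) (hAw : 1 ≤ Aw) (hE : 1 ≤ E) (hb : b = E ∨ b = 2 * (E - 1))
    (hdeg : 2 * Aw + b ≤ d) (hL : (q - 1) * L ≤ q ^ (Aw + 1)) (hodd : p = 2 → Odd L) :
    2 * (q - 1) * (p ^ Nat.clog p E * L) ≤ q ^ d - 1 := by
  have _ := hexc
  have hp2 := hp.two_le
  have hpq : p ≤ q := by
    rw [hq]
    calc p = p ^ 1 := (pow_one p).symm
      _ ≤ p ^ f := Nat.pow_le_pow_right (by omega) hf
  have hq2 : 2 ≤ q := le_trans hp2 hpq
  set P := p ^ Nat.clog p E with hP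
  have hP1 : 1 ≤ P := Nat.one_le_pow _ _ (by omega)
  -- step 1: `(q - 1) L ≤ q ^ (Aw + 1) - 1`
  have hT : (q - 1) * L ≤ q ^ (Aw + 1) - 1 := by
    by_cases hq3 : 3 ≤ q
    · exact GNUMT.mul_le_pow_sub_one q (Aw + 1) L hq3 hL
    · have hq2' : q = 2 := by omega
      have hp2' : p = 2 := by omega
      have hLodd := hodd hp2'
      rw [hq2'] at hL ⊢
      have h2 : (2 : ℕ) - 1 = 1 := rfl
      rw [h2, one_mul] at hL ⊢
      have heven : Even (2 ^ (Aw + 1)) := by
        rw [pow_succ]; exact even_two.mul_left _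
      have hne : L ≠ 2 ^ (Aw + 1) := by
        intro e
        rw [e] at hLodd
        exact (Nat.not_even_iff_odd.mpr hLodd) heven
      omega
  -- step 2: `2 P ≤ q ^ k` where `Aw + 1 + k = d`
  obtain ⟨k, hk⟩ : ∃ k, d = Aw + 1 + k := ⟨d - Aw - 1, by omega⟩
  have hPk : 2 * P ≤ q ^ k := by
    by_cases hE1 : E = 1
    · have hc : Nat.clog p E = 0 := by rw [hE1]; exact Nat.clog_one_right p
      have : P = 1 := by rw [hP, hc, pow_zero]
      rw [this]
      have hk1 : 1 ≤ k := by omega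
      calc 2 * 1 = 2 := rfl
        _ ≤ q := hq2
        _ = q ^ 1 := (pow_one q).symm
        _ ≤ q ^ k := Nat.pow_le_pow_right (by omega) hk1
    · have hE2 : 2 ≤ E := by omega
      have hbE : E ≤ b := by
        rcases hb with h | h <;> omega
      have hkE : E ≤ k := by omega
      have hEp : E ≤ p ^ (E - 1) := by
        calc E = (E - 1) + 1 := by omega
          _ ≤ 2 ^ (E - 1) := GNUMT.succ_le_two_pow _
          _ ≤ p ^ (E - 1) := Nat.pow_le_pow_left hp2 _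
      have hPE : P ≤ q ^ (E - 1) := by
        calc P ≤ p ^ (E - 1) :=
              Nat.pow_le_pow_right (by omega) (Nat.clog_le_of_le_pow hEp)
          _ ≤ q ^ (E - 1) := Nat.pow_le_pow_left hpq _
      calc 2 * P ≤ q * q ^ (E - 1) := Nat.mul_le_mul hq2 hPE
        _ = q ^ E := by
            rw [← pow_succ']
            congr 1
            omega
        _ ≤ q ^ k := Nat.pow_le_pow_right (by omega) hkE
  -- step 3: combine
  have hpow : q ^ d = q ^ (Aw + 1) * q ^ k := by rw [hk, pow_add]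
  have hpos : 1 ≤ q ^ (Aw + 1) := Nat.one_le_pow _ _ (by omega)
  calc 2 * (q - 1) * (P * L) = 2 * P * ((q - 1) * L) := by ring
    _ ≤ 2 * P * (q ^ (Aw + 1) - 1) := Nat.mul_le_mul_left _ hT
    _ = 2 * P * q ^ (Aw + 1) - 2 * P := by rw [Nat.mul_sub, mul_one]
    _ ≤ q ^ k * q ^ (Aw + 1) - 2 * P := Nat.sub_le_sub_right (Nat.mul_le_mul_right _ hPk) _
    _ ≤ q ^ d - 1 := by
        rw [hpow, mul_comm]
        omega

end Cfsg.Agent.S2262P
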