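import Mathlib
import Cfsg.Agent.Helper7.FieldPSL5

set_option autoImplicit false

namespace Cfsg.Agent.S2262P

universe u

/-- FIXF: the fixed field of a field automorphism. -/
theorem exists_fixed_field {F : Type u} [Field F] [Fintype F] {p f : ℕ} [Fact p.Prime]
    (hf : 1 ≤ f) (hF : Fintype.card F = p ^ f) (σ : F ≃+* F) :
    orderOf σ ∣ f ∧ ∃ (K : Type u) (_ : Field K) (_ : Fintype K) (j : K →+* F),
      Fintype.card K = p ^ (f / orderOf σ) ∧ (∀ x, σ (j x) = j x) ∧
        ∀ y : F, σ y = y → ∃ x, j x = y := by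
  classical
  refine ⟨Cfsg.Agent.Helper7.FieldPSL.orderOf_dvd hf hF σ, ?_⟩
  have hfin : Finite (F ≃+* F) := Cfsg.Agent.Helper7.FieldPSL.finite_ringAut
  have : Fintype ↥(Subgroup.zpowers σ) := Fintype.ofFinite _
  have h1 := FixedPoints.finrank_eq_card (↥(Subgroup.zpowers σ)) F
  have h2 : Fintype.card ↥(Subgroup.zpowers σ) = orderOf σ := by
    rw [← Nat.card_eq_fintype_card, Nat.card_zpowers]
  set K := FixedPoints.subfield (↥(Subgroup.zpowers σ)) F with hK
  have instK : Fintype ↥K := Fintype.ofFinite _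
  have h3 := Module.card_eq_pow_finrank (K := ↥K) (V := F)
  rw [h1, h2, hF] at h3
  have hmem : ∀ x : F, x ∈ K ↔ σ x = x := by
    intro x
    constructor
    · intro hx
      exact hx ⟨σ, Subgroup.mem_zpowers σ⟩
    · intro hx
      rintro ⟨τ, hτ⟩
      have h5 : σ ∈ MulAction.stabilizer (F ≃+* F) x := by
        rw [MulAction.mem_stabilizer_iff]
        exact hx
      have h6 : τ ∈ MulAction.stabilizer (F ≃+* F) x :=
        (Subgroup.zpowers_le.2 h5) hτ
      exact MulAction.mem_stabilizer_iff.1 h6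
  have hr : 0 < orderOf σ := orderOf_pos σ
  have hcard : Fintype.card ↥K = p ^ (f / orderOf σ) := by
    have hdvd : Fintype.card ↥K ∣ p ^ f := by
      rw [h3]
      exact dvd_pow_self _ hr.ne'
    obtain ⟨a, -, ha⟩ := (Nat.dvd_prime_pow (Fact.out : p.Prime)).1 hdvd
    rw [ha, ← pow_mul] at h3
    have h4 : f = a * orderOf σ := Nat.pow_right_injective (Fact.out : p.Prime).two_le h3
    rw [ha, h4, Nat.mul_div_cancel _ hr]
  refine ⟨↥K, inferInstance, instK, K.subtype, hcard, ?_, ?_⟩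
  · intro x
    exact (hmem _).1 x.2
  · intro y hy
    exact ⟨⟨y, (hmem y).2 hy⟩, rfl⟩

end Cfsg.Agent.S2262P
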