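import Mathlib
import Cfsg.Agent.Helper7.FieldPSL10

set_option autoImplicit false

namespace Cfsg.Agent.S2262P

/-- SIGFROB: the involution of a finite field with `q₀ ^ 2` elements is the `q₀`-th power map. -/
theorem sigma_eq_frob {F : Type*} [Field F] [Fintype F] {q₀ : ℕ} (hF : Fintype.card F = q₀ ^ 2)
    (σ : F ≃+* F) (hσ : orderOf σ = 2) (x : F) : σ x = x ^ q₀ := by
  obtain ⟨D⟩ := Cfsg.Agent.Helper7.FieldPSL.exists_UData hF
  have hσ2 : ∀ a, σ (σ a) = a := by
    intro a
    have h := pow_orderOf_eq_one σ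
    rw [hσ, pow_two] at h
    have := RingEquiv.congr_fun h a
    simpa using this
  have hne : σ ≠ RingEquiv.refl F := by
    intro h
    have h1 : σ = 1 := h
    rw [h1, orderOf_one] at hσ
    omega
  have := Cfsg.Agent.Helper7.GraphPSU.invol_unique D.bar σ D.bar_bar hσ2
    (Cfsg.Agent.Helper7.GraphPSU.bar_ne_refl D) hne
  rw [← this, D.bar_apply]

end Cfsg.Agent.S2262P
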