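import Mathlib
import Cfsg.Prelude.Def_LieExceptional
import Cfsg.Prelude.Def_Involutions
import Cfsg.Agent.Helper18.AIDefs
set_option autoImplicit false

/-! S2202 piece CEN. -/

namespace Cfsg.Agent.Lead.AI

open Cfsg Cfsg.Agent.Helper18.AI MulAction

variable {G : Type*} [Group G]

theorem le_center_of_simple_quot [Finite G] (N : Subgroup G) [N.Normal]
    (hodd : Odd (Nat.card N))
    (hcomm : ∀ n ∈ N, ∀ t : G, orderOf t = 2 → n * t = t * n)
    (hab : ∀ a ∈ N, ∀ b ∈ N, a * b = b * a) (hs : IsSimpleGroup (G ⧸ N))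
    (heven : Even (Nat.card G)) : N ≤ Subgroup.center G := by
  classical
  set Z : Subgroup G := Subgroup.centralizer (N : Set G) with hZ
  have : Z.Normal := Subgroup.normal_centralizer
  have hNZ : N ≤ Z := by
    intro a ha
    rw [hZ, Subgroup.mem_centralizer_iff]
    intro b hb
    exact hab b hb a ha
  -- an involution
  have : Fact (Nat.Prime 2) := ⟨Nat.prime_two⟩
  obtain ⟨t, ht⟩ := exists_prime_orderOf_dvd_card' (G := G) 2 (even_iff_two_dvd.mp heven)
  have htZ : t ∈ Z := by
    rw [hZ, Subgroup.mem_centralizer_iff]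
    intro n hn
    exact hcomm n hn t ht
  have htN : t ∉ N := by
    intro htN
    have h1 : orderOf (⟨t, htN⟩ : N) = 2 := by
      rw [← ht]; exact (Subgroup.orderOf_mk t htN)
    have h2 : 2 ∣ Nat.card N := by
      rw [← h1]; exact orderOf_dvd_natCard _
    exact (Nat.not_even_iff_odd.mpr hodd) (even_iff_two_dvd.mpr h2)
  have hmap_ne : Z.map (QuotientGroup.mk' N) ≠ ⊥ := by
    intro h
    have : (QuotientGroup.mk' N) t ∈ Z.map (QuotientGroup.mk' N) := Subgroup.mem_map_of_mem _ htZ
    rw [h, Subgroup.mem_bot] at this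
    exact htN ((QuotientGroup.eq_one_iff t).mp this)
  have : (Z.map (QuotientGroup.mk' N)).Normal :=
    Subgroup.Normal.map inferInstance _ (QuotientGroup.mk'_surjective N)
  have hmap_top : Z.map (QuotientGroup.mk' N) = ⊤ :=
    ((Subgroup.Normal.eq_bot_or_eq_top (H := Z.map (QuotientGroup.mk' N)) inferInstance).resolve_left hmap_ne)
  have hZtop : ∀ x : G, x ∈ Z := by
    intro x
    have hx : (QuotientGroup.mk' N) x ∈ Z.map (QuotientGroup.mk' N) := by
      rw [hmap_top]; exact Subgroup.mem_top _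
    obtain ⟨z, hz, hzx⟩ := Subgroup.mem_map.mp hx
    have h3 : z⁻¹ * x ∈ N := by
      have := QuotientGroup.eq.mp hzx
      exact this
    have h4 : x = z * (z⁻¹ * x) := by group
    rw [h4]
    exact Z.mul_mem hz (hNZ h3)
  intro n hn
  rw [Subgroup.mem_center_iff]
  intro g
  have hg := hZtop g
  rw [hZ, Subgroup.mem_centralizer_iff] at hg
  exact (hg n hn).symm

theorem commutator_sup_eq_top (N : Subgroup G) [N.Normal]
    (hperf : commutator (G ⧸ N) = ⊤) : commutator G ⊔ N = ⊤ := by
  have hmap : (commutator G).map (QuotientGroup.mk' N) = ⊤ := by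
    rw [commutator_def, Subgroup.map_commutator,
      Subgroup.map_top_of_surjective _ (QuotientGroup.mk'_surjective N), ← commutator_def, hperf]
  rw [eq_top_iff]
  intro x _
  have hx : (QuotientGroup.mk' N) x ∈ (commutator G).map (QuotientGroup.mk' N) := by
    rw [hmap]; exact Subgroup.mem_top _
  obtain ⟨c, hc, hcx⟩ := Subgroup.mem_map.mp hx
  have h3 : c⁻¹ * x ∈ N := QuotientGroup.eq.mp hcx
  have h4 : x = c * (c⁻¹ * x) := by group
  rw [h4]
  exact Subgroup.mul_mem _ (Subgroup.mem_sup_left hc) (Subgroup.mem_sup_right h3)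

end Cfsg.Agent.Lead.AI
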