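import Mathlib
import Cfsg.Prelude.Def_LieExceptional
import Cfsg.Prelude.Def_Involutions
import Cfsg.Agent.Helper18.AIDefs
set_option autoImplicit false

/-! S2202 piece SPL. -/

namespace Cfsg.Agent.Lead.AI

open Cfsg Cfsg.Agent.Helper18.AI MulAction

variable {G : Type*} [Group G]

theorem nonempty_mulEquiv_prod (N : Subgroup G) [N.Normal] (hN : N ≤ Subgroup.center G)
    (h1 : commutator G ⊔ N = ⊤) (h2 : commutator G ⊓ N = ⊥) :
    Nonempty (G ≃* (G ⧸ N) × ↥N) := by
  classical
  -- every element is a product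
  have hprod : ∀ g : G, ∃ x ∈ commutator G, ∃ n ∈ N, x * n = g := by
    intro g
    have hg : g ∈ ((commutator G ⊔ N : Subgroup G) : Set G) := by
      rw [h1]; exact Set.mem_univ _
    rw [Subgroup.mul_normal] at hg
    obtain ⟨x, hx, n, hn, hxn⟩ := Set.mem_mul.mp hg
    exact ⟨x, hx, n, hn, hxn⟩
  have hcomm : ∀ (m : ↥(commutator G)) (n : ↥N),
      Commute ((commutator G).subtype m) (N.subtype n) := by
    intro m n
    have := Subgroup.mem_center_iff.mp (hN n.2) (m : G)
    exact this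
  let φ : ↥(commutator G) × ↥N →* G :=
    MonoidHom.noncommCoprod (commutator G).subtype N.subtype hcomm
  have hφ : ∀ p : ↥(commutator G) × ↥N, φ p = (p.1 : G) * (p.2 : G) := fun p => rfl
  have hφinj : Function.Injective φ := by
    rw [injective_iff_map_eq_one]
    rintro ⟨x, n⟩ hxn
    rw [hφ] at hxn
    simp only at hxn
    have hx : (x : G) = (n : G)⁻¹ := eq_inv_of_mul_eq_one_left hxn
    have hxN : (x : G) ∈ commutator G ⊓ N := ⟨x.2, by rw [hx]; exact N.inv_mem n.2⟩
    rw [h2, Subgroup.mem_bot] at hxN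
    have hn1 : (n : G) = 1 := by
      rw [hxN, one_mul] at hxn; exact hxn
    exact Prod.ext (Subtype.ext hxN) (Subtype.ext hn1)
  have hφsurj : Function.Surjective φ := by
    intro g
    obtain ⟨x, hx, n, hn, hxn⟩ := hprod g
    exact ⟨(⟨x, hx⟩, ⟨n, hn⟩), by rw [hφ]; exact hxn⟩
  let e1 : ↥(commutator G) × ↥N ≃* G := MulEquiv.ofBijective φ ⟨hφinj, hφsurj⟩
  let ψ : ↥(commutator G) →* G ⧸ N := (QuotientGroup.mk' N).comp (commutator G).subtype
  have hψinj : Function.Injective ψ := by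
    rw [injective_iff_map_eq_one]
    intro x hx
    have hxN : (x : G) ∈ N := (QuotientGroup.eq_one_iff (x : G)).mp hx
    have : (x : G) ∈ commutator G ⊓ N := ⟨x.2, hxN⟩
    rw [h2, Subgroup.mem_bot] at this
    exact Subtype.ext this
  have hψsurj : Function.Surjective ψ := by
    intro q
    obtain ⟨g, rfl⟩ := QuotientGroup.mk'_surjective N q
    obtain ⟨x, hx, n, hn, hxn⟩ := hprod g
    refine ⟨⟨x, hx⟩, ?_⟩
    show (QuotientGroup.mk' N) x = (QuotientGroup.mk' N) g
    apply QuotientGroup.eq.mpr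
    rw [← hxn]
    have : x⁻¹ * (x * n) = n := by group
    rw [this]; exact hn
  let e2 : ↥(commutator G) ≃* G ⧸ N := MulEquiv.ofBijective ψ ⟨hψinj, hψsurj⟩
  exact ⟨e1.symm.trans (MulEquiv.prodCongr e2 (MulEquiv.refl ↥N))⟩

end Cfsg.Agent.Lead.AI
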