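import Mathlib
import Cfsg.Prelude.Def_Characters
import Cfsg.Prelude.Def_Blocks
import Cfsg.Agent.Helper24.Abelian
import Cfsg.Agent.Helper24.Linear
import Cfsg.Agent.Helper24.Span
import Cfsg.Agent.Helper1.W2pDefs
import Cfsg.Agent.Helper8.W2pT1
import Cfsg.Agent.Lead.S4705Defs
import Cfsg.Agent.Helper13.S4705INV
import Cfsg.Agent.Helper26.S4705TRB
import Cfsg.Agent.Helper26.S4705CCH
import Cfsg.Agent.Helper28.S4705CNTW
import Cfsg.Agent.Helper28.S4705CENT
import Cfsg.Agent.Helper21.S4705IDB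
import Cfsg.Agent.Helper5.S4705IDH
import Cfsg.Agent.Helper21.S4705ARL
import Cfsg.Agent.Helper21.S4705INEQ
import Cfsg.Agent.Helper14.S4705QUO

set_option autoImplicit false
set_option maxHeartbeats 800000

/-! S4705 piece LIN: `χb` is linear. -/

namespace Cfsg.Agent.Lead.S4705LIN

open Cfsg Cfsg.Agent.Helper24

universe u

variable {G : Type u} [Group G] [Finite G]

/-- `∑_{y ∈ P} χ(y) = χ(1) + (p - 1) c` when `χ = c` on `P ∖ 1`. -/
theorem sum_of_const (p : ℕ) (P : Subgroup G) (hP : Nat.card P = p) (χ : G → ℂ) (c : ℂ)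
    (hval : ∀ x ∈ P, x ≠ 1 → χ x = c) :
    ∑ᶠ y : ↥P, χ (y : G) = χ 1 + ((p : ℂ) - 1) * c := by
  classical
  let _ : Fintype ↥P := Fintype.ofFinite _
  rw [finsum_eq_sum_of_fintype]
  rw [← Finset.add_sum_erase Finset.univ (fun y : ↥P => χ (y : G)) (Finset.mem_univ (1 : ↥P))]
  have h1 : ∀ y ∈ (Finset.univ : Finset ↥P).erase 1, χ (y : G) = c := by
    intro y hy
    have hy1 : y ≠ 1 := (Finset.mem_erase.mp hy).1
    apply hval y y.2
    intro h
    apply hy1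
    exact Subtype.ext h
  rw [Finset.sum_congr rfl h1, Finset.sum_const, Finset.card_erase_of_mem (Finset.mem_univ _),
    Finset.card_univ, ← Nat.card_eq_fintype_card, hP, Subgroup.coe_one, nsmul_eq_mul]
  have hp1 : 1 ≤ p := by
    rw [← hP]; exact Nat.card_pos
  rw [Nat.cast_sub hp1]
  push_cast
  ring


theorem deg_a_arith (p k da db : ℕ) (hp : 2 ≤ p) (h2 : da = db + (p - 2))
    (hdb : db = k * p + 1) : da = (k + 1) * p - 1 := by
  have : (k + 1) * p = k * p + p := by ring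
  omega

theorem deg_b_arith (p k nb db : ℕ) (hp : 2 ≤ p) (hnbk : nb = k + 1)
    (hnat : db + (p - 1) = nb * p) : db = k * p + 1 := by
  subst hnbk
  have : (k + 1) * p = k * p + p := by ring
  omega

end Cfsg.Agent.Lead.S4705LIN

namespace Cfsg.Agent.S4705P

open Cfsg Cfsg.Agent.Helper24 Cfsg.Agent.Helper1.W2p
open scoped ComplexConjugate

universe u

variable {G : Type u} [Group G] [Finite G]

theorem chi_b_linear (p : ℕ) [Fact p.Prime] (hp : 5 < p) (P : Sylow p G) (hP : Nat.card P = p)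
    (hnn : ¬ (P : Subgroup G).Normal) (ζ : IrrCharacter G)
    (hfaith : ∀ g : G, (ζ : G → ℂ) g = (ζ : G → ℂ) 1 → g = 1) (hdeg : irrDeg ζ = p - 2)
    (hC : Subgroup.centralizer ((P : Subgroup G) : Set G) = (P : Subgroup G) ⊔ Subgroup.center G)
    (hN : (Subgroup.centralizer ((P : Subgroup G) : Set G)).relIndex
      (Subgroup.normalizer ((P : Subgroup G) : Set G)) = 2)
    (D : TwData p (P : Subgroup G) ζ) : irrDeg D.χb = 1 := by
  classical
  have hpp : p.Prime := Fact.out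
  have hp2 : p ≠ 2 := by omega
  have hpC : (p : ℂ) ≠ 0 := by exact_mod_cast hpp.ne_zero
  obtain ⟨t, htN, htC, htreg, ht2, hinv, hconj, hform⟩ := exists_inverting p hp2 P hP hC hN
  have hnormP : ∀ y ∈ (P : Subgroup G), t * y * t⁻¹ ∈ (P : Subgroup G) := by
    intro y hy; rw [hinv y hy]; exact inv_mem hy
  -- `|ζ(t)| = 1`
  obtain ⟨nζ, hsumζ, -, h1ζ⟩ := trace_bound (ζ : G → ℂ) (IsIrrCharacter.isCharacter ζ.2)
    (P : Subgroup G) t hnormP hconj
  have hnζ : nζ = 1 := by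
    rw [D.zeta_sum, hP] at hsumζ
    have h : (nζ : ℂ) = 1 := by
      have h2 : (nζ : ℂ) * (p : ℂ) = 1 * (p : ℂ) := by rw [one_mul]; exact hsumζ.symm
      exact mul_right_cancel₀ hpC h2
    exact_mod_cast h
  have hζt : ‖(ζ : G → ℂ) t‖ = 1 := h1ζ hnζ
  have hζt0 : (ζ : G → ℂ) t ≠ 0 := by
    intro h; rw [h, norm_zero] at hζt; exact zero_ne_one hζt
  have hζ1 : (ζ : G → ℂ) 1 = ((p : ℂ) - 2) := by
    rw [irrDeg_spec, hdeg, Nat.cast_sub (by omega)]; norm_num
  have hζ10 : (ζ : G → ℂ) 1 ≠ 0 := by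
    rw [irrDeg_spec]
    have := irrDeg_pos ζ
    exact_mod_cast this.ne'
  -- `W = 1`
  have hW : ∀ z ∈ Subgroup.center G, IsConj t (t * z) → z = 1 := by
    intro z hz hc
    have h1 : (ζ : G → ℂ) t = (ζ : G → ℂ) (t * z) :=
      IsClassFunction.eq_of_isConj (isClassFunction_irr ζ) hc
    have h2 := central_mul ζ z hz t
    have h3 : t * z = z * t := ((Subgroup.mem_center_iff.mp hz) t)
    rw [← h3, ← h1] at h2
    apply hfaith
    have h4 : (ζ : G → ℂ) t * (ζ : G → ℂ) 1 = (ζ : G → ℂ) t * (ζ : G → ℂ) z := by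
      rw [h2]; ring
    exact (mul_left_cancel₀ hζt0 h4).symm
  -- a non-identity element of `P`
  obtain ⟨x, hxP, hx1⟩ : ∃ x ∈ (P : Subgroup G), x ≠ 1 := by
    by_contra hcon
    push Not at hcon
    have : (P : Subgroup G) = ⊥ := by
      rw [Subgroup.eq_bot_iff_forall]; exact hcon
    have h1 : Nat.card (P : Subgroup G) = 1 := by rw [this]; exact Subgroup.card_bot
    have h2 : Nat.card (P : Subgroup G) = p := hP
    omega
  have hcnt := fun z hz => count_pairs p hp2 P hP hnn t htN ht2 hinv hform hW x hxP hx1 z hz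
  have hcount1 : Nat.card {s : G // IsConj t s ∧ IsConj t⁻¹ (s⁻¹ * x)} = p := by
    have := (hcnt 1 (one_mem _)).1 rfl
    simpa using this
  have hid := twisted_identity p (P : Subgroup G) ζ D t x hxP hx1 htreg hcount1
    (fun z hz hz1 => (hcnt z hz).2 hz1)
  have hcent := card_centralizer_quot t hW
  -- the quotient
  obtain ⟨Q, hQmap, hQcard, hQC, hQe, -⟩ := quotient_facts p hp2 P hP hnn hC hN
  obtain ⟨DB⟩ := Cfsg.Agent.Helper8.W2p.exists_brauerData p hp2 Q hQcard hQC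
  set tb : G ⧸ Subgroup.center G := QuotientGroup.mk t with htbdef
  have htZ : t ∉ Subgroup.center G := by
    intro h
    apply htC
    rw [hC]
    exact (le_sup_right : Subgroup.center G ≤ _) h
  have htb1 : tb ≠ 1 := by
    intro h
    apply htZ
    exact (QuotientGroup.eq_one_iff t).mp h
  have htb : orderOf tb = 2 := by
    have hsq : tb ^ 2 = 1 := by
      rw [htbdef, ← QuotientGroup.mk_pow]
      exact (QuotientGroup.eq_one_iff _).mpr ht2
    exact orderOf_eq_prime hsq htb1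
  have htbN : tb ∈ Subgroup.normalizer
      ((Q : Subgroup (G ⧸ Subgroup.center G)) : Set (G ⧸ Subgroup.center G)) := by
    rw [hQmap, Subgroup.mem_normalizer_iff]
    intro h
    constructor
    · rintro ⟨y, hy, rfl⟩
      refine ⟨t * y * t⁻¹, hnormP y hy, ?_⟩
      simp [htbdef]
    · rintro ⟨y, hy, hyh⟩
      refine ⟨t⁻¹ * y * t, ?_, ?_⟩
      · have h1 : t⁻¹ ∈ Subgroup.normalizer ((P : Subgroup G) : Set G) := inv_mem htN
        have := (Subgroup.mem_normalizer_iff.mp h1 y).mp hy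
        rw [inv_inv] at this
        exact this
      · have h2 : (QuotientGroup.mk' (Subgroup.center G)) (t⁻¹ * y * t) =
            tb⁻¹ * (QuotientGroup.mk' (Subgroup.center G)) y * tb := by
          simp [htbdef]
        rw [h2, hyh]
        group
  obtain ⟨χ₁, b, hχ₁X, -, -, hidH, hneg, hpos⟩ :=
    brauer_identity p (by omega) Q hQcard hQC hQe DB tb htb htbN
  set m : ℕ := Nat.card (Subgroup.centralizer ({tb} : Set (G ⧸ Subgroup.center G))) with hmdef
  set h : ℕ := Nat.card (G ⧸ Subgroup.center G) with hhdef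
  have hm0 : 0 < m := Nat.card_pos
  have hh0 : 0 < h := Nat.card_pos
  have hδ : DB.δ χ₁ = 1 ∨ DB.δ χ₁ = -1 := DB.δ_pm χ₁ hχ₁X
  have hlow := lower_bound_arith p (irrDeg χ₁) m h (DB.δ χ₁) b (by omega) hδ hidH hm0 hh0 hneg hpos
  -- degrees of `χb`, `χa`
  have hreg1 : ¬ p ∣ orderOf (1 : G) := by
    rw [orderOf_one]; intro hd
    have := Nat.le_of_dvd one_pos hd
    omega
  have hrel1 := D.rel 1 hreg1
  have hrelt := D.rel t htreg
  obtain ⟨nb, hsumb, hleb, -⟩ := trace_bound (D.χb : G → ℂ) (IsIrrCharacter.isCharacter D.χb.2)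
    (P : Subgroup G) t hnormP hconj
  rw [Cfsg.Agent.Lead.S4705LIN.sum_of_const p (P : Subgroup G) hP (D.χb : G → ℂ) 1 D.val_b,
    hP, irrDeg_spec] at hsumb
  have hdbpos := irrDeg_pos D.χb
  have hp1 : 1 ≤ p := hpp.one_lt.le
  have hnat : irrDeg D.χb + (p - 1) = nb * p := by
    have h1 : ((irrDeg D.χb + (p - 1) : ℕ) : ℂ) = ((nb * p : ℕ) : ℂ) := by
      rw [Nat.cast_add, Nat.cast_sub hp1]
      push_cast
      linear_combination hsumb
    exact_mod_cast h1
  have hnb1 : 1 ≤ nb := by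
    by_contra hcon
    have : nb = 0 := by omega
    rw [this] at hnat
    omega
  by_contra hne
  -- `k = nb - 1 ≥ 1`
  have hk : 1 ≤ nb - 1 := by
    by_contra hcon
    have : nb = 1 := by omega
    rw [this] at hnat
    omega
  set k : ℕ := nb - 1 with hkdef
  have hnbk : nb = k + 1 := by omega
  have hdb : irrDeg D.χb = k * p + 1 :=
    Cfsg.Agent.Lead.S4705LIN.deg_b_arith p k nb (irrDeg D.χb) (by omega) hnbk hnat
  have hda : irrDeg D.χa = (k + 1) * p - 1 := by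
    have h1 : ((irrDeg D.χa : ℕ) : ℂ) = ((irrDeg D.χb + (p - 2) : ℕ) : ℂ) := by
      rw [Nat.cast_add, Nat.cast_sub (by omega : 2 ≤ p)]
      rw [irrDeg_spec, irrDeg_spec, hζ1] at hrel1
      push_cast
      linear_combination hrel1
    have h2 : irrDeg D.χa = irrDeg D.χb + (p - 2) := by exact_mod_cast h1
    exact Cfsg.Agent.Lead.S4705LIN.deg_a_arith p k _ _ (by omega) h2 hdb
  -- the norms
  set n : ℝ := ‖(D.χb : G → ℂ) t‖ with hndef
  set α : ℝ := ‖(D.χa : G → ℂ) t‖ with hαdef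
  have hn0 : 0 ≤ n := norm_nonneg _
  have hα0 : 0 ≤ α := norm_nonneg _
  have hnle : n ≤ (k : ℝ) + 1 := by
    have : (nb : ℝ) = (k : ℝ) + 1 := by rw [hnbk]; push_cast; ring
    rw [← this]; exact hleb
  have hαn : n - 1 ≤ α := by
    have h1 : (D.χb : G → ℂ) t = (D.χa : G → ℂ) t - (ζ : G → ℂ) t := by rw [hrelt]; ring
    have h2 : ‖(D.χb : G → ℂ) t‖ ≤ ‖(D.χa : G → ℂ) t‖ + ‖(ζ : G → ℂ) t‖ := by
      rw [h1]; exact norm_sub_le _ _
    rw [hζt] at h2
    linarith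
  have hp7 : 7 ≤ p := by
    by_contra hcon
    have : p = 6 := by omega
    rw [this] at hpp
    exact absurd hpp (by norm_num)
  have hkey := key_ineq p k hp7 hk n α hn0 hnle hα0 hαn
  -- the identity in real form
  have hnormsq : ∀ w : ℂ, w * conj w = ((‖w‖ ^ 2 : ℝ) : ℂ) := by
    intro w
    rw [Complex.mul_conj, Complex.normSq_eq_norm_sq]
  rw [hnormsq, hnormsq, hnormsq, hζt, irrDeg_spec D.χb, irrDeg_spec D.χa, hζ1, hdb, hda] at hid
  set cG : ℕ := Nat.card (Subgroup.centralizer ({t} : Set G)) with hcGdef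
  set zc : ℕ := Nat.card (Subgroup.center G) with hzcdef
  have hzc0 : 0 < zc := Nat.card_pos
  have hGcard : Nat.card G = zc * h := by
    rw [hzcdef, hhdef, mul_comm]
    exact Subgroup.card_eq_card_quotient_mul_card_subgroup (Subgroup.center G)
  have hkp : (1 : ℕ) ≤ (k + 1) * p := by
    have : 1 ≤ p := hp1
    nlinarith
  have hidR : (p : ℝ) * (cG : ℝ) ^ 2 = (Nat.card G : ℝ) * (zc : ℝ) *
      (n ^ 2 / ((k : ℝ) * p + 1) - α ^ 2 / (((k : ℝ) + 1) * p - 1) + 1 / ((p : ℝ) - 2)) := by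
    have h1 : ((((p : ℝ) * (cG : ℝ) ^ 2 : ℝ)) : ℂ) = (((Nat.card G : ℝ) * (zc : ℝ) *
      (n ^ 2 / ((k : ℝ) * p + 1) - α ^ 2 / (((k : ℝ) + 1) * p - 1) + 1 / ((p : ℝ) - 2)) : ℝ) : ℂ) := by
      push_cast
      rw [Nat.cast_sub hkp] at hid
      push_cast at hid
      rw [hid]
      simp only [one_pow]
      rfl
    exact_mod_cast h1
  rw [hcent, hGcard] at hidR
  push_cast at hidR
  -- `p m² = h S_B`
  set SB : ℝ := n ^ 2 / ((k : ℝ) * p + 1) - α ^ 2 / (((k : ℝ) + 1) * p - 1) + 1 / ((p : ℝ) - 2)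
    with hSB
  have hzcR : (0 : ℝ) < (zc : ℝ) := by exact_mod_cast hzc0
  have hhR : (0 : ℝ) < (h : ℝ) := by exact_mod_cast hh0
  have hpm : (p : ℝ) * (m : ℝ) ^ 2 = (h : ℝ) * SB := by
    have h1 : (zc : ℝ) ^ 2 * ((p : ℝ) * (m : ℝ) ^ 2) = (zc : ℝ) ^ 2 * ((h : ℝ) * SB) := by
      linear_combination hidR
    exact mul_left_cancel₀ (pow_ne_zero 2 hzcR.ne') h1
  have hlowR : (h : ℝ) * ((p : ℝ) - 1) ^ 2 ≤ (p : ℝ) ^ 3 * (m : ℝ) ^ 2 := by
    have h1 : ((h * (p - 1) ^ 2 : ℕ) : ℝ) ≤ ((p ^ 3 * m ^ 2 : ℕ) : ℝ) := by exact_mod_cast hlow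
    rw [Nat.cast_mul, Nat.cast_pow, Nat.cast_sub hp1] at h1
    push_cast at h1
    exact h1
  have hfin : (h : ℝ) * ((p : ℝ) - 1) ^ 2 ≤ (h : ℝ) * (SB * (p : ℝ) ^ 2) := by
    calc (h : ℝ) * ((p : ℝ) - 1) ^ 2 ≤ (p : ℝ) ^ 3 * (m : ℝ) ^ 2 := hlowR
      _ = (p : ℝ) ^ 2 * ((p : ℝ) * (m : ℝ) ^ 2) := by ring
      _ = (p : ℝ) ^ 2 * ((h : ℝ) * SB) := by rw [hpm]
      _ = (h : ℝ) * (SB * (p : ℝ) ^ 2) := by ring
  have := le_of_mul_le_mul_left hfin hhR
  linarith

end Cfsg.Agent.S4705P
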