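import Mathlib
import Cfsg.Prelude.Def_Characters
import Cfsg.Prelude.Def_Blocks
import Cfsg.Agent.Helper24.Abelian
import Cfsg.Agent.Helper24.Linear
import Cfsg.Agent.Helper1.W2pDefs
import Cfsg.Agent.Helper8.W2pT1

set_option autoImplicit false
set_option maxHeartbeats 800000

/-! S4501 piece BD3: unpack `BrauerData` for `p = 3`, `e = 2`. -/

namespace Cfsg.Agent.Lead.S4501BD3

/-- two complex numbers with sum `-2` and square norms adding to `2` are both `-1` -/
theorem eq_neg_one_of_sum_of_norm {a b : ℂ} (hs : a + b = -2)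
    (hn : a * (starRingEnd ℂ) a + b * (starRingEnd ℂ) b = 2) : a = -1 ∧ b = -1 := by
  have hb : b = -2 - a := by linear_combination hs
  subst hb
  -- (a+1) * conj (a+1) = 0
  have h1 : (a + 1) * (starRingEnd ℂ) (a + 1) = 0 := by
    have hs' : (starRingEnd ℂ) (-2 - a) = -2 - (starRingEnd ℂ) a := by
      rw [map_sub, map_neg]
      congr 1
      rw [show (2 : ℂ) = ((2 : ℕ) : ℂ) by norm_num, map_natCast]
    rw [hs'] at hn
    rw [map_add, map_one]
    linear_combination (1 / 2 : ℂ) * hn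
  have h2 : a + 1 = 0 := by
    rcases mul_eq_zero.mp h1 with h | h
    · exact h
    · have := congrArg (starRingEnd ℂ) h
      rw [Complex.conj_conj, map_zero] at this
      exact this
  have ha : a = -1 := by linear_combination h2
  refine ⟨ha, ?_⟩
  rw [ha]; norm_num

end Cfsg.Agent.Lead.S4501BD3

namespace Cfsg.Agent.S4501P

open Cfsg Cfsg.Agent.Helper24
open scoped ComplexConjugate

universe u

variable {G : Type u} [Group G] [Finite G]

theorem brauer_three (P : Sylow 3 G) (hP : Nat.card P = 3)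
    (hC : Subgroup.centralizer ((P : Subgroup G) : Set G) = (P : Subgroup G))
    (heN : Cfsg.Agent.Helper1.W2p.eN (P : Subgroup G) = 2)
    (hperf : ∀ χ : IrrCharacter G, irrDeg χ = 1 → χ = trivIrr G) :
    ∃ (f : ℕ) (χf χg : IrrCharacter G), 2 ≤ f ∧ f % 3 = 1 ∧ irrDeg χf = f ∧ irrDeg χg = f + 1 ∧
      (∀ y ∈ (P : Subgroup G), y ≠ 1 → (χf : G → ℂ) y = 1 ∧ (χg : G → ℂ) y = -1) ∧
      (∀ χ : IrrCharacter G, χ ≠ trivIrr G → χ ≠ χf → χ ≠ χg →
        ∀ y ∈ (P : Subgroup G), y ≠ 1 → (χ : G → ℂ) y = 0) ∧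
      (∀ g : G, ¬ 3 ∣ orderOf g → 1 + (χf : G → ℂ) g = (χg : G → ℂ) g) := by
  classical
  haveI : Fact (Nat.Prime 3) := ⟨Nat.prime_three⟩
  obtain ⟨D⟩ := Cfsg.Agent.Helper8.W2p.exists_brauerData 3 (by norm_num) P hP hC
  -- X = {triv, χ}
  have hX2 : (D.X).ncard = 2 := by
    rw [← _root_.Nat.card_coe_set_eq, D.card_X, heN]
  obtain ⟨x1, x2, hx12, hXeq⟩ := Set.ncard_eq_two.mp hX2
  obtain ⟨χ, hχX, hχ1, hXeq'⟩ : ∃ χ : IrrCharacter G, χ ∈ D.X ∧ χ ≠ trivIrr G ∧
      D.X = {trivIrr G, χ} := by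
    have ht := D.triv_mem
    rw [hXeq] at ht
    rcases ht with h | h
    · refine ⟨x2, ?_, ?_, ?_⟩
      · rw [hXeq]; exact Set.mem_insert_of_mem _ rfl
      · rw [h]; exact fun h' => hx12 h'.symm
      · rw [hXeq, h]
    · have h' : trivIrr G = x2 := h
      refine ⟨x1, ?_, ?_, ?_⟩
      · rw [hXeq]; exact Set.mem_insert _ _
      · rw [h']; exact hx12
      · rw [hXeq, h', Set.pair_comm]
  -- Y = {ψ}
  have hY1 : (D.Y).ncard = 1 := by
    have h := D.card_Y
    rw [heN, _root_.Nat.card_coe_set_eq] at h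
    omega
  obtain ⟨ψ, hYeq⟩ := Set.ncard_eq_one.mp hY1
  have hψY : ψ ∈ D.Y := by rw [hYeq]; exact rfl
  have hψX : ψ ∉ D.X := fun h => (Set.disjoint_left.mp D.disj h) hψY
  have hψ1 : ψ ≠ trivIrr G := fun h => hψX (h ▸ D.triv_mem)
  have hψχ : ψ ≠ χ := fun h => hψX (h ▸ hχX)
  -- two non-identity elements of P
  have hPfin : Fintype ↥(P : Subgroup G) := Fintype.ofFinite _
  -- Lam ψ = -1 on P#
  have hLam : ∀ y ∈ (P : Subgroup G), y ≠ 1 → D.Lam ψ y = -1 := by
    intro y hy hy1
    -- P = {1, y, y²}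
    have hyord : orderOf y = 3 := by
      have h1 := orderOf_dvd_natCard (⟨y, hy⟩ : (P : Subgroup G))
      rw [Subgroup.orderOf_mk, hP] at h1
      rcases (Nat.dvd_prime Nat.prime_three).mp h1 with h | h
      · exact absurd (orderOf_eq_one_iff.mp h) hy1
      · exact h
    let y' : (P : Subgroup G) := ⟨y, hy⟩
    have hy'ord : orderOf y' = 3 := by rw [Subgroup.orderOf_mk]; exact hyord
    have huniv : (Finset.univ : Finset (P : Subgroup G)) = {1, y', y' ^ 2} := by
      symm
      apply Finset.eq_univ_of_card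
      have hc : Fintype.card (P : Subgroup G) = 3 := by
        rw [← Nat.card_eq_fintype_card]; exact hP
      rw [hc]
      have h1 : (1 : (P : Subgroup G)) ≠ y' := by
        intro h; apply hy1; exact (congrArg Subtype.val h).symm
      have h2 : (1 : (P : Subgroup G)) ≠ y' ^ 2 := by
        intro h
        have : orderOf y' ∣ 2 := orderOf_dvd_of_pow_eq_one h.symm
        rw [hy'ord] at this; omega
      have h3 : y' ≠ y' ^ 2 := by
        intro h
        have h4 : y' = 1 := by
          have : y' ^ 2 = y' * y' := pow_two y'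
          rw [this] at h
          exact (mul_eq_left.mp h.symm)
        exact h1 h4.symm
      rw [Finset.card_insert_of_notMem, Finset.card_insert_of_notMem, Finset.card_singleton]
      · simpa using h3
      · simp only [Finset.mem_insert, Finset.mem_singleton, not_or]
        exact ⟨h1, h2⟩
    have hy'1 : (1 : (P : Subgroup G)) ≠ y' := by
      intro h; apply hy1; exact (congrArg Subtype.val h).symm
    have hy'2 : (1 : (P : Subgroup G)) ≠ y' ^ 2 := by
      intro h
      have : orderOf y' ∣ 2 := orderOf_dvd_of_pow_eq_one h.symm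
      rw [hy'ord] at this; omega
    have hy'3 : y' ≠ y' ^ 2 := by
      intro h
      have h4 : y' = 1 := by
        have : y' ^ 2 = y' * y' := pow_two y'
        rw [this] at h
        exact (mul_eq_left.mp h.symm)
      exact hy'1 h4.symm
    have hsum := D.Lam_sum ψ hψY
    have hnorm := D.Lam_norm ψ hψY
    rw [finsum_eq_sum_of_fintype, huniv] at hsum hnorm
    rw [Finset.sum_insert (by simp only [Finset.mem_insert, Finset.mem_singleton, not_or]; exact ⟨hy'1, hy'2⟩),
      Finset.sum_insert (by simpa using hy'3), Finset.sum_singleton] at hsum hnorm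
    have hone := D.Lam_one ψ hψY
    rw [heN] at hone
    have hone' : D.Lam ψ ((1 : (P : Subgroup G)) : G) = 2 := by
      rw [Subgroup.coe_one, hone]; norm_num
    rw [hone'] at hsum hnorm
    have hs : D.Lam ψ (y' : G) + D.Lam ψ ((y' ^ 2 : (P : Subgroup G)) : G) = -2 := by
      linear_combination hsum
    have hn : D.Lam ψ (y' : G) * (starRingEnd ℂ) (D.Lam ψ (y' : G)) +
        D.Lam ψ ((y' ^ 2 : (P : Subgroup G)) : G) *
          (starRingEnd ℂ) (D.Lam ψ ((y' ^ 2 : (P : Subgroup G)) : G)) = 2 := by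
      have h2 : (starRingEnd ℂ) (2 : ℂ) = 2 := by
        rw [show (2 : ℂ) = ((2 : ℕ) : ℂ) by norm_num, map_natCast]
      rw [h2, heN] at hnorm
      push_cast at hnorm
      linear_combination hnorm
    exact (Cfsg.Agent.Lead.S4501BD3.eq_neg_one_of_sum_of_norm hs hn).1
  -- relation on 3-regular elements
  have hrel : ∀ g : G, ¬ 3 ∣ orderOf g →
      1 + (D.δ χ : ℂ) * (χ : G → ℂ) g = (D.ε : ℂ) * (ψ : G → ℂ) g := by
    intro g hg
    have h := D.rel ψ hψY g hg
    rw [hXeq', finsum_mem_pair hχ1.symm, D.δ_triv, trivIrr_apply] at h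
    rw [← h]; push_cast; ring
  have hdegχ := irrDeg_spec χ
  have hdegψ := irrDeg_spec ψ
  have hrel1 := hrel 1 (by rw [orderOf_one]; norm_num)
  rw [hdegχ, hdegψ] at hrel1
  have hχpos := irrDeg_pos χ
  have hψpos := irrDeg_pos ψ
  have hχne1 : irrDeg χ ≠ 1 := fun h => hχ1 (hperf χ h)
  have hψne1 : irrDeg ψ ≠ 1 := fun h => hψ1 (hperf ψ h)
  have hother : ∀ χ' : IrrCharacter G, χ' ≠ trivIrr G → χ' ≠ χ → χ' ≠ ψ →
      ∀ y ∈ (P : Subgroup G), y ≠ 1 → (χ' : G → ℂ) y = 0 := by
    intro χ' h1 h2 h3 y hy hy1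
    apply D.val_other χ' _ _ y hy hy1
    · rw [hXeq']
      intro h
      rcases h with h | h
      · exact h1 h
      · exact h2 h
    · rw [hYeq]
      intro h
      exact h3 h
  rcases D.δ_pm χ hχX with hδ | hδ
  · -- δ = 1
    have hε : D.ε = 1 := by
      rcases D.ε_pm with h | h
      · exact h
      · exfalso
        rw [hδ, h] at hrel1
        have h0 : (((1 : ℤ) + (irrDeg χ : ℤ) : ℤ) : ℂ) = ((-(irrDeg ψ : ℤ) : ℤ) : ℂ) := by
          push_cast at hrel1 ⊢; linear_combination hrel1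
        have : (1 : ℤ) + irrDeg χ = - irrDeg ψ := by exact_mod_cast h0
        omega
    rw [hδ, hε] at hrel1
    have hdeg : irrDeg ψ = irrDeg χ + 1 := by
      have h0 : (((1 : ℤ) + (irrDeg χ : ℤ) : ℤ) : ℂ) = (((irrDeg ψ : ℤ) : ℤ) : ℂ) := by
        push_cast at hrel1 ⊢; linear_combination hrel1
      have : (1 : ℤ) + irrDeg χ = irrDeg ψ := by exact_mod_cast h0
      omega
    refine ⟨irrDeg χ, χ, ψ, by omega, ?_, rfl, hdeg, ?_, ?_, ?_⟩
    · have h := D.deg_X χ hχX
      rw [hδ] at h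
      have h2 := h.dvd
      omega
    · intro y hy hy1
      refine ⟨?_, ?_⟩
      · rw [D.val_X χ hχX y hy hy1, hδ]; norm_num
      · rw [D.val_Y ψ hψY y hy hy1, hε, hLam y hy hy1]; norm_num
    · intro χ' h1 h2 h3
      exact hother χ' h1 h2 h3
    · intro g hg
      have := hrel g hg
      rw [hδ, hε] at this
      push_cast at this
      linear_combination this
  · -- δ = -1
    have hε : D.ε = -1 := by
      rcases D.ε_pm with h | h
      · exfalso
        rw [hδ, h] at hrel1
        have h0 : (((1 : ℤ) - (irrDeg χ : ℤ) : ℤ) : ℂ) = (((irrDeg ψ : ℤ) : ℤ) : ℂ) := by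
          push_cast at hrel1 ⊢; linear_combination hrel1
        have : (1 : ℤ) - irrDeg χ = irrDeg ψ := by exact_mod_cast h0
        omega
      · exact h
    rw [hδ, hε] at hrel1
    have hdeg : irrDeg χ = irrDeg ψ + 1 := by
      have h0 : (((1 : ℤ) - (irrDeg χ : ℤ) : ℤ) : ℂ) = ((-(irrDeg ψ : ℤ) : ℤ) : ℂ) := by
        push_cast at hrel1 ⊢; linear_combination hrel1
      have : (1 : ℤ) - irrDeg χ = - irrDeg ψ := by exact_mod_cast h0
      omega
    refine ⟨irrDeg ψ, ψ, χ, by omega, ?_, rfl, hdeg, ?_, ?_, ?_⟩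
    · have h := D.deg_Y ψ hψY
      rw [hε, heN] at h
      omega
    · intro y hy hy1
      refine ⟨?_, ?_⟩
      · rw [D.val_Y ψ hψY y hy hy1, hε, hLam y hy hy1]; norm_num
      · rw [D.val_X χ hχX y hy hy1, hδ]; norm_num
    · intro χ' h1 h2 h3
      exact hother χ' h1 h3 h2
    · intro g hg
      have := hrel g hg
      rw [hδ, hε] at this
      push_cast at this
      linear_combination this

end Cfsg.Agent.S4501P
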