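import Mathlib
import Cfsg.Prelude.Def_Characters
import Cfsg.Prelude.Def_Blocks
import Cfsg.Agent.Helper24.Abelian
import Cfsg.Agent.Helper24.Linear
import Cfsg.Agent.Helper8.CharVal
import Cfsg.Agent.Helper8.KleinBlock

set_option autoImplicit false

/-! S4501 piece IV: a faithful irreducible character of degree 3 with trivial "centre" takes the
values `±1` at involutions. -/

namespace Cfsg.Agent.S4501P

open Cfsg Cfsg.Agent.Helper24
open scoped ComplexConjugate

universe u

variable {G : Type u} [Group G] [Finite G]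

theorem deg3_involution_value (χ : IrrCharacter G) (hdeg : irrDeg χ = 3)
    (hfaith : ∀ g : G, (χ : G → ℂ) g = (χ : G → ℂ) 1 → g = 1)
    (hcent : ∀ g : G, ‖(χ : G → ℂ) g‖ = (irrDeg χ : ℝ) → g = 1)
    (τ : G) (hτ : orderOf τ = 2) : (χ : G → ℂ) τ = 1 ∨ (χ : G → ℂ) τ = -1 := by
  classical
  haveI : Fintype G := Fintype.ofFinite G
  have hτ1 : τ ≠ 1 := by
    intro h; rw [h, orderOf_one] at hτ; omega
  obtain ⟨n, hn, h2⟩ := Cfsg.Agent.Helper8.KleinB.exists_int_involution χ hτ
  obtain ⟨d, hd1, hdle⟩ := Cfsg.Agent.Helper8.char_norm_le (IsIrrCharacter.isCharacter χ.2)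
  have hd : d = 3 := by
    have := irrDeg_spec χ
    rw [hd1, hdeg] at this
    exact_mod_cast this
  have hle := hdle τ
  rw [hn, hd, Complex.norm_intCast] at hle
  have hn3 : |n| ≤ 3 := by exact_mod_cast hle
  rw [hdeg] at h2
  have hcases : n = -3 ∨ n = -1 ∨ n = 1 ∨ n = 3 := by
    obtain ⟨k, hk⟩ := h2
    rw [abs_le] at hn3
    push_cast at hk
    omega
  rcases hcases with h | h | h | h
  · exfalso; apply hτ1; apply hcent; rw [hn, h, hdeg]; norm_num
  · right; rw [hn, h]; norm_num
  · left; rw [hn, h]; norm_num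
  · exfalso; apply hτ1; apply hfaith; rw [hn, h, irrDeg_spec, hdeg]; norm_num

end Cfsg.Agent.S4501P
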