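import Mathlib
import Cfsg.Agent.Lead.S2553Defs
import Cfsg.Agent.Helper11.SimpleTools

set_option autoImplicit false

/-! S2553 piece IDX. -/

namespace Cfsg.Agent.S2553P

/-- IDX (1/2) -/
theorem card_A8 : Nat.card ↥A8 = 20160 := by
  have h := nat_card_alternatingGroup (α := Fin 8)
  rw [Nat.card_eq_fintype_card (α := Fin 8), Fintype.card_fin] at h
  rw [h]
  decide

namespace IDX

theorem A8_not_comm : ¬ IsMulCommutative ↥A8 := by
  intro h
  have := alternatingGroup.isMulCommutative_iff_card_le_three.mp h
  simp at this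

theorem A8_simple : IsSimpleGroup ↥A8 := alternatingGroup.isSimpleGroup (by simp)

end IDX

/-- IDX (2/2): a proper subgroup of `A₈` has index at least 8 -/
theorem card_le_of_ne (S : Subgroup Γ8) (hSA : S ≤ A8) (hne : S ≠ A8) :
    8 * Nat.card ↥S ≤ 20160 := by
  have hs := IDX.A8_simple
  have hne' : S.subgroupOf A8 ≠ ⊤ := by
    intro h
    apply hne
    exact le_antisymm hSA (Subgroup.subgroupOf_eq_top.mp h)
  have hdvd := Cfsg.Agent.Helper11.simple_two_mul_card_dvd_factorial IDX.A8_not_comm
    (S.subgroupOf A8) hne'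
  rw [card_A8] at hdvd
  have hidx : (S.subgroupOf A8).index * Nat.card ↥S = 20160 := by
    have h1 := (S.subgroupOf A8).index_mul_card
    rw [card_A8] at h1
    rw [← h1]
    congr 1
    exact (Nat.card_congr (Subgroup.subgroupOfEquivOfLe hSA).toEquiv).symm
  have h8 : 8 ≤ (S.subgroupOf A8).index := by
    by_contra hlt
    have hlt := Nat.lt_of_not_le hlt
    have h7 : ((S.subgroupOf A8).index).factorial ∣ (7 : ℕ).factorial :=
      Nat.factorial_dvd_factorial (by omega)
    have := hdvd.trans h7
    revert this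
    decide
  calc 8 * Nat.card ↥S ≤ (S.subgroupOf A8).index * Nat.card ↥S := Nat.mul_le_mul_right _ h8
    _ = 20160 := hidx

end Cfsg.Agent.S2553P
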