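import Cfsg.Agent.Helper3.OC2Q2.Defs

set_option autoImplicit false
set_option linter.unusedSectionVars false
set_option linter.unusedVariables false

/-! # S5694 chapter CHAR2, sub-chapter Q2 (driver helper3): piece QYC (lead) -/

namespace Cfsg.Agent.OC2K

open Matrix Cfsg.Agent.Helper28.Sg Cfsg.Agent.Helper28.Spin Cfsg.Agent.Helper12.OrthGen
  Cfsg.Agent.S2614 Cfsg.Agent.S5683P Cfsg.Agent.Helper28.NDM

variable {F : Type*} [Field F] {t k : ℕ} {ι : Type} [Fintype ι] [DecidableEq ι] {Q : QuadraticForm F (ι → F)} [QHyp Q] {D : Fin t → Submodule F (ι → F)}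
  {M : Subgroup (OGq Q)}

theorem Q2.QYC.main (hF : Q2.IsF2 F) (hD : HD Q k D) (hW : Q2.W1 Q D) {c : Fin t}
    {a x₁ x₂ yc : ι → F} (ha : a ∈ D c) (hx₁ : x₁ ∈ D c) (hx₂ : x₂ ∈ D c) (hyc : yc ∈ D c)
    (hQ₁ : Q x₁ = 0) (hQ₂ : Q x₂ = 0) (h12 : B Q x₁ x₂ = 1) (ha₁ : B Q a x₁ = 0) (ha₂ : B Q a x₂ = 0)
    (hy₁ : B Q yc x₁ = 1) (hy₂ : B Q yc x₂ = 1) (hya : B Q yc a = 1) : Q yc = 0 := by
  by_contra hQy
  have hQy1 : Q yc = 1 := Q2.eq_one hF hQy
  have h2 : (1 : F) + 1 = 0 := Q2.add_self hF 1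
  have hx10 : x₁ ≠ 0 := by
    rintro rfl
    have : B Q (0 : ι → F) x₂ = 0 := QuadraticMap.polar_zero_left _ _
    rw [this] at h12
    exact one_ne_zero h12.symm
  have h21 : B Q x₂ x₁ = 1 := by rw [B_comm]; exact h12
  have h11 : B Q x₁ x₁ = 0 := Q2.B_self_zero hF x₁
  have h1a : B Q x₁ a = 0 := by rw [B_comm]; exact ha₁
  have h2a : B Q x₂ a = 0 := by rw [B_comm]; exact ha₂
  set a'' : ι → F := yc + x₁ + x₂ with ha''
  have hmem : a'' ∈ D c := (D c).add_mem ((D c).add_mem hyc hx₁) hx₂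
  have hB1 : B Q x₁ a'' = 0 := by
    rw [B_comm, ha'']
    have : B Q (yc + x₁ + x₂) x₁ = B Q yc x₁ + B Q x₁ x₁ + B Q x₂ x₁ := by
      unfold B; rw [QuadraticMap.polar_add_left, QuadraticMap.polar_add_left]
    rw [this, hy₁, h11, h21, add_zero]; exact h2
  have hBa : B Q a'' a = 1 := by
    have : B Q (yc + x₁ + x₂) a = B Q yc a + B Q x₁ a + B Q x₂ a := by
      unfold B; rw [QuadraticMap.polar_add_left, QuadraticMap.polar_add_left]
    rw [ha'', this, hya, h1a, h2a, add_zero, add_zero]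
  have hQa'' : Q a'' = 0 := by
    have e1 : Q (yc + x₁ + x₂) = Q (yc + x₁) + Q x₂ + B Q (yc + x₁) x₂ := Q_add _ _ _
    have e2 : Q (yc + x₁) = Q yc + Q x₁ + B Q yc x₁ := Q_add _ _ _
    have e3 : B Q (yc + x₁) x₂ = B Q yc x₂ + B Q x₁ x₂ := by
      unfold B; rw [QuadraticMap.polar_add_left]
    rw [ha'', e1, e2, e3, hQy1, hQ₁, hQ₂, hy₁, hy₂, h12]
    linear_combination 2 * h2
  obtain ⟨s, hs⟩ := hW c x₁ hx₁ a'' hmem hQ₁ hQa'' hB1 hx10
  have : B Q a'' a = 0 := by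
    rw [hs]
    have : B Q (s • x₁) a = s * B Q x₁ a := by
      unfold B; rw [QuadraticMap.polar_smul_left]; rfl
    rw [this, h1a, mul_zero]
  rw [this] at hBa
  exact one_ne_zero hBa.symm

end Cfsg.Agent.OC2K
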