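import Mathlib
import Cfsg.Agent.Helper26.S5704GENDDefs
import Cfsg.Agent.Helper26.S5704ROOTS

set_option autoImplicit false
set_option linter.unusedSectionVars false
set_option linter.unusedVariables false

/-! # S5704, SEED/GEND piece SIEGGE: the Siegel element `ρ(u ⊗ z, (-α • u') ⊗ p)` satisfies `GE u u' z p α 0`. -/

namespace Cfsg.Agent.S5704P

open Matrix Cfsg.Agent.S5637P Cfsg.Agent.S5704S Cfsg.Agent.Helper28.Sg

variable {F : Type*} [Field F] {n a b : ℕ} (e : Fin n ≃ Fin a × Fin b)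

/-- the polar form on pure tensors (`P = 1`) -/
theorem GEND.SIEGGE.pol {Q : QuadraticForm F (Fin n → F)} {GU : Matrix (Fin a) (Fin a) F}
    {GW : Matrix (Fin b) (Fin b) F} (hT : TData Q e 1 GU GW) (u u' : Fin a → F) (w w' : Fin b → F) :
    B Q (tn e u w) (tn e u' w') = bf GU u u' * bf GW w w' := by
  have h := hT.pol u w u' w'
  rw [pt_one, pt_one] at h
  exact h

/-- `Q` vanishes on pure tensors (`P = 1`) -/
theorem GEND.SIEGGE.sing {Q : QuadraticForm F (Fin n → F)} {GU : Matrix (Fin a) (Fin a) F}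
    {GW : Matrix (Fin b) (Fin b) F} (hT : TData Q e 1 GU GW) (u : Fin a → F) (w : Fin b → F) :
    Q (tn e u w) = 0 := by
  have h := hT.sing u w
  rw [pt_one] at h
  exact h

theorem GEND.SIEGGE.ge {Q : QuadraticForm F (Fin n → F)} {GU : Matrix (Fin a) (Fin a) F}
    {GW : Matrix (Fin b) (Fin b) F} (hT : TData Q e 1 GU GW) (u u' : Fin a → F) (z p : Fin b → F)
    (α : F) (hX : Q (tn e u z) = 0) (hXv : B Q (tn e u z) (tn e ((-α) • u') p) = 0) :
    GE e GU GW u u' z p α 0
      ((siegO Q (tn e u z) (tn e ((-α) • u') p) hX hXv : ↥(Cfsg.isometryGroup F ⇑Q)) : GL (Fin n) F) := by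
  intro x w
  have hU := hT.sympU
  have hW := hT.sympW
  have h1 := siegO_mulVec Q (tn e u z) (tn e ((-α) • u') p) hX hXv (tn e x w)
  rw [GEND.SIEGGE.pol e hT, GEND.SIEGGE.pol e hT, GEND.SIEGGE.sing e hT] at h1
  show mt Q (siegO Q (tn e u z) (tn e ((-α) • u') p) hX hXv) *ᵥ tn e x w = _
  rw [h1, bf_smul_left, hU.skew u x, hW.skew z w, hU.skew u' x, hW.skew p w]
  simp only [tn_smul_left, zero_mul, zero_smul, add_zero, zero_add, smul_smul,
    sub_zero]
  module

end Cfsg.Agent.S5704P
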