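import Mathlib
import Cfsg.Agent.Helper26.S5704GENDDefs
import Cfsg.Agent.Helper26.S5704ROOTS
import Cfsg.Agent.Lead.S5704GENDSIEGGE

set_option autoImplicit false
set_option linter.unusedSectionVars false
set_option linter.unusedVariables false

/-! # S5704, SEED/GEND piece GESIEG: an element of `M` with `GE u u' z p α 0` gives `InM`. -/

namespace Cfsg.Agent.S5704P

open Matrix Cfsg.Agent.S5637P Cfsg.Agent.S5704S Cfsg.Agent.Helper28.Sg

variable {F : Type*} [Field F] {n a b : ℕ} (e : Fin n ≃ Fin a × Fin b)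

theorem GEND.GESIEG.inM {Q : QuadraticForm F (Fin n → F)} {GU : Matrix (Fin a) (Fin a) F}
    {GW : Matrix (Fin b) (Fin b) F} (hT : TData Q e 1 GU GW) {M : Subgroup (GL (Fin n) F)}
    {u u' : Fin a → F} {z p : Fin b → F} {α : F} (h0 : bf GU u u' = 0 ∨ bf GW z p = 0)
    {k : GL (Fin n) F} (hk : k ∈ M) (hGE : GE e GU GW u u' z p α 0 k) :
    InM Q (MO Q M) (tn e u z) (tn e ((-α) • u') p) := by
  have hX : Q (tn e u z) = 0 := GEND.SIEGGE.sing e hT u z
  have hXv : B Q (tn e u z) (tn e ((-α) • u') p) = 0 := by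
    rw [GEND.SIEGGE.pol e hT, bf_smul_right]
    rcases h0 with h | h
    · rw [h, mul_zero, zero_mul]
    · rw [h, mul_zero]
  refine ⟨hX, hXv, ?_⟩
  have hS := GEND.SIEGGE.ge e hT u u' z p α hX hXv
  have hkeq : k = ((siegO Q (tn e u z) (tn e ((-α) • u') p) hX hXv :
      ↥(Cfsg.isometryGroup F ⇑Q)) : GL (Fin n) F) := by
    apply gl_ext_tn e
    intro x w
    rw [hGE x w, hS x w]
  show (Cfsg.isometryGroup F ⇑Q).subtype (siegO Q (tn e u z) (tn e ((-α) • u') p) hX hXv) ∈ M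
  rw [Subgroup.coe_subtype, ← hkeq]
  exact hk

end Cfsg.Agent.S5704P
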