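import Mathlib
import Cfsg.Agent.Helper26.S5704GENDDefs
import Cfsg.Agent.Helper26.S5704ROOTS
import Cfsg.Agent.Helper14.S5704GENDGECONJW
import Cfsg.Agent.Helper10.S5704GENDSPTRANSV

set_option autoImplicit false
set_option linter.unusedSectionVars false
set_option linter.unusedVariables false

/-! # S5704, SEED/GEND piece WMOVE: change the base point of a `GFam` family. -/

namespace Cfsg.Agent.S5704P

open Matrix Cfsg.Agent.S5637P Cfsg.Agent.S5704S Cfsg.Agent.Helper28.Sg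

variable {F : Type*} [Field F] {n a b : ℕ} (e : Fin n ≃ Fin a × Fin b)

theorem GEND.WMOVE.one {GU : Matrix (Fin a) (Fin a) F} {GW : Matrix (Fin b) (Fin b) F}
    (hW : IsSymp GW) {M : Subgroup (GL (Fin n) F)}
    (hroot : ∀ (y : Fin b → F) (c : F), XW e GW y c ∈ M) {lam lam' : F} {u u' : Fin a → F}
    {z : Fin b → F} (hF : GFam e GU GW M lam lam' u u' z) (y : Fin b → F) (c₀ : F) :
    GFam e GU GW M lam lam' u u' (tv GW y c₀ z) := by
  intro c p' hp'
  have hp : bf GW (tv GW y (-c₀) p') z = 0 := by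
    rw [bf_tv_neg_left hW]
    exact hp'
  obtain ⟨k, hkM, hk⟩ := hF c (tv GW y (-c₀) p') hp
  refine ⟨XW e GW y c₀ * k * (XW e GW y c₀)⁻¹,
    M.mul_mem (M.mul_mem (hroot y c₀) hkM) (M.inv_mem (hroot y c₀)), ?_⟩
  have h := GEND.GECONJW.conj e hW hk y c₀
  rw [tv_tv_neg hW] at h
  exact h

theorem GEND.WMOVE.fam {GU : Matrix (Fin a) (Fin a) F} {GW : Matrix (Fin b) (Fin b) F}
    (hW : IsSymp GW) {M : Subgroup (GL (Fin n) F)}
    (hroot : ∀ (y : Fin b → F) (c : F), XW e GW y c ∈ M) {lam lam' : F} {u u' : Fin a → F}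
    {z w : Fin b → F} (hz : z ≠ 0) (hw : w ≠ 0) (hF : GFam e GU GW M lam lam' u u' z) :
    GFam e GU GW M lam lam' u u' w := by
  obtain ⟨y1, c1, y2, c2, h⟩ := GEND.SPTRANSV.exists hW hz hw
  have h1 := GEND.WMOVE.one e hW hroot hF y1 c1
  have h2 := GEND.WMOVE.one e hW hroot h1 y2 c2
  rw [h] at h2
  exact h2

end Cfsg.Agent.S5704P
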