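import Cfsg.Agent.Helper24.S5637.Defs

set_option autoImplicit false
set_option linter.unusedSectionVars false
set_option linter.unusedVariables false

/-! # S5637 piece STARALPHA (lead) -/

namespace Cfsg.Agent.S5637P

open Matrix Kronecker Cfsg.Agent.Helper28.SLMax Cfsg.Agent.S5634P
open scoped MatrixGroups

variable {F : Type*} [Field F] {n a b : ℕ} (e : Fin n ≃ Fin a × Fin b)

/-- a functional with `ψ₀ w = 1` -/
theorem STARALPHA.dual {w : Fin b → F} (hw : w ≠ 0) : ∃ ψ₀ : Fin b → F, ψ₀ ⬝ᵥ w = 1 := by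
  obtain ⟨φ, _, h⟩ := exists_dual (⊥ : Submodule F (Fin b → F)) w
    (fun h => hw ((Submodule.mem_bot F).mp h))
  exact ⟨φ, h⟩

/-- STARALPHA (S-M). `α := j_w⁻¹ ∘ m ∘ j_w` is an injective endomorphism of `F^a`
(`tn_left_injective`), hence invertible. -/
theorem STARALPHA {w : Fin b → F} (hw : w ≠ 0) (m : GL (Fin n) F)
    (hm : gmap m (Vw e w) = Vw e w) :
    ∃ α : GL (Fin a) F, ∀ u : Fin a → F,
      (m : Matrix (Fin n) (Fin n) F) *ᵥ tn e u w = tn e ((α : Matrix (Fin a) (Fin a) F) *ᵥ u) w := by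
  obtain ⟨ψ₀, hψ₀⟩ := STARALPHA.dual hw
  set f : (Fin a → F) →ₗ[F] (Fin a → F) :=
    (cps e ψ₀).comp ((Matrix.toLin' (m : Matrix (Fin n) (Fin n) F)).comp (jw e w)) with hf
  have hfu : ∀ u : Fin a → F,
      (m : Matrix (Fin n) (Fin n) F) *ᵥ tn e u w = tn e (f u) w := by
    intro u
    have h1 : (m : Matrix (Fin n) (Fin n) F) *ᵥ tn e u w ∈ Vw e w := by
      rw [← hm]
      exact mulVec_mem_gmap (tn_mem_Vw e u w)
    obtain ⟨u', hu'⟩ := (mem_Vw e).mp h1
    have h2 : f u = u' := by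
      rw [hf, LinearMap.comp_apply, LinearMap.comp_apply, jw_apply, Matrix.toLin'_apply, hu',
        cps_tn, hψ₀, one_smul]
    rw [h2, hu']
  have hinj : Function.Injective (LinearMap.toMatrix' f).mulVec := by
    intro u u' huu
    have h0 : f u = f u' := by
      have := huu
      rwa [← Matrix.toLin'_apply, ← Matrix.toLin'_apply, Matrix.toLin'_toMatrix'] at this
    have h1 : (m : Matrix (Fin n) (Fin n) F) *ᵥ tn e u w =
        (m : Matrix (Fin n) (Fin n) F) *ᵥ tn e u' w := by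
      rw [hfu, hfu, h0]
    have h2 := congrArg (fun z => ((m⁻¹ : GL (Fin n) F) : Matrix (Fin n) (Fin n) F) *ᵥ z) h1
    simp only [Matrix.mulVec_mulVec, ← Units.val_mul, inv_mul_cancel, Units.val_one,
      Matrix.one_mulVec] at h2
    exact tn_left_injective e hw h2
  have hunit : IsUnit (LinearMap.toMatrix' f) := Matrix.mulVec_injective_iff_isUnit.mp hinj
  obtain ⟨α, hα⟩ := hunit
  refine ⟨α, fun u => ?_⟩
  rw [hfu u, hα, ← Matrix.toLin'_apply, Matrix.toLin'_toMatrix']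

end Cfsg.Agent.S5637P
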