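import Mathlib
import Cfsg.Prelude.Def_LieExceptional
import Cfsg.Prelude.Def_Involutions
import Cfsg.Agent.Helper18.AIDefs
set_option autoImplicit false

/-! S2202 piece SUBSYL. -/

namespace Cfsg.Agent.Lead.AI

open Cfsg Cfsg.Agent.Helper18.AI MulAction

variable {G : Type*} [Group G]

theorem sylow_subtype_facts [Finite G] (T : Sylow 2 G)
    (hnc : ¬ IsCyclic ↥(T : Subgroup G)) (Y : Subgroup G) (hTY : (T : Subgroup G) ≤ Y)
    (g : G) (hg : g ∉ Subgroup.normalizer ((T : Subgroup G) : Set G))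
    (hgY : (T : Subgroup G).map (MulAut.conj g).toMonoidHom ≤ Y) :
    ¬ IsCyclic ↥((T.subtype hTY : Sylow 2 ↥Y) : Subgroup ↥Y) ∧
    ¬ ((T.subtype hTY : Sylow 2 ↥Y) : Subgroup ↥Y).Normal := by
  classical
  have : Fact (Nat.Prime 2) := ⟨Nat.prime_two⟩
  constructor
  · intro hc
    apply hnc
    rw [Sylow.coe_subtype] at hc
    exact (Subgroup.subgroupOfEquivOfLe hTY).isCyclic.mp hc
  · intro hn
    apply hg
    set T' : Subgroup G := (T : Subgroup G).map (MulAut.conj g).toMonoidHom with hT'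
    have hT'p : IsPGroup 2 T' := T.isPGroup'.map _
    have hT'Yp : IsPGroup 2 (T'.subgroupOf Y) := hT'p.comap_subtype
    obtain ⟨Q, hQ⟩ := hT'Yp.exists_le_sylow
    have huniq := Sylow.unique_of_normal (T.subtype hTY) hn
    have hQeq : Q = T.subtype hTY := Subsingleton.elim _ _
    have hle : T' ≤ (T : Subgroup G) := by
      intro x hx
      have hxY : x ∈ Y := hgY hx
      have h1 : (⟨x, hxY⟩ : Y) ∈ T'.subgroupOf Y := by
        rw [Subgroup.mem_subgroupOf]; exact hx
      have h2 := hQ h1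
      rw [hQeq] at h2
      have h3 : (⟨x, hxY⟩ : Y) ∈ ((T.subtype hTY : Sylow 2 ↥Y) : Subgroup ↥Y) := h2
      rw [Sylow.coe_subtype, Subgroup.mem_subgroupOf] at h3
      exact h3
    have hcard : Nat.card T' = Nat.card (T : Subgroup G) :=
      Subgroup.card_map_of_injective (MulAut.conj g).injective
    have heq : T' = (T : Subgroup G) :=
      Subgroup.eq_of_le_of_card_ge hle (le_of_eq hcard.symm)
    rw [Subgroup.mem_normalizer_iff_map_conj_eq]
    exact heq
end Cfsg.Agent.Lead.AI
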