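import Mathlib
import Cfsg.Prelude.Def_OddOrderLocal
import Cfsg.Agent.Lead.CN8

set_option autoImplicit false
set_option linter.unusedSectionVars false
set_option linter.unusedVariables false
set_option linter.style.haveILetI false

/-! # Conjugacy of maximal nilpotent subgroups in a minimal simple CN-group of odd order -/

namespace Cfsg.Agent.Lead.CN

open Subgroup Cfsg
open Cfsg.Agent.Helper14 (cj mem_map_cj map_cj_one map_cj_map_cj_inv map_cj_inv_map_cj
  map_cj_le_iff cj_injective)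
open scoped Pointwise

universe u
variable {G : Type u} [Group G] [Finite G]

/-- a maximal nilpotent subgroup contains a Sylow `p`-subgroup of `G` for each prime divisor `p`
of its order -/
theorem MaxNil.exists_sylow_le (hCN : Cfsg.IsCNGroup G) {H : Subgroup G} (hH : MaxNil H)
    {p : ℕ} [hp : Fact p.Prime] (hpH : p ∣ Nat.card H) :
    ∃ P : Sylow p G, (P : Subgroup G) ≤ H ∧ (P : Subgroup G) ≠ ⊥ := by
  obtain ⟨Pp⟩ : Nonempty (Sylow p H) := inferInstance
  set P' : Subgroup G := (Pp : Subgroup H).map H.subtype with hP'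
  have hP'p : IsPGroup p P' := Pp.2.map _
  have hP'H : P' ≤ H := map_subtype_le _
  have hP'1 : P' ≠ ⊥ := by
    intro h0
    rw [hP', Subgroup.map_eq_bot_iff_of_injective _ H.subtype_injective] at h0
    exact Pp.ne_bot_of_dvd_card hpH h0
  have hidx : ¬ p ∣ P'.index := by
    rw [hP', Subgroup.index_map_subtype]
    intro h
    rcases (Nat.Prime.dvd_mul hp.out).mp h with h | h
    · exact Pp.not_dvd_index h
    · have := Nat.dvd_gcd hpH h
      rw [hH.hall hCN] at this
      exact hp.out.one_lt.ne' (Nat.dvd_one.mp this)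
  refine ⟨hP'p.toSylow hidx, ?_, ?_⟩
  · rw [hP'p.toSylow_coe hidx]
    exact hP'H
  · rw [hP'p.toSylow_coe hidx]
    exact hP'1

/-- two maximal nilpotent subgroups are conjugate or of coprime orders -/
theorem MaxNil.conj_or_coprime (hG : Cfsg.IsMinSimpleOddOrder G) (hCN : Cfsg.IsCNGroup G)
    {H₁ H₂ : Subgroup G} (h₁ : MaxNil H₁) (h₂ : MaxNil H₂) :
    (∃ g : G, H₂ = H₁.map (cj g)) ∨ (Nat.card H₁).Coprime (Nat.card H₂) := by
  by_cases hcop : (Nat.card H₁).Coprime (Nat.card H₂)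
  · exact Or.inr hcop
  · left
    obtain ⟨p, hp, hp1, hp2⟩ := Nat.Prime.not_coprime_iff_dvd.mp hcop
    haveI : Fact p.Prime := ⟨hp⟩
    obtain ⟨P₁, hP₁, -⟩ := h₁.exists_sylow_le hCN hp1
    obtain ⟨P₂, hP₂, hP₂1⟩ := h₂.exists_sylow_le hCN hp2
    obtain ⟨g, hg⟩ := MulAction.exists_smul_eq G P₁ P₂
    refine ⟨g, ?_⟩
    have hle : (P₂ : Subgroup G) ≤ H₁.map (cj g) := by
      rw [← hg, sylow_smul_coe]
      exact Subgroup.map_mono hP₁
    have hne : H₁.map (cj g) ⊓ H₂ ≠ ⊥ := by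
      intro h0
      apply hP₂1
      rw [eq_bot_iff, ← h0]
      exact le_inf hle hP₂
    exact ((h₁.conj g).eq_of_inf_ne_bot hG hCN h₂ hne).symm

/-- a nonidentity `p`-element of a subgroup forces `p` to divide the order -/
theorem dvd_card_of_pElement {H : Subgroup G} {p : ℕ} [hp : Fact p.Prime] {x : G} (hx : x ∈ H)
    (hx1 : x ≠ 1) (hxp : IsPGroup p (zpowers x)) : p ∣ Nat.card H := by
  obtain ⟨k, hk⟩ := IsPGroup.iff_card.mp hxp
  rw [Nat.card_zpowers] at hk
  have hk0 : k ≠ 0 := by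
    rintro rfl
    rw [pow_zero, orderOf_eq_one_iff] at hk
    exact hx1 hk
  have h1 : p ∣ orderOf x := by
    rw [hk]
    exact dvd_pow_self p hk0
  have h2 : orderOf x ∣ Nat.card H := by
    have := orderOf_dvd_natCard (⟨x, hx⟩ : H)
    rwa [Subgroup.orderOf_mk] at this
  exact h1.trans h2

/-- commuting of elements of prime power order is transitive on primes -/
theorem commuting_primes_trans (hG : Cfsg.IsMinSimpleOddOrder G) (hCN : Cfsg.IsCNGroup G)
    {p q r : ℕ} (hp : p.Prime) (hq : q.Prime) (hr : r.Prime) {x y y' z : G} (hx1 : x ≠ 1)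
    (hy1 : y ≠ 1) (hy'1 : y' ≠ 1) (hz1 : z ≠ 1) (hxp : IsPGroup p (zpowers x))
    (hyq : IsPGroup q (zpowers y)) (hy'q : IsPGroup q (zpowers y')) (hzr : IsPGroup r (zpowers z))
    (hxy : x * y = y * x) (hyz : y' * z = z * y') :
    ∃ x' z' : G, x' ≠ 1 ∧ z' ≠ 1 ∧ IsPGroup p (zpowers x') ∧ IsPGroup r (zpowers z') ∧
      x' * z' = z' * x' := by
  haveI : Fact p.Prime := ⟨hp⟩
  haveI : Fact q.Prime := ⟨hq⟩
  haveI : Fact r.Prime := ⟨hr⟩
  obtain ⟨H₁, h₁, hle₁⟩ := exists_maxNil_ge (hCN x hx1)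
  obtain ⟨H₂, h₂, hle₂⟩ := exists_maxNil_ge (hCN y' hy'1)
  have hxH : x ∈ H₁ := hle₁ (by rw [mem_centralizer_singleton_iff])
  have hyH : y ∈ H₁ := hle₁ (by rw [mem_centralizer_singleton_iff]; exact hxy.symm)
  have hy'H : y' ∈ H₂ := hle₂ (by rw [mem_centralizer_singleton_iff])
  have hzH : z ∈ H₂ := hle₂ (by rw [mem_centralizer_singleton_iff]; exact hyz.symm)
  have hp₁ : p ∣ Nat.card H₁ := dvd_card_of_pElement hxH hx1 hxp
  have hq₁ : q ∣ Nat.card H₁ := dvd_card_of_pElement hyH hy1 hyq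
  have hq₂ : q ∣ Nat.card H₂ := dvd_card_of_pElement hy'H hy'1 hy'q
  have hr₂ : r ∣ Nat.card H₂ := dvd_card_of_pElement hzH hz1 hzr
  have hr₁ : r ∣ Nat.card H₁ := by
    rcases h₁.conj_or_coprime hG hCN h₂ with ⟨g, hg⟩ | hcop
    · rw [hg, Subgroup.card_map_of_injective (cj_injective g)] at hr₂
      exact hr₂
    · exfalso
      have := Nat.dvd_gcd hq₁ hq₂
      rw [hcop] at this
      exact hq.one_lt.ne' (Nat.dvd_one.mp this)
  obtain ⟨x', hx'⟩ := exists_prime_orderOf_dvd_card' p hp₁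
  obtain ⟨z', hz'⟩ := exists_prime_orderOf_dvd_card' r hr₁
  have hpg : ∀ (s : ℕ) (hs : s.Prime) (w : H₁), orderOf w = s →
      (w : G) ≠ 1 ∧ IsPGroup s (zpowers (w : G)) := by
    intro s hs w hw
    constructor
    · intro h
      have : w = 1 := Subtype.ext h
      rw [this, orderOf_one] at hw
      exact hs.one_lt.ne hw
    · apply IsPGroup.of_card (n := 1)
      rw [Nat.card_zpowers, Subgroup.orderOf_coe, hw, pow_one]
  by_cases hpr : p = r
  · subst hpr
    exact ⟨x', x', (hpg p hp x' hx').1, (hpg p hp x' hx').1, (hpg p hp x' hx').2,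
      (hpg p hp x' hx').2, rfl⟩
  · haveI := h₁.1
    have hcop : (orderOf x').Coprime (orderOf z') := by
      rw [hx', hz']
      exact (Nat.coprime_primes hp hr).mpr hpr
    have hcomm := Cfsg.Agent.Helper29.commute_of_nilpotent_of_coprime_orderOf H₁ x' z' hcop
    exact ⟨x', z', (hpg p hp x' hx').1, (hpg r hr z' hz').1, (hpg p hp x' hx').2,
      (hpg r hr z' hz').2, congrArg Subtype.val hcomm.eq⟩

end Cfsg.Agent.Lead.CN
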