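import Mathlib
import Cfsg.Prelude.Def_OddOrderLocal
import Cfsg.Agent.Lead.CN9

set_option autoImplicit false
set_option linter.unusedSectionVars false
set_option linter.unusedVariables false
set_option linter.style.haveILetI false

/-! # The partition of a minimal simple CN-group of odd order by the kernels of its maximal
subgroups -/

namespace Cfsg.Agent.Lead.CN

open Subgroup Cfsg
open Cfsg.Agent.Helper14 (cj mem_map_cj map_cj_one map_cj_map_cj_inv map_cj_inv_map_cj
  map_cj_le_iff cj_injective map_cj_normalizer)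
open scoped Pointwise

universe u
variable {G : Type u} [Group G] [Finite G]

/-- a nilpotent normal subgroup of a Frobenius group lies in the kernel -/
theorem FrobIn.le_of_normal_nilpotent {X K E : Subgroup G} (h : FrobIn X K E) {N' : Subgroup G}
    (hN'X : N' ≤ X) (hXN : X ≤ normalizer (N' : Set G)) (hnil : Group.IsNilpotent N') :
    N' ≤ K := by
  intro y hy
  by_contra hyK
  have hfpf := h.fpf_of_not_mem (hN'X hy) hyK
  have hKN : K ≤ N' := by
    intro o ho
    obtain ⟨o₁, ho₁, hoo⟩ := fpf_conjN (h.hnorm (hN'X hy)) hfpf o ho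
    have h1 : o₁⁻¹ * y * o₁⁻¹⁻¹ ∈ N' :=
      (mem_normalizer_iff.mp (hXN (h.hK (K.inv_mem ho₁))) y).mp hy
    have h2 : o = (o₁⁻¹ * y * o₁⁻¹⁻¹) * y⁻¹ := by
      calc o = (o * y) * y⁻¹ := by group
        _ = (o₁⁻¹ * y * o₁) * y⁻¹ := by rw [hoo]
        _ = (o₁⁻¹ * y * o₁⁻¹⁻¹) * y⁻¹ := by group
    rw [h2]
    exact N'.mul_mem h1 (N'.inv_mem hy)
  have := h.eq_of_nilpotent hnil hKN hN'X
  rw [this] at hy
  exact hyK hy

/-- the largest normal nilpotent Hall subgroup of a Frobenius maximal subgroup is the kernel -/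
theorem fittingHallOf_eq (hCN : Cfsg.IsCNGroup G) {M K E : Subgroup G} (hF : FrobIn M K E)
    (hK : MaxNil K) : Cfsg.fittingHallOf M = K := by
  apply le_antisymm
  · unfold Cfsg.fittingHallOf Cfsg.fittingHall
    rw [Subgroup.map_le_iff_le_comap]
    apply sSup_le
    rintro N ⟨hNn, hNnil, -⟩
    intro x hx
    show (x : G) ∈ K
    have hnorm : M ≤ normalizer ((N.map M.subtype : Subgroup G) : Set G) := by
      have h1 := Subgroup.le_normalizer_map (H := N) M.subtype
      rw [Subgroup.normalizer_eq_top_iff.mpr hNn, ← MonoidHom.range_eq_map,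
        Subgroup.range_subtype] at h1
      exact h1
    have hnil : Group.IsNilpotent (N.map M.subtype) :=
      (Group.isNilpotent_congr (N.equivMapOfInjective M.subtype M.subtype_injective)).mp hNnil
    exact hF.le_of_normal_nilpotent (map_subtype_le N) hnorm hnil ⟨x, hx, rfl⟩
  · have h1 : K.subgroupOf M ≤ Cfsg.fittingHall M := by
      apply le_sSup
      refine ⟨(Subgroup.normal_subgroupOf_iff_le_normalizer hF.hK).mpr hF.hnorm, ?_, ?_⟩
      · exact (Group.isNilpotent_congr (Subgroup.subgroupOfEquivOfLe hF.hK)).mpr hK.1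
      · rw [Nat.card_congr (Subgroup.subgroupOfEquivOfLe hF.hK).toEquiv]
        have h2 : (K.subgroupOf M).index ∣ K.index := by
          have := Subgroup.relIndex_mul_index hF.hK
          exact Dvd.intro _ this
        exact Nat.Coprime.coprime_dvd_right h2 (hK.hall hCN)
    have h2 := Subgroup.map_mono (f := M.subtype) h1
    rw [Subgroup.map_subgroupOf_eq_of_le hF.hK] at h2
    exact h2

/-- **the partition theorem** -/
theorem partition_main (hG : Cfsg.IsMinSimpleOddOrder G) (hCN : Cfsg.IsCNGroup G) (k : ℕ)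
    (Mrep : Fin k → Subgroup G) (hmax : ∀ i, IsCoatom (Mrep i))
    (hnc : ∀ i j, i ≠ j → ∀ g : G, Mrep j ≠ (Mrep i).map (cj g))
    (hall : ∀ M : Subgroup G, IsCoatom M → ∃ i, ∃ g : G, M = (Mrep i).map (cj g)) :
    (∀ i j, i ≠ j → (Nat.card (Cfsg.fittingHallOf (Mrep i))).Coprime
        (Nat.card (Cfsg.fittingHallOf (Mrep j)))) ∧
      ∏ i, Nat.card (Cfsg.fittingHallOf (Mrep i)) = Nat.card G ∧
      ∀ x : G, ∃ i, ∃ g : G, g * x * g⁻¹ ∈ Cfsg.fittingHallOf (Mrep i) := by
  haveI := hG.2.1
  -- the kernels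
  have hker : ∀ i, MaxNil (Cfsg.fittingHallOf (Mrep i)) ∧
      ∃ E, FrobIn (Mrep i) (Cfsg.fittingHallOf (Mrep i)) E := by
    intro i
    obtain ⟨K, E, hF, hK⟩ := coatom_frob hG hCN (hmax i)
    rw [fittingHallOf_eq hCN hF hK]
    exact ⟨hK, E, hF⟩
  -- every maximal nilpotent subgroup is conjugate to a kernel
  have hrep : ∀ H : Subgroup G, MaxNil H →
      ∃ i, ∃ g : G, H = (Cfsg.fittingHallOf (Mrep i)).map (cj g) := by
    intro H hH
    obtain ⟨hco, E, hFH⟩ := hH.normalizer_frob hG hCN
    obtain ⟨i, g, hNg⟩ := hall _ hco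
    refine ⟨i, g, ?_⟩
    obtain ⟨hKi, Ei, hFi⟩ := hker i
    have hle : (Cfsg.fittingHallOf (Mrep i)).map (cj g) ≤ H := by
      apply hFH.le_of_normal_nilpotent
      · rw [hNg]
        exact Subgroup.map_mono hFi.hK
      · rw [hNg, ← map_cj_normalizer]
        exact Subgroup.map_mono hFi.hnorm
      · exact (hKi.conj g).1
    exact (hKi.conj g).2 H hH.1 hle
  have hcop : ∀ i j, i ≠ j → (Nat.card (Cfsg.fittingHallOf (Mrep i))).Coprime
        (Nat.card (Cfsg.fittingHallOf (Mrep j))) := by
    intro i j hij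
    obtain ⟨hKi, Ei, hFi⟩ := hker i
    obtain ⟨hKj, Ej, hFj⟩ := hker j
    rcases hKi.conj_or_coprime hG hCN hKj with ⟨g, hg⟩ | h
    · exfalso
      apply hnc i j hij g
      have h1 := normalizer_eq_of_coatom hG (hmax i) hFi.hK1 hFi.hK hFi.hnorm
      have h2 := normalizer_eq_of_coatom hG (hmax j) hFj.hK1 hFj.hK hFj.hnorm
      rw [← h2, hg, ← map_cj_normalizer, h1]
    · exact h
  refine ⟨hcop, ?_, ?_⟩
  · -- the product formula
    set a : Fin k → ℕ := fun i => Nat.card (Cfsg.fittingHallOf (Mrep i)) with ha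
    have hdvd : ∀ i, a i ∣ Nat.card G := fun i => Subgroup.card_subgroup_dvd_card _
    have hpair : Pairwise (Function.onFun IsRelPrime a) := by
      intro i j hij
      exact Nat.coprime_iff_isRelPrime.mp (hcop i j hij)
    obtain ⟨m, hm⟩ := Fintype.prod_dvd_of_isRelPrime hpair hdvd
    have hm1 : m = 1 := by
      by_contra hne
      obtain ⟨p, hp, hpm⟩ := Nat.exists_prime_and_dvd hne
      haveI : Fact p.Prime := ⟨hp⟩
      have hpG : p ∣ Nat.card G := by
        rw [hm]
        exact hpm.mul_left _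
      obtain ⟨P⟩ : Nonempty (Sylow p G) := inferInstance
      obtain ⟨H, hH, hPH⟩ := exists_maxNil_ge (L := (P : Subgroup G)) P.isPGroup'.isNilpotent
      obtain ⟨i, g, hHg⟩ := hrep H hH
      have hpa : p ∣ a i := by
        have h1 : p ∣ Nat.card (P : Subgroup G) := by
          rw [P.card_eq_multiplicity]
          apply dvd_pow_self
          intro h0
          have := (Nat.factorization_eq_zero_iff (Nat.card G) p).mp h0
          rcases this with h | h | h
          · exact h hp
          · exact h hpG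
          · exact Nat.card_pos.ne' h
        have h2 : Nat.card (P : Subgroup G) ∣ Nat.card H := Subgroup.card_dvd_of_le hPH
        have h3 : Nat.card H = a i := by
          rw [hHg, Subgroup.card_map_of_injective (cj_injective g)]
        rw [← h3]
        exact h1.trans h2
      have hidx : (Cfsg.fittingHallOf (Mrep i)).index * a i = Nat.card G :=
        Subgroup.index_mul_card _
      have hprod : ∏ x, a x = a i * ∏ x ∈ Finset.univ.erase i, a x :=
        (Finset.mul_prod_erase Finset.univ a (Finset.mem_univ i)).symm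
      have hai : 0 < a i := Nat.card_pos
      have hidx' : (Cfsg.fittingHallOf (Mrep i)).index = (∏ x ∈ Finset.univ.erase i, a x) * m := by
        have : (Cfsg.fittingHallOf (Mrep i)).index * a i =
            ((∏ x ∈ Finset.univ.erase i, a x) * m) * a i := by
          rw [hidx, hm, hprod]
          ring
        exact Nat.eq_of_mul_eq_mul_right hai this
      have hpi : p ∣ (Cfsg.fittingHallOf (Mrep i)).index := by
        rw [hidx']
        exact hpm.mul_left _
      have := Nat.dvd_gcd hpa hpi
      rw [((hker i).1.hall hCN)] at this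
      exact hp.one_lt.ne' (Nat.dvd_one.mp this)
    rw [hm, hm1, mul_one]
  · intro x
    have hnil : Group.IsNilpotent (zpowers x) := by
      letI := IsCyclic.commGroup (α := Subgroup.zpowers x)
      infer_instance
    obtain ⟨H, hH, hxH⟩ := exists_maxNil_ge hnil
    obtain ⟨i, g, hHg⟩ := hrep H hH
    refine ⟨i, g⁻¹, ?_⟩
    have hx : x ∈ (Cfsg.fittingHallOf (Mrep i)).map (cj g) := by
      rw [← hHg]
      exact hxH (mem_zpowers x)
    rw [mem_map_cj] at hx
    rw [inv_inv]
    exact hx

end Cfsg.Agent.Lead.CN
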