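import Mathlib

/-! Shared definition for the S2787 piece project (no quadratic action for PSL₂(odd q) / Ree). -/

set_option autoImplicit false

namespace Cfsg.Agent.S2787P

/-- Every `2`-subgroup `S` of `G` has an element `c` such that all elements of `S` outside
`⟨c⟩` square to `1` (true for groups whose `2`-subgroups are cyclic, dihedral, four-groups or
of exponent two). -/
def DihLike (G : Type*) [Group G] : Prop :=
  ∀ S : Subgroup G, IsPGroup 2 S → ∃ c : G, ∀ x ∈ S, x ∉ Subgroup.zpowers c → x * x = 1

end Cfsg.Agent.S2787P
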