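import Mathlib
import Cfsg.Agent.Helper29.S3501DER

set_option autoImplicit false

namespace Cfsg.Agent.S3556P

open MulAction

/-- A subgroup commuting elementwise with a transitive subgroup is semiregular (faithful action). -/
theorem CENT.semiregular {G Ω : Type*} [Group G] [MulAction G Ω] [FaithfulSMul G Ω]
    (C : Subgroup G) [IsPretransitive C Ω] (n : G) (hn : ∀ c ∈ C, c * n = n * c)
    (ω : Ω) (hfix : n • ω = ω) : n = 1 := by
  apply FaithfulSMul.eq_of_smul_eq_smul (α := Ω)
  intro ω'
  obtain ⟨c, hc⟩ := exists_smul_eq C ω ω'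
  have hc' : (c : G) • ω = ω' := hc
  rw [one_smul, ← hc', ← mul_smul, ← hn c c.2, mul_smul, hfix]

/-- (B1): under `hder`, a non-abelian normal subgroup of a faithful primitive group has trivial centraliser. -/
theorem CENT {G Ω : Type*} [Group G] [Finite G] [MulAction G Ω] [FaithfulSMul G Ω] [Finite Ω]
    (hprim : MulAction.IsPreprimitive G Ω) (p : ℕ) (hp : p.Prime)
    (hder : ∀ g : G, (∀ ω : Ω, g • ω ≠ ω) → ∃ k : ℕ, orderOf g = p ^ k)
    (N : Subgroup G) [N.Normal] (hnab : ¬ IsMulCommutative N) :
    Subgroup.centralizer (N : Set G) = ⊥ := by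
  by_contra hC
  have : Fact p.Prime := ⟨hp⟩
  have hCtrans : IsPretransitive (Subgroup.centralizer (N : Set G)) Ω :=
    Cfsg.Agent.S3501P.DER.normal_transitive _ hC
  -- `N` is semiregular
  have hsemi : ∀ n ∈ N, ∀ ω : Ω, n • ω = ω → n = 1 := by
    intro n hn ω hfix
    refine CENT.semiregular (Subgroup.centralizer (N : Set G)) n ?_ ω hfix
    intro c hc
    exact (Subgroup.mem_centralizer_iff.mp hc n hn).symm
  -- hence `N` is a `p`-group
  have hpg : IsPGroup p N := by
    intro n
    by_cases h1 : (n : G) = 1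
    · refine ⟨0, ?_⟩
      ext
      simp [h1]
    · have hd : ∀ ω : Ω, (n : G) • ω ≠ ω := fun ω hfix => h1 (hsemi n n.2 ω hfix)
      obtain ⟨k, hk⟩ := hder n hd
      refine ⟨k, ?_⟩
      ext
      rw [Subgroup.coe_pow, ← hk, pow_orderOf_eq_one]
      rfl
  -- `N ≠ ⊥`
  have hN : N ≠ ⊥ := by
    rintro rfl
    apply hnab
    exact ⟨⟨fun a b => by
      have ha : a = 1 := Subsingleton.elim _ _
      have hb : b = 1 := Subsingleton.elim _ _
      rw [ha, hb]⟩⟩
  have : Nontrivial N := (Subgroup.nontrivial_iff_ne_bot N).mpr hN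
  -- the centre of `N`, as a subgroup of `G`, is normal and non-trivial
  have hZne : (Subgroup.center N).map N.subtype ≠ ⊥ := by
    have : Nontrivial (Subgroup.center N) := hpg.center_nontrivial
    intro h
    have h2 : Subgroup.center N = ⊥ := by
      rw [Subgroup.eq_bot_iff_forall]
      intro z hz
      have : (z : G) ∈ (Subgroup.center N).map N.subtype := ⟨z, hz, rfl⟩
      rw [h, Subgroup.mem_bot] at this
      exact Subtype.ext this
    exact (Subgroup.nontrivial_iff_ne_bot _).mp ‹_› h2
  have hZn : ((Subgroup.center N).map N.subtype).Normal :=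
    ConjAct.normal_of_characteristic_of_normal
  have hZtrans : IsPretransitive ((Subgroup.center N).map N.subtype) Ω :=
    Cfsg.Agent.S3501P.DER.normal_transitive _ hZne
  -- so `N` is contained in its centre: abelian
  apply hnab
  refine ⟨⟨fun a b => ?_⟩⟩
  -- pick a point
  obtain ⟨ω0⟩ : Nonempty Ω := by
    by_contra hemp
    rw [not_nonempty_iff] at hemp
    -- with no points, faithful forces `G` trivial, so `centralizer = ⊥`
    apply hC
    rw [Subgroup.eq_bot_iff_forall]
    intro c _
    apply FaithfulSMul.eq_of_smul_eq_smul (α := Ω)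
    intro ω
    exact (hemp.false ω).elim
  obtain ⟨z, hz⟩ := exists_smul_eq ((Subgroup.center N).map N.subtype) ω0 ((a : G) • ω0)
  obtain ⟨z0, hz0, hz0eq⟩ := z.2
  have hz' : ((z : G)) • ω0 = (a : G) • ω0 := hz
  have hfix : ((z : G)⁻¹ * (a : G)) • ω0 = ω0 := by
    rw [mul_smul, ← hz', ← mul_smul, inv_mul_cancel, one_smul]
  have hzN : (z : G) ∈ N := by rw [← hz0eq]; exact z0.2
  have h1 : (z : G)⁻¹ * (a : G) = 1 :=
    hsemi _ (N.mul_mem (N.inv_mem hzN) a.2) ω0 hfix
  have haz : (a : G) = (z : G) := by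
    have := congrArg (fun x => (z : G) * x) h1
    simpa using this
  have ha_center : a ∈ Subgroup.center N := by
    have : a = z0 := by
      apply Subtype.ext
      rw [haz, ← hz0eq]
      rfl
    rw [this]; exact hz0
  exact (Subgroup.mem_center_iff.mp ha_center b).symm

end Cfsg.Agent.S3556P
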