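import Mathlib
import Cfsg.Prelude.Def_GeometricClasses
import Cfsg.Agent.Helper18.S5707.Defs
import Cfsg.Agent.Helper20.S5707TENS
import Cfsg.Agent.Helper22.S5707INVNORM

set_option autoImplicit false

namespace Cfsg.Agent.S5707P

open Matrix

variable {F : Type*} [Field F] {k t : ℕ}

namespace K2YNORM

theorem E2_00 : (E2 : Matrix (Fin 2) (Fin 2) F) 0 0 = 0 := by simp [E2]
theorem E2_01 : (E2 : Matrix (Fin 2) (Fin 2) F) 0 1 = 1 := by simp [E2]
theorem E2_10 : (E2 : Matrix (Fin 2) (Fin 2) F) 1 0 = 0 := by simp [E2]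
theorem E2_11 : (E2 : Matrix (Fin 2) (Fin 2) F) 1 1 = 0 := by simp [E2]

theorem clifford [CharP F 2] (A : Matrix (Fin 2) (Fin 2) F)
    (hA : A ∈ (L2 : Submodule F (Matrix (Fin 2) (Fin 2) F))) :
    E2 * A + A * E2 = A 1 0 • (1 : Matrix (Fin 2) (Fin 2) F) := by
  have h : A 0 0 = A 1 1 := hA
  have h2 : A 1 1 + A 1 1 = 0 := CharTwo.add_self_eq_zero _
  ext i j
  fin_cases i <;> fin_cases j <;>
    simp only [Fin.zero_eta, Fin.mk_one, Matrix.add_apply, Matrix.mul_apply, Fin.sum_univ_two, Matrix.smul_apply,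
      Matrix.one_apply_eq, Matrix.one_apply_ne, E2_00, E2_01, E2_10, E2_11, h, h2, zero_mul, one_mul, mul_zero,
      mul_one, zero_add, add_zero, smul_eq_mul, ne_eq, Fin.isValue, zero_ne_one, one_ne_zero, not_false_eq_true]

theorem E2_mem : (E2 : Matrix (Fin 2) (Fin 2) F) ∈ (L2 : Submodule F (Matrix (Fin 2) (Fin 2) F)) := by
  show (E2 : Matrix (Fin 2) (Fin 2) F) 0 0 = E2 1 1
  simp [E2]

theorem E2_sq : (E2 : Matrix (Fin 2) (Fin 2) F) * E2 = 0 := by
  ext i j
  fin_cases i <;> fin_cases j <;>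
    simp only [Fin.zero_eta, Fin.mk_one, Matrix.mul_apply, Fin.sum_univ_two, E2_00, E2_01, E2_10, E2_11,
      zero_mul, mul_zero, add_zero, Matrix.zero_apply, Fin.isValue]

theorem loc_mem (L : Submodule F (Matrix (Fin k) (Fin k) F)) (i : Fin t) (A : Matrix (Fin k) (Fin k) F)
    (hA : A ∈ L) : loc i A ∈ calV (t := t) L :=
  Submodule.subset_span ⟨i, A, hA, rfl⟩

end K2YNORM

theorem K2.y_mem_normV [CharP F 2] (s1 s2 : Fin t) (h12 : s1 ≠ s2)
    (hN : loc2 s1 s2 (E2 : Matrix (Fin 2) (Fin 2) F) E2 * loc2 s1 s2 E2 E2 = 0) :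
    invo (loc2 s1 s2 E2 E2) hN ∈ normV (t := t) (L2 : Submodule F (Matrix (Fin 2) (Fin 2) F)) := by
  apply INVNORM.invo_mem_normV
  intro i A hA
  have h21 : s2 ≠ s1 := Ne.symm h12
  have h3 : loc2 s1 s2 (E2 : Matrix (Fin 2) (Fin 2) F) E2 * loc i A * loc2 s1 s2 E2 E2 = 0 := by
    unfold loc2 loc
    rw [TENS.tensM_mul, TENS.tensM_mul]
    by_cases hi : i = s1
    · apply TENS.tensM_eq_zero _ s2
      simp [upd1, Function.update_apply, hi, h12, h21, K2YNORM.E2_sq]
    · apply TENS.tensM_eq_zero _ s1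
      simp [upd1, Function.update_apply, hi, Ne.symm hi, h12, h21, K2YNORM.E2_sq]
  rw [h3, add_zero]
  by_cases hi1 : i = s1
  · subst hi1
    have key : loc2 i s2 (E2 : Matrix (Fin 2) (Fin 2) F) E2 * loc i A + loc i A * loc2 i s2 E2 E2 =
        A 1 0 • loc s2 E2 := by
      unfold loc2 loc
      rw [TENS.tensM_mul, TENS.tensM_mul]
      have e1 : (fun j => Function.update (upd1 i (E2 : Matrix (Fin 2) (Fin 2) F)) s2 E2 j * upd1 i A j) =
          Function.update (upd1 s2 E2) i (E2 * A) := by
        funext j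
        by_cases hj1 : j = i <;> by_cases hj2 : j = s2 <;>
          simp [upd1, Function.update_apply, hj1, hj2, h12, h21]
      have e2 : (fun j => upd1 i A j * Function.update (upd1 i (E2 : Matrix (Fin 2) (Fin 2) F)) s2 E2 j) =
          Function.update (upd1 s2 E2) i (A * E2) := by
        funext j
        by_cases hj1 : j = i <;> by_cases hj2 : j = s2 <;>
          simp [upd1, Function.update_apply, hj1, hj2, h12, h21]
      rw [e1, e2, ← TENS.tensM_update_add, K2YNORM.clifford A hA, TENS.tensM_update_smul]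
      congr 2
      funext j
      by_cases hj1 : j = i <;> simp [upd1, Function.update_apply, hj1, h12, h21]
    rw [key]
    exact Submodule.smul_mem _ _ (K2YNORM.loc_mem _ _ _ K2YNORM.E2_mem)
  · by_cases hi2 : i = s2
    · subst hi2
      have key : loc2 s1 i (E2 : Matrix (Fin 2) (Fin 2) F) E2 * loc i A + loc i A * loc2 s1 i E2 E2 =
          A 1 0 • loc s1 E2 := by
        unfold loc2 loc
        rw [TENS.tensM_mul, TENS.tensM_mul]
        have e1 : (fun j => Function.update (upd1 s1 (E2 : Matrix (Fin 2) (Fin 2) F)) i E2 j * upd1 i A j) =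
            Function.update (upd1 s1 E2) i (E2 * A) := by
          funext j
          by_cases hj1 : j = i <;> by_cases hj2 : j = s1 <;>
            simp [upd1, Function.update_apply, hj1, hj2, h12, h21]
        have e2 : (fun j => upd1 i A j * Function.update (upd1 s1 (E2 : Matrix (Fin 2) (Fin 2) F)) i E2 j) =
            Function.update (upd1 s1 E2) i (A * E2) := by
          funext j
          by_cases hj1 : j = i <;> by_cases hj2 : j = s1 <;>
            simp [upd1, Function.update_apply, hj1, hj2, h12, h21]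
        rw [e1, e2, ← TENS.tensM_update_add, K2YNORM.clifford A hA, TENS.tensM_update_smul]
        congr 2
        funext j
        by_cases hj1 : j = i <;> simp [upd1, Function.update_apply, hj1, h12, h21]
      rw [key]
      exact Submodule.smul_mem _ _ (K2YNORM.loc_mem _ _ _ K2YNORM.E2_mem)
    · have key : loc2 s1 s2 (E2 : Matrix (Fin 2) (Fin 2) F) E2 * loc i A + loc i A * loc2 s1 s2 E2 E2 = 0 := by
        unfold loc2 loc
        rw [TENS.tensM_mul, TENS.tensM_mul]
        have e1 : (fun j => upd1 i A j * Function.update (upd1 s1 (E2 : Matrix (Fin 2) (Fin 2) F)) s2 E2 j) =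
            (fun j => Function.update (upd1 s1 (E2 : Matrix (Fin 2) (Fin 2) F)) s2 E2 j * upd1 i A j) := by
          funext j
          by_cases hj0 : j = i <;> by_cases hj1 : j = s1 <;> by_cases hj2 : j = s2 <;>
            simp [upd1, Function.update_apply, hj0, hj1, hj2, h12, h21, hi1, hi2, Ne.symm hi1, Ne.symm hi2]
        rw [e1]
        ext a b
        exact CharTwo.add_self_eq_zero _
      rw [key]
      exact Submodule.zero_mem _

end Cfsg.Agent.S5707P
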