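import Mathlib
import Cfsg.Prelude.Def_GeometricClasses
import Cfsg.Agent.Helper18.S5707.Defs
import Cfsg.Agent.Helper20.S5707TENS
import Cfsg.Agent.Helper22.S5707INVNORM

set_option autoImplicit false

namespace Cfsg.Agent.S5707P

open Matrix

variable {F : Type*} [Field F] {k t : ℕ}

namespace K4YNORM

theorem Eb_00 : (Eb : Matrix (Fin 4) (Fin 4) F) 0 0 = 0 := by simp [Eb]
theorem Eb_01 : (Eb : Matrix (Fin 4) (Fin 4) F) 0 1 = 1 := by simp [Eb]
theorem Eb_02 : (Eb : Matrix (Fin 4) (Fin 4) F) 0 2 = 0 := by simp [Eb]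
theorem Eb_03 : (Eb : Matrix (Fin 4) (Fin 4) F) 0 3 = 0 := by simp [Eb]
theorem Eb_10 : (Eb : Matrix (Fin 4) (Fin 4) F) 1 0 = 0 := by simp [Eb]
theorem Eb_11 : (Eb : Matrix (Fin 4) (Fin 4) F) 1 1 = 0 := by simp [Eb]
theorem Eb_12 : (Eb : Matrix (Fin 4) (Fin 4) F) 1 2 = 0 := by simp [Eb]
theorem Eb_13 : (Eb : Matrix (Fin 4) (Fin 4) F) 1 3 = 0 := by simp [Eb]
theorem Eb_20 : (Eb : Matrix (Fin 4) (Fin 4) F) 2 0 = 0 := by simp [Eb]
theorem Eb_21 : (Eb : Matrix (Fin 4) (Fin 4) F) 2 1 = 0 := by simp [Eb]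
theorem Eb_22 : (Eb : Matrix (Fin 4) (Fin 4) F) 2 2 = 0 := by simp [Eb]
theorem Eb_23 : (Eb : Matrix (Fin 4) (Fin 4) F) 2 3 = 1 := by simp [Eb]
theorem Eb_30 : (Eb : Matrix (Fin 4) (Fin 4) F) 3 0 = 0 := by simp [Eb]
theorem Eb_31 : (Eb : Matrix (Fin 4) (Fin 4) F) 3 1 = 0 := by simp [Eb]
theorem Eb_32 : (Eb : Matrix (Fin 4) (Fin 4) F) 3 2 = 0 := by simp [Eb]
theorem Eb_33 : (Eb : Matrix (Fin 4) (Fin 4) F) 3 3 = 0 := by simp [Eb]
theorem Ea_00 : (Ea : Matrix (Fin 4) (Fin 4) F) 0 0 = 0 := by simp [Ea]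
theorem Ea_01 : (Ea : Matrix (Fin 4) (Fin 4) F) 0 1 = 0 := by simp [Ea]
theorem Ea_02 : (Ea : Matrix (Fin 4) (Fin 4) F) 0 2 = 1 := by simp [Ea]
theorem Ea_03 : (Ea : Matrix (Fin 4) (Fin 4) F) 0 3 = 0 := by simp [Ea]
theorem Ea_10 : (Ea : Matrix (Fin 4) (Fin 4) F) 1 0 = 0 := by simp [Ea]
theorem Ea_11 : (Ea : Matrix (Fin 4) (Fin 4) F) 1 1 = 0 := by simp [Ea]
theorem Ea_12 : (Ea : Matrix (Fin 4) (Fin 4) F) 1 2 = 0 := by simp [Ea]
theorem Ea_13 : (Ea : Matrix (Fin 4) (Fin 4) F) 1 3 = 1 := by simp [Ea]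
theorem Ea_20 : (Ea : Matrix (Fin 4) (Fin 4) F) 2 0 = 0 := by simp [Ea]
theorem Ea_21 : (Ea : Matrix (Fin 4) (Fin 4) F) 2 1 = 0 := by simp [Ea]
theorem Ea_22 : (Ea : Matrix (Fin 4) (Fin 4) F) 2 2 = 0 := by simp [Ea]
theorem Ea_23 : (Ea : Matrix (Fin 4) (Fin 4) F) 2 3 = 0 := by simp [Ea]
theorem Ea_30 : (Ea : Matrix (Fin 4) (Fin 4) F) 3 0 = 0 := by simp [Ea]
theorem Ea_31 : (Ea : Matrix (Fin 4) (Fin 4) F) 3 1 = 0 := by simp [Ea]
theorem Ea_32 : (Ea : Matrix (Fin 4) (Fin 4) F) 3 2 = 0 := by simp [Ea]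
theorem Ea_33 : (Ea : Matrix (Fin 4) (Fin 4) F) 3 3 = 0 := by simp [Ea]

theorem Eb_sq : (Eb : Matrix (Fin 4) (Fin 4) F) * Eb = 0 := by
  ext i j
  fin_cases i <;> fin_cases j <;>
    simp only [Fin.zero_eta, Fin.mk_one, Fin.reduceFinMk, Matrix.mul_apply, Fin.sum_univ_four, Eb_00, Eb_01, Eb_02, Eb_03, Eb_10, Eb_11, Eb_12, Eb_13, Eb_20, Eb_21, Eb_22, Eb_23, Eb_30, Eb_31, Eb_32, Eb_33,
      zero_mul, mul_zero, add_zero, Matrix.zero_apply, Fin.isValue, mul_one]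

theorem Ea_sq : (Ea : Matrix (Fin 4) (Fin 4) F) * Ea = 0 := by
  ext i j
  fin_cases i <;> fin_cases j <;>
    simp only [Fin.zero_eta, Fin.mk_one, Fin.reduceFinMk, Matrix.mul_apply, Fin.sum_univ_four, Ea_00, Ea_01, Ea_02, Ea_03, Ea_10, Ea_11, Ea_12, Ea_13, Ea_20, Ea_21, Ea_22, Ea_23, Ea_30, Ea_31, Ea_32, Ea_33,
      zero_mul, mul_zero, add_zero, Matrix.zero_apply, Fin.isValue, mul_one]

theorem Eb_mem : (Eb : Matrix (Fin 4) (Fin 4) F) ∈ (L4 : Submodule F (Matrix (Fin 4) (Fin 4) F)) := by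
  show _ ∧ _ ∧ _ ∧ _ ∧ _ ∧ _ ∧ _ ∧ _ ∧ _ ∧ _ ∧ _
  simp only [Eb_00, Eb_01, Eb_02, Eb_03, Eb_10, Eb_11, Eb_12, Eb_13, Eb_20, Eb_21, Eb_22, Eb_23, Eb_30, Eb_31, Eb_32, Eb_33, and_self]

theorem Ea_mem : (Ea : Matrix (Fin 4) (Fin 4) F) ∈ (L4 : Submodule F (Matrix (Fin 4) (Fin 4) F)) := by
  show _ ∧ _ ∧ _ ∧ _ ∧ _ ∧ _ ∧ _ ∧ _ ∧ _ ∧ _ ∧ _
  simp only [Ea_00, Ea_01, Ea_02, Ea_03, Ea_10, Ea_11, Ea_12, Ea_13, Ea_20, Ea_21, Ea_22, Ea_23, Ea_30, Ea_31, Ea_32, Ea_33, and_self]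

theorem clifford_b [CharP F 2] (A : Matrix (Fin 4) (Fin 4) F)
    (hA : A ∈ (L4 : Submodule F (Matrix (Fin 4) (Fin 4) F))) :
    Eb * A + A * Eb = A 1 0 • (1 : Matrix (Fin 4) (Fin 4) F) := by
  obtain ⟨a1, a2, a3, a4, a5, a6, a7, a8, a9, a10, a11⟩ := hA
  have c2 : ∀ x : F, x + x = 0 := fun x => CharTwo.add_self_eq_zero x
  ext i j
  fin_cases i <;> fin_cases j <;>
    simp only [Fin.zero_eta, Fin.mk_one, Fin.reduceFinMk, Matrix.add_apply, Matrix.mul_apply, Fin.sum_univ_four,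
      Matrix.smul_apply, Matrix.one_apply_eq, Eb_00, Eb_01, Eb_02, Eb_03, Eb_10, Eb_11, Eb_12, Eb_13, Eb_20, Eb_21, Eb_22, Eb_23, Eb_30, Eb_31, Eb_32, Eb_33, zero_mul, one_mul, mul_zero, mul_one, zero_add, add_zero,
      smul_eq_mul, Fin.isValue]
  all_goals simp [a1, a2, a3, a4, a5, a6, a7, a8, a9, a10, a11, c2]

theorem clifford_a [CharP F 2] (A : Matrix (Fin 4) (Fin 4) F)
    (hA : A ∈ (L4 : Submodule F (Matrix (Fin 4) (Fin 4) F))) :
    Ea * A + A * Ea = A 2 0 • (1 : Matrix (Fin 4) (Fin 4) F) := by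
  obtain ⟨a1, a2, a3, a4, a5, a6, a7, a8, a9, a10, a11⟩ := hA
  have c2 : ∀ x : F, x + x = 0 := fun x => CharTwo.add_self_eq_zero x
  ext i j
  fin_cases i <;> fin_cases j <;>
    simp only [Fin.zero_eta, Fin.mk_one, Fin.reduceFinMk, Matrix.add_apply, Matrix.mul_apply, Fin.sum_univ_four,
      Matrix.smul_apply, Matrix.one_apply_eq, Ea_00, Ea_01, Ea_02, Ea_03, Ea_10, Ea_11, Ea_12, Ea_13, Ea_20, Ea_21, Ea_22, Ea_23, Ea_30, Ea_31, Ea_32, Ea_33, zero_mul, one_mul, mul_zero, mul_one, zero_add, add_zero,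
      smul_eq_mul, Fin.isValue]
  all_goals simp [a1, a2, a3, a4, a5, a6, a7, a8, a9, a10, a11, c2]

theorem loc_mem (L : Submodule F (Matrix (Fin k) (Fin k) F)) (i : Fin t) (A : Matrix (Fin k) (Fin k) F)
    (hA : A ∈ L) : loc i A ∈ calV (t := t) L :=
  Submodule.subset_span ⟨i, A, hA, rfl⟩

end K4YNORM

theorem K4.y_mem_normV [CharP F 2] (s0 s1 : Fin t) (h01 : s0 ≠ s1)
    (hN : loc2 s0 s1 (Eb : Matrix (Fin 4) (Fin 4) F) Ea * loc2 s0 s1 Eb Ea = 0) :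
    invo (loc2 s0 s1 Eb Ea) hN ∈ normV (t := t) (L4 : Submodule F (Matrix (Fin 4) (Fin 4) F)) := by
  apply INVNORM.invo_mem_normV
  intro i A hA
  have h10 : s1 ≠ s0 := Ne.symm h01
  have h3 : loc2 s0 s1 (Eb : Matrix (Fin 4) (Fin 4) F) Ea * loc i A * loc2 s0 s1 Eb Ea = 0 := by
    unfold loc2 loc
    rw [TENS.tensM_mul, TENS.tensM_mul]
    by_cases hi : i = s0
    · apply TENS.tensM_eq_zero _ s1
      simp [upd1, Function.update_apply, hi, h01, h10, K4YNORM.Ea_sq]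
    · apply TENS.tensM_eq_zero _ s0
      simp [upd1, Function.update_apply, hi, Ne.symm hi, h01, h10, K4YNORM.Eb_sq]
  rw [h3, add_zero]
  by_cases hi1 : i = s0
  · subst hi1
    have key : loc2 i s1 (Eb : Matrix (Fin 4) (Fin 4) F) Ea * loc i A + loc i A * loc2 i s1 Eb Ea =
        A 1 0 • loc s1 Ea := by
      unfold loc2 loc
      rw [TENS.tensM_mul, TENS.tensM_mul]
      have e1 : (fun j => Function.update (upd1 i (Eb : Matrix (Fin 4) (Fin 4) F)) s1 Ea j * upd1 i A j) =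
          Function.update (upd1 s1 Ea) i (Eb * A) := by
        funext j
        by_cases hj1 : j = i <;> by_cases hj2 : j = s1 <;>
          simp [upd1, Function.update_apply, hj1, hj2, h01, h10]
      have e2 : (fun j => upd1 i A j * Function.update (upd1 i (Eb : Matrix (Fin 4) (Fin 4) F)) s1 Ea j) =
          Function.update (upd1 s1 Ea) i (A * Eb) := by
        funext j
        by_cases hj1 : j = i <;> by_cases hj2 : j = s1 <;>
          simp [upd1, Function.update_apply, hj1, hj2, h01, h10]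
      rw [e1, e2, ← TENS.tensM_update_add, K4YNORM.clifford_b A hA, TENS.tensM_update_smul]
      congr 2
      funext j
      by_cases hj1 : j = i <;> simp [upd1, Function.update_apply, hj1, h01, h10]
    rw [key]
    exact Submodule.smul_mem _ _ (K4YNORM.loc_mem _ _ _ K4YNORM.Ea_mem)
  · by_cases hi2 : i = s1
    · subst hi2
      have key : loc2 s0 i (Eb : Matrix (Fin 4) (Fin 4) F) Ea * loc i A + loc i A * loc2 s0 i Eb Ea =
          A 2 0 • loc s0 Eb := by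
        unfold loc2 loc
        rw [TENS.tensM_mul, TENS.tensM_mul]
        have e1 : (fun j => Function.update (upd1 s0 (Eb : Matrix (Fin 4) (Fin 4) F)) i Ea j * upd1 i A j) =
            Function.update (upd1 s0 Eb) i (Ea * A) := by
          funext j
          by_cases hj1 : j = i <;> by_cases hj2 : j = s0 <;>
            simp [upd1, Function.update_apply, hj1, hj2, h01, h10]
        have e2 : (fun j => upd1 i A j * Function.update (upd1 s0 (Eb : Matrix (Fin 4) (Fin 4) F)) i Ea j) =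
            Function.update (upd1 s0 Eb) i (A * Ea) := by
          funext j
          by_cases hj1 : j = i <;> by_cases hj2 : j = s0 <;>
            simp [upd1, Function.update_apply, hj1, hj2, h01, h10]
        rw [e1, e2, ← TENS.tensM_update_add, K4YNORM.clifford_a A hA, TENS.tensM_update_smul]
        congr 2
        funext j
        by_cases hj1 : j = i <;> simp [upd1, Function.update_apply, hj1, h01, h10]
      rw [key]
      exact Submodule.smul_mem _ _ (K4YNORM.loc_mem _ _ _ K4YNORM.Eb_mem)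
    · have key : loc2 s0 s1 (Eb : Matrix (Fin 4) (Fin 4) F) Ea * loc i A + loc i A * loc2 s0 s1 Eb Ea = 0 := by
        unfold loc2 loc
        rw [TENS.tensM_mul, TENS.tensM_mul]
        have e1 : (fun j => upd1 i A j * Function.update (upd1 s0 (Eb : Matrix (Fin 4) (Fin 4) F)) s1 Ea j) =
            (fun j => Function.update (upd1 s0 (Eb : Matrix (Fin 4) (Fin 4) F)) s1 Ea j * upd1 i A j) := by
          funext j
          by_cases hj0 : j = i <;> by_cases hj1 : j = s0 <;> by_cases hj2 : j = s1 <;>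
            simp [upd1, Function.update_apply, hj0, hj1, hj2, h01, h10, hi1, hi2, Ne.symm hi1, Ne.symm hi2]
        rw [e1]
        ext a b
        exact CharTwo.add_self_eq_zero _
      rw [key]
      exact Submodule.zero_mem _

end Cfsg.Agent.S5707P
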