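import Mathlib
import Cfsg.Prelude.Def_Classical
import Cfsg.Agent.Helper21.S2286DEFS
import Cfsg.Agent.Helper21.S2289DEFS
import Cfsg.Agent.Helper2.HermCount

/-! S2289 piece FIMAG (driver helper21; lead): ratios of "imaginary" elements are fixed; existence. -/

set_option autoImplicit false

namespace Cfsg.Agent.Helper21.S2289

open Cfsg.Agent.Helper21.S2286 Polynomial

variable {F : Type*} [Field F] [Fintype F] {q : ℕ}

theorem imag_ratio (hF : Fintype.card F = q ^ 2) (v w : F) (hv : v + v ^ q = 0) (hw : w + w ^ q = 0)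
    (hw0 : w ≠ 0) : (v / w) ^ q = v / w := by
  have h1 : v ^ q = -v := by linear_combination hv
  have h2 : w ^ q = -w := by linear_combination hw
  rw [div_pow, h1, h2, neg_div_neg_eq]

theorem imag_of_mu (hF : Fintype.card F = q ^ 2) (a μ : F) (ha : a ≠ 0) (hμ : μ ^ q ≠ μ) :
    a ^ (q + 1) * (μ - μ ^ q) + (a ^ (q + 1) * (μ - μ ^ q)) ^ q = 0 ∧
      a ^ (q + 1) * (μ - μ ^ q) ≠ 0 := by
  have hN : (a ^ (q + 1)) ^ q = a ^ (q + 1) := Cfsg.Agent.Helper2.Herm.norm_mem_K hF a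
  have hμ2 : (μ ^ q) ^ q = μ := by
    rw [← pow_mul, ← pow_two]
    exact Cfsg.Agent.Helper2.Herm.pow_q_sq hF μ
  constructor
  · rw [mul_pow, hN, Cfsg.Agent.Helper2.Herm.sub_pow_q hF, hμ2]
    ring
  · apply mul_ne_zero (pow_ne_zero _ ha)
    intro h
    exact hμ (sub_eq_zero.mp h).symm

end Cfsg.Agent.Helper21.S2289
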