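import Mathlib
import Cfsg.Agent.Helper2.S2094.DefsR

set_option autoImplicit false
set_option linter.unusedSectionVars false
set_option linter.unusedVariables false

/-! S2094 piece RANK1B (driver helper2; lead): the rank one relations of a group with the
relations of type `B_n`. -/

namespace Cfsg.Agent.S2094P

open Matrix Cfsg.Agent.S3352P Cfsg.Agent.S3351P Cfsg.Agent.S2096P Cfsg.Agent.RGD

variable {n : ℕ} {F : Type*} [Field F] {M : Type*} [Group M] {X : J n → J n → F → M}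
  {Ys : J n → F → M}

/-! ### RANK1B: the rank one relation -/

theorem rank_one_lg (hB : BRel X Ys) {a b : J n} (hab : IsRoot a b) {x : M}
    (hx : x ∈ (RB.lg b a : RB n).U X Ys) (hx1 : x ≠ 1) :
    ∃ y ∈ (RB.lg a b : RB n).U X Ys, ∃ m ∈ (RB.lg a b : RB n).nS X Ys,
      ∃ y' ∈ (RB.lg a b : RB n).U X Ys, x = y * m * y' := by
  obtain ⟨t, rfl⟩ := (mem_U_lg hB hab.symm).1 hx
  have ht : t ≠ 0 := by
    rintro rfl
    exact hx1 (WCONJ.X_zero hB.dX hab.symm)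
  have hu : -t⁻¹ ≠ 0 := neg_ne_zero.2 (inv_ne_zero ht)
  have hy : (X a b (-t⁻¹))⁻¹ ∈ (RB.lg a b : RB n).U X Ys :=
    Subgroup.inv_mem _ ((mem_U_lg hB hab).2 ⟨_, rfl⟩)
  refine ⟨(X a b (-t⁻¹))⁻¹, hy, wX X a b (-t⁻¹), ⟨-t⁻¹, hu, rfl⟩, (X a b (-t⁻¹))⁻¹, hy, ?_⟩
  have e : -(-t⁻¹)⁻¹ = t := by
    rw [inv_neg, inv_inv, neg_neg]
  unfold wX
  rw [e]
  group

theorem rank_one_sh (hB : BRel X Ys) (a : J n) {x : M}
    (hx : x ∈ (RB.sh (ng a) : RB n).U X Ys) (hx1 : x ≠ 1) :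
    ∃ y ∈ (RB.sh a : RB n).U X Ys, ∃ m ∈ (RB.sh a : RB n).nS X Ys,
      ∃ y' ∈ (RB.sh a : RB n).U X Ys, x = y * m * y' := by
  obtain ⟨s, rfl⟩ := (mem_U_sh hB (ng a)).1 hx
  have hs : s ≠ 0 := by
    rintro rfl
    exact hx1 (Ys_zero hB (ng a))
  have hu : s⁻¹ ≠ 0 := inv_ne_zero hs
  have hy : (Ys a s⁻¹)⁻¹ ∈ (RB.sh a : RB n).U X Ys :=
    Subgroup.inv_mem _ ((mem_U_sh hB a).2 ⟨_, rfl⟩)
  refine ⟨(Ys a s⁻¹)⁻¹, hy, wY Ys a s⁻¹, ⟨s⁻¹, hu, rfl⟩, (Ys a s⁻¹)⁻¹, hy, ?_⟩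
  unfold wY
  rw [inv_inv]
  group

end Cfsg.Agent.S2094P
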