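import Mathlib
import Cfsg.Agent.Helper2.S2099.DefsC

set_option autoImplicit false
set_option linter.unusedSectionVars false
set_option linter.unusedVariables false

/-! S2099 chapter C, piece CLRELQ2 (lead): the relation `yy` in the Clifford algebra:
`[1 + ψ_a ψW(w), 1 + ψ_b ψW(v)] = 1 - B(w, v) ψ_a ψ_b`. Port of `Helper20.S2094CLRELB2`. -/

namespace Cfsg.Agent.S2099P

open Cfsg.Agent.S3352P Cfsg.Agent.S3351P Cfsg.Agent.S2096P

universe u

variable {n : ℕ} {F : Type*} [Field F] {P : Type*} [AddCommGroup P] [Module F P]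
  {Q0 : QuadraticForm F P} {A : Type*} [Ring A] [Algebra F A] {ψ : J n → A} {ψW : P →ₗ[F] A}

namespace CLRELQ2

/-- the commutator of two unipotent elements whose triple products vanish -/
theorem comm_formula {A : Type*} [Ring A] (α β : A) (h1 : α * α = 0) (h2 : β * β = 0)
    (h3 : α * β * α = 0) (h4 : β * α * β = 0) :
    (1 + α) * (1 + β) * (1 + -α) * (1 + -β) = 1 + (α * β - β * α) := by
  have hA : (1 + α) * (1 + β) * (1 + -α) = 1 + β + α * β - β * α := by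
    calc (1 + α) * (1 + β) * (1 + -α) = 1 + β + α * β - β * α - α * α - α * β * α := by
          noncomm_ring
      _ = 1 + β + α * β - β * α := by rw [h1, h3, sub_zero, sub_zero]
  rw [hA]
  calc (1 + β + α * β - β * α) * (1 + -β)
      = 1 + (α * β - β * α) - β * β - α * (β * β) + β * α * β := by noncomm_ring
    _ = 1 + (α * β - β * α) := by rw [h2, h4, mul_zero, sub_zero, sub_zero, add_zero]

/-- the polar form in the Clifford algebra -/
theorem polarW (hψ : CARQ Q0 ψ ψW) (w v : P) :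
    ψW w * ψW v + ψW v * ψW w = algebraMap F A (QuadraticMap.polar Q0 w v) := by
  have h := hψ.sqW (w + v)
  rw [map_add] at h
  have e : (ψW w + ψW v) * (ψW w + ψW v)
      = ψW w * ψW w + ψW v * ψW v + (ψW w * ψW v + ψW v * ψW w) := by noncomm_ring
  rw [e, hψ.sqW w, hψ.sqW v] at h
  unfold QuadraticMap.polar
  rw [map_sub, map_sub, ← h]
  abel

/-- `(u x)(u' y) = -(u u')(x y)` when `x u' = -(u' x)` -/
theorem NNQ {A : Type*} [Ring A] (u u' x y : A) (hx : x * u' = -(u' * x)) :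
    (u * x) * (u' * y) = -(u * u' * (x * y)) := by
  calc (u * x) * (u' * y) = u * (x * u') * y := by noncomm_ring
    _ = u * (-(u' * x)) * y := by rw [hx]
    _ = -(u * u' * (x * y)) := by noncomm_ring

end CLRELQ2

/-- CLRELQ2 -/
theorem ycQ_yy (hψ : CARQ Q0 ψ ψW) {a b : J n} (hab : IsRoot a b) (w v : P) :
    ycQ ψ ψW a w * ycQ ψ ψW b v * ycQ ψ ψW a (-w) * ycQ ψ ψW b (-v) =
      xc ψ a (ng b) (-(QuadraticMap.polar Q0 w v)) := by
  have huu : ψ a * ψ a = 0 := hψ.car.sq a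
  have hww : ψ b * ψ b = 0 := hψ.car.sq b
  have huw : ψ a * ψ b = -(ψ b * ψ a) := by
    apply hψ.car.anti
    intro e
    exact hab.2 (by rw [e, ng_ng])
  have hwu : ψ b * ψ a = -(ψ a * ψ b) := by rw [huw, neg_neg]
  have hpol := CLRELQ2.polarW hψ w v
  have hwa : ψW w * ψ a = -(ψ a * ψW w) := hψ.antiW a w
  have hwb : ψW w * ψ b = -(ψ b * ψW w) := hψ.antiW b w
  have hva : ψW v * ψ a = -(ψ a * ψW v) := hψ.antiW a v
  have hvb : ψW v * ψ b = -(ψ b * ψW v) := hψ.antiW b v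
  have hab' : (ψ a * ψW w) * (ψ b * ψW v) = -(ψ a * ψ b * (ψW w * ψW v)) :=
    CLRELQ2.NNQ _ _ _ _ hwb
  have hba' : (ψ b * ψW v) * (ψ a * ψW w) = ψ a * ψ b * (ψW v * ψW w) := by
    rw [CLRELQ2.NNQ _ _ _ _ hva, hwu]
    noncomm_ring
  have haa' : (ψ a * ψW w) * (ψ a * ψW w) = 0 := by
    rw [CLRELQ2.NNQ _ _ _ _ hwa, huu]; simp
  have hbb' : (ψ b * ψW v) * (ψ b * ψW v) = 0 := by
    rw [CLRELQ2.NNQ _ _ _ _ hvb, hww]; simp
  have haba : (ψ a * ψW w) * (ψ b * ψW v) * (ψ a * ψW w) = 0 := by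
    rw [hab']
    calc -(ψ a * ψ b * (ψW w * ψW v)) * (ψ a * ψW w)
        = -(ψ a * ψ b * ψW w * (ψW v * ψ a) * ψW w) := by noncomm_ring
      _ = -(ψ a * ψ b * ψW w * (-(ψ a * ψW v)) * ψW w) := by rw [hva]
      _ = ψ a * ψ b * (ψW w * ψ a) * ψW v * ψW w := by noncomm_ring
      _ = ψ a * ψ b * (-(ψ a * ψW w)) * ψW v * ψW w := by rw [hwa]
      _ = -(ψ a * (ψ b * ψ a) * ψW w * ψW v * ψW w) := by noncomm_ring
      _ = -(ψ a * (-(ψ a * ψ b)) * ψW w * ψW v * ψW w) := by rw [hwu]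
      _ = (ψ a * ψ a) * ψ b * ψW w * ψW v * ψW w := by noncomm_ring
      _ = 0 := by rw [huu]; simp
  have hbab : (ψ b * ψW v) * (ψ a * ψW w) * (ψ b * ψW v) = 0 := by
    rw [hba']
    calc ψ a * ψ b * (ψW v * ψW w) * (ψ b * ψW v)
        = ψ a * ψ b * ψW v * (ψW w * ψ b) * ψW v := by noncomm_ring
      _ = ψ a * ψ b * ψW v * (-(ψ b * ψW w)) * ψW v := by rw [hwb]
      _ = -(ψ a * ψ b * (ψW v * ψ b) * ψW w * ψW v) := by noncomm_ring
      _ = -(ψ a * ψ b * (-(ψ b * ψW v)) * ψW w * ψW v) := by rw [hvb]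
      _ = ψ a * (ψ b * ψ b) * ψW v * ψW w * ψW v := by noncomm_ring
      _ = 0 := by rw [hww]; simp
  unfold ycQ xc
  rw [ng_ng, map_neg, map_neg, mul_neg, mul_neg]
  rw [CLRELQ2.comm_formula _ _ haa' hbb' haba hbab, hab', hba']
  congr 1
  have e : -(ψ a * ψ b * (ψW w * ψW v)) - ψ a * ψ b * (ψW v * ψW w)
      = -(ψ a * ψ b * (ψW w * ψW v + ψW v * ψW w)) := by noncomm_ring
  rw [e, hpol, neg_smul, Algebra.smul_def, Algebra.commutes]

end Cfsg.Agent.S2099P
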