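import Mathlib
import Cfsg.Agent.Helper2.S2099.DefsC

set_option autoImplicit false
set_option linter.unusedSectionVars false
set_option linter.unusedVariables false

/-! S2099 chapter C, piece CLWQ (lead): the torus element `tY a (-e₁)` of the short root `ε_a`
acts as `-1` in the Clifford algebra. Port of `Helper20.S2094CLWB`. -/

namespace Cfsg.Agent.S2099P

open Cfsg.Agent.S3352P Cfsg.Agent.S3351P Cfsg.Agent.S2096P

universe u

variable {n : ℕ} {F : Type*} [Field F] {P : Type*} [AddCommGroup P] [Module F P]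
  {Q0 : QuadraticForm F P} {A : Type*} [Ring A] [Algebra F A] {ψ : J n → A} {ψW : P →ₗ[F] A}

namespace CLWQ

/-- `(u z)(w z') = -(u w)(z z')` when `z w = -(w z)` -/
theorem NNW {A : Type*} [Ring A] (u w z z' : A) (hzw : z * w = -(w * z)) :
    (u * z) * (w * z') = -(u * w * (z * z')) := by
  calc (u * z) * (w * z') = u * (z * w) * z' := by noncomm_ring
    _ = u * (-(w * z)) * z' := by rw [hzw]
    _ = -(u * w * (z * z')) := by noncomm_ring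

/-- `W = (1 - N)(1 - N')(1 - N) = -(N + N')` and `W² = -1` -/
theorem W_sq {A : Type*} [Ring A] (N N' : A) (h1 : N * N = 0) (h2 : N' * N' = 0)
    (h3 : N * N' + N' * N = -1) (h4 : N * N' * N = -N) :
    ((1 + -N) * (1 + -N') * (1 + -N)) * ((1 + -N) * (1 + -N') * (1 + -N)) = -1 := by
  have hW : (1 + -N) * (1 + -N') * (1 + -N) = -(N + N') := by
    calc (1 + -N) * (1 + -N') * (1 + -N)
        = 1 - N - N - N' + (N * N' + N' * N) + N * N - N * N' * N := by noncomm_ring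
      _ = 1 - N - N - N' + -1 + 0 - -N := by rw [h1, h3, h4]
      _ = -(N + N') := by abel
  rw [hW]
  calc -(N + N') * -(N + N') = N * N + N' * N' + (N * N' + N' * N) := by noncomm_ring
    _ = -1 := by rw [h1, h2, h3]; simp

/-- `ycQ a w * ycQ a (-w) = 1` -/
theorem ycQ_mul_neg (hψ : CARQ Q0 ψ ψW) (a : J n) (w : P) :
    ycQ ψ ψW a w * ycQ ψ ψW a (-w) = 1 := by
  have hN : ψ a * ψW w * (ψ a * ψW w) = 0 := by
    rw [NNW _ _ _ _ (hψ.antiW a w), hψ.car.sq a]; simp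
  unfold ycQ
  rw [map_neg, mul_neg]
  generalize ψ a * ψW w = α at *
  calc (1 + α) * (1 + -α) = 1 - α * α := by noncomm_ring
    _ = 1 := by rw [hN, sub_zero]

/-- own copy of CLUNITQ -/
theorem coe_YcQ' (hψ : CARQ Q0 ψ ψW) (a : J n) (w : P) :
    ((YcQ ψ ψW a w : Aˣ) : A) = ycQ ψ ψW a w := by
  have hu : IsUnit (ycQ ψ ψW a w) := by
    refine ⟨⟨ycQ ψ ψW a w, ycQ ψ ψW a (-w), ycQ_mul_neg hψ a w, ?_⟩, rfl⟩
    have := ycQ_mul_neg hψ a (-w)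
    rwa [neg_neg] at this
  unfold YcQ
  rw [dif_pos hu]
  exact hu.unit_spec

/-- the inverse of the unit `YcQ a w` -/
theorem YcQ_inv (hψ : CARQ Q0 ψ ψW) (a : J n) (w : P) :
    (YcQ ψ ψW a w)⁻¹ = YcQ ψ ψW a (-w) := by
  apply inv_eq_of_mul_eq_one_right
  apply Units.ext
  rw [Units.val_mul, coe_YcQ' hψ, coe_YcQ' hψ, ycQ_mul_neg hψ, Units.val_one]

end CLWQ

/-- CLWQ -/
theorem coe_tY_YcQ (hψ : CARQ Q0 ψ ψW) {e₁ : P} (he₁ : Q0 e₁ = 1) (a : J n) :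
    ((tY Q0 (YcQ (F := F) ψ ψW) e₁ a (-e₁) : Aˣ) : A) = -1 := by
  have huu : ψ a * ψ a = 0 := hψ.car.sq a
  have hvv : ψ (ng a) * ψ (ng a) = 0 := hψ.car.sq (ng a)
  have hz : ψW e₁ * ψW e₁ = 1 := by rw [hψ.sqW, he₁, map_one]
  have hzu : ψW e₁ * ψ a = -(ψ a * ψW e₁) := hψ.antiW a e₁
  have hzv : ψW e₁ * ψ (ng a) = -(ψ (ng a) * ψW e₁) := hψ.antiW (ng a) e₁
  have hpair : ψ a * ψ (ng a) + ψ (ng a) * ψ a = 1 := hψ.car.pair a
  -- `N = ψ_a z`, `N' = ψ_{-a} z`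
  have hNN' : (ψ a * ψW e₁) * (ψ (ng a) * ψW e₁) = -(ψ a * ψ (ng a)) := by
    rw [CLWQ.NNW _ _ _ _ hzv, hz, mul_one]
  have hN'N : (ψ (ng a) * ψW e₁) * (ψ a * ψW e₁) = -(ψ (ng a) * ψ a) := by
    rw [CLWQ.NNW _ _ _ _ hzu, hz, mul_one]
  have h1 : (ψ a * ψW e₁) * (ψ a * ψW e₁) = 0 := by
    rw [CLWQ.NNW _ _ _ _ hzu, huu]; simp
  have h2 : (ψ (ng a) * ψW e₁) * (ψ (ng a) * ψW e₁) = 0 := by
    rw [CLWQ.NNW _ _ _ _ hzv, hvv]; simp
  have h3 : (ψ a * ψW e₁) * (ψ (ng a) * ψW e₁) + (ψ (ng a) * ψW e₁) * (ψ a * ψW e₁) = -1 := by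
    rw [hNN', hN'N, ← neg_add, hpair]
  have h4 : (ψ a * ψW e₁) * (ψ (ng a) * ψW e₁) * (ψ a * ψW e₁) = -(ψ a * ψW e₁) := by
    rw [hNN']
    have e : ψ (ng a) * ψ a = 1 - ψ a * ψ (ng a) := by
      rw [← hpair]; abel
    calc -(ψ a * ψ (ng a)) * (ψ a * ψW e₁) = -(ψ a * (ψ (ng a) * ψ a) * ψW e₁) := by
          noncomm_ring
      _ = -(ψ a * (1 - ψ a * ψ (ng a)) * ψW e₁) := by rw [e]
      _ = -(ψ a * ψW e₁) + (ψ a * ψ a) * ψ (ng a) * ψW e₁ := by noncomm_ring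
      _ = -(ψ a * ψW e₁) := by rw [huu]; simp
  rw [← CLWQ.W_sq _ _ h1 h2 h3 h4]
  -- unfold the torus element
  have hQn : Q0 (-e₁) = 1 := by rw [QuadraticMap.map_neg, he₁]
  unfold tY wY
  rw [hQn, he₁, inv_one, one_smul, one_smul, mul_inv_rev, mul_inv_rev,
    CLWQ.YcQ_inv hψ, CLWQ.YcQ_inv hψ, ← mul_assoc]
  simp only [Units.val_mul]
  rw [CLWQ.coe_YcQ' hψ, CLWQ.coe_YcQ' hψ]
  unfold ycQ
  rw [map_neg, mul_neg, mul_neg]
  simp only [mul_assoc]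

end Cfsg.Agent.S2099P
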