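import Mathlib
import Cfsg.Agent.Helper2.S2099.DefsR
import Cfsg.Agent.Helper16.S2099CONJSS1Q
import Cfsg.Agent.Helper23.S2099WYINVQ
import Cfsg.Agent.Helper23.S2099WYIDQ

set_option autoImplicit false
set_option linter.unusedSectionVars false
set_option linter.unusedVariables false

/-! S2099 chapter N, piece CRELQ (driver helper2; lead): the relations between the sign changes
`cQ j` modulo the torus `HhQ`. Port of `Cfsg.Agent.Helper11.S2094CRELB`. -/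

namespace Cfsg.Agent.S2099P

open Matrix Cfsg.Agent.S3352P Cfsg.Agent.S3351P Cfsg.Agent.S2096P Cfsg.Agent.S2086P Cfsg.Agent.RGD
open Cfsg.Agent.S2094P (RB RootB sc NgEquivariant mapB reflB MD XD XD_coe isRoot_ng_right'
  isRoot_ng_left' sw_ngEquivariant sc_ngEquivariant)

variable {n : ℕ} {F : Type*} [Field F] {P : Type*} [AddCommGroup P] [Module F P]
  {M : Type*} [Group M] {Q0 : QuadraticForm F P} {X : J n → J n → F → M} {Ys : J n → P → M}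

namespace CRELQ

theorem e₁_ne_zero {e₁ : P} (he₁ : Q0 e₁ = 1) : e₁ ≠ 0 := by
  intro h
  rw [h, map_zero] at he₁
  exact zero_ne_one he₁

theorem isRoot_inl {j k : Fin n} (hjk : j ≠ k) : IsRoot (Sum.inl j : J n) (Sum.inl k) := by
  refine ⟨fun h => hjk (Sum.inl_injective h), fun h => ?_⟩
  rw [ng_inl] at h
  exact Sum.inl_ne_inr h

theorem isRoot_inl_ng {j k : Fin n} (hjk : j ≠ k) : IsRoot (Sum.inl j : J n) (ng (Sum.inl k)) := by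
  rw [ng_inl]
  refine ⟨fun h => Sum.inl_ne_inr h, fun h => ?_⟩
  rw [ng_inr] at h
  exact hjk (Sum.inl_injective h)

theorem rfl0_self {e₁ : P} (he₁ : Q0 e₁ = 1) : rfl0 Q0 e₁ e₁ = -e₁ := by
  have h : Q0 e₁ ≠ 0 := by rw [he₁]; exact one_ne_zero
  have := WYIDQ.rfl0_smul_self h (1 : F)
  rwa [one_smul] at this

/-- `wY a e₁ * wY a e₁ = (tY a (-e₁))⁻¹` -/
theorem wY_sq (hB : QRel Q0 X Ys) (e₁ : P) (a : J n) :
    wY Q0 Ys a e₁ * wY Q0 Ys a e₁ = wY Q0 Ys a e₁ * (wY Q0 Ys a (-e₁))⁻¹ := by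
  rw [wY_inv' hB, neg_neg]

end CRELQ

open CRELQ

theorem cQ_sq_mem (hB : QRel Q0 X Ys) {e₁ : P} (he₁ : Q0 e₁ = 1) (j : Fin n) :
    cQ Q0 Ys e₁ j * cQ Q0 Ys e₁ j ∈ HhQ Q0 X Ys := by
  unfold cQ
  rw [wY_sq hB]
  exact Subgroup.subset_closure (Or.inr ⟨Sum.inl j, e₁, -e₁, e₁_ne_zero he₁,
    neg_ne_zero.2 (e₁_ne_zero he₁), rfl⟩)

theorem cQ_conj_cQ_mem (hn : 3 ≤ n) (hB : QRel Q0 X Ys) {e₁ : P} (he₁ : Q0 e₁ = 1)
    {j k : Fin n} (hjk : j ≠ k) :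
    cQ Q0 Ys e₁ j * cQ Q0 Ys e₁ k * (cQ Q0 Ys e₁ j)⁻¹ * (cQ Q0 Ys e₁ k)⁻¹ ∈ HhQ Q0 X Ys := by
  unfold cQ
  have hq : Q0 e₁ ≠ 0 := by rw [he₁]; exact one_ne_zero
  have hQn : Q0 (-e₁) = 1 := by rw [QuadraticMap.map_neg, he₁]
  have h1 := wY_conj_Ys_of_ne hB (isRoot_inl hjk) hq e₁
  have h2 := wY_conj_Ys_of_ne hB (isRoot_inl_ng hjk) hq e₁
  rw [rfl0_self he₁] at h1 h2
  have h : wY Q0 Ys (Sum.inl j) e₁ * wY Q0 Ys (Sum.inl k) e₁ * (wY Q0 Ys (Sum.inl j) e₁)⁻¹ =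
      wY Q0 Ys (Sum.inl k) (-e₁) := by
    have e : wY Q0 Ys (Sum.inl k) e₁ =
        Ys (Sum.inl k) e₁ * Ys (ng (Sum.inl k)) e₁ * Ys (Sum.inl k) e₁ := by
      unfold wY
      rw [he₁, inv_one, one_smul]
    have e' : wY Q0 Ys (Sum.inl k) (-e₁) =
        Ys (Sum.inl k) (-e₁) * Ys (ng (Sum.inl k)) (-e₁) * Ys (Sum.inl k) (-e₁) := by
      unfold wY
      rw [hQn, inv_one, one_smul]
    rw [e, e', WYIDQ.conj_mul3, h1, h2]
  rw [h]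
  exact Subgroup.subset_closure (Or.inr ⟨Sum.inl k, -e₁, e₁, neg_ne_zero.2 (e₁_ne_zero he₁),
    e₁_ne_zero he₁, rfl⟩)

end Cfsg.Agent.S2099P
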