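import Mathlib
import Cfsg.Agent.Lead.HallCount

/-! P. Hall: the number of Hall subgroups of a finite solvable group: the factors
`[C_N(B) : C_N(A)]`. -/

set_option linter.style.haveILetI false

namespace Cfsg.Agent.Lead

open Subgroup
open Pointwise

universe u

/-- A nontrivial finite solvable group has a normal subgroup of prime index. -/
theorem exists_normal_prime_index (A : Type*) [Group A] [Finite A] [Nontrivial A]
    [Group.IsSolvable A] : ∃ B : Subgroup A, B.Normal ∧ B.index.Prime := by
  let S : Set (Subgroup A) := {M | M.Normal ∧ M ≠ ⊤}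
  have hS : S.Nonempty := ⟨⊥, inferInstance, bot_ne_top⟩
  obtain ⟨M, ⟨hMn, hMne⟩, hMmax⟩ := wellFounded_gt.has_min S hS
  haveI := hMn
  have hf : Function.Surjective (QuotientGroup.mk' M) := QuotientGroup.mk'_surjective M
  have hnt : Nontrivial (A ⧸ M) := by
    rw [← Finite.one_lt_card_iff_nontrivial, ← Subgroup.index_eq_card]
    have h0 : M.index ≠ 0 := Subgroup.index_ne_zero_of_finite
    have h1 : M.index ≠ 1 := fun h => hMne (Subgroup.index_eq_one.mp h)
    omega
  have hsimple : IsSimpleGroup (A ⧸ M) := by
    refine { exists_pair_ne := hnt.exists_pair_ne, eq_bot_or_eq_top_of_normal := ?_ }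
    intro H hH
    have hK : M ≤ H.comap (QuotientGroup.mk' M) := by
      intro x hx
      rw [mem_comap]
      have : (QuotientGroup.mk' M) x = 1 := (QuotientGroup.eq_one_iff x).mpr hx
      rw [this]; exact one_mem _
    have hmc : (H.comap (QuotientGroup.mk' M)).map (QuotientGroup.mk' M) = H :=
      map_comap_eq_self_of_surjective hf H
    by_cases htop : H.comap (QuotientGroup.mk' M) = ⊤
    · right
      rw [← hmc, htop]
      exact map_top_of_surjective _ hf
    · left
      have hKS : H.comap (QuotientGroup.mk' M) ∈ S := ⟨inferInstance, htop⟩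
      have hnlt := hMmax _ hKS
      have hKM : H.comap (QuotientGroup.mk' M) = M := by
        by_contra hne
        exact hnlt (lt_of_le_of_ne hK (Ne.symm hne))
      rw [← hmc, hKM]
      exact QuotientGroup.map_mk'_self M
  have hcomm : ∀ a b : A ⧸ M, a * b = b * a := IsSimpleGroup.comm_iff_isSolvable.mpr inferInstance
  haveI : IsMulCommutative (A ⧸ M) := ⟨⟨hcomm⟩⟩
  refine ⟨M, hMn, ?_⟩
  rw [Subgroup.index_eq_card]
  exact Group.is_simple_iff_prime_card.mp hsimple

section
variable {G : Type*} [Group G]

theorem exists_le_normal_prime_relIndex [Finite G] (A : Subgroup G) (hA : A ≠ ⊥)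
    (hs : Group.IsSolvable A) :
    ∃ B : Subgroup G, B ≤ A ∧ A ≤ normalizer (B : Set G) ∧ (B.relIndex A).Prime := by
  haveI : Nontrivial A := (Subgroup.nontrivial_iff_ne_bot A).mpr hA
  obtain ⟨B, hBn, hBp⟩ := exists_normal_prime_index A
  have h1 : (B.map A.subtype).subgroupOf A = B :=
    comap_map_eq_self_of_injective A.subtype_injective B
  refine ⟨B.map A.subtype, map_subtype_le B, ?_, ?_⟩
  · rw [← normal_subgroupOf_iff_le_normalizer (map_subtype_le B), h1]; exact hBn
  · rw [relIndex, h1]; exact hBp

/-- If `B ⊴ A` has prime index `q` and `A` normalizes the `q'`-group `N`, then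
`[C_N(B) : C_N(A)] ≡ 1 (mod q)`. -/
theorem relIndex_centralizer_modEq_one [Finite G] {q : ℕ} [hq : Fact q.Prime]
    (A B N : Subgroup G) (hBA : B ≤ A) (hAB : A ≤ normalizer (B : Set G))
    (hidx : B.relIndex A = q) (hAN : A ≤ normalizer (N : Set G)) (hqN : ¬ q ∣ Nat.card N) :
    (centralizer (A : Set G)).relIndex (centralizer (B : Set G) ⊓ N) ≡ 1 [MOD q] := by
  classical
  have hne : ¬ A ≤ B := by
    intro h
    have h1 : B.relIndex A = 1 := relIndex_eq_one.mpr h
    rw [hidx] at h1
    exact hq.out.one_lt.ne' h1
  obtain ⟨a, haA, haB⟩ := SetLike.not_le_iff_exists.mp hne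
  set V : Subgroup G := centralizer (B : Set G) ⊓ N with hV
  have haV : a ∈ normalizer (V : Set G) :=
    le_normalizer_inf' (hAB.trans (normalizer_le_normalizer_centralizer B)) hAN haA
  haveI : (B.subgroupOf A).Normal := (normal_subgroupOf_iff_le_normalizer hBA).mpr hAB
  have haq : a ^ q ∈ B := by
    have h1 := Subgroup.pow_index_mem (B.subgroupOf A) ⟨a, haA⟩
    have h2 : (B.subgroupOf A).index = q := hidx
    rw [h2, mem_subgroupOf] at h1
    simpa using h1
  let f : Function.End V := fun v => ⟨a * v * a⁻¹, (mem_normalizer_iff.mp haV v).mp v.2⟩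
  have hfpow : ∀ k : ℕ, ∀ v : V, (((f ^ k) v : V) : G) = a ^ k * v * (a ^ k)⁻¹ := by
    intro k
    induction k with
    | zero =>
      intro v
      have e : f ^ 0 = 1 := pow_zero f
      rw [e, pow_zero]
      change (v : G) = 1 * (v : G) * 1⁻¹
      group
    | succ k ih =>
      intro v
      have e : f ^ (k + 1) = f * f ^ k := pow_succ' f k
      rw [e]
      change a * (((f ^ k) v : V) : G) * a⁻¹ = _
      rw [ih v, pow_succ']
      group
  have hf : f ^ q ^ 1 = 1 := by
    rw [pow_one]
    funext v
    apply Subtype.ext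
    rw [hfpow]
    have hvB : (v : G) ∈ centralizer (B : Set G) := v.2.1
    have h1 := hvB (a ^ q) haq
    change ((a ^ q) * (v : G) * (a ^ q)⁻¹) = (v : G)
    rw [h1]; group
  haveI : Fintype V := Fintype.ofFinite V
  have hmod := Equiv.Perm.card_fixedPoints_modEq (f := f) (p := q) (n := 1) hf
  rw [Fintype.card_eq_nat_card, Fintype.card_eq_nat_card] at hmod
  -- the fixed points
  set W : Subgroup G := centralizer (A : Set G) ⊓ V with hW
  have hWV : W ≤ V := inf_le_right
  have hfix : Function.fixedPoints f = ((W.subgroupOf V : Subgroup V) : Set V) := by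
    ext v
    rw [Function.mem_fixedPoints, Function.IsFixedPt, SetLike.mem_coe, mem_subgroupOf]
    constructor
    · intro h
      have h1 : a * (v : G) * a⁻¹ = (v : G) := congrArg Subtype.val h
      suffices hsuff : (v : G) ∈ centralizer (A : Set G) from mem_inf.mpr ⟨hsuff, v.2⟩
      -- `C = C_A(v)` contains `B` and `a`
      set C : Subgroup G := centralizer ({(v : G)} : Set G) ⊓ A with hC
      have hBC : B ≤ C := by
        intro b hb
        have h2 : b ∈ centralizer ({(v : G)} : Set G) := by
          rw [mem_centralizer_singleton_iff]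
          exact (v.2.1 b hb)
        exact mem_inf.mpr ⟨h2, hBA hb⟩
      have haC : a ∈ C := by
        have h2 : a ∈ centralizer ({(v : G)} : Set G) := by
          rw [mem_centralizer_singleton_iff]
          calc a * (v : G) = a * (v : G) * a⁻¹ * a := by group
            _ = (v : G) * a := by rw [h1]
        exact mem_inf.mpr ⟨h2, haA⟩
      have hCA : C ≤ A := inf_le_right
      have hmul := relIndex_mul_relIndex B C A hBC hCA
      rw [hidx] at hmul
      have hBC1 : B.relIndex C ≠ 1 := by
        intro h1
        exact haB (relIndex_eq_one.mp h1 haC)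
      have hBCq : B.relIndex C = q := by
        rcases (Nat.dvd_prime hq.out).mp ⟨_, hmul.symm⟩ with h | h
        · exact absurd h hBC1
        · exact h
      have hCA1 : C.relIndex A = 1 := by
        rw [hBCq] at hmul
        have hq0 : 0 < q := hq.out.pos
        exact Nat.eq_of_mul_eq_mul_left hq0 (by rw [hmul, mul_one])
      have hAC : A ≤ C := relIndex_eq_one.mp hCA1
      rw [mem_centralizer_iff]
      intro x hx
      have hxC : x ∈ centralizer ({(v : G)} : Set G) := (mem_inf.mp (hAC hx)).1
      rw [mem_centralizer_singleton_iff] at hxC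
      exact hxC
    · intro h
      apply Subtype.ext
      change a * (v : G) * a⁻¹ = (v : G)
      have h1 := h.1 a haA
      rw [h1]; group
  have hcardfix : Nat.card (Function.fixedPoints f) = Nat.card W := by
    rw [hfix]
    exact Nat.card_congr (subgroupOfEquivOfLe hWV).toEquiv
  rw [hcardfix] at hmod
  have hVW : Nat.card V = W.relIndex V * Nat.card W := card_eq_relIndex_mul_card hWV
  have hrel : W.relIndex V = (centralizer (A : Set G)).relIndex V := by
    rw [hW, inf_relIndex_right]
  rw [hVW, hrel] at hmod
  have hWN : Nat.card W ∣ Nat.card N := card_dvd_of_le (hWV.trans inf_le_right)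
  have hcop : Nat.gcd q (Nat.card W) = 1 := by
    rw [← Nat.coprime_iff_gcd_eq_one, Nat.Prime.coprime_iff_not_dvd hq.out]
    exact fun h => hqN (h.trans hWN)
  have h2 : (centralizer (A : Set G)).relIndex V * Nat.card W ≡ 1 * Nat.card W [MOD q] := by
    rw [one_mul]; exact hmod
  exact Nat.ModEq.cancel_right_of_coprime hcop h2

end

end Cfsg.Agent.Lead
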