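import Mathlib
import Cfsg.Prelude.Def_GeometricClasses
import Cfsg.Agent.Helper2.S5886.Defs
import Cfsg.Agent.Helper6.S5886KTRANS

/-! # S5886 piece TVK (lead) -/

set_option autoImplicit false
set_option linter.unusedSectionVars false

namespace Cfsg.Agent.S5886P

variable {F K V : Type*} [Field F] [Field K] [Algebra F K]
  [AddCommGroup V] [Module F V] [Module K V] [IsScalarTower F K V]

/-- a `K`-transvection is `K`-linear -/
theorem TVK.ktv_klin (g : V ≃ₗ[F] V) (hg : IsKTv (K := K) g) (k : K) (x : V) :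
    g (k • x) = k • g x := by
  obtain ⟨ψ, u, _, hgx⟩ := hg
  rw [hgx, hgx, map_smul, smul_add, smul_smul, smul_eq_mul]

/-- the elements of `KTV` are `K`-linear -/
theorem TVK.ktvgrp_klin (s : V ≃ₗ[F] V) (hs : s ∈ KTV F K V) :
    ∀ (k : K) (x : V), s (k • x) = k • s x := by
  unfold KTV at hs
  induction hs using Subgroup.closure_induction with
  | mem g hg => exact TVK.ktv_klin g hg
  | one => intro k x; rfl
  | mul a b _ _ ha hb =>
    intro k x
    rw [LinearEquiv.mul_apply, hb, ha]
    rfl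
  | inv a _ ha =>
    intro k x
    apply a.injective
    rw [ha]
    simp

/-- an `F`-multiple of `v` lies on the `K`-line of `v` -/
theorem TVK.smul_mem_Kline (v : V) (a : F) : a • v ∈ Kline (F := F) (K := K) v := by
  unfold Kline
  rw [Submodule.restrictScalars_mem]
  rw [← algebraMap_smul K a v]
  exact Submodule.smul_mem _ _ (Submodule.mem_span_singleton_self v)

/-- TVK : all `F`-transvections whose axis contains the `K`-line of the centre. -/
theorem TVK [Finite K] [Finite V] (hm : 2 ≤ Module.finrank K V)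
    (M : Subgroup (V ≃ₗ[F] V)) (hKTV : KTV F K V ≤ M) (v : V) (hv : v ≠ 0)
    (hfull : ∀ A ∈ ulie (Kline (F := F) (K := K) v), A ∈ yset M (Kline (F := F) (K := K) v))
    (f : V →ₗ[F] F) (u : V) (hfu : ∀ c : K, f (c • u) = 0) (g : V ≃ₗ[F] V)
    (hg : ∀ x, g x = x + f x • u) : g ∈ M := by
  by_cases hu : u = 0
  · have h1 : g = 1 := by
      ext x
      rw [hg, hu, smul_zero, add_zero]
      rfl
    rw [h1]
    exact M.one_mem
  obtain ⟨s, hs, hsv⟩ := KTRANS (F := F) (K := K) hm v u hv hu
  have hslin := TVK.ktvgrp_klin s hs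
  set A : V →ₗ[F] V := (LinearMap.toSpanSingleton F V v) ∘ₗ f ∘ₗ (s : V →ₗ[F] V) with hA
  have hAx : ∀ x, A x = f (s x) • v := fun x => rfl
  have hAu : A ∈ ulie (Kline (F := F) (K := K) v) := by
    refine ⟨fun x => ?_, fun x hx => ?_⟩
    · rw [hAx]
      exact TVK.smul_mem_Kline v _
    · unfold Kline at hx
      rw [Submodule.restrictScalars_mem] at hx
      obtain ⟨c, rfl⟩ := Submodule.mem_span_singleton.mp hx
      rw [hAx, hslin, hsv, hfu, zero_smul]
  obtain ⟨_, g', hg'M, hg'⟩ := hfull A hAu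
  have h2 : g = s * g' * s⁻¹ := by
    ext x
    rw [LinearEquiv.mul_apply, LinearEquiv.mul_apply, hg', hAx, map_add, map_smul, hsv, hg]
    simp
  rw [h2]
  exact M.mul_mem (M.mul_mem (hKTV hs) hg'M) (M.inv_mem (hKTV hs))

end Cfsg.Agent.S5886P
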