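import Mathlib
import Cfsg.Prelude.Def_Classical
import Cfsg.Agent.Helper21.S2286DEFS
import Cfsg.Agent.Helper21.S2289DEFS
import Cfsg.Agent.Helper2.HermCount

/-! S2289 piece FETA (driver helper21; lead): `η = ζ^(q+1)` generates the units of the fixed field. -/

set_option autoImplicit false

namespace Cfsg.Agent.Helper21.S2289

open Cfsg.Agent.Helper21.S2286 Polynomial

variable {F : Type*} [Field F] [Fintype F] {q : ℕ}

namespace FETA

theorem orderOf_gen (hF : Fintype.card F = q ^ 2) (ζ : Fˣ)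
    (hζ : ∀ y : Fˣ, y ∈ Subgroup.zpowers ζ) : orderOf ζ = q ^ 2 - 1 := by
  rw [orderOf_eq_card_of_forall_mem_zpowers hζ, Cfsg.Agent.Helper2.Herm.card_units hF]

/-- every non-zero element is a natural power of the generator -/
theorem exists_pow (ζ : Fˣ) (hζ : ∀ y : Fˣ, y ∈ Subgroup.zpowers ζ) (x : F) (hx : x ≠ 0) :
    ∃ i : ℕ, x = (ζ : F) ^ i := by
  have h := hζ (Units.mk0 x hx)
  rw [← mem_powers_iff_mem_zpowers] at h
  obtain ⟨i, hi⟩ := h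
  refine ⟨i, ?_⟩
  have := congrArg Units.val hi
  simpa using this.symm

/-- the fixed points are the powers of `η` -/
theorem fixed_is_pow (hF : Fintype.card F = q ^ 2) (ζ : Fˣ)
    (hζ : ∀ y : Fˣ, y ∈ Subgroup.zpowers ζ) (x : F) (hxq : x ^ q = x) (hx : x ≠ 0) :
    ∃ m : ℕ, x = ((ζ : F) ^ (q + 1)) ^ m := by
  have hq := Cfsg.Agent.Helper2.Herm.two_le_q hF
  obtain ⟨i, rfl⟩ := exists_pow ζ hζ x hx
  -- `ζ^(i (q-1)) = 1`
  have h1 : ((ζ : F) ^ i) ^ (q - 1) = 1 := by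
    have h2 : ((ζ : F) ^ i) ^ (q - 1) * (ζ : F) ^ i = (ζ : F) ^ i := by
      rw [← pow_succ, Nat.sub_add_cancel (by omega)]
      exact hxq
    exact mul_right_cancel₀ hx (by rw [h2, one_mul])
  have h3 : ζ ^ (i * (q - 1)) = 1 := by
    apply Units.ext
    rw [Units.val_pow_eq_pow_val, pow_mul]
    exact h1
  have h4 : (q ^ 2 - 1) ∣ i * (q - 1) := by
    rw [← orderOf_gen hF ζ hζ]
    exact orderOf_dvd_of_pow_eq_one h3
  rw [Cfsg.Agent.Helper2.Herm.factor hq] at h4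
  have h5 : (q + 1) ∣ i := Nat.dvd_of_mul_dvd_mul_right (by omega) h4
  obtain ⟨m, rfl⟩ := h5
  exact ⟨m, by rw [pow_mul]⟩

end FETA

theorem eta_facts (hF : Fintype.card F = q ^ 2) (h2 : q ≠ 2) (h3 : q ≠ 3) (ζ : Fˣ)
    (hζ : ∀ y : Fˣ, y ∈ Subgroup.zpowers ζ) :
    ((ζ : F) ^ (q + 1)) ^ q = (ζ : F) ^ (q + 1) ∧ ((ζ : F) ^ (q + 1)) ^ (q - 1) = 1 ∧
    (∀ x : F, x ^ q = x → x ≠ 0 → ∃ m : ℕ, x = ((ζ : F) ^ (q + 1)) ^ m) ∧
    (∃ k : ℕ, ((ζ : F) ^ (q + 1)) ^ k = 1 + (ζ : F) ^ (q + 1)) := by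
  have hq := Cfsg.Agent.Helper2.Herm.two_le_q hF
  have hηq : ((ζ : F) ^ (q + 1)) ^ q = (ζ : F) ^ (q + 1) :=
    Cfsg.Agent.Helper2.Herm.norm_mem_K hF (ζ : F)
  have hord := FETA.orderOf_gen hF ζ hζ
  have hη1 : ((ζ : F) ^ (q + 1)) ^ (q - 1) = 1 := by
    rw [← pow_mul, ← Cfsg.Agent.Helper2.Herm.factor hq, ← hord, ← Units.val_pow_eq_pow_val,
      pow_orderOf_eq_one, Units.val_one]
  refine ⟨hηq, hη1, fun x hx hx0 => FETA.fixed_is_pow hF ζ hζ x hx hx0, ?_⟩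
  -- `1 + η` is a non-zero fixed point
  have hfix : (1 + (ζ : F) ^ (q + 1)) ^ q = 1 + (ζ : F) ^ (q + 1) := by
    rw [Cfsg.Agent.Helper2.Herm.add_pow_q hF, one_pow, hηq]
  have hne : 1 + (ζ : F) ^ (q + 1) ≠ 0 := by
    intro h
    have hm1 : (ζ : F) ^ (q + 1) = -1 := by linear_combination h
    have hsq : ζ ^ ((q + 1) * 2) = 1 := by
      apply Units.ext
      rw [Units.val_pow_eq_pow_val, pow_mul, hm1]
      simp
    have hdvd : (q ^ 2 - 1) ∣ (q + 1) * 2 := by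
      rw [← hord]
      exact orderOf_dvd_of_pow_eq_one hsq
    rw [Cfsg.Agent.Helper2.Herm.factor hq] at hdvd
    have h5 : (q - 1) ∣ 2 := Nat.dvd_of_mul_dvd_mul_left (by omega) hdvd
    have h6 : q - 1 ≤ 2 := Nat.le_of_dvd (by norm_num) h5
    omega
  obtain ⟨k, hk⟩ := FETA.fixed_is_pow hF ζ hζ _ hfix hne
  exact ⟨k, hk.symm⟩

end Cfsg.Agent.Helper21.S2289
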