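import Mathlib
import Cfsg.Prelude.Def_Classical
import Cfsg.Agent.Helper21.S2286DEFS
import Cfsg.Agent.Helper21.S2289DEFS
import Cfsg.Agent.Helper2.HermCount

/-! S2289 piece FBETA (driver helper21; lead): a generator of the norm-one group as `-β₀/β₀^q`. -/

set_option autoImplicit false

namespace Cfsg.Agent.Helper21.S2289

open Cfsg.Agent.Helper21.S2286 Polynomial

variable {F : Type*} [Field F] [Fintype F] {q : ℕ}

theorem exists_beta (hF : Fintype.card F = q ^ 2) :
    ∃ β₀ : F, β₀ + β₀ ^ q = -1 ∧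
      ∀ y : F, y ^ (q + 1) = 1 → ∃ m : ℕ, y = (-β₀ / β₀ ^ q) ^ m := by
  classical
  have hq := Cfsg.Agent.Helper2.Herm.two_le_q hF
  -- the norm-one group is cyclic of order `q + 1`
  set N : Subgroup Fˣ := (powMonoidHom (q + 1) : Fˣ →* Fˣ).ker with hN
  have hcard : Nat.card N = q + 1 := Cfsg.Agent.Helper2.Herm.card_ker_norm hF
  obtain ⟨g, hg⟩ := (inferInstance : IsCyclic N).exists_generator
  -- `g ≠ 1`
  have hg1 : (g : Fˣ) ≠ 1 := by
    intro h
    have hg' : g = 1 := Subtype.ext h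
    have : Nat.card N = 1 := by
      rw [← orderOf_eq_card_of_forall_mem_zpowers hg, hg', orderOf_one]
    omega
  set τ : F := ((g : Fˣ) : F) with hτ
  have hτ0 : τ ≠ 0 := Units.ne_zero _
  have hτ1 : τ ≠ 1 := by
    intro h
    apply hg1
    exact Units.ext h
  have hτN : τ ^ (q + 1) = 1 := by
    have h1 : (g : Fˣ) ∈ (powMonoidHom (q + 1) : Fˣ →* Fˣ).ker := g.2
    rw [MonoidHom.mem_ker, powMonoidHom_apply] at h1
    have h2 := congrArg Units.val h1
    simpa using h2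
  have hτq : τ ^ q = τ⁻¹ := by
    rw [pow_succ] at hτN
    exact eq_inv_of_mul_eq_one_left hτN
  have h1τ : 1 - τ ≠ 0 := sub_ne_zero.mpr (Ne.symm hτ1)
  have hβq : (τ / (1 - τ)) ^ q = 1 / (τ - 1) := by
    rw [div_pow, Cfsg.Agent.Helper2.Herm.sub_pow_q hF, one_pow, hτq]
    have : τ - 1 ≠ 0 := sub_ne_zero.mpr hτ1
    field_simp
  refine ⟨τ / (1 - τ), ?_, ?_⟩
  · rw [hβq]
    have : τ - 1 ≠ 0 := sub_ne_zero.mpr hτ1
    field_simp
    ring
  · intro y hy
    have hgen : -(τ / (1 - τ)) / (τ / (1 - τ)) ^ q = τ := by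
      rw [hβq]
      have : τ - 1 ≠ 0 := sub_ne_zero.mpr hτ1
      field_simp
      ring
    rw [hgen]
    have hy0 : y ≠ 0 := by
      rintro rfl
      rw [zero_pow (by omega)] at hy
      exact zero_ne_one hy
    have hyN : Units.mk0 y hy0 ∈ N := by
      show Units.mk0 y hy0 ∈ (powMonoidHom (q + 1) : Fˣ →* Fˣ).ker
      rw [MonoidHom.mem_ker, powMonoidHom_apply]
      apply Units.ext
      simpa using hy
    have hmem : (⟨Units.mk0 y hy0, hyN⟩ : N) ∈ Subgroup.zpowers g := hg _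
    rw [← mem_powers_iff_mem_zpowers] at hmem
    obtain ⟨m, hm⟩ := hmem
    refine ⟨m, ?_⟩
    have h2 := congrArg (fun z : N => ((z : Fˣ) : F)) hm
    simp only [SubmonoidClass.coe_pow, Units.val_pow_eq_pow_val, Units.val_mk0] at h2
    rw [hτ]
    exact h2.symm

end Cfsg.Agent.Helper21.S2289
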