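import Mathlib
import Cfsg.Prelude.Def_Classical
import Cfsg.Agent.Helper21.S2286DEFS
import Cfsg.Agent.Helper21.S2289DEFS
import Cfsg.Agent.Helper2.HermCount
import Cfsg.Agent.Helper2.UnitaryCenter

/-! S2289 piece PSUCEN (driver helper21; lead): the centre of `SU(3,q)` is the normal closure of
`h(ζ)^((q²-1)/gcd(3,q+1))`. -/

set_option autoImplicit false
set_option linter.unusedVariables false

namespace Cfsg.Agent.Helper21.S2289

open Cfsg.Agent.Helper21.S2286 Polynomial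

namespace PSUCEN

variable {F : Type*} [Field F] {q : ℕ} {G : Type*} [Group G]

/-- `hG` as a homomorphism on the units -/
def hHom (D : U3Data F q G) : Fˣ →* G where
  toFun t := D.hG (t : F)
  map_one' := by rw [Units.val_one]; exact D.h_one
  map_mul' s t := by
    rw [Units.val_mul]
    exact D.h_mul _ _ s.ne_zero t.ne_zero

theorem hHom_apply (D : U3Data F q G) (t : Fˣ) : hHom D t = D.hG (t : F) := rfl

theorem hHom_injective (hq : 0 < q) (D : U3Data F q G) : Function.Injective (hHom D) := by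
  intro s t h
  have hv : Val q (0 : F) 0 := by
    unfold Val
    rw [zero_pow (by omega), zero_pow (by omega)]
    ring
  have h1 : D.uG 0 0 * D.hG (s : F) = D.uG 0 0 * D.hG (t : F) := by
    rw [← hHom_apply, ← hHom_apply, h]
  exact Units.ext (D.inj_B 0 0 _ 0 0 _ hv hv s.ne_zero t.ne_zero h1).2.2

end PSUCEN

open PSUCEN

theorem psu_center {F : Type*} [Field F] [Fintype F] {q : ℕ} (hF : Fintype.card F = q ^ 2) (h2 : q ≠ 2)
    (D : U3Data F q (Cfsg.SU 3 F q)) (ζ : Fˣ) (hζ : ∀ y : Fˣ, y ∈ Subgroup.zpowers ζ)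
    (β₀ : F) (hβ : β₀ + β₀ ^ q = -1)
    (hgen : Subgroup.closure ({D.uG 1 β₀, D.hG (ζ : F), D.nG} : Set (Cfsg.SU 3 F q)) = ⊤) :
    Subgroup.center (Cfsg.SU 3 F q) =
      Subgroup.normalClosure {D.hG (ζ : F) ^ ((q ^ 2 - 1) / Nat.gcd 3 (q + 1))} := by
  classical
  have hq := Cfsg.Agent.Helper2.Herm.two_le_q hF
  set d := Nat.gcd 3 (q + 1) with hd
  have hd3 : d ∣ 3 := Nat.gcd_dvd_left 3 (q + 1)
  have hdq : d ∣ q + 1 := Nat.gcd_dvd_right 3 (q + 1)
  have hdpos : 0 < d := Nat.gcd_pos_of_pos_left _ (by norm_num)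
  have hfac : q ^ 2 - 1 = (q + 1) * (q - 1) := Cfsg.Agent.Helper2.Herm.factor hq
  have hdN : d ∣ q ^ 2 - 1 := by rw [hfac]; exact Dvd.dvd.mul_right hdq _
  set m := (q ^ 2 - 1) / d with hm
  have hmd : m * d = q ^ 2 - 1 := Nat.div_mul_cancel hdN
  have hNpos : 0 < q ^ 2 - 1 := by
    have : 2 ^ 2 ≤ q ^ 2 := Nat.pow_le_pow_left hq 2
    omega
  have hmpos : 0 < m := Nat.pos_of_ne_zero (by rintro h; rw [h, zero_mul] at hmd; omega)
  have hord : orderOf ζ = q ^ 2 - 1 := by
    rw [orderOf_eq_card_of_forall_mem_zpowers hζ, Cfsg.Agent.Helper2.Herm.card_units hF]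
  have hζN : ζ ^ (q ^ 2 - 1) = 1 := by rw [← hord]; exact pow_orderOf_eq_one ζ
  -- `t = ζ^m`
  set t : Fˣ := ζ ^ m with ht
  have ht3 : t ^ 3 = 1 := by
    obtain ⟨k, hk⟩ := hd3
    rw [ht, ← pow_mul, hk, ← mul_assoc, hmd, pow_mul, hζN, one_pow]
  have htq1 : t ^ (q + 1) = 1 := by
    obtain ⟨k, hk⟩ := hdq
    rw [ht, ← pow_mul, hk, ← mul_assoc, hmd, pow_mul, hζN, one_pow]
  -- consequences in `F`
  have ht3F : (t : F) ^ 3 = 1 := by
    rw [← Units.val_pow_eq_pow_val, ht3, Units.val_one]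
  have htq1F : (t : F) ^ (q + 1) = 1 := by
    rw [← Units.val_pow_eq_pow_val, htq1, Units.val_one]
  have ht0 : (t : F) ≠ 0 := t.ne_zero
  have htqF : (t : F) ^ q = (t : F) ^ 2 := by
    have h1 : (t : F) ^ q * (t : F) = (t : F) ^ 2 * (t : F) := by
      rw [← pow_succ, ← pow_succ, htq1F, ht3F]
    exact mul_right_cancel₀ ht0 h1
  -- `c₀ = hG t`
  have hc0 : D.hG (ζ : F) ^ m = D.hG (t : F) := by
    rw [← hHom_apply, ← hHom_apply, ← map_pow]
  rw [hc0]
  set c₀ := D.hG (t : F) with hc₀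
  -- `c₀` commutes with the generators
  have hcu : c₀ * D.uG 1 β₀ = D.uG 1 β₀ * c₀ := by
    have hv : Val q (1 : F) β₀ := by
      unfold Val
      rw [one_pow]
      linear_combination hβ
    have h1 := D.h_u (t : F) 1 β₀ ht0 hv
    rw [htq1F, mul_one, one_mul, htqF, div_self (pow_ne_zero _ ht0)] at h1
    calc c₀ * D.uG 1 β₀ = c₀ * D.uG 1 β₀ * c₀⁻¹ * c₀ := by group
      _ = D.uG 1 β₀ * c₀ := by rw [h1]
  have hch : c₀ * D.hG (ζ : F) = D.hG (ζ : F) * c₀ := by
    rw [hc₀, ← D.h_mul _ _ ht0 ζ.ne_zero, ← D.h_mul _ _ ζ.ne_zero ht0, mul_comm]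
  have hcn : c₀ * D.nG = D.nG * c₀ := by
    have h1 := D.n_h (t : F) ht0
    have h2 : 1 / (t : F) ^ q = (t : F) := by
      rw [htqF, div_eq_iff (pow_ne_zero _ ht0), ← pow_succ']
      exact ht3F.symm
    rw [h2] at h1
    calc c₀ * D.nG = (D.nG * c₀ * D.nG⁻¹) * D.nG := by rw [h1]
      _ = D.nG * c₀ := by group
  -- `c₀` is central
  have hcen : c₀ ∈ Subgroup.center (Cfsg.SU 3 F q) := by
    rw [Subgroup.mem_center_iff]
    intro g
    have hg : g ∈ Subgroup.closure ({D.uG 1 β₀, D.hG (ζ : F), D.nG} : Set (Cfsg.SU 3 F q)) := by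
      rw [hgen]; trivial
    induction hg using Subgroup.closure_induction with
    | mem x hx =>
      rcases hx with rfl | rfl | rfl
      · exact hcu.symm
      · exact hch.symm
      · exact hcn.symm
    | one => rw [one_mul, mul_one]
    | mul x y _ _ hx hy => rw [mul_assoc, hy, ← mul_assoc, hx, mul_assoc]
    | inv x _ hx =>
      calc x⁻¹ * c₀ = x⁻¹ * (c₀ * x) * x⁻¹ := by group
        _ = x⁻¹ * (x * c₀) * x⁻¹ := by rw [hx]
        _ = c₀ * x⁻¹ := by group
  -- the normal closure is `zpowers c₀`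
  have hnc : Subgroup.normalClosure {c₀} = Subgroup.zpowers c₀ := by
    apply le_antisymm
    · have : (Subgroup.zpowers c₀).Normal := by
        constructor
        intro x hx g
        obtain ⟨k, rfl⟩ := Subgroup.mem_zpowers_iff.mp hx
        have hk : c₀ ^ k ∈ Subgroup.center (Cfsg.SU 3 F q) := Subgroup.zpow_mem _ hcen k
        rw [Subgroup.mem_center_iff] at hk
        rw [hk g, mul_inv_cancel_right]
        exact Subgroup.zpow_mem_zpowers c₀ k
      apply Subgroup.normalClosure_le_normal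
      rw [Set.singleton_subset_iff]
      exact Subgroup.mem_zpowers c₀
    · rw [Subgroup.zpowers_le]
      exact Subgroup.subset_normalClosure (Set.mem_singleton c₀)
  rw [hnc]
  -- cardinalities
  have hordc : orderOf c₀ = d := by
    rw [hc₀, ← hHom_apply, orderOf_injective (hHom D) (hHom_injective (by omega) D), ht,
      orderOf_pow' ζ (Nat.pos_iff_ne_zero.mp hmpos), hord, ← hmd, Nat.gcd_mul_right_left,
      Nat.mul_div_cancel_left _ hmpos]
  symm
  apply Subgroup.eq_of_le_of_card_ge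
  · rw [Subgroup.zpowers_le]; exact hcen
  · rw [Cfsg.Agent.Helper2.Herm.card_center_SU hF 3 (by norm_num), Nat.card_zpowers, hordc]

end Cfsg.Agent.Helper21.S2289
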