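import Mathlib

/-! S2293 piece QUOT (driver helper21; lead): adding one relator to a presentation of `G`
presents the quotient of `G` by the normal closure of the image of that relator. -/

namespace Cfsg.Agent.Helper21.S2293

namespace QUOT

variable {α : Type*} (R : Set (FreeGroup α)) {G : Type*} [Group G]

/-- the forward map `PresentedGroup (R ∪ {r}) →* G ⧸ N`. -/
noncomputable def fwd (e : PresentedGroup R ≃* G) (r : FreeGroup α) (N : Subgroup G) [N.Normal]
    (hN : N = Subgroup.normalClosure {e (PresentedGroup.mk R r)}) :
    PresentedGroup (R ∪ {r}) →* G ⧸ N :=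
  QuotientGroup.lift (Subgroup.normalClosure (R ∪ {r}))
    ((QuotientGroup.mk' N).comp (e.toMonoidHom.comp (PresentedGroup.mk R)))
    (by
      have hle : Subgroup.normalClosure (R ∪ {r}) ≤
          ((QuotientGroup.mk' N).comp (e.toMonoidHom.comp (PresentedGroup.mk R))).ker := by
        apply Subgroup.normalClosure_le_normal
        rintro x (hx | hx)
        · rw [SetLike.mem_coe, MonoidHom.mem_ker]
          have : PresentedGroup.mk R x = 1 := by
            rw [← MonoidHom.mem_ker]
            show x ∈ (QuotientGroup.mk' (Subgroup.normalClosure R)).ker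
            rw [QuotientGroup.ker_mk']
            exact Subgroup.subset_normalClosure hx
          simp [this]
        · rw [Set.mem_singleton_iff] at hx
          subst hx
          rw [SetLike.mem_coe, MonoidHom.mem_ker]
          show (QuotientGroup.mk' N) (e (PresentedGroup.mk R x)) = 1
          rw [← MonoidHom.mem_ker, QuotientGroup.ker_mk', hN]
          exact Subgroup.subset_normalClosure (Set.mem_singleton _)
      intro x hx
      exact hle hx)

/-- the canonical map `PresentedGroup R →* PresentedGroup (R ∪ {r})`. -/
noncomputable def enl (r : FreeGroup α) : PresentedGroup R →* PresentedGroup (R ∪ {r}) :=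
  QuotientGroup.lift (Subgroup.normalClosure R) (PresentedGroup.mk (R ∪ {r}))
    (by
      intro x hx
      have hle : Subgroup.normalClosure R ≤ Subgroup.normalClosure (R ∪ {r}) :=
        Subgroup.normalClosure_mono Set.subset_union_left
      have : x ∈ (QuotientGroup.mk' (Subgroup.normalClosure (R ∪ {r}))).ker := by
        rw [QuotientGroup.ker_mk']; exact hle hx
      exact this)

theorem enl_mk (r x : FreeGroup α) : enl R r (PresentedGroup.mk R x) = PresentedGroup.mk (R ∪ {r}) x :=
  rfl

/-- the backward map `G ⧸ N →* PresentedGroup (R ∪ {r})`. -/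
noncomputable def bwd (e : PresentedGroup R ≃* G) (r : FreeGroup α) (N : Subgroup G) [N.Normal]
    (hN : N = Subgroup.normalClosure {e (PresentedGroup.mk R r)}) :
    G ⧸ N →* PresentedGroup (R ∪ {r}) :=
  QuotientGroup.lift N ((enl R r).comp e.symm.toMonoidHom)
    (by
      have hle : N ≤ ((enl R r).comp e.symm.toMonoidHom).ker := by
        rw [hN]
        apply Subgroup.normalClosure_le_normal
        intro x hx
        rw [Set.mem_singleton_iff] at hx
        subst hx
        rw [SetLike.mem_coe, MonoidHom.mem_ker]
        show enl R r (e.symm (e (PresentedGroup.mk R r))) = 1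
        rw [MulEquiv.symm_apply_apply, enl_mk]
        rw [← MonoidHom.mem_ker]
        show r ∈ (QuotientGroup.mk' (Subgroup.normalClosure (R ∪ {r}))).ker
        rw [QuotientGroup.ker_mk']
        exact Subgroup.subset_normalClosure (Set.mem_union_right _ (Set.mem_singleton _))
      intro x hx
      exact hle hx)

end QUOT

/-! ## piece QUOT (generic, Mathlib only) -/
theorem presented_quot {α : Type*} (R : Set (FreeGroup α)) {G : Type*} [Group G]
    (e : PresentedGroup R ≃* G) (r : FreeGroup α) (N : Subgroup G) [N.Normal]
    (hN : N = Subgroup.normalClosure {e (PresentedGroup.mk R r)}) :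
    Nonempty (PresentedGroup (R ∪ {r}) ≃* G ⧸ N) := by
  refine ⟨MulEquiv.ofBijective (QUOT.fwd R e r N hN) ⟨?_, ?_⟩⟩
  · -- injective: `bwd ∘ fwd = id`
    have key : ∀ y : PresentedGroup (R ∪ {r}),
        QUOT.bwd R e r N hN (QUOT.fwd R e r N hN y) = y := by
      intro y
      obtain ⟨x, rfl⟩ := QuotientGroup.mk_surjective y
      show QUOT.enl R r (e.symm (e (PresentedGroup.mk R x))) = _
      rw [MulEquiv.symm_apply_apply, QUOT.enl_mk]
      rfl
    intro y₁ y₂ h
    rw [← key y₁, ← key y₂, h]
  · intro z
    obtain ⟨g, rfl⟩ := QuotientGroup.mk_surjective z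
    obtain ⟨y, rfl⟩ := e.surjective g
    obtain ⟨x, rfl⟩ := QuotientGroup.mk_surjective y
    exact ⟨PresentedGroup.mk (R ∪ {r}) x, rfl⟩

end Cfsg.Agent.Helper21.S2293
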