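import Cfsg.Agent.Helper21.S2286DEFS
import Cfsg.Agent.Helper18.S2286FIELD2

/-! S2293 piece HOMEXT (driver helper21; lead): two torus-equivariant homomorphisms `F → P`
agreeing at `1` are equal; `h φ(a) h⁻¹ = φ(w^k a)` from the relator `h u h⁻¹ = s^k u s^-k`. -/

namespace Cfsg.Agent.Helper21.S2293

open Multiplicative Cfsg.Agent.Helper21.S2286

namespace HOMEXT

/-- `prodA` peels off its last factor. -/
theorem prodA_succ {G : Type*} [Group G] (h u : G) (c : ℕ → ℕ) (n : ℕ) :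
    prodA h u c (n + 1) = prodA h u c n * (cj h u (n : ℤ)) ^ (c n) := by
  simp [prodA, List.range_succ, List.map_append, List.prod_append]

/-- `ev` peels off its last summand. -/
theorem ev_succ {F : Type*} [Field F] (w : F) (c : ℕ → ℕ) (n : ℕ) :
    ev w c (n + 1) = ev w c n + (c n : F) * w ^ n := by
  simp [ev, Finset.sum_range_succ]

/-- conjugation by a natural power of `τ`. -/
theorem conj_pow {F : Type*} [Field F] {P : Type*} [Group P] (w : F)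
    (ψ : Multiplicative F →* P) (τ : P)
    (h₁ : ∀ a : F, τ * ψ (ofAdd a) * τ⁻¹ = ψ (ofAdd (w * a))) (n : ℕ) (a : F) :
    τ ^ n * ψ (ofAdd a) * (τ ^ n)⁻¹ = ψ (ofAdd (w ^ n * a)) := by
  induction n generalizing a with
  | zero => simp
  | succ n ih =>
    have e : τ ^ (n + 1) * ψ (ofAdd a) * (τ ^ (n + 1))⁻¹
        = τ ^ n * (τ * ψ (ofAdd a) * τ⁻¹) * (τ ^ n)⁻¹ := by
      rw [pow_succ]; group
    rw [e, h₁, ih]
    congr 2
    ring

/-- natural multiples. -/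
theorem map_nsmul' {F : Type*} [Field F] {P : Type*} [Group P]
    (ψ : Multiplicative F →* P) (m : ℕ) (a : F) :
    ψ (ofAdd ((m : F) * a)) = ψ (ofAdd a) ^ m := by
  have : ofAdd ((m : F) * a) = (ofAdd a) ^ m := by
    rw [← ofAdd_nsmul, nsmul_eq_mul]
  rw [this, map_pow]

/-- an equivariant homomorphism is determined on `ev w c n` by its value at `1`. -/
theorem psi_ev {F : Type*} [Field F] {P : Type*} [Group P] (w : F)
    (ψ : Multiplicative F →* P) (τ : P)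
    (h₁ : ∀ a : F, τ * ψ (ofAdd a) * τ⁻¹ = ψ (ofAdd (w * a))) (c : ℕ → ℕ) (n : ℕ) :
    ψ (ofAdd (ev w c n)) = prodA τ (ψ (ofAdd 1)) c n := by
  induction n with
  | zero => simp [ev, prodA]
  | succ n ih =>
    rw [ev_succ, prodA_succ, ofAdd_add, map_mul, ih, map_nsmul']
    congr 2
    have := conj_pow w ψ τ h₁ n 1
    rw [mul_one] at this
    rw [← this]
    simp [cj]

end HOMEXT

/-! ## piece HOMEXT (generic) -/
/-- two homomorphisms `F → P` that are equivariant for the same element `τ` (acting by `w` with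
`F_p[w] = F`) and agree at `1` are equal. -/
theorem hom_ext_act (p : ℕ) [Fact p.Prime] {F : Type*} [Field F] [Finite F] [CharP F p] (w : F)
    (hadj : letI := ZMod.algebra F p; Algebra.adjoin (ZMod p) {w} = ⊤)
    {P : Type*} [Group P] (ψ₁ ψ₂ : Multiplicative F →* P) (τ : P)
    (h₁ : ∀ a : F, τ * ψ₁ (ofAdd a) * τ⁻¹ = ψ₁ (ofAdd (w * a)))
    (h₂ : ∀ a : F, τ * ψ₂ (ofAdd a) * τ⁻¹ = ψ₂ (ofAdd (w * a)))
    (h : ψ₁ (ofAdd 1) = ψ₂ (ofAdd 1)) (a : F) : ψ₁ (ofAdd a) = ψ₂ (ofAdd a) := by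
  obtain ⟨c, n, rfl⟩ := ev_span p w hadj a
  rw [HOMEXT.psi_ev w ψ₁ τ h₁, HOMEXT.psi_ev w ψ₂ τ h₂, h]

namespace HOMEXT

/-- conjugation by an integer power of `s`. -/
theorem conj_zpow {F : Type*} [Field F] {P : Type*} [Group P] (w : F) (hw : w ≠ 0)
    (φ : Multiplicative F →* P) (s : P)
    (hsφ : ∀ a : F, s * φ (ofAdd a) * s⁻¹ = φ (ofAdd (w * a))) (k : ℤ) (a : F) :
    s ^ k * φ (ofAdd a) * (s ^ k)⁻¹ = φ (ofAdd (w ^ k * a)) := by
  have hinv : ∀ a : F, s⁻¹ * φ (ofAdd a) * s⁻¹⁻¹ = φ (ofAdd (w⁻¹ * a)) := by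
    intro a
    have := hsφ (w⁻¹ * a)
    rw [← mul_assoc, mul_inv_cancel₀ hw, one_mul] at this
    rw [← this]; group
  obtain ⟨n, rfl | rfl⟩ := k.eq_nat_or_neg
  · rw [zpow_natCast, zpow_natCast]
    exact conj_pow w φ s hsφ n a
  · have := conj_pow w⁻¹ φ s⁻¹ hinv n a
    rw [inv_pow, inv_pow] at this
    rw [zpow_neg, zpow_natCast, zpow_neg, zpow_natCast]
    exact this

end HOMEXT

/-- extend the action of a torus element from `u = φ 1` to the whole root group (any exponent). -/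
theorem h_act_k (p : ℕ) [Fact p.Prime] {F : Type*} [Field F] [Finite F] [CharP F p] (w : F)
    (hw : w ≠ 0)
    (hadj : letI := ZMod.algebra F p; Algebra.adjoin (ZMod p) {w} = ⊤)
    {P : Type*} [Group P] (φ : Multiplicative F →* P) (h s u : P)
    (hφ1 : φ (ofAdd 1) = u)
    (hsφ : ∀ a : F, s * φ (ofAdd a) * s⁻¹ = φ (ofAdd (w * a)))
    (hhs : Commute h s) (k : ℤ) (hu : h * u * h⁻¹ = cj s u k) (a : F) :
    h * φ (ofAdd a) * h⁻¹ = φ (ofAdd (w ^ k * a)) := by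
  let ψ₁ : Multiplicative F →* P := (MulAut.conj h).toMonoidHom.comp φ
  let ψ₂ : Multiplicative F →* P :=
    φ.comp (AddMonoidHom.toMultiplicative (AddMonoidHom.mulLeft (w ^ k)))
  have e₁ : ∀ a : F, ψ₁ (ofAdd a) = h * φ (ofAdd a) * h⁻¹ := fun a => rfl
  have e₂ : ∀ a : F, ψ₂ (ofAdd a) = φ (ofAdd (w ^ k * a)) := fun a => rfl
  have hs1 : s * h = h * s := hhs.eq.symm
  have h₁ : ∀ a : F, s * ψ₁ (ofAdd a) * s⁻¹ = ψ₁ (ofAdd (w * a)) := by
    intro a
    rw [e₁, e₁, ← hsφ]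
    have : s * (h * φ (ofAdd a) * h⁻¹) * s⁻¹ = (s * h) * φ (ofAdd a) * (s * h)⁻¹ := by group
    rw [this, hs1]; group
  have h₂ : ∀ a : F, s * ψ₂ (ofAdd a) * s⁻¹ = ψ₂ (ofAdd (w * a)) := by
    intro a
    rw [e₂, e₂, hsφ]
    congr 2
    ring
  have h0 : ψ₁ (ofAdd 1) = ψ₂ (ofAdd 1) := by
    rw [e₁, e₂, hφ1, hu, ← HOMEXT.conj_zpow w hw φ s hsφ k 1, hφ1]
    rfl
  have := hom_ext_act p w hadj ψ₁ ψ₂ s h₁ h₂ h0 a
  rw [e₁, e₂] at this
  exact this

end Cfsg.Agent.Helper21.S2293
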