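import Cfsg.Agent.Helper22.S3589TRANSP
import Cfsg.Agent.Helper1.S5973STD

/-! S3589 piece U2P (driver helper28; lead): the swap on the hyperbolic plane. -/

set_option autoImplicit false

namespace Cfsg.Agent.S3589P

open Module Polynomial
open Cfsg.Agent.S5973P
open scoped Classical

noncomputable section

namespace U2P

variable (F : Type*) [Field F]

/-- the swap `(x, y) ↦ (y, x)` -/
def sw : Module.End F (Fin 1 ⊕ Fin 1 → F) := LinearMap.funLeft F F Sum.swap

theorem sw_apply (v : Fin 1 ⊕ Fin 1 → F) (k : Fin 1 ⊕ Fin 1) : sw F v k = v k.swap := rfl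

theorem sw_sq : sw F ^ 2 = 1 := by
  apply LinearMap.ext
  intro v
  funext k
  rw [pow_two, Module.End.mul_apply, sw_apply, sw_apply, Sum.swap_swap]
  rfl

theorem sw_ne_one : sw F ≠ 1 := by
  intro h
  have := congrArg (fun f : Module.End F (Fin 1 ⊕ Fin 1 → F) =>
    f (Pi.single (Sum.inl 0) 1) (Sum.inr 0)) h
  simp [sw_apply] at this

theorem sw_isom (v : Fin 1 ⊕ Fin 1 → F) :
    Cfsg.Agent.Helper28.Spin.QfPlus 1 F (sw F v) = Cfsg.Agent.Helper28.Spin.QfPlus 1 F v := by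
  rw [Cfsg.Agent.Helper28.Spin.QfPlus_coe]
  unfold Cfsg.quadFormPlus
  simp only [sw_apply, Sum.swap_inl, Sum.swap_inr]
  exact Finset.sum_congr rfl fun i _ => mul_comm _ _

end U2P

/-- U2P (S; uses TRANSP): the swap `(x, y) ↦ (y, x)` on `QfPlus 1 F` (`x * y`); `std_plus`. -/
theorem hasBlock_u2_plus {F : Type*} [Field F] [Fintype F] [CharP F 2] : HasBlock F 1 true 2 := by
  have hstd := Cfsg.Agent.S5973P.std_plus (F := F) 1
  refine hasBlock_of_space (Cfsg.Agent.Helper28.Spin.QfPlus 1 F) (U2P.sw F) 1 true 2 hstd.1 ?_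
    ⟨fun _ => rfl, fun _ => hstd.2⟩ (U2P.sw_isom F) ?_
  · rw [Module.finrank_pi]
    simp
  · intro j
    have ho : orderOf (U2P.sw F) = 2 :=
      orderOf_eq_prime (U2P.sw_sq F) (U2P.sw_ne_one F)
    rw [← ho]
    exact (orderOf_dvd_iff_pow_eq_one).symm

end

end Cfsg.Agent.S3589P
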