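import Cfsg.Agent.Helper22.S3589TRANSP
import Cfsg.Agent.Helper1.S5973STD

/-! S3589 piece U4P (driver helper28; lead): an isometry of order 4 of the hyperbolic space of
dimension 4 in characteristic 2. -/

set_option autoImplicit false

namespace Cfsg.Agent.S3589P

open Module Polynomial
open Cfsg.Agent.S5973P
open scoped Classical

noncomputable section

namespace U4P

variable (F : Type*) [Field F]

/-- the underlying function of `(x₀, x₁, y₀, y₁) ↦ (x₀ + x₁, y₀ + y₁, y₀, x₁)` -/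
def uf (v : Fin 2 ⊕ Fin 2 → F) : Fin 2 ⊕ Fin 2 → F
  | Sum.inl i => if i = 0 then v (Sum.inl 0) + v (Sum.inl 1) else v (Sum.inr 0) + v (Sum.inr 1)
  | Sum.inr i => if i = 0 then v (Sum.inr 0) else v (Sum.inl 1)

theorem uf_l0 (v : Fin 2 ⊕ Fin 2 → F) : uf F v (Sum.inl 0) = v (Sum.inl 0) + v (Sum.inl 1) := rfl
theorem uf_l1 (v : Fin 2 ⊕ Fin 2 → F) : uf F v (Sum.inl 1) = v (Sum.inr 0) + v (Sum.inr 1) := rfl
theorem uf_r0 (v : Fin 2 ⊕ Fin 2 → F) : uf F v (Sum.inr 0) = v (Sum.inr 0) := rfl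
theorem uf_r1 (v : Fin 2 ⊕ Fin 2 → F) : uf F v (Sum.inr 1) = v (Sum.inl 1) := rfl

omit [Field F] in
theorem fun_ext4 {v w : Fin 2 ⊕ Fin 2 → F} (h1 : v (Sum.inl 0) = w (Sum.inl 0))
    (h2 : v (Sum.inl 1) = w (Sum.inl 1)) (h3 : v (Sum.inr 0) = w (Sum.inr 0))
    (h4 : v (Sum.inr 1) = w (Sum.inr 1)) : v = w := by
  funext k
  rcases k with i | i <;> fin_cases i
  · exact h1
  · exact h2
  · exact h3
  · exact h4

/-- the map `(x₀, x₁, y₀, y₁) ↦ (x₀ + x₁, y₀ + y₁, y₀, x₁)` -/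
def u : Module.End F (Fin 2 ⊕ Fin 2 → F) where
  toFun := uf F
  map_add' v w := by
    apply fun_ext4 <;> simp only [uf_l0, uf_l1, uf_r0, uf_r1, Pi.add_apply] <;> ring
  map_smul' c v := by
    apply fun_ext4 <;>
      simp only [uf_l0, uf_l1, uf_r0, uf_r1, Pi.smul_apply, smul_eq_mul, RingHom.id_apply] <;> ring

theorem u_apply (v : Fin 2 ⊕ Fin 2 → F) : u F v = uf F v := rfl

theorem u_isom [CharP F 2] (v : Fin 2 ⊕ Fin 2 → F) :
    Cfsg.Agent.Helper28.Spin.QfPlus 2 F (u F v) = Cfsg.Agent.Helper28.Spin.QfPlus 2 F v := by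
  rw [Cfsg.Agent.Helper28.Spin.QfPlus_coe]
  unfold Cfsg.quadFormPlus
  rw [Fin.sum_univ_two, Fin.sum_univ_two, u_apply, uf_l0, uf_l1, uf_r0, uf_r1]
  have h2 : (2 : F) = 0 := CharTwo.two_eq_zero
  linear_combination (v (Sum.inl 1) * v (Sum.inr 0)) * h2

theorem u_sq_apply (v : Fin 2 ⊕ Fin 2 → F) : (u F ^ 2) v = uf F (uf F v) := by
  rw [pow_two, Module.End.mul_apply]; rfl

theorem u_sq_ne_one : u F ^ 2 ≠ 1 := by
  intro h
  have := congrArg (fun f : Module.End F (Fin 2 ⊕ Fin 2 → F) =>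
    f (Pi.single (Sum.inr 1) 1) (Sum.inl 0)) h
  simp only [u_sq_apply, uf_l0, uf_l1, Module.End.one_apply] at this
  simp at this

theorem u_pow_four [CharP F 2] : u F ^ 4 = 1 := by
  have h2 : (2 : F) = 0 := CharTwo.two_eq_zero
  apply LinearMap.ext
  intro v
  have e : (u F ^ 4) v = uf F (uf F (uf F (uf F v))) := by
    rw [show (4 : ℕ) = 2 + 2 from rfl, pow_add, Module.End.mul_apply, u_sq_apply, u_sq_apply]
  rw [e, Module.End.one_apply]
  apply fun_ext4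
  · simp only [uf_l0, uf_l1, uf_r0, uf_r1]
    linear_combination (v (Sum.inl 1) + 2 * v (Sum.inr 0) + v (Sum.inr 1)) * h2
  · simp only [uf_l0, uf_l1, uf_r0, uf_r1]
    linear_combination (v (Sum.inr 0)) * h2
  · simp only [uf_l0, uf_l1, uf_r0, uf_r1]
  · simp only [uf_l0, uf_l1, uf_r0, uf_r1]
    linear_combination (v (Sum.inr 0)) * h2

end U4P

/-- U4P (S-M; uses TRANSP): on `QfPlus 2 F` (`x₀ y₀ + x₁ y₁`) the map
`(x₀, x₁, y₀, y₁) ↦ (x₀ + x₁, y₀ + y₁, y₀, x₁)` is an isometry of order 4. -/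
theorem hasBlock_u4_plus {F : Type*} [Field F] [Fintype F] [CharP F 2] : HasBlock F 2 true 4 := by
  have hstd := Cfsg.Agent.S5973P.std_plus (F := F) 2
  refine hasBlock_of_space (Cfsg.Agent.Helper28.Spin.QfPlus 2 F) (U4P.u F) 2 true 4 hstd.1 ?_
    ⟨fun _ => rfl, fun _ => hstd.2⟩ (U4P.u_isom F) ?_
  · rw [Module.finrank_pi]
    simp
  · intro j
    have ho : orderOf (U4P.u F) = 2 ^ (1 + 1) := by
      apply orderOf_eq_prime_pow
      · rw [pow_one]; exact U4P.u_sq_ne_one F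
      · exact U4P.u_pow_four F
    have ho' : orderOf (U4P.u F) = 4 := by rw [ho]; norm_num
    rw [← ho']
    exact (orderOf_dvd_iff_pow_eq_one).symm

end

end Cfsg.Agent.S3589P
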