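import Mathlib
import Cfsg.Agent.Lead.PiHall
import Cfsg.Agent.Helper1.MinNormal

set_option autoImplicit false
set_option linter.style.haveILetI false

/-! No solvable subgroup of `GL(4,3)` has order divisible by `65` (piece N81 of S4025). -/

namespace Cfsg.Agent.Lead.No81

open Subgroup

variable {V : Type*} [AddCommGroup V] [Module (ZMod 3) V]

/-- The additive subgroup of vectors fixed by every element of `K`. -/
def fixSub (K : Subgroup (V ≃ₗ[ZMod 3] V)) : AddSubgroup V where
  carrier := {v | ∀ g ∈ K, g v = v}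
  zero_mem' := fun g _ => map_zero g
  add_mem' := fun {a b} ha hb g hg => by rw [map_add, ha g hg, hb g hg]
  neg_mem' := fun {a} ha g hg => by rw [map_neg, ha g hg]

theorem mem_fixSub {K : Subgroup (V ≃ₗ[ZMod 3] V)} {v : V} :
    v ∈ fixSub K ↔ ∀ g ∈ K, g v = v := Iff.rfl

theorem mem_fixSub_zpowers {h : V ≃ₗ[ZMod 3] V} {v : V} :
    v ∈ fixSub (zpowers h) ↔ h v = v := by
  constructor
  · intro hv
    exact hv h (mem_zpowers h)
  · intro hv g hg
    have hle : zpowers h ≤ MulAction.stabilizer (V ≃ₗ[ZMod 3] V) v := by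
      rw [zpowers_le]
      exact hv
    exact hle hg

theorem card_fixSub_modEq [Finite V] {p : ℕ} [Fact p.Prime] {K : Subgroup (V ≃ₗ[ZMod 3] V)}
    (hK : IsPGroup p K) : Nat.card V ≡ Nat.card (fixSub K) [MOD p] := by
  have h := hK.card_modEq_card_fixedPoints V
  have he : Nat.card (MulAction.fixedPoints K V) = Nat.card (fixSub K) := by
    apply Nat.card_congr
    refine Equiv.subtypeEquivRight ?_
    intro v
    rw [MulAction.mem_fixedPoints]
    constructor
    · intro hv g hg
      exact hv ⟨g, hg⟩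
    · intro hv g
      exact hv g.1 g.2
  rw [← he]
  exact h

theorem card_fixSub_cases [Finite V] (hV : Nat.card V = 81) (K : Subgroup (V ≃ₗ[ZMod 3] V)) :
    Nat.card (fixSub K) = 1 ∨ Nat.card (fixSub K) = 3 ∨ Nat.card (fixSub K) = 9 ∨
      Nat.card (fixSub K) = 27 ∨ Nat.card (fixSub K) = 81 := by
  have hd : Nat.card (fixSub K) ∣ 3 ^ 4 := by
    have := AddSubgroup.card_addSubgroup_dvd_card (fixSub K)
    rw [hV] at this
    simpa using this
  obtain ⟨k, hk, hk2⟩ := (Nat.dvd_prime_pow Nat.prime_three).mp hd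
  interval_cases k <;> simp_all

theorem eq_bot_of_card_fixSub [Finite V] (hV : Nat.card V = 81) {K : Subgroup (V ≃ₗ[ZMod 3] V)}
    (h : Nat.card (fixSub K) = 81) : K = ⊥ := by
  have htop : fixSub K = ⊤ := by
    apply AddSubgroup.eq_top_of_card_eq
    rw [h, hV]
  rw [eq_bot_iff]
  intro g hg
  rw [mem_bot]
  ext v
  have : v ∈ fixSub K := by rw [htop]; trivial
  exact this g hg


/-- An element of order `5` fixes no nonzero vector. -/
theorem eq_zero_of_fixed_of_orderOf_five [Finite V] (hV : Nat.card V = 81)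
    {h : V ≃ₗ[ZMod 3] V} (hh : orderOf h = 5) {v : V} (hv : h v = v) : v = 0 := by
  haveI : Fact (Nat.Prime 5) := ⟨by norm_num⟩
  have hK : IsPGroup 5 (zpowers h) := by
    apply IsPGroup.of_card (n := 1)
    rw [Nat.card_zpowers, hh, pow_one]
  have hmod := card_fixSub_modEq hK
  rw [hV] at hmod
  have hne : zpowers h ≠ ⊥ := by
    intro hbot
    rw [zpowers_eq_bot] at hbot
    rw [hbot, orderOf_one] at hh
    omega
  have hcard : Nat.card (fixSub (zpowers h)) = 1 := by
    rcases card_fixSub_cases hV (zpowers h) with h1 | h1 | h1 | h1 | h1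
    · exact h1
    · rw [h1] at hmod; exact absurd hmod (by decide)
    · rw [h1] at hmod; exact absurd hmod (by decide)
    · rw [h1] at hmod; exact absurd hmod (by decide)
    · exact absurd (eq_bot_of_card_fixSub hV h1) hne
  have hbot : fixSub (zpowers h) = ⊥ := AddSubgroup.card_eq_one.mp hcard
  have hmem : v ∈ fixSub (zpowers h) := mem_fixSub_zpowers.mpr hv
  rw [hbot] at hmem
  exact (AddSubgroup.mem_bot).mp hmem

/-- A nontrivial `13`-group fixes exactly three vectors. -/
theorem card_fixSub_thirteen [Finite V] (hV : Nat.card V = 81)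
    {T : Subgroup (V ≃ₗ[ZMod 3] V)} (hT : IsPGroup 13 T) (hne : T ≠ ⊥) :
    Nat.card (fixSub T) = 3 := by
  haveI : Fact (Nat.Prime 13) := ⟨by norm_num⟩
  have hmod := card_fixSub_modEq hT
  rw [hV] at hmod
  rcases card_fixSub_cases hV T with h1 | h1 | h1 | h1 | h1
  · rw [h1] at hmod; exact absurd hmod (by decide)
  · exact h1
  · rw [h1] at hmod; exact absurd hmod (by decide)
  · rw [h1] at hmod; exact absurd hmod (by decide)
  · exact absurd (eq_bot_of_card_fixSub hV h1) hne

theorem three_nsmul (v : V) : (3 : ℕ) • v = 0 := by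
  have h : ((3 : ℕ) : ZMod 3) • v = (3 : ℕ) • v := Nat.cast_smul_eq_nsmul (ZMod 3) 3 v
  rw [← h]
  have : ((3 : ℕ) : ZMod 3) = 0 := by decide
  rw [this, zero_smul]

/-- Final contradiction: a nontrivial `13`-group `T` and an element `h` of order `5`
preserving the fixed space of `T`. -/
theorem false_of_preserves [Finite V] (hV : Nat.card V = 81)
    {T : Subgroup (V ≃ₗ[ZMod 3] V)} (hT : IsPGroup 13 T) (hne : T ≠ ⊥)
    {h : V ≃ₗ[ZMod 3] V} (hh : orderOf h = 5)
    (hpres : ∀ v ∈ fixSub T, h v ∈ fixSub T) : False := by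
  classical
  have hc := card_fixSub_thirteen hV hT hne
  have hnb : fixSub T ≠ ⊥ := by
    intro hb
    rw [hb] at hc
    simp at hc
  obtain ⟨⟨v, hvC⟩, hv0'⟩ := (AddSubgroup.ne_bot_iff_exists_ne_zero).mp hnb
  have hv0 : v ≠ 0 := fun h0 => hv0' (Subtype.ext h0)
  have hvneg : v ≠ -v := by
    intro hveq
    have h2 : (2 : ℕ) • v = 0 := by
      rw [two_nsmul]
      nth_rewrite 2 [hveq]
      exact add_neg_cancel v
    have h3 := three_nsmul v
    have : v = (3 : ℕ) • v - (2 : ℕ) • v := by
      rw [succ_nsmul (n := 2)]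
      abel
    rw [h3, h2, sub_zero] at this
    exact hv0 this
  -- the fixed space is {0, v, -v}
  have hset : ({0, v, -v} : Set V) = (fixSub T : Set V) := by
    apply Set.eq_of_subset_of_ncard_le
    · intro w hw
      simp only [Set.mem_insert_iff, Set.mem_singleton_iff] at hw
      rcases hw with rfl | rfl | rfl
      · exact (fixSub T).zero_mem
      · exact hvC
      · exact (fixSub T).neg_mem hvC
    · have h1 : (fixSub T : Set V).ncard = 3 := by
        rw [← hc]
        rfl
      rw [h1]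
      have : ({0, v, -v} : Set V).ncard = 3 := by
        rw [Set.ncard_insert_of_notMem, Set.ncard_pair hvneg]
        · simp only [Set.mem_insert_iff, Set.mem_singleton_iff, not_or]
          refine ⟨fun h => hv0 h.symm, fun h => hv0 ?_⟩
          have := congrArg Neg.neg h
          simpa using this.symm
      rw [this]
    · exact Set.toFinite _
  have hhv : h v ∈ ({0, v, -v} : Set V) := by
    rw [hset]
    exact hpres v hvC
  simp only [Set.mem_insert_iff, Set.mem_singleton_iff] at hhv
  have h2 : h (h v) = v := by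
    rcases hhv with h0 | h1 | h1
    · exfalso
      apply hv0
      have := h.injective (h0.trans (map_zero h).symm)
      exact this
    · rw [h1, h1]
    · rw [h1, map_neg, h1, neg_neg]
  have h5 : (h ^ 5) v = v := by
    rw [← hh, pow_orderOf_eq_one]
    rfl
  have h5' : (h ^ 5) v = h v := by
    have : (h ^ 5) v = h (h (h (h (h v)))) := rfl
    rw [this, h2, h2]
  have hfix : h v = v := h5'.symm.trans h5
  exact hv0 (eq_zero_of_fixed_of_orderOf_five hV hh hfix)


theorem finite_gl [Finite V] : Finite (V ≃ₗ[ZMod 3] V) :=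
  Finite.of_injective (fun e => (e : V → V)) DFunLike.coe_injective

/-- A subgroup acting freely on the nonzero vectors has order dividing `80`. -/
theorem card_dvd_eighty [Finite V] (hV : Nat.card V = 81) (K : Subgroup (V ≃ₗ[ZMod 3] V))
    (hfree : ∀ g ∈ K, g ≠ 1 → ∀ v : V, g v = v → v = 0) : Nat.card K ∣ 80 := by
  classical
  haveI : Finite (V ≃ₗ[ZMod 3] V) := finite_gl
  haveI : Fintype V := Fintype.ofFinite V
  haveI : Fintype K := Fintype.ofFinite K
  haveI : Fintype (MulAction.orbitRel.Quotient K V) := Fintype.ofFinite _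
  have hB := MulAction.sum_card_fixedBy_eq_card_orbits_mul_card_group K V
  simp only [Fintype.card_eq_nat_card] at hB
  have hf : ∀ g : K, Nat.card (MulAction.fixedBy V g) = 1 + (if g = 1 then 80 else 0) := by
    intro g
    by_cases hg : g = 1
    · rw [if_pos hg, hg]
      have : Nat.card (MulAction.fixedBy V (1 : K)) = Nat.card V := by
        apply Nat.card_congr
        exact Equiv.subtypeUnivEquiv (fun v => by
          rw [MulAction.mem_fixedBy, one_smul])
      rw [this, hV]
    · rw [if_neg hg, add_zero]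
      rw [Nat.card_eq_one_iff_unique]
      refine ⟨⟨?_⟩, ⟨⟨0, ?_⟩⟩⟩
      · rintro ⟨v, hv⟩ ⟨w, hw⟩
        apply Subtype.ext
        have hv' : (g : V ≃ₗ[ZMod 3] V) v = v := hv
        have hw' : (g : V ≃ₗ[ZMod 3] V) w = w := hw
        have hne : (g : V ≃ₗ[ZMod 3] V) ≠ 1 := fun h => hg (Subtype.ext h)
        show v = w
        rw [hfree g.1 g.2 hne v hv', hfree g.1 g.2 hne w hw']
      · rw [MulAction.mem_fixedBy]
        exact smul_zero g
  simp_rw [hf] at hB
  rw [Finset.sum_add_distrib, Finset.sum_ite_eq' Finset.univ (1 : K)] at hB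
  simp only [Finset.sum_const, Finset.card_univ, smul_eq_mul, mul_one, Finset.mem_univ,
    if_true, Fintype.card_eq_nat_card] at hB
  have h1 : Nat.card K ∣ Nat.card K + 80 := ⟨_, by rw [hB, mul_comm]⟩
  exact (Nat.dvd_add_right (dvd_refl _)).mp h1


/-- An element of `13`-power order normalising a group of order `5` centralises it. -/
theorem commute_of_normalizes {G : Type*} [Group G] {t g : G} (hg : orderOf g = 5)
    (ht : ∃ k, orderOf t = 13 ^ k) (hn : t * g * t⁻¹ ∈ zpowers g) : Commute t g := by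
  have hfin : IsOfFinOrder g := by
    rw [← orderOf_pos_iff, hg]; norm_num
  rw [← hfin.mem_powers_iff_mem_zpowers] at hn
  obtain ⟨a, ha⟩ := hn
  have ha' : g ^ a = t * g * t⁻¹ := ha
  have hsc : SemiconjBy t g (g ^ a) := by
    unfold SemiconjBy
    rw [ha']
    group
  have hiter : ∀ k : ℕ, SemiconjBy (t ^ k) g (g ^ (a ^ k)) := by
    intro k
    induction k with
    | zero => simp [SemiconjBy]
    | succ k ih =>
      have h1 : SemiconjBy t (g ^ (a ^ k)) ((g ^ a) ^ (a ^ k)) := hsc.pow_right _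
      have h2 := h1.mul_left ih
      rw [← pow_mul, ← pow_succ', ← pow_succ'] at h2
      exact h2
  have h5a : ¬ 5 ∣ a := by
    intro hd
    have h1 : g ^ a = 1 := by
      rw [← hg] at hd
      exact orderOf_dvd_iff_pow_eq_one.mp hd
    rw [h1] at ha'
    have hg1 : g = 1 := by
      have := congrArg (fun x => t⁻¹ * x * t) ha'
      simp only [mul_one, inv_mul_cancel] at this
      have h2 : t⁻¹ * (t * g * t⁻¹) * t = g := by group
      rw [h2] at this
      exact this.symm
    rw [hg1, orderOf_one] at hg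
    omega
  have hmod : a ^ 4 ≡ 1 [MOD 5] := by
    have h1 : a % 5 = 1 ∨ a % 5 = 2 ∨ a % 5 = 3 ∨ a % 5 = 4 := by omega
    unfold Nat.ModEq
    rw [Nat.pow_mod]
    rcases h1 with h | h | h | h <;> rw [h]
  have h4 : SemiconjBy (t ^ 4) g g := by
    have := hiter 4
    have hp : g ^ (a ^ 4) = g ^ 1 := by
      rw [pow_eq_pow_iff_modEq, hg]
      exact hmod
    rw [hp, pow_one] at this
    exact this
  have hc4 : Commute (t ^ 4) g := h4
  obtain ⟨k, hk⟩ := ht
  have hcop : Nat.Coprime 4 (orderOf t) := by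
    rw [hk]
    apply Nat.Coprime.pow_right
    norm_num
  obtain ⟨m, hm⟩ := exists_pow_eq_self_of_coprime hcop
  rw [← hm]
  exact hc4.pow_left m


/-- **N81**: no solvable group of linear automorphisms of `𝔽₃⁴` has order divisible by `65`. -/
theorem no_81 {V : Type*} [AddCommGroup V] [Module (ZMod 3) V] [Finite V] (hV : Nat.card V = 81)
    {A : Type*} [Group A] [Finite A] (hsol : Group.IsSolvable A) (ρ : A →* (V ≃ₗ[ZMod 3] V))
    (h5 : 5 ∣ Nat.card ρ.range) (h13 : 13 ∣ Nat.card ρ.range) : False := by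
  classical
  haveI : Finite (V ≃ₗ[ZMod 3] V) := finite_gl
  haveI : Fact (Nat.Prime 5) := ⟨by norm_num⟩
  haveI : Fact (Nat.Prime 13) := ⟨by norm_num⟩
  have hsolR : Group.IsSolvable ρ.range := by
    haveI := hsol
    exact Group.isSolvable_of_surjective (f := ρ.rangeRestrict) ρ.rangeRestrict_surjective
  let π : Set ℕ := {5, 13}
  obtain ⟨H, hH⟩ := exists_isPiHallOf π hsolR
  rw [isPiHallOf_iff] at hH
  obtain ⟨hHR, hpi, hpi'⟩ := hH
  have hmul := relIndex_mul_card' hHR
  have hdvdH : ∀ q : ℕ, q.Prime → q ∈ π → q ∣ Nat.card ρ.range → q ∣ Nat.card H := by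
    intro q hq hqπ hd
    rw [← hmul] at hd
    rcases (Nat.Prime.dvd_mul hq).mp hd with h | h
    · exact absurd hqπ (hpi' q hq h)
    · exact h
  have h5H : 5 ∣ Nat.card H := hdvdH 5 (by norm_num) (by simp [π]) h5
  have h13H : 13 ∣ Nat.card H := hdvdH 13 (by norm_num) (by simp [π]) h13
  haveI hsolH : Group.IsSolvable H :=
    Group.isSolvable_of_isSolvable_injective (f := Subgroup.inclusion hHR) (Subgroup.inclusion_injective hHR)
  haveI : Nontrivial H := by
    rw [← Finite.one_lt_card_iff_nontrivial]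
    have := Nat.le_of_dvd Nat.card_pos h5H
    omega
  obtain ⟨p, N, hp, hNn, hNne, hNp, -, hexp⟩ :=
    Cfsg.Agent.Helper1.exists_normal_pgroup_of_solvable (G := H)
  -- p is 5 or 13
  haveI : Fact p.Prime := ⟨hp⟩
  obtain ⟨n, hn⟩ := (IsPGroup.iff_card).mp hNp
  have hn0 : n ≠ 0 := by
    intro h0
    rw [h0, pow_zero] at hn
    exact hNne (Subgroup.card_eq_one.mp hn)
  have hpH : p ∣ Nat.card H := by
    have h1 : p ∣ Nat.card N := by
      rw [hn]; exact dvd_pow_self p hn0
    exact h1.trans (Subgroup.card_subgroup_dvd_card N)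
  have hpπ : p = 5 ∨ p = 13 := by
    have := hpi p hp hpH
    simpa [π] using this
  -- the image of N in GL
  set N' : Subgroup (V ≃ₗ[ZMod 3] V) := N.map H.subtype with hN'
  have hN'ne : N' ≠ ⊥ := by
    intro hb
    apply hNne
    rw [hN'] at hb
    exact (Subgroup.map_eq_bot_iff_of_injective N H.subtype_injective).mp hb
  have hN'p : IsPGroup p N' := hNp.map H.subtype
  have hnormal : ∀ h ∈ H, ∀ x ∈ N', h * x * h⁻¹ ∈ N' := by
    intro h hh x hx
    obtain ⟨x0, hx0, rfl⟩ := hx
    exact ⟨⟨h, hh⟩ * x0 * ⟨h, hh⟩⁻¹, hNn.conj_mem x0 hx0 ⟨h, hh⟩, rfl⟩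
  have hexp' : ∀ x ∈ N', x ^ p = 1 := by
    intro x hx
    obtain ⟨x0, hx0, rfl⟩ := hx
    have := hexp x0 hx0
    rw [← map_pow, this, map_one]
  -- an element of order 5 of H
  obtain ⟨h0, hh0⟩ := exists_prime_orderOf_dvd_card' (G := H) 5 h5H
  have hh0' : orderOf (h0 : V ≃ₗ[ZMod 3] V) = 5 := by
    rw [Subgroup.orderOf_coe]; exact hh0
  -- generic preservation lemma
  have hpres_of : ∀ (T : Subgroup (V ≃ₗ[ZMod 3] V)) (h : V ≃ₗ[ZMod 3] V),
      (∀ x ∈ T, h⁻¹ * x * h ∈ T) → ∀ v ∈ fixSub T, h v ∈ fixSub T := by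
    intro T h hT v hv x hx
    have e : x * h = h * (h⁻¹ * x * h) := by group
    calc x (h v) = (x * h) v := rfl
      _ = (h * (h⁻¹ * x * h)) v := by rw [← e]
      _ = h ((h⁻¹ * x * h) v) := rfl
      _ = h v := by rw [hv _ (hT x hx)]
  rcases hpπ with rfl | rfl
  · -- N' is an elementary abelian 5-group, of order 5
    have hord : ∀ x ∈ N', x ≠ 1 → orderOf x = 5 := by
      intro x hx hx1
      exact orderOf_eq_prime (hexp' x hx) hx1
    have hfree : ∀ g ∈ N', g ≠ 1 → ∀ v : V, g v = v → v = 0 := by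
      intro g hg hg1 v hv
      exact eq_zero_of_fixed_of_orderOf_five hV (hord g hg hg1) hv
    have hd80 := card_dvd_eighty hV N' hfree
    have hcN' : Nat.card N' = 5 := by
      have hc : Nat.card N' = 5 ^ n := by
        rw [← hn]
        exact Nat.card_congr (N.equivMapOfInjective _ H.subtype_injective).symm.toEquiv
      rw [hc] at hd80 ⊢
      have hn1 : n < 2 := by
        by_contra hge
        rw [not_lt] at hge
        have : 5 ^ 2 ∣ 5 ^ n := pow_dvd_pow 5 hge
        have := this.trans hd80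
        omega
      have : n = 1 := by omega
      rw [this, pow_one]
    obtain ⟨g, hgN, hg1⟩ := (Subgroup.ne_bot_iff_exists_ne_one).mp hN'ne |>.imp
      (fun g hg => hg) |> fun ⟨g, hg⟩ => (⟨g.1, g.2, fun h => hg (Subtype.ext h)⟩ :
        ∃ g : V ≃ₗ[ZMod 3] V, g ∈ N' ∧ g ≠ 1)
    have hgo := hord g hgN hg1
    have hzp : zpowers g = N' := by
      apply Subgroup.eq_of_le_of_card_ge
      · rw [zpowers_le]; exact hgN
      · rw [Nat.card_zpowers, hgo, hcN']
    -- Sylow 13 of H
    let P : Sylow 13 H := default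
    have hPne : (P : Subgroup H) ≠ ⊥ := P.ne_bot_of_dvd_card h13H
    set T : Subgroup (V ≃ₗ[ZMod 3] V) := (P : Subgroup H).map H.subtype with hT
    have hTne : T ≠ ⊥ := by
      intro hb
      apply hPne
      rw [hT] at hb
      exact (Subgroup.map_eq_bot_iff_of_injective _ H.subtype_injective).mp hb
    have hTp : IsPGroup 13 T := P.isPGroup'.map H.subtype
    have hTH : T ≤ H := by
      rw [hT]; exact Subgroup.map_subtype_le _
    have hcomm : ∀ t ∈ T, Commute t g := by
      intro t ht
      apply commute_of_normalizes hgo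
      · obtain ⟨k, hk⟩ := hTp ⟨t, ht⟩
        obtain ⟨j, -, hj⟩ := (Nat.dvd_prime_pow (by norm_num : Nat.Prime 13)).mp
          (orderOf_dvd_of_pow_eq_one hk)
        refine ⟨j, ?_⟩
        rw [← hj]
        exact Subgroup.orderOf_coe (⟨t, ht⟩ : T)
      · rw [hzp]
        exact hnormal t (hTH ht) g hgN
    apply false_of_preserves hV hTp hTne hgo
    apply hpres_of T g
    intro x hx
    have := (hcomm x hx).eq
    have e : g⁻¹ * x * g = x := by
      rw [mul_assoc, this, ← mul_assoc, inv_mul_cancel, one_mul]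
    rw [e]
    exact hx
  · -- N' is a nontrivial normal 13-subgroup of H
    apply false_of_preserves hV hN'p hN'ne hh0'
    apply hpres_of N' (h0 : V ≃ₗ[ZMod 3] V)
    intro x hx
    have := hnormal (h0 : V ≃ₗ[ZMod 3] V)⁻¹ (H.inv_mem h0.2) x hx
    rwa [inv_inv] at this

end Cfsg.Agent.Lead.No81
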