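import Mathlib
import Cfsg.Prelude.Def_Solvable
import Cfsg.Agent.Lead.S2553Defs

set_option autoImplicit false

/-! S2553 piece CORES. -/

namespace Cfsg.Agent.S2553P

/-- CORES (1/3) -/
theorem clean_of_cores {X : Type*} [Group X] (h2' : Cfsg.pPrimeCore 2 X = ⊥)
    (h2 : Cfsg.pCore 2 X = ⊥) : Clean X := by
  refine ⟨fun N hN hp => ?_, fun N hN hc => ?_⟩
  · rw [eq_bot_iff, ← h2]
    exact le_sSup ⟨hN, hp⟩
  · rw [eq_bot_iff, ← h2']
    exact le_sSup ⟨hN, hc⟩

namespace CORES

theorem eq_bot_of_comap_eq_bot {X Y : Type*} [Group X] [Group Y] (e : X ≃* Y) (N : Subgroup Y)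
    (hN : N.comap e.toMonoidHom = ⊥) : N = ⊥ := by
  rw [eq_bot_iff]
  intro y hy
  have : e.symm y ∈ N.comap e.toMonoidHom := by
    rw [Subgroup.mem_comap]
    simpa using hy
  rw [hN, Subgroup.mem_bot] at this
  rw [Subgroup.mem_bot]
  have h2 := congrArg e this
  simpa using h2

/-- the comap of a subgroup along an isomorphism is isomorphic to it -/
noncomputable def comapEquiv {X Y : Type*} [Group X] [Group Y] (e : X ≃* Y) (N : Subgroup Y) :
    ↥(N.comap e.toMonoidHom) ≃* ↥N :=
  MulEquiv.ofBijective (e.toMonoidHom.subgroupComap N)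
    ⟨fun a b hab => by
        apply Subtype.ext
        apply e.injective
        exact congrArg Subtype.val hab,
      fun y => ⟨⟨e.symm y.1, by rw [Subgroup.mem_comap]; simp⟩, by
        apply Subtype.ext
        change e (e.symm y.1) = y.1
        simp⟩⟩

end CORES

/-- CORES (2/3) -/
theorem clean_of_equiv {X Y : Type*} [Group X] [Group Y] (e : X ≃* Y) (h : Clean X) : Clean Y := by
  refine ⟨fun N hN hp => ?_, fun N hN hc => ?_⟩
  · apply CORES.eq_bot_of_comap_eq_bot e
    apply h.1 _ (hN.comap _)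
    exact hp.of_equiv (CORES.comapEquiv e N).symm
  · apply CORES.eq_bot_of_comap_eq_bot e
    apply h.2 _ (hN.comap _)
    rw [Nat.card_congr (CORES.comapEquiv e N).toEquiv]
    exact hc

/-- CORES (3/3) -/
theorem clean_pgroup {X : Type*} [Group X] [Finite X] (h : Clean X) (p : ℕ) [Fact p.Prime]
    (N : Subgroup X) (hN : N.Normal) (hp : IsPGroup p ↥N) : N = ⊥ := by
  by_cases h2 : p = 2
  · subst h2
    exact h.1 N hN hp
  · apply h.2 N hN
    obtain ⟨k, hk⟩ := hp.exists_card_eq
    rw [hk]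
    apply Nat.Coprime.pow_left
    exact (Nat.coprime_primes Fact.out Nat.prime_two).mpr h2

end Cfsg.Agent.S2553P
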