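import Mathlib
import Cfsg.Prelude.Def_Characters

/-!
# The sign character of the setwise stabilizer of a pair (shared definitions for S4706)

`pairStab a b` is the setwise stabilizer of `{a, b}` (written out by hand), `pairSign a b` the linear
character `+1` on the elements fixing `a` and `b`, `-1` on the elements swapping them.
-/

set_option autoImplicit false

namespace Cfsg.Agent.Lead.PairSign

open MulAction

universe u v

variable {H : Type u} [Group H] {Ω : Type v} [MulAction H Ω]

/-- The setwise stabilizer of the pair `{a, b}`. -/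
def pairStab (a b : Ω) : Subgroup H where
  carrier := {s | (s • a = a ∧ s • b = b) ∨ (s • a = b ∧ s • b = a)}
  one_mem' := Or.inl ⟨one_smul _ _, one_smul _ _⟩
  mul_mem' := by
    rintro s t (⟨hs1, hs2⟩ | ⟨hs1, hs2⟩) (⟨ht1, ht2⟩ | ⟨ht1, ht2⟩)
    · left; exact ⟨by rw [mul_smul, ht1, hs1], by rw [mul_smul, ht2, hs2]⟩
    · right; exact ⟨by rw [mul_smul, ht1, hs2], by rw [mul_smul, ht2, hs1]⟩
    · right; exact ⟨by rw [mul_smul, ht1, hs1], by rw [mul_smul, ht2, hs2]⟩
    · left; exact ⟨by rw [mul_smul, ht1, hs2], by rw [mul_smul, ht2, hs1]⟩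
  inv_mem' := by
    rintro s (⟨hs1, hs2⟩ | ⟨hs1, hs2⟩)
    · left; exact ⟨by rw [inv_smul_eq_iff, hs1], by rw [inv_smul_eq_iff, hs2]⟩
    · right; exact ⟨by rw [inv_smul_eq_iff, hs2], by rw [inv_smul_eq_iff, hs1]⟩

theorem mem_pairStab {a b : Ω} {s : H} :
    s ∈ pairStab (H := H) a b ↔ (s • a = a ∧ s • b = b) ∨ (s • a = b ∧ s • b = a) := Iff.rfl

/-- For `s` in the pair stabilizer of a pair of distinct points: `s` fixes `a` iff it fixes `b`. -/
theorem smul_left_eq_iff {a b : Ω} (hab : a ≠ b) {s : H} (hs : s ∈ pairStab (H := H) a b) :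
    s • a = a ↔ s • b = b := by
  rcases hs with ⟨h1, h2⟩ | ⟨h1, h2⟩
  · exact ⟨fun _ => h2, fun _ => h1⟩
  · constructor
    · intro h; exact absurd (h1.symm.trans h).symm hab
    · intro h; exact absurd (h2.symm.trans h) hab

theorem smul_left_eq_right {a b : Ω} {s : H} (hs : s ∈ pairStab (H := H) a b)
    (h : s • a ≠ a) : s • a = b ∧ s • b = a := by
  rcases hs with ⟨h1, _⟩ | ⟨h1, h2⟩
  · exact absurd h1 h
  · exact ⟨h1, h2⟩

open Classical in
/-- The sign character of the pair stabilizer: `1` if `s` fixes `a`, `-1` otherwise. -/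
noncomputable def pairSign (a b : Ω) : pairStab (H := H) a b →* ℂ where
  toFun s := if (s : H) • a = a then 1 else -1
  map_one' := by simp
  map_mul' := by
    rintro ⟨s, hs⟩ ⟨t, ht⟩
    by_cases hab : a = b
    · subst hab
      have hs' : s • a = a := by rcases hs with ⟨h, _⟩ | ⟨h, _⟩ <;> exact h
      have ht' : t • a = a := by rcases ht with ⟨h, _⟩ | ⟨h, _⟩ <;> exact h
      have hst : (s * t) • a = a := by rw [mul_smul, ht', hs']
      simp [hs', ht', hst]
    · by_cases h1 : s • a = a <;> by_cases h2 : t • a = a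
      · have hst : (s * t) • a = a := by rw [mul_smul, h2, h1]
        simp [h1, h2, hst]
      · obtain ⟨h2a, _⟩ := smul_left_eq_right ht h2
        have h1b : s • b = b := (smul_left_eq_iff hab hs).mp h1
        have hst : (s * t) • a ≠ a := by
          rw [mul_smul, h2a, h1b]; exact fun h => hab h.symm
        simp [h1, h2, hst]
      · obtain ⟨h1a, _⟩ := smul_left_eq_right hs h1
        have hst : (s * t) • a ≠ a := by
          rw [mul_smul, h2, h1a]; exact fun h => hab h.symm
        simp [h1, h2, hst]
      · obtain ⟨h2a, _⟩ := smul_left_eq_right ht h2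
        obtain ⟨_, h1b⟩ := smul_left_eq_right hs h1
        have hst : (s * t) • a = a := by rw [mul_smul, h2a, h1b]
        simp [h1, h2, hst]

open Classical in
theorem pairSign_apply (a b : Ω) (s : pairStab (H := H) a b) :
    pairSign a b s = if (s : H) • a = a then 1 else -1 := rfl

theorem pairSign_of_fix {a b : Ω} (s : pairStab (H := H) a b) (h : (s : H) • a = a) :
    pairSign a b s = 1 := by
  classical
  rw [pairSign_apply, if_pos h]

theorem pairSign_of_not_fix {a b : Ω} (s : pairStab (H := H) a b) (h : (s : H) • a ≠ a) :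
    pairSign a b s = -1 := by
  classical
  rw [pairSign_apply, if_neg h]

/-- The induced sign character `Ind_S^H σ`, `S` the stabilizer of the pair `{a,b}`. -/
noncomputable def indSign [Fintype H] (a b : Ω) : H → ℂ :=
  Cfsg.indFun (pairStab (H := H) a b) (fun s => pairSign a b s)

end Cfsg.Agent.Lead.PairSign
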