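import Mathlib
import Cfsg.Prelude.Def_Classical
import Cfsg.Agent.Helper8.MatBNDefs
import Cfsg.Agent.Helper8.S2546Defs
import Cfsg.Agent.Helper17.S2547Defs

/-! S2547, piece MODELO: the coordinate change between the prelude's form `quadFormOdd m` and the
antidiagonal form `hJ id (2m+1)`. -/

set_option autoImplicit false
open scoped Matrix

namespace Cfsg.Agent.S2547P

open Cfsg.Agent.MatBN Cfsg.Agent.S2546P

variable {K : Type*} [Field K]

namespace MODELO

variable (K)

/-- the index set of the prelude's odd form -/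
abbrev Idx (m : ℕ) := Unit ⊕ (Fin m ⊕ Fin m)

/-- position of a coordinate in the antidiagonal model -/
def pos (m : ℕ) : Idx m → Fin (2 * m + 1)
  | .inl _ => ⟨m, by omega⟩
  | .inr (.inl i) => ⟨i.val, by omega⟩
  | .inr (.inr i) => ⟨2 * m - i.val, by omega⟩

/-- the inverse map -/
def inv (m : ℕ) (a : Fin (2 * m + 1)) : Idx m :=
  if h : a.val < m then .inr (.inl ⟨a.val, h⟩)
  else if h' : a.val = m then .inl ()
  else .inr (.inr ⟨2 * m - a.val, by omega⟩)

theorem inv_pos (m : ℕ) (b : Idx m) : inv m (pos m b) = b := by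
  rcases b with u | i | i
  · simp [inv, pos]
  · have := i.isLt
    simp [inv, pos]
  · have hi := i.isLt
    have hv : (pos m (.inr (.inr i))).val = 2 * m - i.val := rfl
    unfold inv
    split_ifs with h h'
    · omega
    · omega
    · congr 2
      apply Fin.ext
      simp only [hv]
      omega

theorem pos_inv (m : ℕ) (a : Fin (2 * m + 1)) : pos m (inv m a) = a := by
  unfold inv
  by_cases h : a.val < m
  · rw [dif_pos h]
    rfl
  · rw [dif_neg h]
    by_cases h' : a.val = m
    · rw [dif_pos h']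
      apply Fin.ext
      simp only [pos]
      exact h'.symm
    · rw [dif_neg h']
      apply Fin.ext
      simp only [pos]
      have := a.isLt
      omega

/-- the bijection of index sets -/
def e (m : ℕ) : Idx m ≃ Fin (2 * m + 1) := ⟨pos m, inv m, inv_pos m, pos_inv m⟩

/-- the mirror image on the prelude's index set -/
def sw (m : ℕ) : Idx m → Idx m
  | .inl u => .inl u
  | .inr (.inl i) => .inr (.inr i)
  | .inr (.inr i) => .inr (.inl i)

theorem rev_e (m : ℕ) (b : Idx m) : (e m b).rev = e m (sw m b) := by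
  rcases b with u | i | i
  · apply Fin.ext
    simp only [e, Equiv.coe_fn_mk, pos, sw, Fin.val_rev]
    omega
  · apply Fin.ext
    have := i.isLt
    simp only [e, Equiv.coe_fn_mk, pos, sw, Fin.val_rev]
    omega
  · apply Fin.ext
    have := i.isLt
    simp only [e, Equiv.coe_fn_mk, pos, sw, Fin.val_rev]
    omega

/-- the scaling -/
def d (m : ℕ) : Idx m → K
  | .inl _ => 1
  | .inr (.inl _) => 1
  | .inr (.inr _) => 2⁻¹

variable {K} in
theorem d_ne_zero (h2 : (2 : K) ≠ 0) (m : ℕ) (b : Idx m) : d K m b ≠ 0 := by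
  rcases b with u | i | i
  · exact one_ne_zero
  · exact one_ne_zero
  · exact inv_ne_zero h2

/-- the coordinate change -/
def P (m : ℕ) : Matrix (Fin (2 * m + 1)) (Idx m) K :=
  Matrix.of fun a b => if a = e m b then d K m b else 0

/-- its inverse -/
def P' (m : ℕ) : Matrix (Idx m) (Fin (2 * m + 1)) K :=
  Matrix.of fun b a => if a = e m b then (d K m b)⁻¹ else 0

variable {K} in
theorem P_mul_P' (h2 : (2 : K) ≠ 0) (m : ℕ) : P K m * P' K m = 1 := by
  ext a a'
  rw [Matrix.mul_apply, Fintype.sum_eq_single ((e m).symm a)]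
  · simp only [P, P', Matrix.of_apply, Equiv.apply_symm_apply, if_true]
    by_cases h : a = a'
    · subst h
      rw [if_pos rfl, Matrix.one_apply_eq]
      exact mul_inv_cancel₀ (d_ne_zero h2 m _)
    · rw [if_neg (fun hh => h hh.symm), Matrix.one_apply_ne h, mul_zero]
  · intro b hb
    have : a ≠ e m b := by
      intro hh
      apply hb
      rw [hh, Equiv.symm_apply_apply]
    simp only [P, Matrix.of_apply, if_neg this, zero_mul]

variable {K} in
theorem P'_mul_P (h2 : (2 : K) ≠ 0) (m : ℕ) : P' K m * P K m = 1 := by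
  ext b b'
  rw [Matrix.mul_apply, Fintype.sum_eq_single (e m b)]
  · simp only [P, P', Matrix.of_apply, if_true]
    by_cases h : b = b'
    · subst h
      rw [if_pos rfl, Matrix.one_apply_eq]
      exact inv_mul_cancel₀ (d_ne_zero h2 m _)
    · have : e m b ≠ e m b' := fun hh => h ((e m).injective hh)
      rw [if_neg this, Matrix.one_apply_ne h, mul_zero]
  · intro a ha
    simp only [P', Matrix.of_apply, if_neg ha, zero_mul]

variable {K} in
theorem P_mulVec (m : ℕ) (v : Idx m → K) (b : Idx m) :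
    (P K m *ᵥ v) (e m b) = d K m b * v b := by
  rw [Matrix.mulVec, dotProduct, Fintype.sum_eq_single b]
  · simp only [P, Matrix.of_apply, if_true]
  · intro b' hb'
    have : e m b ≠ e m b' := fun hh => hb' ((e m).injective hh).symm
    simp only [P, Matrix.of_apply, if_neg this, zero_mul]

end MODELO

open MODELO

theorem exists_model_odd (h2 : (2 : K) ≠ 0) (m : ℕ) :
    ∃ (P : Matrix (Fin (2 * m + 1)) (Unit ⊕ (Fin m ⊕ Fin m)) K)
      (P' : Matrix (Unit ⊕ (Fin m ⊕ Fin m)) (Fin (2 * m + 1)) K),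
      P * P' = 1 ∧ P' * P = 1 ∧
      ∀ v, hJ (RingHom.id K) (2 * m + 1) (P *ᵥ v) (P *ᵥ v) = Cfsg.quadFormOdd m K v := by
  refine ⟨MODELO.P K m, MODELO.P' K m, MODELO.P_mul_P' h2 m, MODELO.P'_mul_P h2 m, ?_⟩
  intro v
  unfold hJ
  rw [← Equiv.sum_comp (e m)]
  simp only [RingHom.id_apply]
  have hterm : ∀ b : Idx m,
      (MODELO.P K m *ᵥ v) (e m b) * (MODELO.P K m *ᵥ v) ((e m b).rev) =
        d K m b * v b * (d K m (sw m b) * v (sw m b)) := by
    intro b
    rw [rev_e, P_mulVec, P_mulVec]
  rw [Finset.sum_congr rfl (fun b _ => hterm b)]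
  rw [Fintype.sum_sum_type, Fintype.sum_sum_type]
  simp only [Finset.univ_unique, Finset.sum_singleton, sw, d]
  unfold Cfsg.quadFormOdd
  rw [← Finset.sum_add_distrib]
  have : ∀ i : Fin m, (1 : K) * v (Sum.inr (Sum.inl i)) * (2⁻¹ * v (Sum.inr (Sum.inr i))) +
      2⁻¹ * v (Sum.inr (Sum.inr i)) * (1 * v (Sum.inr (Sum.inl i))) =
      v (Sum.inr (Sum.inl i)) * v (Sum.inr (Sum.inr i)) := by
    intro i
    field_simp
    ring
  rw [Finset.sum_congr rfl (fun i _ => this i)]
  ring

end Cfsg.Agent.S2547P
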