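import Cfsg.Agent.Helper24.S5637.Defs

set_option autoImplicit false
set_option linter.unusedSectionVars false
set_option linter.unusedVariables false

/-! # S5637 piece GMAPKR (lead) -/

namespace Cfsg.Agent.S5637P

open Matrix Kronecker Cfsg.Agent.Helper28.SLMax Cfsg.Agent.S5634P
open scoped MatrixGroups

variable {F : Type*} [Field F] {n a b : ℕ} (e : Fin n ≃ Fin a × Fin b)

/-- GMAPKR (S). `(A ⊗ B) V_w = V_{B w}` (`krg_mulVec_tn`; `A` is onto). -/
theorem GMAPKR (A : GL (Fin a) F) (B : GL (Fin b) F) (w : Fin b → F) :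
    gmap (krg e A B) (Vw e w) = Vw e ((B : Matrix (Fin b) (Fin b) F) *ᵥ w) := by
  ext y
  rw [mem_gmap, mem_Vw]
  constructor
  · rintro ⟨x, hx, rfl⟩
    obtain ⟨u, rfl⟩ := (mem_Vw e).mp hx
    exact ⟨(A : Matrix (Fin a) (Fin a) F) *ᵥ u, krg_mulVec_tn e A B u w⟩
  · rintro ⟨u, rfl⟩
    refine ⟨tn e (((A⁻¹ : GL (Fin a) F) : Matrix (Fin a) (Fin a) F) *ᵥ u) w, tn_mem_Vw e _ _, ?_⟩
    rw [krg_mulVec_tn, Matrix.mulVec_mulVec, ← Units.val_mul, mul_inv_cancel, Units.val_one,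
      Matrix.one_mulVec]

end Cfsg.Agent.S5637P
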