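import Cfsg.Agent.Helper24.S5637.Defs

set_option autoImplicit false
set_option linter.unusedSectionVars false
set_option linter.unusedVariables false

/-! # S5637 piece STEPA (lead) -/

namespace Cfsg.Agent.S5637P

open Matrix Kronecker Cfsg.Agent.Helper28.SLMax Cfsg.Agent.S5634P
open scoped MatrixGroups

variable {F : Type*} [Field F] {n a b : ℕ} (e : Fin n ≃ Fin a × Fin b)

/-- a linear map `F^b → F^a`, `a < b`, kills a non-zero vector -/
theorem STEPA.ker {a b : ℕ} (hab : a < b) (L : (Fin b → F) →ₗ[F] (Fin a → F)) :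
    ∃ ψ : Fin b → F, ψ ≠ 0 ∧ L ψ = 0 := by
  have h : LinearMap.ker L ≠ ⊥ := by
    apply LinearMap.ker_ne_bot_of_finrank_lt
    rw [Module.finrank_fin_fun, Module.finrank_fin_fun]
    exact hab
  obtain ⟨ψ, hψ, hne⟩ := (Submodule.ne_bot_iff _).mp h
  exact ⟨ψ, hne, LinearMap.mem_ker.mp hψ⟩

/-- `ψ ↦ c_ψ x` as a linear map -/
def STEPA.cpsL (x : Fin n → F) : (Fin b → F) →ₗ[F] (Fin a → F) where
  toFun ψ := cps e ψ x
  map_add' ψ ψ' := cps_add e ψ ψ' x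
  map_smul' c ψ := cps_smul e c ψ x

/-- `w ↦ ψ(w)` as a linear map to `F^1` -/
def STEPA.dotL (ψ : Fin b → F) : (Fin b → F) →ₗ[F] (Fin 1 → F) where
  toFun w := fun _ => ψ ⬝ᵥ w
  map_add' w w' := by funext _; simp [dotProduct_add]
  map_smul' c w := by funext _; simp [dotProduct_smul]

/-- STEPA (S-M). -/
theorem STEPA (ha : 1 ≤ a) (hab : a < b) (m : GL (Fin n) F) :
    ∃ w ψ w' : Fin b → F, w ≠ 0 ∧ ψ ≠ 0 ∧ w' ≠ 0 ∧ ψ ⬝ᵥ w = 0 ∧
      1 ≤ Module.finrank F ↥(gmap (m * XR e w ψ * m⁻¹) (Vw e w') ⊓ Vw e w') := by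
  have hb : 2 ≤ b := by omega
  set i0 : Fin a := ⟨0, by omega⟩ with hi0
  set j0 : Fin b := ⟨0, by omega⟩ with hj0
  set u0 : Fin a → F := Pi.single i0 1 with hu0
  set w0 : Fin b → F := Pi.single j0 1 with hw0
  have hu0ne : u0 ≠ 0 := by
    intro h
    have := congrFun h i0
    rw [hu0, Pi.single_eq_same, Pi.zero_apply] at this
    exact one_ne_zero this
  have hw0ne : w0 ≠ 0 := by
    intro h
    have := congrFun h j0
    rw [hw0, Pi.single_eq_same, Pi.zero_apply] at this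
    exact one_ne_zero this
  set X1 : Fin n → F := tn e u0 w0 with hX1
  have hX1ne : X1 ≠ 0 := by
    intro h
    rcases (tn_eq_zero_iff e _ _).mp h with h | h
    · exact hu0ne h
    · exact hw0ne h
  set Y1 : Fin n → F := ((m⁻¹ : GL (Fin n) F) : Matrix (Fin n) (Fin n) F) *ᵥ X1 with hY1
  obtain ⟨ψ, hψne, hψ⟩ := STEPA.ker hab (STEPA.cpsL e Y1)
  have hψ' : cps e ψ Y1 = 0 := hψ
  obtain ⟨w, hwne, hw⟩ := STEPA.ker (show 1 < b by omega) (STEPA.dotL ψ)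
  have hw' : ψ ⬝ᵥ w = 0 := congrFun hw 0
  refine ⟨w, ψ, w0, hwne, hψne, hw0ne, hw', ?_⟩
  have hfix : ((m * XR e w ψ * m⁻¹ : GL (Fin n) F) : Matrix (Fin n) (Fin n) F) *ᵥ X1 = X1 := by
    rw [EE.mul_mulVec, EE.mul_mulVec, ← hY1, XR_mulVec e hw', hψ', tn_zero_left, add_zero, hY1,
      Matrix.mulVec_mulVec, ← Units.val_mul, mul_inv_cancel, Units.val_one, Matrix.one_mulVec]
  have hmem : X1 ∈ gmap (m * XR e w ψ * m⁻¹) (Vw e w0) ⊓ Vw e w0 := by
    refine ⟨?_, tn_mem_Vw e _ _⟩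
    exact mem_gmap.mpr ⟨X1, tn_mem_Vw e _ _, hfix⟩
  rw [Nat.succ_le_iff, Module.finrank_pos_iff_exists_ne_zero]
  refine ⟨⟨X1, hmem⟩, ?_⟩
  intro h
  exact hX1ne (congrArg Subtype.val h)

end Cfsg.Agent.S5637P
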