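import Cfsg.Agent.Helper24.S5637.Defs

set_option autoImplicit false
set_option linter.unusedSectionVars false
set_option linter.unusedVariables false

/-! # S5637 piece TAUREL (lead) -/

namespace Cfsg.Agent.S5637P

open Matrix Kronecker Cfsg.Agent.Helper28.SLMax Cfsg.Agent.S5634P
open scoped MatrixGroups

variable {F : Type*} [Field F] {n a b : ℕ} (e : Fin n ≃ Fin a × Fin b)

/-- TAUREL (S). Apply `m * XR e w ψ = XR e w ψ' * m` to `x` (`XR_mulVec`), cancel, use
`tn_left_injective`. -/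
theorem TAUREL {w : Fin b → F} (hw : w ≠ 0) (m : GL (Fin n) F) (α : GL (Fin a) F)
    (hα : ∀ u : Fin a → F,
      (m : Matrix (Fin n) (Fin n) F) *ᵥ tn e u w = tn e ((α : Matrix (Fin a) (Fin a) F) *ᵥ u) w)
    {ψ ψ' : Fin b → F} (h : ψ ⬝ᵥ w = 0) (h' : ψ' ⬝ᵥ w = 0)
    (hc : m * XR e w ψ * m⁻¹ = XR e w ψ') :
    ∀ x : Fin n → F, (α : Matrix (Fin a) (Fin a) F) *ᵥ cps e ψ x =
      cps e ψ' ((m : Matrix (Fin n) (Fin n) F) *ᵥ x) := by
  intro x
  have h1 : m * XR e w ψ = XR e w ψ' * m := by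
    rw [← hc]; group
  have h2 := congrArg (fun g : GL (Fin n) F => (g : Matrix (Fin n) (Fin n) F) *ᵥ x) h1
  simp only [Units.val_mul, ← Matrix.mulVec_mulVec] at h2
  rw [XR_mulVec e h, XR_mulVec e h', Matrix.mulVec_add, hα] at h2
  have h3 := add_left_cancel h2
  exact tn_left_injective e hw h3

end Cfsg.Agent.S5637P
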