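import Cfsg.Agent.Helper28.S2258Defs
import Cfsg.Agent.Helper18.Dickson45
import Cfsg.Agent.Helper20.S2258DICT
import Cfsg.Agent.Helper4.S2258SOLC

/-! S2258 project (driver helper28), pieces CONV1-CONV4: the explicit equations `P1..P4` force
`⟨π X0, π Y⟩` to be solvable. -/

set_option autoImplicit false

namespace Cfsg.Agent.S2258P

open Cfsg.Agent.Helper18.Dickson

variable {F : Type*} [Field F] [Fintype F] {p : ℕ}

local notation "SF" => Matrix.SpecialLinearGroup (Fin 2) F
local notation "MF" => Matrix (Fin 2) (Fin 2) F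
local notation "PF" => Matrix.ProjectiveSpecialLinearGroup (Fin 2) F
local notation "π" => QuotientGroup.mk' (Subgroup.center SF)
local notation "q" => Fintype.card F

namespace CONV

omit [Fintype F] in
theorem mul_10 (A B : SF) : ((A * B : SF) : MF) 1 0 = (A : MF) 1 0 * (B : MF) 0 0 + (A : MF) 1 1 * (B : MF) 1 0 := by
  rw [Matrix.SpecialLinearGroup.coe_mul, Matrix.mul_apply, Fin.sum_univ_two]

omit [Fintype F] in
theorem inv_10 (A : SF) : ((A⁻¹ : SF) : MF) 1 0 = -(A : MF) 1 0 := by
  rw [Matrix.SpecialLinearGroup.coe_inv, Matrix.adjugate_fin_two]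
  simp

/-- the upper triangular subgroup of `SL₂` -/
def upperB (F : Type*) [Field F] : Subgroup (Matrix.SpecialLinearGroup (Fin 2) F) where
  carrier := {A | (A : Matrix (Fin 2) (Fin 2) F) 1 0 = 0}
  mul_mem' := by
    intro A B hA hB
    simp only [Set.mem_ofPred_eq] at hA hB ⊢
    rw [mul_10, hA, hB]; ring
  one_mem' := by simp
  inv_mem' := by
    intro A hA
    simp only [Set.mem_ofPred_eq] at hA ⊢
    rw [inv_10, hA, neg_zero]

omit [Fintype F] in
theorem mem_upperB (A : SF) : A ∈ upperB F ↔ (A : MF) 1 0 = 0 := Iff.rfl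

omit [Fintype F] in
theorem center_le (g0 : SF) :
    Subgroup.center SF ≤ (upperB F).comap (MulAut.conj g0).toMonoidHom := by
  intro z hz
  rw [Subgroup.mem_comap, mem_upperB]
  have : (MulAut.conj g0).toMonoidHom z = z := by
    simp only [MulEquiv.toMonoidHom_eq_coe, MonoidHom.coe_coe, MulAut.conj_apply]
    rw [Subgroup.mem_center_iff] at hz
    rw [hz g0, mul_inv_cancel_right]
  rw [this]
  have hz' := hz
  rw [Subgroup.mem_center_iff] at hz'
  -- z commutes with uM 1, so z is upper triangular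
  exact borel_of_commute_uM 1 one_ne_zero z (hz' (uM 1)).symm

omit [Fintype F] in
/-- both generators conjugate into the upper triangular group: so does the whole preimage -/
theorem borel_closure (X Y g0 : SF) (hX : ((g0 * X * g0⁻¹ : SF) : MF) 1 0 = 0)
    (hY : ((g0 * Y * g0⁻¹ : SF) : MF) 1 0 = 0) :
    ∀ h ∈ (Subgroup.closure ({π X, π Y} : Set PF)).comap π, ((g0 * h * g0⁻¹ : SF) : MF) 1 0 = 0 := by
  set B : Subgroup SF := (upperB F).comap (MulAut.conj g0).toMonoidHom with hB
  have hXB : X ∈ B := by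
    rw [hB, Subgroup.mem_comap, mem_upperB]; exact hX
  have hYB : Y ∈ B := by
    rw [hB, Subgroup.mem_comap, mem_upperB]; exact hY
  have hle : Subgroup.closure ({π X, π Y} : Set PF) ≤ B.map π := by
    rw [Subgroup.closure_le]
    intro z hz
    rcases hz with rfl | hz
    · exact Subgroup.mem_map_of_mem _ hXB
    · rw [Set.mem_singleton_iff] at hz
      rw [hz]
      exact Subgroup.mem_map_of_mem _ hYB
  intro h hh
  rw [Subgroup.mem_comap] at hh
  obtain ⟨b, hb, hbh⟩ := Subgroup.mem_map.mp (hle hh)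
  -- h = b * z with z central
  have hz : b⁻¹ * h ∈ Subgroup.center SF := by
    rw [← QuotientGroup.ker_mk' (Subgroup.center SF), MonoidHom.mem_ker, map_mul, map_inv, hbh]
    exact inv_mul_cancel _
  have hzB : b⁻¹ * h ∈ B := center_le g0 hz
  have hhB : h ∈ B := by
    have := B.mul_mem hb hzB
    rwa [mul_inv_cancel_left] at this
  rw [hB, Subgroup.mem_comap, mem_upperB] at hhB
  exact hhB

omit [Fintype F] in
theorem conj_cM_10 (A : SF) : ((cM 0 * A * (cM 0)⁻¹ : SF) : MF) 1 0 = -(A : MF) 0 1 := by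
  simp only [Matrix.SpecialLinearGroup.coe_mul, Matrix.SpecialLinearGroup.coe_inv, Matrix.mul_apply,
    Fin.sum_univ_two, cM_coe, Matrix.adjugate_fin_two]
  simp

theorem solvable_of_upper (X Y g0 : SF) (hX : ((g0 * X * g0⁻¹ : SF) : MF) 1 0 = 0)
    (hY : ((g0 * Y * g0⁻¹ : SF) : MF) 1 0 = 0) :
    Group.IsSolvable ↥(Subgroup.closure ({π X, π Y} : Set PF)) :=
  isSolvable_of_borel _ g0 (borel_closure X Y g0 hX hY)

omit [Fintype F] in
theorem tr_mul (A B : SF) : tr (A * B) =
    (A : MF) 0 0 * (B : MF) 0 0 + (A : MF) 0 1 * (B : MF) 1 0 + ((A : MF) 1 0 * (B : MF) 0 1 + (A : MF) 1 1 * (B : MF) 1 1) := by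
  unfold tr
  rw [Matrix.SpecialLinearGroup.coe_mul, Matrix.mul_apply, Matrix.mul_apply, Fin.sum_univ_two, Fin.sum_univ_two]

omit [Fintype F] in
theorem tr_cM (τ : F) : tr (cM τ) = τ := by
  unfold tr
  rw [cM_coe]; simp

omit [Fintype F] in
theorem tr_cM_mul (Y : SF) : tr (cM 0 * Y) = (Y : MF) 0 1 - (Y : MF) 1 0 := by
  rw [tr_mul, cM_coe]; simp; ring

omit [Fintype F] in
theorem tr_uM_mul (s : F) (Y : SF) : tr (uM s * Y) = (Y : MF) 0 0 + (Y : MF) 1 1 + s * (Y : MF) 1 0 := by
  rw [tr_mul, uM_coe]; simp; ring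

end CONV

open CONV

/-- CONV4 (S; SOLA, DICT). -/
theorem conv4 (h : Hyp F p) (τ : F) (Y : SF) (hP : P4 τ Y) :
    Group.IsSolvable ↥(Subgroup.closure ({π (cM τ), π Y} : Set PF)) := by
  rcases hP with hc | hi
  · apply solvable_of_commute
    rw [← map_mul, ← map_mul, hc]
  · apply solvable_of_inverts'
    rw [← map_inv, ← map_mul, ← map_mul, ← map_inv, hi, mul_inv_cancel_right]

/-- CONV3 (M; SOLA, DICT, `isSolvable_of_borel`). -/
theorem conv3 (h : Hyp F p) (t : F) (ht : t ≠ 0) (Y : SF) (hP : P3 Y) :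
    Group.IsSolvable ↥(Subgroup.closure ({π (dM t ht), π Y} : Set PF)) := by
  rcases hP with hc | hb | ⟨ha, hd⟩
  · apply solvable_of_upper (dM t ht) Y 1
    · simp [dM_coe]
    · simpa using hc
  · apply solvable_of_upper (dM t ht) Y (cM 0)
    · rw [conj_cM_10]
      simp [dM_coe]
    · rw [conj_cM_10, hb, neg_zero]
  · apply solvable_of_inverts'
    rw [← map_inv, ← map_mul, ← map_mul, ← map_inv]
    congr 1
    rw [mul_inv_eq_iff_eq_mul]
    apply DICT.sl_ext <;>
    · simp only [Matrix.SpecialLinearGroup.coe_mul, Matrix.SpecialLinearGroup.coe_inv, Matrix.mul_apply,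
        Fin.sum_univ_two, dM_coe, Matrix.adjugate_fin_two]
      first
        | (simp [ha, hd]; done)
        | (simp [ha, hd]; ring)

/-- CONV2 (M; SOLC, DICT, `isSolvable_of_borel`). -/
theorem conv2 (h : Hyp F p) (s : F) (hs : s ≠ 0) (Y : SF) (hP : P2 s Y) :
    Group.IsSolvable ↥(Subgroup.closure ({π (uM s), π Y} : Set PF)) := by
  have h3 := h.three_eq_zero
  have h2 := h.two_ne_zero
  have hx3 : (π (uM s) : PF) ^ 3 = 1 := by
    rw [mk_cube_eq_one_iff h3, tr_uM]
    linear_combination h3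
  rcases hP with hc | ⟨htr, hsc⟩ | ⟨htr, hsc | hsc⟩
  · apply solvable_of_upper (uM s) Y 1
    · simp [uM_coe]
    · simpa using hc
  · apply solvable_of_323 _ _ hx3
    · rw [mk_sq_eq_one_iff h2]
      right; right; exact htr
    · rw [← map_mul, mk_cube_eq_one_iff h3, tr_uM_mul, htr, zero_add]
      exact hsc
  · have hy3 : (π Y : PF) ^ 3 = 1 := by
      rw [mk_cube_eq_one_iff h3]; exact htr
    apply solvable_of_33inv _ _ hx3 hy3
    rw [← map_inv, ← map_mul, mk_sq_eq_one_iff h2, uM_inv, tr_uM_mul]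
    right; right
    linear_combination -hsc
  · have hy3 : (π Y : PF) ^ 3 = 1 := by
      rw [mk_cube_eq_one_iff h3]; exact htr
    apply solvable_of_33 _ _ hx3 hy3
    rw [← map_mul, mk_sq_eq_one_iff h2, tr_uM_mul]
    right; right
    linear_combination hsc

/-- CONV1 (M; SOLA, SOLB, DICT). -/
theorem conv1 (h : Hyp F p) (Y : SF) (hP : P1 Y) :
    Group.IsSolvable ↥(Subgroup.closure ({π (cM 0), π Y} : Set PF)) := by
  have h3 := h.three_eq_zero
  have h2 := h.two_ne_zero
  have hx2 : (π (cM (0 : F)) : PF) ^ 2 = 1 := by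
    rw [mk_sq_eq_one_iff h2]
    right; right; exact tr_cM 0
  rcases hP with (⟨hcb, hda⟩ | hda | hbc) | ⟨htr, hcb⟩
  · apply solvable_of_commute
    rw [← map_mul, ← map_mul]
    congr 1
    apply DICT.sl_ext <;>
    · simp only [Matrix.SpecialLinearGroup.coe_mul, Matrix.mul_apply, Fin.sum_univ_two, cM_coe]
      simp [hcb, hda]
  · apply solvable_of_invols _ _ hx2
    rw [mk_sq_eq_one_iff h2]
    right; right
    unfold tr
    rw [hda]; ring
  · -- `(xy)² = 1` and `x² = 1`: `x` inverts `y`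
    have hxy2 : ((π (cM (0 : F)) : PF) * π Y) ^ 2 = 1 := by
      rw [← map_mul, mk_sq_eq_one_iff h2, tr_cM_mul]
      right; right
      rw [hbc]; ring
    apply solvable_of_inverts
    set x : PF := π (cM (0 : F)) with hx
    set y : PF := π Y with hy
    have hxinv : x⁻¹ = x := by
      rw [inv_eq_iff_mul_eq_one, ← sq]; exact hx2
    rw [hxinv, eq_inv_iff_mul_eq_one]
    have : x * y * x * y = (x * y) ^ 2 := by rw [sq]; group
    rw [this, hxy2]
  · apply solvable_of_233 _ _ hx2
    · rw [mk_cube_eq_one_iff h3]; exact htr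
    · rw [← map_mul, mk_cube_eq_one_iff h3, tr_cM_mul]
      linear_combination hcb

end Cfsg.Agent.S2258P
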