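import Mathlib
import Cfsg.Agent.Lead.PiHallNormal

set_option autoImplicit false
set_option linter.style.haveILetI false

/-! Cardinality of the product set of two subgroups inside a third (no product set needed). -/

namespace Cfsg.Agent.Lead

open Subgroup

variable {G : Type*} [Group G]

/-- For `U, V ≤ W` finite: `|U| |V| ≤ |W| |U ∩ V|`. -/
theorem card_mul_card_le_card_mul_card_inf [Finite G] {U V W : Subgroup G} (hU : U ≤ W)
    (hV : V ≤ W) :
    Nat.card U * Nat.card V ≤ Nat.card W * Nat.card (U ⊓ V : Subgroup G) := by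
  have h1 : Nat.card U = V.relIndex U * Nat.card (U ⊓ V : Subgroup G) := by
    rw [card_eq_relIndex_mul_card (inf_le_left : U ⊓ V ≤ U), inf_relIndex_left]
  have h2 : Nat.card W = V.relIndex W * Nat.card V := card_eq_relIndex_mul_card hV
  have h3 : V.relIndex U ≤ V.relIndex W :=
    relIndex_le_of_le_right hU (by
      intro h0
      rw [h0, zero_mul] at h2
      exact (Nat.card_pos (α := W)).ne' h2)
  calc Nat.card U * Nat.card V = V.relIndex U * Nat.card (U ⊓ V : Subgroup G) * Nat.card V := by
        rw [← h1]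
    _ ≤ V.relIndex W * Nat.card (U ⊓ V : Subgroup G) * Nat.card V :=
        Nat.mul_le_mul_right _ (Nat.mul_le_mul_right _ h3)
    _ = Nat.card W * Nat.card (U ⊓ V : Subgroup G) := by rw [h2]; ring

/-- For `U, V ≤ W` finite with `|U| |V| = |W| |U ∩ V|`, `W = UV` as a set. -/
theorem exists_mul_of_card_mul_card_eq [Finite G] {U V W : Subgroup G} (hU : U ≤ W)
    (hV : V ≤ W)
    (h : Nat.card U * Nat.card V = Nat.card W * Nat.card (U ⊓ V : Subgroup G)) :
    ∀ w ∈ W, ∃ u ∈ U, ∃ v ∈ V, w = u * v := by
  have h1 : Nat.card U = V.relIndex U * Nat.card (U ⊓ V : Subgroup G) := by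
    rw [card_eq_relIndex_mul_card (inf_le_left : U ⊓ V ≤ U), inf_relIndex_left]
  have h2 : Nat.card W = V.relIndex W * Nat.card V := card_eq_relIndex_mul_card hV
  have h3 : V.relIndex U = V.relIndex W := by
    rw [h1, h2] at h
    have hpos1 : 0 < Nat.card (U ⊓ V : Subgroup G) := Nat.card_pos
    have hpos2 : 0 < Nat.card V := Nat.card_pos
    have e : V.relIndex U * (Nat.card (U ⊓ V : Subgroup G) * Nat.card V) =
        V.relIndex W * (Nat.card (U ⊓ V : Subgroup G) * Nat.card V) := by
      rw [← mul_assoc, h]; ring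
    exact Nat.eq_of_mul_eq_mul_right (Nat.mul_pos hpos1 hpos2) e
  have hbij : Function.Bijective (quotientSubgroupOfEmbeddingOfLE V hU) := by
    apply (quotientSubgroupOfEmbeddingOfLE V hU).injective.bijective_of_nat_card_le
    show (V.subgroupOf W).index ≤ (V.subgroupOf U).index
    exact h3.ge
  intro w hw
  obtain ⟨q, hq⟩ := hbij.2 (QuotientGroup.mk (⟨w, hw⟩ : W))
  induction q using QuotientGroup.induction_on with
  | H u =>
    rw [quotientSubgroupOfEmbeddingOfLE_apply_mk] at hq
    have h4 := QuotientGroup.eq.mp hq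
    rw [mem_subgroupOf] at h4
    refine ⟨u, u.2, (u : G)⁻¹ * w, by simpa using h4, by group⟩

end Cfsg.Agent.Lead
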