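import Mathlib
import Cfsg.Agent.Lead.Hall

set_option autoImplicit false
open Pointwise

namespace Cfsg.Agent.Lead

open Subgroup

universe u

variable {G : Type u} [Group G]

theorem index_inf_of_coprime [Finite G] {H K : Subgroup G} (h : H.index.Coprime K.index) :
    (H ⊓ K).index = H.index * K.index := by
  apply Nat.le_antisymm index_inf_le
  apply Nat.le_of_dvd
  · exact Nat.pos_of_ne_zero index_ne_zero_of_finite
  · exact h.mul_dvd_of_dvd_of_dvd (index_dvd_of_le inf_le_left) (index_dvd_of_le inf_le_right)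

theorem index_iInf_finset_of_coprime [Finite G] (H : ℕ → Subgroup G) (F : Finset ℕ)
    (hcop : ∀ a ∈ F, ∀ b ∈ F, a ≠ b → (H a).index.Coprime (H b).index) :
    (⨅ q ∈ F, H q).index = ∏ q ∈ F, (H q).index := by
  classical
  induction F using Finset.induction_on with
  | empty => simp
  | insert a F ha ih =>
    rw [Finset.iInf_insert, Finset.prod_insert ha]
    have ih' := ih (fun x hx y hy hxy =>
      hcop x (Finset.mem_insert_of_mem hx) y (Finset.mem_insert_of_mem hy) hxy)
    rw [index_inf_of_coprime, ih']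
    rw [ih']
    apply Nat.Coprime.prod_right
    intro b hb
    exact hcop a (Finset.mem_insert_self a F) b (Finset.mem_insert_of_mem hb)
      (fun h => ha (h ▸ hb))

theorem prod_primeFactors_pow_factorization {N : ℕ} (hN : N ≠ 0) :
    ∏ q ∈ N.primeFactors, q ^ N.factorization q = N := by
  have := Nat.prod_factorization_pow_eq_self hN
  rw [Finsupp.prod, Nat.support_factorization] at this
  exact this

/-- Hall `q'`-subgroups: in a finite solvable group, for every prime `q` there is a subgroup
whose index is the full power of `q` dividing `|G|`. -/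
theorem exists_index_eq_ordProj [Finite G] [Group.IsSolvable G] (q : ℕ) (hq : q.Prime) :
    ∃ K : Subgroup G, K.index = q ^ (Nat.card G).factorization q := by
  have hN : Nat.card G ≠ 0 := Nat.card_pos.ne'
  set N := Nat.card G with hNdef
  have h1 : N = (N / q ^ N.factorization q) * q ^ N.factorization q := by
    rw [mul_comm]; exact (Nat.ordProj_mul_ordCompl_eq_self N q).symm
  have h2 : (N / q ^ N.factorization q).Coprime (q ^ N.factorization q) :=
    (Nat.Coprime.pow_left _ (Nat.coprime_ordCompl hq hN)).symm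
  obtain ⟨K, hK, -⟩ := hall_exists_ge_aux N hNdef.symm _ _ h1 h2 ⊥
    (by rw [card_bot]; exact Nat.coprime_one_left _)
  refine ⟨K, ?_⟩
  have h3 := K.card_mul_index
  rw [hK, ← hNdef] at h3
  have hpos : 0 < N / q ^ N.factorization q := by
    rcases Nat.eq_zero_or_pos (N / q ^ N.factorization q) with h | h
    · rw [h, zero_mul] at h1; exact absurd h1 hN
    · exact h
  have h4 : N / q ^ N.factorization q * K.index =
      N / q ^ N.factorization q * q ^ N.factorization q := by rw [h3, ← h1]
  exact Nat.eq_of_mul_eq_mul_left hpos h4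


theorem pow_mul_prod_erase {N : ℕ} (F : Finset ℕ) (q : ℕ)
    (h : q ∉ F → N.factorization q = 0) :
    q ^ N.factorization q * ∏ r ∈ F.erase q, r ^ N.factorization r =
      ∏ r ∈ F, r ^ N.factorization r := by
  classical
  by_cases hq : q ∈ F
  · exact Finset.mul_prod_erase F (fun r => r ^ N.factorization r) hq
  · rw [Finset.erase_eq_of_notMem hq, h hq, pow_zero, one_mul]

theorem factorization_eq_zero_of_notMem_primeFactors {N q : ℕ} (h : q ∉ N.primeFactors) :
    N.factorization q = 0 := by
  rw [← Nat.support_factorization] at h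
  exact Finsupp.notMem_support_iff.mp h

/-- **Sylow systems** exist in finite solvable groups. -/
theorem exists_sylow_system [Finite G] [Group.IsSolvable G] :
    ∃ S : (p : Nat.Primes) → Sylow (p : ℕ) G,
      ∀ p q : Nat.Primes, (S p : Set G) * (S q : Set G) = (S q : Set G) * (S p : Set G) := by
  classical
  set N := Nat.card G with hNdef
  have hN : N ≠ 0 := Nat.card_pos.ne'
  have hex : ∀ q : ℕ, ∃ K : Subgroup G, q.Prime → K.index = q ^ N.factorization q := by
    intro q
    by_cases hq : q.Prime
    · obtain ⟨K, hK⟩ := exists_index_eq_ordProj (G := G) q hq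
      exact ⟨K, fun _ => hK⟩
    · exact ⟨⊤, fun h => absurd h hq⟩
  choose H hH using hex
  set Pn := N.primeFactors with hPn
  have hidx : ∀ F ⊆ Pn, (⨅ q ∈ F, H q).index = ∏ q ∈ F, q ^ N.factorization q := by
    intro F hF
    rw [index_iInf_finset_of_coprime H F]
    · apply Finset.prod_congr rfl
      intro q hq
      exact hH q (Nat.prime_of_mem_primeFactors (hF hq))
    · intro a ha b hb hab
      have pa := Nat.prime_of_mem_primeFactors (hF ha)
      have pb := Nat.prime_of_mem_primeFactors (hF hb)
      rw [hH a pa, hH b pb]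
      exact Nat.coprime_pow_primes _ _ pa pb hab
  have hprodpos : ∀ F ⊆ Pn, 0 < ∏ q ∈ F, q ^ N.factorization q := by
    intro F hF
    exact Finset.prod_pos (fun q hq => pow_pos (Nat.pos_of_mem_primeFactors (hF hq)) _)
  have hsplit1 : ∀ p : ℕ, p ^ N.factorization p * ∏ q ∈ Pn.erase p, q ^ N.factorization q = N := by
    intro p
    rw [pow_mul_prod_erase Pn p factorization_eq_zero_of_notMem_primeFactors]
    exact prod_primeFactors_pow_factorization hN
  have hcardS : ∀ p : ℕ, Nat.card (⨅ q ∈ Pn.erase p, H q : Subgroup G) =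
      p ^ N.factorization p := by
    intro p
    have h1 := (⨅ q ∈ Pn.erase p, H q : Subgroup G).card_mul_index
    rw [hidx _ (Finset.erase_subset _ _), ← hNdef] at h1
    have h2 := hsplit1 p
    exact Nat.eq_of_mul_eq_mul_right (hprodpos _ (Finset.erase_subset _ _)) (h1.trans h2.symm)
  have hcardT : ∀ p q : ℕ, p ≠ q →
      Nat.card (⨅ r ∈ (Pn.erase p).erase q, H r : Subgroup G) =
        p ^ N.factorization p * q ^ N.factorization q := by
    intro p q hpq
    have hsub : (Pn.erase p).erase q ⊆ Pn :=
      (Finset.erase_subset _ _).trans (Finset.erase_subset _ _)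
    have h1 := (⨅ r ∈ (Pn.erase p).erase q, H r : Subgroup G).card_mul_index
    rw [hidx _ hsub, ← hNdef] at h1
    have h2 := hsplit1 p
    have h3 : q ^ N.factorization q * ∏ r ∈ (Pn.erase p).erase q, r ^ N.factorization r =
        ∏ r ∈ Pn.erase p, r ^ N.factorization r := by
      apply pow_mul_prod_erase
      intro hq
      apply factorization_eq_zero_of_notMem_primeFactors
      intro hq'
      exact hq (Finset.mem_erase.mpr ⟨hpq.symm, hq'⟩)
    have h4 : p ^ N.factorization p * q ^ N.factorization q *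
        ∏ r ∈ (Pn.erase p).erase q, r ^ N.factorization r = N := by
      rw [mul_assoc, h3, h2]
    exact Nat.eq_of_mul_eq_mul_right (hprodpos _ hsub) (h1.trans h4.symm)
  -- the key product formula
  have hprod : ∀ p q : ℕ, p.Prime → q.Prime → p ≠ q →
      ((⨅ r ∈ Pn.erase p, H r : Subgroup G) : Set G) * ((⨅ r ∈ Pn.erase q, H r : Subgroup G) : Set G)
        = ((⨅ r ∈ (Pn.erase p).erase q, H r : Subgroup G) : Set G) := by
    intro p q hp hq hpq
    set Sp : Subgroup G := ⨅ r ∈ Pn.erase p, H r with hSp
    set Sq : Subgroup G := ⨅ r ∈ Pn.erase q, H r with hSq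
    set T : Subgroup G := ⨅ r ∈ (Pn.erase p).erase q, H r with hT
    have hSpT : Sp ≤ T := by
      apply le_iInf₂
      intro r hr
      exact iInf₂_le r (Finset.mem_of_mem_erase hr)
    have hSqT : Sq ≤ T := by
      apply le_iInf₂
      intro r hr
      have hr' : r ∈ Pn.erase q := by
        rw [Finset.mem_erase] at hr ⊢
        exact ⟨hr.1, Finset.mem_of_mem_erase hr.2⟩
      exact iInf₂_le r hr'
    have hc : IsComplement' (Sp.subgroupOf T) (Sq.subgroupOf T) := by
      apply isComplement'_of_coprime
      · rw [Nat.card_congr (subgroupOfEquivOfLe hSpT).toEquiv,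
          Nat.card_congr (subgroupOfEquivOfLe hSqT).toEquiv, hcardS p, hcardS q, hcardT p q hpq]
      · rw [Nat.card_congr (subgroupOfEquivOfLe hSpT).toEquiv,
          Nat.card_congr (subgroupOfEquivOfLe hSqT).toEquiv, hcardS p, hcardS q]
        exact Nat.coprime_pow_primes _ _ hp hq hpq
    apply Set.Subset.antisymm
    · rintro x ⟨a, ha, b, hb, rfl⟩
      exact T.mul_mem (hSpT ha) (hSqT hb)
    · intro t ht
      obtain ⟨⟨⟨a, ha⟩, ⟨b, hb⟩⟩, hab, -⟩ := hc.existsUnique ⟨t, ht⟩
      simp only at hab
      have hab' : (a : G) * (b : G) = t := congrArg Subtype.val hab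
      exact ⟨(a : G), ha, (b : G), hb, hab'⟩
  refine ⟨fun p => haveI : Fact (p : ℕ).Prime := ⟨p.2⟩;
    Sylow.ofCard (⨅ q ∈ Pn.erase (p : ℕ), H q) (hcardS p), ?_⟩
  intro p q
  by_cases hpq : (p : ℕ) = (q : ℕ)
  · have : p = q := Subtype.ext hpq
    rw [this]
  · change ((⨅ r ∈ Pn.erase (p : ℕ), H r : Subgroup G) : Set G) *
      ((⨅ r ∈ Pn.erase (q : ℕ), H r : Subgroup G) : Set G) =
      ((⨅ r ∈ Pn.erase (q : ℕ), H r : Subgroup G) : Set G) *
      ((⨅ r ∈ Pn.erase (p : ℕ), H r : Subgroup G) : Set G)
    rw [hprod p q p.2 q.2 hpq, hprod q p q.2 p.2 (Ne.symm hpq), Finset.erase_right_comm]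

end Cfsg.Agent.Lead
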