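import Mathlib
import Cfsg.Agent.Lead.Carter0
import Cfsg.Agent.Lead.Hall2
import Cfsg.Agent.Lead.CoprimeSylow

set_option autoImplicit false
open Pointwise

/-! Carter subgroups: existence. -/

namespace Cfsg.Agent.Lead

open Subgroup

universe u

/-- `C` is a Carter subgroup: nilpotent and self-normalizing. -/
def IsCarter {G : Type*} [Group G] (C : Subgroup G) : Prop :=
  Group.IsNilpotent C ∧ normalizer (C : Set G) = C

/-- Core of the existence proof: if `K / N` is nilpotent with `N` a normal `p`-subgroup of the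
finite solvable group `K`, then `K` has a Carter subgroup `C` with `N C = K`. -/
theorem carter_core {K : Type u} [Group K] [Finite K] [Group.IsSolvable K] {p : ℕ}
    [hp : Fact p.Prime] (N : Subgroup K) [N.Normal] (hN : IsPGroup p N)
    (hnil : Group.IsNilpotent (K ⧸ N)) :
    ∃ C : Subgroup K, IsCarter C ∧ N ⊔ C = ⊤ := by
  have hK0 : Nat.card K ≠ 0 := Nat.card_pos.ne'
  set n := Nat.card K with hn
  set a := n.factorization p with ha
  set m := n / p ^ a with hm
  have h1 : n = m * p ^ a := by
    rw [mul_comm]; exact (Nat.ordProj_mul_ordCompl_eq_self n p).symm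
  have hpm : p.Coprime m := Nat.coprime_ordCompl hp.out hK0
  have hmp : m.Coprime (p ^ a) := (Nat.Coprime.pow_left _ hpm).symm
  obtain ⟨Q, hQ, -⟩ := hall_exists_ge_aux n hn.symm m (p ^ a) h1 hmp ⊥
    (by rw [card_bot]; exact Nat.coprime_one_left _)
  have hmpos : 0 < m := by
    rcases Nat.eq_zero_or_pos m with h | h
    · rw [h, zero_mul] at h1; exact absurd h1 hK0
    · exact h
  have hQidx : Q.index = p ^ a := by
    have h3 := Q.card_mul_index
    rw [hQ, ← hn, h1] at h3
    exact Nat.eq_of_mul_eq_mul_left hmpos h3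
  have hQcop : (Nat.card Q).Coprime Q.index := by rw [hQ, hQidx]; exact hmp
  set C : Subgroup K := normalizer (Q : Set K) with hC
  have hQC : Q ≤ C := le_normalizer
  let φ := QuotientGroup.mk' N
  have hφ : Function.Surjective φ := QuotientGroup.mk'_surjective N
  obtain ⟨b, hb⟩ := hN.exists_card_eq
  have hNQ : N ⊓ Q = ⊥ := by
    apply (disjoint_of_coprime_natCard _).eq_bot
    rw [hb, hQ]; exact Nat.Coprime.pow_left _ hpm
  refine ⟨C, ⟨?_, normalizer_normalizer_of_coprime Q hQcop⟩, ?_⟩
  · -- `C` is nilpotent: it embeds in `K ⧸ N × C ⧸ Q`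
    have hQn : (Q.subgroupOf C).Normal := normal_in_normalizer
    have hidx : (Q.subgroupOf C).index ∣ p ^ a := by
      rw [← hQidx]; exact relIndex_dvd_index_of_le hQC
    obtain ⟨c, -, hc⟩ := (Nat.dvd_prime_pow hp.out).mp hidx
    have hPG : IsPGroup p (↥C ⧸ Q.subgroupOf C) := by
      apply IsPGroup.of_card (n := c)
      rw [← hc]; exact (index_eq_card _).symm
    have hnil2 : Group.IsNilpotent (↥C ⧸ Q.subgroupOf C) := hPG.isNilpotent
    apply isNilpotent_of_two_homs (φ.comp C.subtype) (QuotientGroup.mk' (Q.subgroupOf C))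
    rw [QuotientGroup.ker_mk', eq_bot_iff]
    rintro x ⟨hx1, hx2⟩
    have hx1' : (x : K) ∈ N := by
      have : (C.subtype x) ∈ φ.ker := hx1
      rwa [QuotientGroup.ker_mk'] at this
    have hx2' : (x : K) ∈ Q := hx2
    have : (x : K) ∈ N ⊓ Q := ⟨hx1', hx2'⟩
    rw [hNQ, mem_bot] at this
    rw [mem_bot]; exact Subtype.ext this
  · -- Frattini argument
    set L : Subgroup K := Q ⊔ N with hL
    have hQbar : (Q.map φ).Normal := by
      apply normal_of_coprime_of_isNilpotent
      have h2 : Nat.card (Q.map φ) ∣ m := hQ ▸ card_map_dvd Q φ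
      have h3 : (Q.map φ).index ∣ p ^ a := hQidx ▸ index_map_dvd Q hφ
      exact Nat.Coprime.coprime_dvd_left h2 (Nat.Coprime.coprime_dvd_right h3 hmp)
    have hLn : L.Normal := by
      have : L = (Q.map φ).comap φ := by
        rw [comap_map_eq, QuotientGroup.ker_mk']
      rw [this]; exact hQbar.comap φ
    have hfr := hall_frattini L (isSolvable_subgroup L) Q le_sup_left
      (hQcop.coprime_dvd_right (relIndex_dvd_index_of_le le_sup_left))
    rw [eq_top_iff, ← hfr]
    apply sup_le _ le_sup_right
    exact sup_le (hQC.trans le_sup_right) le_sup_left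


theorem mem_normalizer_sup {G : Type*} [Group G] {A B : Subgroup G} {x : G}
    (hA : x ∈ normalizer (A : Set G)) (hB : x ∈ normalizer (B : Set G)) :
    x ∈ normalizer ((A ⊔ B : Subgroup G) : Set G) := by
  rw [← conj_smul_eq_self_iff_mem_normalizer] at hA hB ⊢
  rw [Subgroup.smul_sup, hA, hB]

/-- A Carter subgroup of `G` contained in `K` is a Carter subgroup of `K`. -/
theorem IsCarter.subgroupOf {G : Type*} [Group G] {C K : Subgroup G} (hC : IsCarter C)
    (hCK : C ≤ K) : IsCarter (C.subgroupOf K) := by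
  obtain ⟨h1, h2⟩ := hC
  refine ⟨?_, ?_⟩
  · exact Group.nilpotent_of_mulEquiv (subgroupOfEquivOfLe hCK).symm
  · rw [← subgroupOf_normalizer_eq hCK, h2]

/-- A Carter subgroup of `K` whose image in `G` has normalizer inside `K` is Carter in `G`. -/
theorem IsCarter.map_subtype {G : Type*} [Group G] {K : Subgroup G} {C' : Subgroup K}
    (hC : IsCarter C') (hK : normalizer ((C'.map K.subtype : Subgroup G) : Set G) ≤ K) :
    IsCarter (C'.map K.subtype) := by
  obtain ⟨h1, h2⟩ := hC
  set C : Subgroup G := C'.map K.subtype with hCdef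
  have hCK : C ≤ K := map_subtype_le C'
  have hsub : C.subgroupOf K = C' := comap_map_eq_self_of_injective K.subtype_injective C'
  refine ⟨?_, ?_⟩
  · exact Group.nilpotent_of_mulEquiv (C'.equivMapOfInjective _ K.subtype_injective)
  · apply le_antisymm _ le_normalizer
    intro x hx
    have hxK : x ∈ K := hK hx
    have h3 : (⟨x, hxK⟩ : K) ∈ (normalizer (C : Set G)).subgroupOf K := hx
    rw [subgroupOf_normalizer_eq hCK, hsub, h2] at h3
    exact ⟨⟨x, hxK⟩, h3, rfl⟩

theorem isCarter_top_of_subsingleton {G : Type*} [Group G] [Subsingleton G] :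
    IsCarter (⊤ : Subgroup G) :=
  ⟨inferInstance, normalizer_eq_top _⟩

/-- **Carter subgroups exist** in finite solvable groups. -/
theorem carter_exists_aux (n₀ : ℕ) :
    ∀ {G : Type u} [Group G] [Finite G] [Group.IsSolvable G], Nat.card G = n₀ →
      ∃ C : Subgroup G, IsCarter C := by
  induction n₀ using Nat.strong_induction_on with
  | _ n₀ ih =>
  intro G _ _ _ hn₀
  by_cases htriv : Subsingleton G
  · exact ⟨⊤, isCarter_top_of_subsingleton⟩
  have hnt : Nontrivial G := not_subsingleton_iff_nontrivial.mp htriv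
  obtain ⟨p, hp, N, hNn, hNp, hNne⟩ := exists_normal_pgroup_of_isSolvable (G := G)
  have : Fact p.Prime := ⟨hp⟩
  let φ := QuotientGroup.mk' N
  have hφ : Function.Surjective φ := QuotientGroup.mk'_surjective N
  have hQlt : Nat.card (G ⧸ N) < n₀ := by
    rw [← hn₀, card_eq_card_quotient_mul_card_subgroup N]
    have h1 : 1 < Nat.card N := N.one_lt_card_iff_ne_bot.mpr hNne
    exact lt_mul_of_one_lt_right Nat.card_pos h1
  have hQsolv : Group.IsSolvable (G ⧸ N) := Group.isSolvable_of_surjective hφ
  obtain ⟨Kbar, hKbar⟩ := ih _ hQlt (G := G ⧸ N) rfl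
  set K : Subgroup G := Kbar.comap φ with hK
  have hNK : N ≤ K := by
    have := ker_le_comap φ Kbar
    rwa [QuotientGroup.ker_mk'] at this
  have hKmap : K.map φ = Kbar := map_comap_eq_self_of_surjective hφ Kbar
  -- `K / N` is nilpotent
  let ψ : ↥K →* ↥Kbar := φ.subgroupComap Kbar
  have hψker : N.subgroupOf K ≤ ψ.ker := by
    intro x hx
    rw [MonoidHom.mem_ker]
    apply Subtype.ext
    change φ (x : G) = 1
    rw [← MonoidHom.mem_ker, QuotientGroup.ker_mk']
    exact hx
  have hnilK : Group.IsNilpotent (↥K ⧸ N.subgroupOf K) := by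
    have := hKbar.1
    apply isNilpotent_of_injective (QuotientGroup.lift (N.subgroupOf K) ψ hψker)
    rw [← MonoidHom.ker_eq_bot_iff, eq_bot_iff]
    intro x hx
    induction x using QuotientGroup.induction_on with
    | H z =>
      rw [MonoidHom.mem_ker, QuotientGroup.lift_mk] at hx
      rw [mem_bot, QuotientGroup.eq_one_iff]
      have h1 : φ (z : G) = 1 := congrArg Subtype.val hx
      rw [← MonoidHom.mem_ker, QuotientGroup.ker_mk'] at h1
      exact h1
  have hKsolv : Group.IsSolvable K := isSolvable_subgroup K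
  obtain ⟨C', hC', hsup⟩ := carter_core (N.subgroupOf K) hNp.comap_subtype hnilK
  refine ⟨C'.map K.subtype, hC'.map_subtype ?_⟩
  -- the normalizer of `C` lies in `K`
  intro x hx
  have hCN : (C'.map K.subtype) ⊔ N = K := by
    have := congrArg (Subgroup.map K.subtype) hsup
    rw [Subgroup.map_sup, subgroupOf_map_subtype, inf_eq_left.mpr hNK, ← MonoidHom.range_eq_map,
      K.range_subtype] at this
    rw [sup_comm]; exact this
  have hxK : x ∈ normalizer (K : Set G) := by
    have h1 : x ∈ normalizer ((C'.map K.subtype ⊔ N : Subgroup G) : Set G) := by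
      have hxN : x ∈ normalizer (N : Set G) := by rw [normalizer_eq_top]; exact mem_top x
      exact mem_normalizer_sup hx hxN
    rwa [hCN] at h1
  have h2 : φ x ∈ normalizer (Kbar : Set (G ⧸ N)) := by
    rw [← hKmap]
    exact le_normalizer_map φ (mem_map_of_mem φ hxK)
  rw [hKbar.2] at h2
  exact h2

end Cfsg.Agent.Lead
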