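import Mathlib
import Cfsg.Agent.Lead.Carter1
import Cfsg.Agent.Lead.CoprimeSylow2
import Cfsg.Agent.Helper1.MinNormal

set_option autoImplicit false
open Pointwise

/-! Carter subgroups: conjugacy. -/

namespace Cfsg.Agent.Lead

open Subgroup

universe u

variable {G : Type u} [Group G]

theorem IsCarter.conj {C : Subgroup G} (hC : IsCarter C) (g : G) :
    IsCarter (MulAut.conj g • C) := by
  obtain ⟨h1, h2⟩ := hC
  refine ⟨Group.nilpotent_of_mulEquiv (Subgroup.equivSMul (MulAut.conj g) C), ?_⟩
  ext x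
  have hN : g⁻¹ * x * g ∈ C ↔ g⁻¹ * x * g ∈ normalizer (C : Set G) := by rw [h2]
  rw [mem_conj_smul_iff, hN, ← conj_smul_eq_self_iff_mem_normalizer,
    ← conj_smul_eq_self_iff_mem_normalizer]
  constructor
  · intro h
    have : MulAut.conj (g⁻¹ * x * g) • C = MulAut.conj g⁻¹ • (MulAut.conj x • MulAut.conj g • C) := by
      rw [← mul_smul, ← mul_smul, ← map_mul, ← map_mul, mul_assoc]
    rw [this, h, ← mul_smul, ← map_mul, inv_mul_cancel, map_one, one_smul]
  · intro h
    have : MulAut.conj x • MulAut.conj g • C =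
        MulAut.conj g • (MulAut.conj (g⁻¹ * x * g) • C) := by
      rw [← mul_smul, ← mul_smul, ← map_mul, ← map_mul]
      congr 2; group
    rw [this, h]

theorem relIndex_mul_card'' {H K : Subgroup G} (h : H ≤ K) :
    H.relIndex K * Nat.card H = Nat.card K := by
  have := relIndex_mul_relIndex ⊥ H K bot_le h
  rw [relIndex_bot_left, relIndex_bot_left] at this
  rw [mul_comm]; exact this

/-- The property that Carter subgroups inside proper subgroups are conjugate there. -/
def CarterConjBelow (G : Type u) [Group G] : Prop :=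
  ∀ K : Subgroup G, K ≠ ⊤ → ∀ C D : Subgroup G, IsCarter C → IsCarter D → C ≤ K → D ≤ K →
    ∃ k ∈ K, MulAut.conj k • C = D

/-- Step (a): the image of a Carter subgroup in a quotient is a Carter subgroup. -/
theorem IsCarter.map_mk' (hbelow : CarterConjBelow G) {C : Subgroup G} (hC : IsCarter C)
    (N : Subgroup G) [N.Normal] : IsCarter (C.map (QuotientGroup.mk' N)) := by
  set φ := QuotientGroup.mk' N with hφdef
  have hφ : Function.Surjective φ := QuotientGroup.mk'_surjective N
  have hCn := hC.1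
  refine ⟨Group.nilpotent_of_surjective (φ.subgroupMap C) (φ.subgroupMap_surjective C), ?_⟩
  apply le_antisymm _ le_normalizer
  intro xbar hxbar
  obtain ⟨x, rfl⟩ := hφ xbar
  set K : Subgroup G := C ⊔ N with hK
  have hKcomap : K = (C.map φ).comap φ := by rw [comap_map_eq, QuotientGroup.ker_mk']
  have hxK : x ∈ normalizer (K : Set G) := by
    rw [hKcomap]
    exact le_normalizer_comap φ hxbar
  have hmapK : K.map φ = C.map φ := by
    rw [hKcomap, map_comap_eq_self_of_surjective hφ]
  by_cases hKtop : K = ⊤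
  · rw [← hmapK, hKtop, map_top_of_surjective φ hφ]; exact mem_top _
  · have hCK : C ≤ K := le_sup_left
    have hC₁K : MulAut.conj x • C ≤ K := by
      rw [← (conj_smul_eq_self_iff_mem_normalizer x K).mpr hxK]
      exact pointwise_smul_le_pointwise_smul_iff.mpr hCK
    obtain ⟨k, hk, hkC⟩ := hbelow K hKtop _ _ (hC.conj x) hC hC₁K hCK
    rw [← mul_smul, ← map_mul, conj_smul_eq_self_iff_mem_normalizer, hC.2] at hkC
    have hx : x ∈ K := by
      have : x = k⁻¹ * (k * x) := by group
      rw [this]; exact K.mul_mem (K.inv_mem hk) (hCK hkC)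
    rw [← hmapK]; exact mem_map_of_mem φ hx


/-- A nilpotent subgroup normalizes each of its Hall subgroups. -/
theorem le_normalizer_of_hall_of_isNilpotent [Finite G] {C Q : Subgroup G}
    (hCn : Group.IsNilpotent C) (hQC : Q ≤ C) (hcop : (Nat.card Q).Coprime (Q.relIndex C)) :
    C ≤ normalizer (Q : Set G) := by
  rw [← normal_subgroupOf_iff_le_normalizer hQC]
  apply normal_of_coprime_of_isNilpotent
  rw [Nat.card_congr (subgroupOfEquivOfLe hQC).toEquiv]
  exact hcop

/-- A solvable nilpotent subgroup `C` with `|C| = m r`, `(m, r) = 1`, has a (normal) Hall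
subgroup of order `m`. -/
theorem exists_normal_hall_of_isNilpotent [Finite G] [Group.IsSolvable G] {C : Subgroup G}
    (hCn : Group.IsNilpotent C) {m r : ℕ} (hcard : Nat.card C = m * r) (hmr : m.Coprime r) :
    ∃ Q : Subgroup G, Q ≤ C ∧ Nat.card Q = m ∧ C ≤ normalizer (Q : Set G) := by
  have hCsolv : Group.IsSolvable C := isSolvable_subgroup C
  obtain ⟨Q', hQ', -⟩ := hall_exists_ge_aux (Nat.card C) rfl m r hcard hmr ⊥
    (by rw [card_bot]; exact Nat.coprime_one_left _)
  have hQcard : Nat.card (Q'.map C.subtype) = m := by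
    rw [← hQ']
    exact Nat.card_congr (Q'.equivMapOfInjective _ C.subtype_injective).symm.toEquiv
  have hQC : Q'.map C.subtype ≤ C := map_subtype_le Q'
  refine ⟨Q'.map C.subtype, hQC, hQcard, ?_⟩
  apply le_normalizer_of_hall_of_isNilpotent hCn hQC
  have h1 := relIndex_mul_card'' hQC
  rw [hQcard, hcard] at h1
  have hmpos : 0 < m := by
    rcases Nat.eq_zero_or_pos m with h | h
    · rw [h, zero_mul] at hcard; exact absurd hcard Nat.card_pos.ne'
    · exact h
  have : (Q'.map C.subtype).relIndex C = r := by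
    rw [mul_comm] at h1
    exact Nat.eq_of_mul_eq_mul_left hmpos h1
  rw [hQcard, this]; exact hmr


theorem isNilpotent_of_isCarter_top {C : Subgroup G} (hC : IsCarter C) (h : C = ⊤) :
    Group.IsNilpotent G := by
  subst h
  have := hC.1
  exact Group.nilpotent_of_mulEquiv Subgroup.topEquiv

/-- Final case of the conjugacy proof: `G = C N = D N` with `N` a minimal normal subgroup. -/
theorem carter_conj_final [Finite G] [Group.IsSolvable G] (hbelow : CarterConjBelow G)
    (N : Subgroup G) [hNn : N.Normal] (hNne : N ≠ ⊥)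
    (hmin : ∀ M : Subgroup G, M.Normal → M ≤ N → M = ⊥ ∨ M = N)
    {C D : Subgroup G} (hC : IsCarter C) (hD : IsCarter D) (hCN : C ⊔ N = ⊤) (hDN : D ⊔ N = ⊤) :
    ∃ g : G, MulAut.conj g • C = D := by
  obtain ⟨hNcomm, p, hp, hNexp⟩ :=
    Cfsg.Agent.Helper1.minNormal_elementary N hNne (isSolvable_subgroup N) hmin
  have : Fact p.Prime := ⟨hp⟩
  have hNp : IsPGroup p N := by
    intro x
    refine ⟨1, ?_⟩
    apply Subtype.ext
    rw [pow_one, Subgroup.coe_pow, Subgroup.coe_one]
    exact hNexp x x.2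
  -- `C ∩ N` is normal in `G = C N`
  have hinf : ∀ C : Subgroup G, C ⊔ N = ⊤ → C ⊓ N = ⊥ ∨ C = ⊤ := by
    intro C hCN
    have hnorm : (C ⊓ N).Normal := by
      rw [← normalizer_eq_top_iff, eq_top_iff, ← hCN]
      apply sup_le
      · exact le_normalizer_inf' le_normalizer (by rw [normalizer_eq_top]; exact le_top)
      · intro n hn
        have hcomm : ∀ z ∈ N, n * z * n⁻¹ = z := by
          intro z hz
          have h1 : (⟨n, hn⟩ : N) * ⟨z, hz⟩ = ⟨z, hz⟩ * ⟨n, hn⟩ := hNcomm.is_comm.comm _ _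
          have h2 : n * z = z * n := congrArg Subtype.val h1
          rw [h2]; group
        rw [mem_normalizer_iff]
        intro y
        constructor
        · intro hy
          rw [hcomm y hy.2]; exact hy
        · intro hy
          have h3 := hcomm _ hy.2
          have h4 : n * (n * y * n⁻¹) * n⁻¹ = n * y * n⁻¹ := h3
          have h5 : n * y * n⁻¹ = y := by
            have : n * y * n⁻¹ = n⁻¹ * (n * (n * y * n⁻¹) * n⁻¹) * n := by group
            rw [this, h4]; group
          rw [← h5]; exact hy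
    rcases hmin (C ⊓ N) hnorm inf_le_right with h | h
    · left; exact h
    · right
      have hNC : N ≤ C := by rw [← h]; exact inf_le_left
      rw [← hCN, sup_eq_left.mpr hNC]
  have htop_case : ∀ C D : Subgroup G, IsCarter C → IsCarter D → C = ⊤ →
      ∃ g : G, MulAut.conj g • C = D := by
    intro C D hC hD hCtop
    have := isNilpotent_of_isCarter_top hC hCtop
    have hDtop := eq_top_of_normalizer_eq_of_isNilpotent D hD.2
    exact ⟨1, by rw [map_one, one_smul, hCtop, hDtop]⟩
  rcases hinf C hCN with hCi | hCtop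
  swap
  · exact htop_case C D hC hD hCtop
  rcases hinf D hDN with hDi | hDtop
  swap
  · obtain ⟨g, hg⟩ := htop_case D C hD hC hDtop
    refine ⟨g⁻¹, ?_⟩
    rw [← hg, ← mul_smul, ← map_mul, inv_mul_cancel, map_one, one_smul]
  -- both are complements of `N`
  let φ := QuotientGroup.mk' N
  have hφ : Function.Surjective φ := QuotientGroup.mk'_surjective N
  have hmaptop : ∀ C : Subgroup G, C ⊔ N = ⊤ → C.map φ = ⊤ := by
    intro C hCN
    have := congrArg (Subgroup.map φ) hCN
    rw [Subgroup.map_sup, map_top_of_surjective φ hφ] at this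
    have hN0 : N.map φ = ⊥ := by
      rw [Subgroup.map_eq_bot_iff, QuotientGroup.ker_mk']
    rwa [hN0, sup_bot_eq] at this
  have hcardC : ∀ C : Subgroup G, C ⊔ N = ⊤ → C ⊓ N = ⊥ →
      Nat.card C * Nat.card N = Nat.card G := by
    intro C hCN hCi
    have h1 := card_map_mk'_of_inf_eq_bot N C (by rw [inf_comm]; exact hCi)
    rw [hmaptop C hCN] at h1
    rw [← h1, card_eq_card_quotient_mul_card_subgroup N]
    congr 1
    exact Nat.card_congr Subgroup.topEquiv.toEquiv
  have hK0 : Nat.card G ≠ 0 := Nat.card_pos.ne'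
  set n := Nat.card G with hn
  set a := n.factorization p with ha
  set m := n / p ^ a with hm
  have h1 : n = m * p ^ a := by
    rw [mul_comm]; exact (Nat.ordProj_mul_ordCompl_eq_self n p).symm
  have hpm : p.Coprime m := Nat.coprime_ordCompl hp hK0
  have hmp : m.Coprime (p ^ a) := (Nat.Coprime.pow_left _ hpm).symm
  have hmpos : 0 < m := by
    rcases Nat.eq_zero_or_pos m with h | h
    · rw [h, zero_mul] at h1; exact absurd h1 hK0
    · exact h
  obtain ⟨b, hb⟩ := hNp.exists_card_eq
  -- order of a complement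
  have hcompl : ∀ C : Subgroup G, C ⊔ N = ⊤ → C ⊓ N = ⊥ →
      ∃ c : ℕ, Nat.card C = m * p ^ c := by
    intro C hCN hCi
    have h2 := hcardC C hCN hCi
    rw [hb, h1] at h2
    have h3 : m ∣ Nat.card C := by
      have : m ∣ Nat.card C * p ^ b := ⟨p ^ a, h2⟩
      exact (Nat.Coprime.pow_right _ hpm.symm).dvd_of_dvd_mul_right this
    obtain ⟨r, hr⟩ := h3
    rw [hr, mul_assoc] at h2
    have h4 : r * p ^ b = p ^ a := Nat.eq_of_mul_eq_mul_left hmpos h2
    have h5 : r ∣ p ^ a := ⟨p ^ b, h4.symm⟩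
    obtain ⟨c, -, hc⟩ := (Nat.dvd_prime_pow hp).mp h5
    exact ⟨c, by rw [hr, hc]⟩
  obtain ⟨c, hc⟩ := hcompl C hCN hCi
  obtain ⟨d, hd⟩ := hcompl D hDN hDi
  obtain ⟨QC, hQCC, hQCcard, hQCn⟩ := exists_normal_hall_of_isNilpotent hC.1 hc
    (Nat.Coprime.pow_right _ hpm.symm)
  obtain ⟨QD, hQDD, hQDcard, hQDn⟩ := exists_normal_hall_of_isNilpotent hD.1 hd
    (Nat.Coprime.pow_right _ hpm.symm)
  obtain ⟨h, hh⟩ := hall_conj_aux n hn.symm m (p ^ a) h1 hmp QC QD hQCcard hQDcard
  -- replace `C` by `C₂ = C^h`, which contains `QD` as a normal Hall subgroup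
  set C₂ : Subgroup G := MulAut.conj h • C with hC₂
  have hC₂car : IsCarter C₂ := hC.conj h
  have hQDC₂ : QD ≤ C₂ := by
    rw [← hh]; exact pointwise_smul_le_pointwise_smul_iff.mpr hQCC
  have hC₂card : Nat.card C₂ = m * p ^ c := by rw [hC₂, card_conj_smul, hc]
  have hC₂n : C₂ ≤ normalizer (QD : Set G) := by
    apply le_normalizer_of_hall_of_isNilpotent hC₂car.1 hQDC₂
    have h2 := relIndex_mul_card'' hQDC₂
    rw [hQDcard, hC₂card, mul_comm] at h2
    rw [hQDcard, Nat.eq_of_mul_eq_mul_left hmpos h2]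
    exact Nat.Coprime.pow_right _ hpm.symm
  set M : Subgroup G := normalizer (QD : Set G) with hM
  by_cases hMtop : M = ⊤
  · -- `QD` is normal: `G` is nilpotent
    have hQDnorm : QD.Normal := normalizer_eq_top_iff.mp hMtop
    have hnil1 : Group.IsNilpotent (G ⧸ N) := by
      have := hC.1
      have h2 : Group.IsNilpotent (C.map φ) :=
        Group.nilpotent_of_surjective (φ.subgroupMap C) (φ.subgroupMap_surjective C)
      rw [hmaptop C hCN] at h2
      exact Group.nilpotent_of_mulEquiv Subgroup.topEquiv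
    have hnil2 : Group.IsNilpotent (G ⧸ QD) := by
      have hidx : QD.index = p ^ a := by
        have h3 := QD.card_mul_index
        rw [hQDcard, ← hn, h1] at h3
        exact Nat.eq_of_mul_eq_mul_left hmpos h3
      have hPG : IsPGroup p (G ⧸ QD) := by
        apply IsPGroup.of_card (n := a)
        rw [← hidx]; exact (index_eq_card _).symm
      exact hPG.isNilpotent
    have hGnil : Group.IsNilpotent G := by
      apply isNilpotent_of_two_homs φ (QuotientGroup.mk' QD)
      rw [QuotientGroup.ker_mk', QuotientGroup.ker_mk']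
      apply (disjoint_of_coprime_natCard _).eq_bot
      rw [hb, hQDcard]; exact Nat.Coprime.pow_left _ hpm
    have hCtop := eq_top_of_normalizer_eq_of_isNilpotent C hC.2
    exact htop_case C D hC hD hCtop
  · obtain ⟨k, -, hk⟩ := hbelow M hMtop C₂ D hC₂car hD hC₂n hQDn
    refine ⟨k * h, ?_⟩
    rw [map_mul, mul_smul, ← hC₂, hk]


/-- **Carter subgroups are conjugate** in finite solvable groups. -/
theorem carter_conj_aux (n₀ : ℕ) :
    ∀ {G : Type u} [Group G] [Finite G] [Group.IsSolvable G], Nat.card G = n₀ →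
      ∀ C D : Subgroup G, IsCarter C → IsCarter D → ∃ g : G, MulAut.conj g • C = D := by
  induction n₀ using Nat.strong_induction_on with
  | _ n₀ ih =>
  intro G _ _ _ hn₀ C D hC hD
  have hbelow : CarterConjBelow G := by
    intro K hK C D hC hD hCK hDK
    have hlt : Nat.card K < n₀ := by rw [← hn₀]; exact card_lt_of_ne_top hK
    have hKsolv : Group.IsSolvable K := isSolvable_subgroup K
    obtain ⟨k, hk⟩ := ih _ hlt (G := ↥K) rfl _ _ (hC.subgroupOf hCK) (hD.subgroupOf hDK)
    have := conj_of_subgroupOf k hk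
    rw [inf_eq_left.mpr hCK, inf_eq_left.mpr hDK] at this
    exact ⟨k, k.2, this⟩
  by_cases htriv : Subsingleton G
  · refine ⟨1, ?_⟩
    rw [map_one, one_smul]
    ext x
    have hx : x = 1 := Subsingleton.elim _ _
    rw [hx]; exact ⟨fun _ => D.one_mem, fun _ => C.one_mem⟩
  have hnt : Nontrivial G := not_subsingleton_iff_nontrivial.mp htriv
  let S : Set (Subgroup G) := {N | N.Normal ∧ N ≠ ⊥}
  have hS : S.Nonempty := ⟨⊤, inferInstance, top_ne_bot⟩
  obtain ⟨N, ⟨hNn, hNne⟩, hNmin⟩ := wellFounded_lt.has_min S hS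
  have hmin : ∀ M : Subgroup G, M.Normal → M ≤ N → M = ⊥ ∨ M = N := by
    intro M hM hMN
    by_cases hM0 : M = ⊥
    · left; exact hM0
    · right
      have := hNmin M ⟨hM, hM0⟩
      exact eq_of_le_of_not_lt hMN this
  let φ := QuotientGroup.mk' N
  have hφ : Function.Surjective φ := QuotientGroup.mk'_surjective N
  have hQlt : Nat.card (G ⧸ N) < n₀ := by
    rw [← hn₀, card_eq_card_quotient_mul_card_subgroup N]
    have h1 : 1 < Nat.card N := N.one_lt_card_iff_ne_bot.mpr hNne
    exact lt_mul_of_one_lt_right Nat.card_pos h1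
  have hQsolv : Group.IsSolvable (G ⧸ N) := Group.isSolvable_of_surjective hφ
  have hCbar := hC.map_mk' hbelow N
  have hDbar := hD.map_mk' hbelow N
  obtain ⟨q, hq⟩ := ih _ hQlt (G := G ⧸ N) rfl _ _ hCbar hDbar
  obtain ⟨g, rfl⟩ := hφ q
  rw [← map_conj_smul] at hq
  set C₁ : Subgroup G := MulAut.conj g • C with hC₁def
  have hC₁ : IsCarter C₁ := hC.conj g
  have hsup : C₁ ⊔ N = D ⊔ N := by
    have h1 := comap_map_eq (QuotientGroup.mk' N) C₁
    rw [hq, comap_map_eq, QuotientGroup.ker_mk'] at h1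
    exact h1.symm
  by_cases hK : C₁ ⊔ N = ⊤
  · obtain ⟨g', hg'⟩ := carter_conj_final hbelow N hNne hmin hC₁ hD hK (hsup ▸ hK)
    exact ⟨g' * g, by rw [map_mul, mul_smul]; exact hg'⟩
  · obtain ⟨k, -, hk⟩ := hbelow (C₁ ⊔ N) hK C₁ D hC₁ hD le_sup_left
      (by rw [hsup]; exact le_sup_left)
    exact ⟨k * g, by rw [map_mul, mul_smul]; exact hk⟩

end Cfsg.Agent.Lead
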