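import Mathlib
import Cfsg.Agent.Helper29.S3fQuot
import Cfsg.Agent.Helper27.S3fStructA
import Cfsg.Agent.Helper17.Basic
import Cfsg.Agent.Lead.CoprimeSylow
import Cfsg.Agent.S3769

/-!
# Piece (P7) of S4305: the consequence of S3769
-/

set_option autoImplicit false

namespace Cfsg.Agent.Lead.S3fP7

open Cfsg.Agent.Helper29.S3f
open scoped commutatorElement

universe u

theorem orderOf_f0 : orderOf f0 = 3 := by
  have : Fact (Nat.Prime 3) := ⟨by norm_num⟩
  exact orderOf_eq_prime f0_pow_three f0_ne_one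

/-- Solvability of `P ⊔ ⟨j f0⟩` for `P ≤ G`. -/
theorem solvable_sup {Γ : Type u} [Group Γ] (j : A0 →* Γ)
    (G : Subgroup Γ) [G.Normal] (hsolv : Group.IsSolvable ↥G) (P : Subgroup Γ) (hPG : P ≤ G) :
    Group.IsSolvable ↥(P ⊔ Subgroup.zpowers (j f0)) := by
  set G' := P ⊔ Subgroup.zpowers (j f0) with hG'
  -- the map to Γ ⧸ G
  let g0 : ↥G' →* Γ ⧸ G := (QuotientGroup.mk' G).comp G'.subtype
  let J : A0 →* Γ ⧸ G := (QuotientGroup.mk' G).comp j
  have hrange : g0.range ≤ J.range := by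
    rintro _ ⟨y, rfl⟩
    have hy : (y : Γ) ∈ P ⊔ Subgroup.zpowers (j f0) := y.2
    -- `(QuotientGroup.mk' G) y` lies in the image of `zpowers (j f0)`
    have : (QuotientGroup.mk' G) (y : Γ) ∈ (P ⊔ Subgroup.zpowers (j f0)).map (QuotientGroup.mk' G) :=
      Subgroup.mem_map_of_mem _ hy
    rw [Subgroup.map_sup] at this
    have hPbot : P.map (QuotientGroup.mk' G) = ⊥ := by
      rw [eq_bot_iff]
      rintro _ ⟨p, hp, rfl⟩
      rw [Subgroup.mem_bot]
      exact (QuotientGroup.eq_one_iff p).mpr (hPG hp)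
    rw [hPbot, bot_sup_eq] at this
    obtain ⟨z, hz, hz'⟩ := this
    obtain ⟨k, rfl⟩ := Subgroup.mem_zpowers_iff.mp hz
    refine ⟨f0 ^ k, ?_⟩
    show (QuotientGroup.mk' G) (j (f0 ^ k)) = g0 y
    rw [map_zpow]
    exact hz'
  have hJsolv : Group.IsSolvable ↥J.range := by
    have := Cfsg.Agent.Helper27.S3fStruct.isSolvable_A0
    exact Group.isSolvable_of_surjective (f := J.rangeRestrict) J.rangeRestrict_surjective
  have hgsolv : Group.IsSolvable ↥g0.range :=
    Group.isSolvable_of_isSolvable_injective (f := Subgroup.inclusion hrange)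
      (Subgroup.inclusion_injective hrange)
  have hksolv : Group.IsSolvable ↥(G.subgroupOf G') := by
    let ι : ↥(G.subgroupOf G') →* ↥G :=
      { toFun := fun x => ⟨(x : ↥G'), x.2⟩
        map_one' := rfl
        map_mul' := fun _ _ => rfl }
    have hι : Function.Injective ι := by
      intro a b hab
      have := congrArg (fun t : ↥G => (t : Γ)) hab
      exact Subtype.ext (Subtype.ext this)
    exact Group.isSolvable_of_isSolvable_injective (f := ι) hι
  refine Group.isSolvable_of_ker_le_range (G.subgroupOf G').subtype g0.rangeRestrict ?_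
  intro y hy
  rw [MonoidHom.mem_ker] at hy
  have h1 : g0 y = 1 := by
    have := congrArg Subtype.val hy
    simpa using this
  have h2 : (y : Γ) ∈ G := (QuotientGroup.eq_one_iff (y : Γ)).mp h1
  exact ⟨⟨y, h2⟩, rfl⟩

/-- (P7) the consequence of S3769. -/
theorem h8_of_S3769 {Γ : Type u} [Group Γ] [Finite Γ] (j : A0 →* Γ) (hj : Function.Injective j)
    (G : Subgroup Γ) [G.Normal] (hG : HypInt j G) {r : ℕ} [Fact r.Prime] (hr5 : 5 ≤ r)
    (V : Subgroup Γ) [V.Normal] (hVG : V ≤ G)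
    (hVab : ∀ a ∈ V, ∀ b ∈ V, a * b = b * a) (hVexp : ∀ v ∈ V, v ^ r = 1)
    (C : Subgroup Γ) [C.Normal] (hC : C = G ⊓ Subgroup.centralizer (V : Set Γ))
    {s : ℕ} [Fact s.Prime] (hsr : s ≠ r) (hX : IsPGroup s ↥(G.map (QuotientGroup.mk' C)))
    (hCVf : ∀ v ∈ V, j f0 * v * (j f0)⁻¹ = v → v = 1) :
    ∀ x ∈ G.map (QuotientGroup.mk' C),
      (QuotientGroup.mk' C) (j f0) * x * ((QuotientGroup.mk' C) (j f0))⁻¹ = x := by
  classical
  have hr : r.Prime := Fact.out
  have hs : s.Prime := Fact.out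
  -- the invariant Sylow subgroup
  have hAK : j.range ≤ Subgroup.normalizer (G : Set Γ) := by
    rw [Subgroup.normalizer_eq_top]; exact le_top
  obtain ⟨P, hP⟩ := Cfsg.Agent.Lead.coprime_exists_invariant_sylow j.range G hAK
    (coprime_range j hG.cop) (Or.inr hG.solv) s
  set P' : Subgroup Γ := (P : Subgroup ↥G).map G.subtype with hP'
  have hP'G : P' ≤ G := Subgroup.map_subtype_le _
  have hP'p : IsPGroup s P' := P.isPGroup'.map _
  set x0 : Γ := j f0 with hx0
  set R : Subgroup Γ := Subgroup.zpowers x0 with hR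
  have hx0N : x0 ∈ Subgroup.normalizer (P' : Set Γ) := hP ⟨f0, rfl⟩
  have hRN : R ≤ Subgroup.normalizer (P' : Set Γ) := (Subgroup.zpowers_le).2 hx0N
  have hordx0 : orderOf x0 = 3 := by
    rw [hx0, orderOf_injective j hj, orderOf_f0]
  have hRcard : Nat.card R = 3 := by
    rw [hR, Nat.card_zpowers, hordx0]
  -- P' ⊓ R = ⊥
  have hPR : P' ⊓ R = ⊥ := by
    rw [eq_bot_iff]
    rintro y ⟨hy1, hy2⟩
    rw [Subgroup.mem_bot]
    obtain ⟨k, rfl⟩ := Subgroup.mem_zpowers_iff.mp hy2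
    have : x0 ^ k = j (f0 ^ k) := by rw [map_zpow]
    rw [this]
    apply j_mem_eq_one j hG.cop
    rw [← this]
    exact hP'G hy1
  -- cardinalities
  have hcardG' : Nat.card ↥(P' ⊔ R) = Nat.card P' * 3 := by
    have := Cfsg.Agent.Helper17.card_sup_mul_card_inf P' R hRN
    rw [hPR, Subgroup.card_bot, mul_one, hRcard] at this
    exact this
  have hP'dvd : Nat.card P' ∣ Nat.card G := Subgroup.card_dvd_of_le hP'G
  have hP'cop6 : (Nat.card P').Coprime 6 := Nat.Coprime.coprime_dvd_left hP'dvd hG.cop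
  have hP'cop3 : (Nat.card P').Coprime 3 :=
    Nat.Coprime.coprime_dvd_right (by norm_num : 3 ∣ 6) hP'cop6
  have hP'cop2 : (Nat.card P').Coprime 2 :=
    Nat.Coprime.coprime_dvd_right (by norm_num : 2 ∣ 6) hP'cop6
  have hP'odd : Odd (Nat.card P') := by
    rw [Nat.odd_iff]
    rcases Nat.mod_two_eq_zero_or_one (Nat.card P') with h0 | h1
    · exfalso
      have h2 : 2 ∣ Nat.card P' := Nat.dvd_of_mod_eq_zero h0
      have := Nat.Coprime.eq_one_of_dvd hP'cop2.symm h2
      omega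
    · exact h1
  have hrP' : ¬ r ∣ Nat.card P' := by
    intro hdvd
    obtain ⟨k, hk⟩ := (IsPGroup.iff_card.mp hP'p)
    rw [hk] at hdvd
    have := (Nat.prime_dvd_prime_iff_eq hr hs).mp (hr.dvd_of_dvd_pow hdvd)
    exact hsr this.symm
  -- apply S3769
  have hV : Cfsg.IsElementaryAbelian r V :=
    ⟨⟨⟨fun a b => Subtype.ext (hVab a a.2 b b.2)⟩⟩, hVexp⟩
  have hsolv : Group.IsSolvable ↥(P' ⊔ R) := solvable_sup j G hG.solv P' hP'G
  have hodd : Odd (Nat.card ↥(P' ⊔ R)) := by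
    rw [hcardG']
    exact hP'odd.mul (by decide)
  have hℓG : ¬ r ∣ Nat.card ↥(P' ⊔ R) := by
    rw [hcardG']
    intro hdvd
    rcases (Nat.Prime.dvd_mul hr).mp hdvd with h | h
    · exact hrP' h
    · have := Nat.le_of_dvd (by norm_num) h
      omega
  have hGV : P' ⊔ R ≤ Subgroup.normalizer (V : Set Γ) := by
    rw [Subgroup.normalizer_eq_top]; exact le_top
  have hKn : P' ⊔ R ≤ Subgroup.normalizer (P' : Set Γ) := sup_le Subgroup.le_normalizer hRN
  have hHall : (Nat.card P').Coprime (P'.relIndex (P' ⊔ R)) := by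
    have h1 := Cfsg.Agent.Helper17.relIndex_mul_card_inf P' (P' ⊔ R)
    rw [inf_eq_left.mpr (le_sup_left : P' ≤ P' ⊔ R), hcardG'] at h1
    have hpos : 0 < Nat.card P' := Nat.card_pos
    have h2 : P'.relIndex (P' ⊔ R) = 3 := by
      have : P'.relIndex (P' ⊔ R) * Nat.card P' = 3 * Nat.card P' := by rw [h1, mul_comm]
      exact Nat.eq_of_mul_eq_mul_right hpos this
    rw [h2]
    exact hP'cop3
  have hCV : V ⊓ Subgroup.centralizer (R : Set Γ) = ⊥ := by
    rw [eq_bot_iff]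
    rintro v ⟨hv1, hv2⟩
    rw [Subgroup.mem_bot]
    apply hCVf v hv1
    have hv2' : v ∈ Subgroup.centralizer (R : Set Γ) := hv2
    have := (Subgroup.mem_centralizer_iff.mp hv2') x0 (Subgroup.mem_zpowers x0)
    rw [this]; group
  have key := Cfsg.Agent.S3769.result (P' ⊔ R) hsolv hodd V hr hV hℓG hGV P' R le_sup_left hKn hHall
    le_sup_right (by rw [hRcard]; norm_num) hPR rfl hCV
  -- mk(P') = G.map mk
  set mk := QuotientGroup.mk' C with hmk
  have hcover : ∀ x ∈ G.map mk, ∃ y ∈ P', mk y = x := by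
    intro x hx
    let f : ↥G →* ↥(G.map mk) := mk.subgroupMap G
    have hf : Function.Surjective f := mk.subgroupMap_surjective G
    have hQ : ((P.mapSurjective hf : Sylow s ↥(G.map mk)) : Subgroup ↥(G.map mk)) = ⊤ := by
      have htop : IsPGroup s (⊤ : Subgroup ↥(G.map mk)) := hX.to_subgroup ⊤
      exact ((P.mapSurjective hf).is_maximal' htop le_top).symm
    have hxmem : (⟨x, hx⟩ : ↥(G.map mk)) ∈ ((P.mapSurjective hf : Sylow s ↥(G.map mk)) :
        Subgroup ↥(G.map mk)) := by rw [hQ]; trivial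
    rw [Sylow.coe_mapSurjective] at hxmem
    obtain ⟨y, hy, hyx⟩ := hxmem
    refine ⟨(y : Γ), ⟨y, hy, rfl⟩, ?_⟩
    have := congrArg Subtype.val hyx
    simpa [f] using this
  intro x hx
  obtain ⟨y, hy, rfl⟩ := hcover x hx
  have hcomm : ⁅x0, y⁆ ∈ ⁅R, P'⁆ :=
    Subgroup.commutator_mem_commutator (Subgroup.mem_zpowers x0) hy
  have h1 : ⁅x0, y⁆ ∈ Subgroup.centralizer (V : Set Γ) := key hcomm
  have h2 : ⁅x0, y⁆ ∈ G := by
    rw [commutatorElement_def]
    have hy' : x0 * y * x0⁻¹ ∈ P' := by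
      have := (Subgroup.mem_normalizer_iff.mp hx0N y).mp hy
      exact this
    exact hP'G (P'.mul_mem hy' (P'.inv_mem hy))
  have h3 : ⁅x0, y⁆ ∈ C := by rw [hC]; exact ⟨h2, h1⟩
  have h4 : mk ⁅x0, y⁆ = 1 := (QuotientGroup.eq_one_iff _).mpr h3
  rw [commutatorElement_def, map_mul, map_mul, map_mul, map_inv, map_inv] at h4
  have := mul_inv_eq_one.mp h4
  exact this

end Cfsg.Agent.Lead.S3fP7
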