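import Mathlib
import Cfsg.Prelude.Def_Solvable
import Cfsg.Agent.Helper4.McLDefs

set_option autoImplicit false
set_option linter.unusedVariables false

/-! S5075 piece SUMMARY: in the symplectic case the `M`-parts of a transvection are proportional
through the form. -/

namespace Cfsg.Agent.S5075P

variable {p : ℕ} [Fact p.Prime] {V : Type*} [AddCommGroup V] [Module (ZMod p) V]
variable {G : Subgroup (V ≃ₗ[ZMod p] V)}

/-- a functional vanishing on the kernel of another one is a multiple of it -/
theorem SUMMARY_exists_smul (f g : Module.Dual (ZMod p) V) (h : ∀ x, g x = 0 → f x = 0) :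
    ∃ c : ZMod p, f = c • g := by
  by_cases hg : ∃ x₀, g x₀ ≠ 0
  · obtain ⟨x₀, hx₀⟩ := hg
    refine ⟨f x₀ / g x₀, ?_⟩
    apply LinearMap.ext
    intro x
    have h1 : g (x - (g x / g x₀) • x₀) = 0 := by
      rw [map_sub, map_smul, smul_eq_mul, div_mul_cancel₀ _ hx₀, sub_self]
    have h2 := h _ h1
    rw [map_sub, map_smul, smul_eq_mul, sub_eq_zero] at h2
    rw [LinearMap.smul_apply, smul_eq_mul, h2]
    field_simp
  · push Not at hg
    refine ⟨0, ?_⟩
    apply LinearMap.ext
    intro x
    rw [zero_smul, LinearMap.zero_apply]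
    exact h x (hg x)

theorem SUMMARY_B_right {π : V →ₗ[ZMod p] V} {B : LinearMap.BilinForm (ZMod p) V}
    (hS : SPfull G π B) (x y : V) : B x (π y) = B x y := by
  rw [← hS.alt.neg_eq (π y) x, hS.Bπ, hS.alt.neg_eq]

theorem summary [Finite V] (hp : p ≠ 2) {π : V →ₗ[ZMod p] V}
    {B : LinearMap.BilinForm (ZMod p) V} (hS : SPfull G π B) (hL : DimL G) (hR : DimR G) {u : V}
    {χ : Module.Dual (ZMod p) V} (hu : InI0 G u χ) :
    ∃ a : ZMod p, a ≠ 0 ∧ χ ∘ₗ π = a • B (π u) := by
  have hππ : ∀ x, π (π x) = π x := fun x => LinearMap.congr_fun hS.idem x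
  have hBr := SUMMARY_B_right hS
  -- first: `χ ∘ π` is a multiple of `B (π u)`
  have h1 : ∃ c : ZMod p, χ ∘ₗ π = c • B (π u) := by
    apply SUMMARY_exists_smul
    intro x hx
    by_contra hne
    rw [LinearMap.comp_apply] at hne
    set m := π x with hm
    have hmm : π m = m := hππ x
    have hBum : B (π u) m = 0 := by rw [hm, hBr]; exact hx
    have hBmu : (B m) u = 0 := by
      rw [← hS.alt.neg_eq u m, ← hS.Bπ u m, hBum, neg_zero]
    have hI : InI G u (B m) := hu.1.lemma1 (hS.full m hmm) hBmu hne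
    obtain ⟨c, hc⟩ := hL u χ (B m) hu hI
    have h2 : (B m) m = c * χ m := by rw [hc, LinearMap.smul_apply, smul_eq_mul]
    rw [hS.alt m] at h2
    have hc0 : c = 0 := by
      rcases mul_eq_zero.mp h2.symm with h | h
      · exact h
      · exact absurd h hne
    rw [hc0, zero_smul] at hc
    have hm0 : m = 0 := hS.nondeg m hmm (fun y => by rw [hc, LinearMap.zero_apply])
    apply hne
    rw [hm0, map_zero]
  obtain ⟨c, hc⟩ := h1
  by_cases hc0 : c = 0
  · -- then `B (π u) = 0`
    rw [hc0, zero_smul] at hc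
    refine ⟨1, one_ne_zero, ?_⟩
    rw [hc, one_smul]
    symm
    by_contra hne
    obtain ⟨y, hy⟩ : ∃ y, B (π u) y ≠ 0 := by
      by_contra hall
      push Not at hall
      exact hne (LinearMap.ext hall)
    set m := π y with hm
    have hmm : π m = m := hππ y
    have hBum : B (π u) m ≠ 0 := by rw [hm, hBr]; exact hy
    have hBmu : (B m) u ≠ 0 := by
      rw [← hS.alt.neg_eq u m, ← hS.Bπ u m]
      exact neg_ne_zero.mpr hBum
    have hχm : χ m = 0 := by
      have := LinearMap.congr_fun hc y
      rwa [LinearMap.comp_apply, LinearMap.zero_apply] at this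
    have hI : InI G m χ := (hS.full m hmm).lemma1 hu.1 hχm hBmu
    have hm0 : m ≠ 0 := by
      intro h0
      apply hBum
      rw [h0, map_zero]
    have hBm0 : B m ≠ 0 := by
      intro h0
      apply hBmu
      rw [h0, LinearMap.zero_apply]
    obtain ⟨c', hc'⟩ := hL m (B m) χ ⟨hS.full m hmm, hm0, hBm0⟩ hI
    apply hu.2.2
    rw [← hc]
    apply LinearMap.ext
    intro z
    rw [LinearMap.comp_apply, hc', LinearMap.smul_apply, LinearMap.smul_apply, hBr]
  · exact ⟨c, hc0, hc⟩

end Cfsg.Agent.S5075P
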