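import Mathlib
import Cfsg.Prelude.Def_Solvable
import Cfsg.Agent.Helper4.McLDefs
import Cfsg.Agent.Lead.McLSUMMARY

set_option autoImplicit false
set_option linter.unusedVariables false

/-! S5075 piece ZTRICK: splitting a transvection of `G` into its `M`- and `N`-parts with the
involution `z = -1 ⊕ 1`. -/

namespace Cfsg.Agent.S5075P

variable {p : ℕ} [Fact p.Prime] {V : Type*} [AddCommGroup V] [Module (ZMod p) V]
variable {G : Subgroup (V ≃ₗ[ZMod p] V)}

theorem ZTRICK_two_ne_zero (hp : p ≠ 2) : (2 : ZMod p) ≠ 0 := by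
  intro h
  have h2 : ((2 : ℕ) : ZMod p) = 0 := by exact_mod_cast h
  rw [ZMod.natCast_eq_zero_iff] at h2
  have := (Nat.prime_dvd_prime_iff_eq (Fact.out : p.Prime) Nat.prime_two).mp h2
  exact hp this

theorem ztrick [Finite V] (hp : p ≠ 2) {π : V →ₗ[ZMod p] V}
    {B : LinearMap.BilinForm (ZMod p) V} (hS : SPfull G π B) (hL : DimL G) (hR : DimR G) {u : V}
    {χ : Module.Dual (ZMod p) V} (hu : InI G u χ) : InI G (u - π u) (χ - χ ∘ₗ π) := by
  by_cases hu0 : u = 0
  · rw [hu0, map_zero, sub_zero]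
    exact inI_zero_left G _
  by_cases hχ0 : χ = 0
  · rw [hχ0, LinearMap.zero_comp, sub_zero]
    exact inI_zero_right G _
  have hI0 : InI0 G u χ := ⟨hu, hu0, hχ0⟩
  have h2 := ZTRICK_two_ne_zero hp
  have hππ : ∀ x, π (π x) = π x := fun x => LinearMap.congr_fun hS.idem x
  have hBr := SUMMARY_B_right hS
  obtain ⟨a, ha, hχπ⟩ := summary hp hS hL hR hI0
  have hχu : χ u = 0 := hu.1
  have hχπu : χ (π u) = 0 := by
    have := LinearMap.congr_fun hχπ u
    rw [LinearMap.comp_apply, LinearMap.smul_apply, smul_eq_mul] at this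
    rw [this, ← hBr, hS.alt (π u), mul_zero]
  obtain ⟨z, hzG, hz⟩ := hS.z
  have hzz : ∀ x, z (z x) = x := by
    intro x
    rw [hz (z x), hz x, map_sub, map_smul, hππ]
    module
  have hzs : ∀ x, z.symm x = z x := by
    intro x
    conv_lhs => rw [← hzz x]
    exact z.symm_apply_apply _
  have hB : InI G (z u) (χ ∘ₗ (z.symm : V →ₗ[ZMod p] V)) := hu.conj hzG
  have hC : InI G (π u) (-((2 : ZMod p) • (χ ∘ₗ π))) := by
    have h1 : InI G (π u) (B (π u)) := hS.full (π u) (hππ u)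
    have h3 := h1.smul_right (-(2 * a))
    have e : (-(2 * a)) • B (π u) = -((2 : ZMod p) • (χ ∘ₗ π)) := by
      rw [hχπ, smul_smul]
      exact neg_smul (2 * a) (B (π u))
    rwa [e] at h3
  have hres0 : ((2 : ZMod p) • (χ - χ ∘ₗ π)) (u - π u) = 0 := by
    simp only [LinearMap.smul_apply, LinearMap.sub_apply, LinearMap.comp_apply, map_sub, hππ, hχu,
      hχπu, sub_self, smul_zero]
  have key : tv (u - π u) ((2 : ZMod p) • (χ - χ ∘ₗ π)) =
      tv u χ * tv (z u) (χ ∘ₗ (z.symm : V →ₗ[ZMod p] V)) *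
        tv (π u) (-((2 : ZMod p) • (χ ∘ₗ π))) := by
    apply LinearEquiv.ext
    intro x
    rw [LinearEquiv.mul_apply, LinearEquiv.mul_apply, tv_apply hC.1, tv_apply hB.1, tv_apply hu.1,
      tv_apply hres0]
    simp only [LinearMap.neg_apply, LinearMap.smul_apply, LinearMap.sub_apply,
      LinearMap.comp_apply, LinearEquiv.coe_coe, hzs, hz, map_add, map_sub, map_smul, hππ,
      hχu, hχπu, smul_eq_mul, mul_zero, sub_zero, add_zero]
    module
  have hmem : InI G (u - π u) ((2 : ZMod p) • (χ - χ ∘ₗ π)) := by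
    refine ⟨hres0, ?_⟩
    rw [key]
    exact G.mul_mem (G.mul_mem hu.2 hB.2) hC.2
  have := hmem.smul_right (2 : ZMod p)⁻¹
  rwa [smul_smul, inv_mul_cancel₀ h2, one_smul] at this

end Cfsg.Agent.S5075P
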