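import Mathlib
import Cfsg.Prelude.Def_Solvable
import Cfsg.Agent.Helper4.McLDefs
import Cfsg.Agent.Lead.McLSUMMARY

set_option autoImplicit false
set_option linter.unusedVariables false

/-! S5075 piece TERMIN: when there are no mixed transvections, `G` is the full symplectic group
of `range π`. -/

namespace Cfsg.Agent.S5075P

variable {p : ℕ} [Fact p.Prime] {V : Type*} [AddCommGroup V] [Module (ZMod p) V]
variable {G : Subgroup (V ≃ₗ[ZMod p] V)}

theorem terminate [Finite V] (hp : p ≠ 2) (hG : Conn G) {π : V →ₗ[ZMod p] V}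
    {B : LinearMap.BilinForm (ZMod p) V} (hS : SPfull G π B) (hL : DimL G) (hR : DimR G)
    (h0 : LinearMap.range π ≠ ⊥) (hmix : ¬ ∃ u χ, InI0 G u χ ∧ π u ≠ u ∧ π u ≠ 0) :
    IsCompl (Wspan G) (Uker G) ∧ ConclSp G := by
  have hππ : ∀ x, π (π x) = π x := fun x => LinearMap.congr_fun hS.idem x
  have hBr := SUMMARY_B_right hS
  -- pairs `(m, B m)` with `m = π m ≠ 0` are nontrivial
  have hfull0 : ∀ m, π m = m → m ≠ 0 → InI0 G m (B m) := by
    intro m hm hm0
    refine ⟨hS.full m hm, hm0, ?_⟩
    intro hB0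
    exact hm0 (hS.nondeg m hm (fun y => by rw [hB0, LinearMap.zero_apply]))
  -- every centre is in `range π`
  have hall : ∀ v φ, InI0 G v φ → π v = v := by
    have hdich := hG.conn (fun v _ => π v = v) (by
      intro v φ w ψ hv hw hPv hPw
      have hπw : π w = 0 := by
        by_contra hne
        exact hmix ⟨w, ψ, hw, hPw, hne⟩
      obtain ⟨a, ha, hφπ⟩ := summary hp hS hL hR hv
      obtain ⟨a', ha', hψπ⟩ := summary hp hS hL hR hw
      rw [hπw, map_zero, smul_zero] at hψπ
      have hψv : ψ v = 0 := by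
        have := LinearMap.congr_fun hψπ v
        rwa [LinearMap.comp_apply, hPv, LinearMap.zero_apply] at this
      refine ⟨?_, hψv⟩
      by_contra hφw
      have hI : InI G v ψ := hv.1.lemma1 hw.1 hψv hφw
      obtain ⟨c, hc⟩ := hL v φ ψ hv hI
      have h1 : ψ ∘ₗ π = (c * a) • B (π v) := by
        rw [hc, LinearMap.smul_comp, hφπ, smul_smul]
      rw [hψπ, hPv] at h1
      have hc0 : c ≠ 0 := by
        rintro rfl
        rw [zero_smul] at hc
        exact hw.2.2 hc
      have hBv : B v = 0 := by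
        have h2 := congrArg (fun f => (c * a)⁻¹ • f) h1
        simp only [smul_zero, smul_smul, inv_mul_cancel₀ (mul_ne_zero hc0 ha), one_smul] at h2
        exact h2.symm
      exact (hfull0 v hPv hv.2.1).2.2 hBv)
    rcases hdich with h | h
    · exact h
    · exfalso
      obtain ⟨m, hm, hm0⟩ : ∃ m, π m = m ∧ m ≠ 0 := by
        by_contra hcon
        push Not at hcon
        apply h0
        rw [eq_bot_iff]
        rintro _ ⟨y, rfl⟩
        rw [Submodule.mem_bot]
        exact hcon (π y) (hππ y)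
      exact h m (B m) (hfull0 m hm hm0) hm
  -- the axes
  have haxis : ∀ v φ, InI0 G v φ → ∃ a : ZMod p, φ = a • B v := by
    intro v φ hv
    have hπv := hall v φ hv
    obtain ⟨c, hc⟩ := hL v φ (B v) hv (hS.full v hπv)
    have hc0 : c ≠ 0 := by
      rintro rfl
      rw [zero_smul] at hc
      exact (hfull0 v hπv hv.2.1).2.2 hc
    refine ⟨c⁻¹, ?_⟩
    rw [hc, smul_smul, inv_mul_cancel₀ hc0, one_smul]
  have hW : Wspan G = LinearMap.range π := by
    apply le_antisymm
    · unfold Wspan
      rw [Submodule.span_le]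
      rintro v ⟨φ, hv⟩
      exact ⟨v, hall v φ hv⟩
    · rintro _ ⟨y, rfl⟩
      by_cases hy : π y = 0
      · rw [hy]; exact Submodule.zero_mem _
      · exact Submodule.subset_span ⟨B (π y), hfull0 (π y) (hππ y) hy⟩
  have hU : Uker G = LinearMap.ker π := by
    apply le_antisymm
    · intro x hx
      rw [LinearMap.mem_ker]
      apply hS.nondeg (π x) (hππ x)
      intro y
      rw [← hBr, ← hS.alt.neg_eq, neg_eq_zero, hBr]
      by_cases hy : π y = 0
      · rw [hy, map_zero, LinearMap.zero_apply]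
      · exact hx (π y) (B (π y)) (hfull0 (π y) (hππ y) hy)
    · intro x hx
      rw [LinearMap.mem_ker] at hx
      intro v φ hv
      obtain ⟨a, ha⟩ := haxis v φ hv
      rw [ha, LinearMap.smul_apply, ← hBr, hx, map_zero, smul_zero]
  have hmemW : ∀ x, x ∈ Wspan G → π x = x := by
    intro x hx
    rw [hW] at hx
    obtain ⟨y, rfl⟩ := hx
    exact hππ y
  refine ⟨?_, B, hS.alt, ?_, ?_, ?_, haxis⟩
  · rw [hW, hU]
    exact LinearMap.IsIdempotentElem.isCompl hS.idem
  · intro x u hu
    rw [hU, LinearMap.mem_ker] at hu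
    rw [← hBr, hu, map_zero]
  · intro x hx hxy
    apply hS.nondeg x (hmemW x hx)
    intro y
    rw [← hBr]
    apply hxy
    rw [hW]
    exact ⟨y, rfl⟩
  · intro x hx
    exact hS.full x (hmemW x hx)

end Cfsg.Agent.S5075P
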