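import Mathlib

set_option autoImplicit false

/-! # S2140 (minimal index of proper subgroups of `PSL_n(q)`): the `HeisData` predicate
(shared by the pieces HEISa2, HEISb and the main assembly; verbatim from helper4's stubs). -/

namespace Cfsg.Agent.S2140P

open Matrix

/-- The data extracted from a hypothetical action in which every transvection is fixed-point-free and
`|Ω| = q^(n-1)`, `n = m + 2`. -/
def HeisData (m : ℕ) (F : Type*) [Field F] : Prop :=
  ∃ θ : (Fin m → F) → (Fin m → F),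
    (∀ b b', θ (b + b') = θ b + θ b') ∧
    (∀ b, θ b = 0 → b = 0) ∧
    (∀ b b', θ b ⬝ᵥ b' = θ b' ⬝ᵥ b) ∧
    (∀ (l μ : F) (A : Matrix (Fin m) (Fin m) F), l * μ * A.det = 1 →
      ∀ b, θ (μ⁻¹ • (A *ᵥ b)) = l • (θ b ᵥ* A⁻¹)) ∧
    ((2 : F) = 0 → ∀ b, θ b ⬝ᵥ b = 0)

end Cfsg.Agent.S2140P
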