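import Mathlib
import Cfsg.Agent.Lead.MinIdxHeisDefs

set_option autoImplicit false
set_option linter.unusedSectionVars false

/-! # S2140 piece HEISa2: the abstract counting argument for the Heisenberg group. -/

namespace Cfsg.Agent.S2140P

open Matrix

namespace HEISa2

variable {m : ℕ} {F : Type*} [Field F] {G : Type*} [Group G]

section
variable (r : (Fin m → F) → (Fin m → F) → F → G)
  (hmul : ∀ a b z a' b' z', r a b z * r a' b' z' = r (a + a') (b + b') (z + z' + a ⬝ᵥ b'))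
  (hinj : ∀ a b z, r a b z = 1 → a = 0 ∧ b = 0 ∧ z = 0)

include hmul in
theorem r_zero : r 0 0 0 = 1 := by
  have h := hmul 0 0 0 0 0 0
  simp only [add_zero, zero_dotProduct] at h
  exact mul_eq_left.1 h

include hmul in
theorem r_inv (a b : Fin m → F) (z : F) : (r a b z)⁻¹ = r (-a) (-b) (-z + a ⬝ᵥ b) := by
  rw [inv_eq_iff_mul_eq_one, hmul]
  have h1 : a + -a = 0 := add_neg_cancel a
  have h2 : b + -b = 0 := add_neg_cancel b
  have h3 : z + (-z + a ⬝ᵥ b) + a ⬝ᵥ -b = 0 := by rw [dotProduct_neg]; ring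
  rw [h1, h2, h3, r_zero r hmul]

include hmul hinj in
theorem r_injective (a b : Fin m → F) (z : F) (a' b' : Fin m → F) (z' : F)
    (h : r a b z = r a' b' z') : a = a' ∧ b = b' ∧ z = z' := by
  have h1 : (r a b z)⁻¹ * r a' b' z' = 1 := by rw [h, inv_mul_cancel]
  rw [r_inv r hmul, hmul] at h1
  obtain ⟨ha, hb, hz⟩ := hinj _ _ _ h1
  have ha' : a = a' := by
    have := congrArg (fun t => a + t) ha
    simpa using this.symm
  have hb' : b = b' := by
    have := congrArg (fun t => b + t) hb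
    simpa using this.symm
  refine ⟨ha', hb', ?_⟩
  subst ha' hb'
  rw [neg_dotProduct] at hz
  linear_combination -hz

include hmul in
/-- conjugation inside the Heisenberg group only changes the last coordinate -/
theorem r_conj (a₀ b₀ : Fin m → F) (z₀ : F) (a b : Fin m → F) (z : F) :
    (r a₀ b₀ z₀)⁻¹ * r a b z * r a₀ b₀ z₀ = r a b (z + a ⬝ᵥ b₀ - a₀ ⬝ᵥ b) := by
  rw [mul_assoc, inv_mul_eq_iff_eq_mul, hmul, hmul]
  have h1 : a + a₀ = a₀ + a := add_comm _ _
  have h2 : b + b₀ = b₀ + b := add_comm _ _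
  have h3 : z + z₀ + a ⬝ᵥ b₀ = z₀ + (z + a ⬝ᵥ b₀ - a₀ ⬝ᵥ b) + a₀ ⬝ᵥ b := by ring
  rw [h1, h2, h3]

include hmul in
/-- the Heisenberg subgroup -/
def R : Subgroup G where
  carrier := {g | ∃ a b z, g = r a b z}
  mul_mem' := by
    rintro _ _ ⟨a, b, z, rfl⟩ ⟨a', b', z', rfl⟩
    exact ⟨_, _, _, hmul a b z a' b' z'⟩
  one_mem' := ⟨0, 0, 0, (r_zero r hmul).symm⟩
  inv_mem' := by
    rintro _ ⟨a, b, z, rfl⟩
    exact ⟨_, _, _, r_inv r hmul a b z⟩

end

end HEISa2

open HEISa2 in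
/-- HEISa2: the abstract counting argument. -/
theorem heis_abstract {m : ℕ} {F : Type*} [Field F] [Fintype F] {G : Type*} [Group G] {Ω : Type*}
    [MulAction G Ω] [Finite Ω] (hd : Nat.card Ω = (Fintype.card F) ^ (m + 1))
    (r : (Fin m → F) → (Fin m → F) → F → G)
    (hmul : ∀ a b z a' b' z', r a b z * r a' b' z' = r (a + a') (b + b') (z + z' + a ⬝ᵥ b'))
    (hinj : ∀ a b z, r a b z = 1 → a = 0 ∧ b = 0 ∧ z = 0)
    (hfree1 : ∀ a z (ω : Ω), r a 0 z • ω = ω → a = 0 ∧ z = 0)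
    (hfree2 : ∀ b z (ω : Ω), r 0 b z • ω = ω → b = 0 ∧ z = 0)
    (hlev : ∀ (l μ : F) (A : Matrix (Fin m) (Fin m) F), l * μ * A.det = 1 →
      ∃ h : G, ∀ a b z,
        h * r a b z * h⁻¹ = r (l • (a ᵥ* A⁻¹)) (μ⁻¹ • (A *ᵥ b)) (l * μ⁻¹ * z)) :
    HeisData m F := by
  classical
  have hqpos : 0 < Fintype.card F := Fintype.card_pos
  have hΩ : Nonempty Ω := by
    by_contra hcon
    rw [not_nonempty_iff] at hcon
    rw [Nat.card_of_isEmpty] at hd
    exact (pow_pos hqpos (m + 1)).ne hd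
  obtain ⟨ω⟩ := hΩ
  -- the parametrization
  let ρ : (Fin m → F) × (Fin m → F) × F → G := fun t => r t.1 t.2.1 t.2.2
  have hρinj : Function.Injective ρ := by
    rintro ⟨a, b, z⟩ ⟨a', b', z'⟩ h
    obtain ⟨h1, h2, h3⟩ := r_injective r hmul hinj a b z a' b' z' h
    rw [h1, h2, h3]
  have hRcard : Nat.card (R r hmul) = Fintype.card F ^ m * (Fintype.card F ^ m * Fintype.card F) := by
    have h1 : ((R r hmul : Subgroup G) : Set G) = Set.range ρ := by
      ext g
      constructor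
      · rintro ⟨a, b, z, rfl⟩; exact ⟨(a, b, z), rfl⟩
      · rintro ⟨⟨a, b, z⟩, rfl⟩; exact ⟨a, b, z, rfl⟩
    have h2 : Nat.card (R r hmul) = Nat.card (Set.range ρ) := by
      rw [← h1]; rfl
    rw [h2, Nat.card_range_of_injective hρinj, Nat.card_eq_fintype_card, Fintype.card_prod,
      Fintype.card_prod, Fintype.card_fun, Fintype.card_fin]
  -- orbit-stabilizer
  have hos : Nat.card (MulAction.stabilizer (R r hmul) ω) *
      (MulAction.orbit (R r hmul) ω).ncard = Nat.card (R r hmul) := by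
    rw [← MulAction.index_stabilizer]
    exact Subgroup.card_mul_index _
  have hole : (MulAction.orbit (R r hmul) ω).ncard ≤ Fintype.card F ^ (m + 1) := by
    rw [← hd]; exact Set.ncard_le_card _
  have hstab_ge : Fintype.card F ^ m ≤ Nat.card (MulAction.stabilizer (R r hmul) ω) := by
    have h1 : Fintype.card F ^ m * Fintype.card F ^ (m + 1) ≤
        Nat.card (MulAction.stabilizer (R r hmul) ω) * Fintype.card F ^ (m + 1) := by
      calc Fintype.card F ^ m * Fintype.card F ^ (m + 1)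
          = Nat.card (R r hmul) := by rw [hRcard, pow_succ]
        _ = Nat.card (MulAction.stabilizer (R r hmul) ω) *
              (MulAction.orbit (R r hmul) ω).ncard := hos.symm
        _ ≤ _ := Nat.mul_le_mul_left _ hole
    exact Nat.le_of_mul_le_mul_right h1 (pow_pos hqpos _)
  -- the stabilizing triples
  let S : Set ((Fin m → F) × (Fin m → F) × F) := {t | ρ t • ω = ω}
  have hScard : Nat.card S = Nat.card (MulAction.stabilizer (R r hmul) ω) := by
    refine Nat.card_eq_of_bijective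
      (fun t : S => (⟨⟨ρ t.1, ⟨t.1.1, t.1.2.1, t.1.2.2, rfl⟩⟩, t.2⟩ :
        MulAction.stabilizer (R r hmul) ω)) ⟨?_, ?_⟩
    · rintro ⟨t, ht⟩ ⟨t', ht'⟩ h
      have h1 : ρ t = ρ t' := congrArg (fun s : MulAction.stabilizer (R r hmul) ω => (s.1.1 : G)) h
      exact Subtype.ext (hρinj h1)
    · rintro ⟨⟨g, a, b, z, rfl⟩, hg⟩
      exact ⟨⟨(a, b, z), hg⟩, rfl⟩
  -- uniqueness
  have huniq : ∀ a b z a' z', r a b z • ω = ω → r a' b z' • ω = ω → a = a' ∧ z = z' := by
    intro a b z a' z' h1 h2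
    have h3 : ((r a b z)⁻¹ * r a' b z') • ω = ω := by
      rw [mul_smul, h2, inv_smul_eq_iff, h1]
    rw [r_inv r hmul, hmul, neg_add_cancel] at h3
    obtain ⟨h4, h5⟩ := hfree1 _ _ ω h3
    have h6 : (r a b z)⁻¹ * r a' b z' = 1 := by
      rw [r_inv r hmul, hmul, neg_add_cancel, h4, h5, r_zero r hmul]
    have h7 : r a b z = r a' b z' := by
      rw [inv_mul_eq_one] at h6; exact h6
    obtain ⟨e1, -, e3⟩ := r_injective r hmul hinj _ _ _ _ _ _ h7
    exact ⟨e1, e3⟩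
  have hπinj : Function.Injective (fun t : S => t.1.2.1) := by
    rintro ⟨⟨a, b, z⟩, ht⟩ ⟨⟨a', b', z'⟩, ht'⟩ h
    have hb : b = b' := h
    subst hb
    obtain ⟨e1, e3⟩ := huniq a b z a' z' ht ht'
    subst e1 e3
    rfl
  have hSle : Nat.card S ≤ Fintype.card F ^ m := by
    have := Nat.card_le_card_of_injective _ hπinj
    rwa [Nat.card_eq_fintype_card (α := Fin m → F), Fintype.card_fun, Fintype.card_fin] at this
  have hSeq : Nat.card S = Fintype.card F ^ m := le_antisymm hSle (hScard ▸ hstab_ge)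
  have hπbij : Function.Bijective (fun t : S => t.1.2.1) := by
    rw [Nat.bijective_iff_injective_and_card]
    refine ⟨hπinj, ?_⟩
    rw [hSeq, Nat.card_eq_fintype_card, Fintype.card_fun, Fintype.card_fin]
  have hex : ∀ b : Fin m → F, ∃ (a : Fin m → F) (z : F), r a b z • ω = ω := by
    intro b
    obtain ⟨⟨⟨a, b', z⟩, ht⟩, hb⟩ := hπbij.2 b
    have hb' : b' = b := hb
    subst hb'
    exact ⟨a, z, ht⟩
  choose θ ζ hθζ using hex
  -- transitivity
  have horb : MulAction.orbit (R r hmul) ω = Set.univ := by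
    rw [Set.eq_univ_iff_ncard, hd]
    have hst : Nat.card (MulAction.stabilizer (R r hmul) ω) = Fintype.card F ^ m :=
      hScard.symm.trans hSeq
    have h1 : Fintype.card F ^ m * (MulAction.orbit (R r hmul) ω).ncard =
        Fintype.card F ^ m * Fintype.card F ^ (m + 1) := by
      rw [← hst, hos, hRcard, hst, pow_succ]
    exact Nat.eq_of_mul_eq_mul_left (pow_pos hqpos m) h1
  -- the identities
  have hadd : ∀ b b', θ (b + b') = θ b + θ b' ∧ ζ (b + b') = ζ b + ζ b' + θ b ⬝ᵥ b' := by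
    intro b b'
    have h1 : r (θ b + θ b') (b + b') (ζ b + ζ b' + θ b ⬝ᵥ b') • ω = ω := by
      rw [← hmul, mul_smul, hθζ b', hθζ b]
    exact huniq _ _ _ _ _ (hθζ (b + b')) h1
  have hζ0 : ζ 0 = 0 := by
    have h1 : r 0 0 0 • ω = ω := by rw [r_zero r hmul, one_smul]
    exact (huniq _ _ _ _ _ (hθζ 0) h1).2
  refine ⟨θ, fun b b' => (hadd b b').1, ?_, ?_, ?_, ?_⟩
  · intro b hb
    have h1 := hθζ b
    rw [hb] at h1
    exact (hfree2 b (ζ b) ω h1).1
  · intro b b'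
    have h1 := (hadd b b').2
    have h2 := (hadd b' b).2
    rw [add_comm b' b] at h2
    rw [h1] at h2
    linear_combination h2
  · intro l μ A hlμ b
    obtain ⟨h, hh⟩ := hlev l μ A hlμ
    have hmem : h • ω ∈ MulAction.orbit (R r hmul) ω := by rw [horb]; trivial
    obtain ⟨⟨g₀, a₀, b₀, z₀, rfl⟩, hg₀⟩ := hmem
    have hg₀' : r a₀ b₀ z₀ • ω = h • ω := hg₀
    have hfix : ((r a₀ b₀ z₀)⁻¹ * h) • ω = ω := by
      rw [mul_smul, inv_smul_eq_iff, hg₀']
    have hfix' : ((r a₀ b₀ z₀)⁻¹ * h)⁻¹ • ω = ω := by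
      rw [inv_smul_eq_iff, hfix]
    have h1 : (((r a₀ b₀ z₀)⁻¹ * h) * r (θ b) b (ζ b) * ((r a₀ b₀ z₀)⁻¹ * h)⁻¹) • ω = ω := by
      rw [mul_smul, mul_smul, hfix', hθζ b, hfix]
    have h2 : ((r a₀ b₀ z₀)⁻¹ * h) * r (θ b) b (ζ b) * ((r a₀ b₀ z₀)⁻¹ * h)⁻¹ =
        (r a₀ b₀ z₀)⁻¹ * (h * r (θ b) b (ζ b) * h⁻¹) * r a₀ b₀ z₀ := by
      group
    rw [h2, hh, r_conj r hmul] at h1
    exact (huniq _ _ _ _ _ (hθζ _) h1).1
  · intro h2 b
    have h1 := (hadd b b).2
    have hbb : b + b = 0 := by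
      rw [← two_smul F b, h2, zero_smul]
    rw [hbb, hζ0] at h1
    have h3 : ζ b + ζ b = 0 := by rw [← two_mul, h2, zero_mul]
    rw [h3, zero_add] at h1
    exact h1.symm

end Cfsg.Agent.S2140P
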