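import Mathlib
import Cfsg.Agent.Lead.MinIdxHeisDefs

set_option autoImplicit false

/-! # S2140 piece HEISb: no `HeisData` unless `(m, q) = (2, 2)`. -/

namespace Cfsg.Agent.S2140P

open Matrix

namespace HEISb

variable {m : ℕ} {F : Type*} [Field F]

/-- the invariance of the form `B(b, b') = θ b ⬝ᵥ b'` -/
theorem form_inv (θ : (Fin m → F) → (Fin m → F))
    (h4 : ∀ (l μ : F) (A : Matrix (Fin m) (Fin m) F), l * μ * A.det = 1 →
      ∀ b, θ (μ⁻¹ • (A *ᵥ b)) = l • (θ b ᵥ* A⁻¹))
    (A : Matrix (Fin m) (Fin m) F) (hA : A.det ≠ 0) (b b' : Fin m → F) :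
    θ (A *ᵥ b) ⬝ᵥ (A *ᵥ b') = (A.det)⁻¹ * (θ b ⬝ᵥ b') := by
  have h := h4 (A.det)⁻¹ 1 A (by rw [mul_one, inv_mul_cancel₀ hA]) b
  rw [inv_one, one_smul] at h
  rw [h, smul_dotProduct, smul_eq_mul, ← dotProduct_mulVec, mulVec_mulVec,
    Matrix.nonsing_inv_mul _ (isUnit_iff_ne_zero.2 hA), one_mulVec]

/-- `θ` is homogeneous -/
theorem homog (θ : (Fin m → F) → (Fin m → F))
    (h4 : ∀ (l μ : F) (A : Matrix (Fin m) (Fin m) F), l * μ * A.det = 1 →
      ∀ b, θ (μ⁻¹ • (A *ᵥ b)) = l • (θ b ᵥ* A⁻¹))
    (c : F) (hc : c ≠ 0) (b : Fin m → F) : θ (c • b) = c • θ b := by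
  have h := h4 c c⁻¹ 1 (by rw [det_one, mul_one, mul_inv_cancel₀ hc]) b
  rw [inv_inv, one_mulVec, inv_one, vecMul_one] at h
  exact h

theorem transv_mulVec (i j : Fin m) (c : F) (b : Fin m → F) :
    (Matrix.transvection i j c) *ᵥ b = b + (c * b j) • Pi.single i 1 := by
  rw [Matrix.transvection, add_mulVec, one_mulVec, single_mulVec]
  congr 1
  ext a
  by_cases h : a = i
  · subst h; simp
  · simp [Function.update_of_ne h, Pi.single_eq_of_ne h]

theorem diag_det [DecidableEq (Fin m)] (i₀ : Fin m) (c : F) :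
    (Matrix.diagonal (Function.update (fun _ : Fin m => (1 : F)) i₀ c)).det = c := by
  rw [Matrix.det_diagonal, Finset.prod_update_of_mem (Finset.mem_univ i₀)]
  simp

theorem diag_mulVec (i₀ : Fin m) (c : F) (k : Fin m) :
    (Matrix.diagonal (Function.update (fun _ : Fin m => (1 : F)) i₀ c)) *ᵥ (Pi.single k 1) =
      (if k = i₀ then c else 1) • (Pi.single k (1 : F) : Fin m → F) := by
  ext a
  rw [Matrix.mulVec_diagonal]
  by_cases hak : a = k
  · subst hak
    by_cases h : a = i₀
    · subst h; simp
    · simp [h]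
  · simp [Pi.single_eq_of_ne hak]

end HEISb

open HEISb in
theorem heis_false {m : ℕ} {F : Type*} [Field F] [Fintype F] (hm : 1 ≤ m)
    (hexc : ¬ (m = 2 ∧ Fintype.card F = 2)) (h : HeisData m F) : False := by
  classical
  obtain ⟨θ, h1, h2, h3, h4, h5⟩ := h
  -- the matrix entries of the form
  have hT : ∀ i k : Fin m, θ (Pi.single i 1) ⬝ᵥ (Pi.single k 1) = θ (Pi.single i 1) k := by
    intro i k; rw [dotProduct_single_one]
  have hne : ∀ i : Fin m, (Pi.single i (1 : F) : Fin m → F) ≠ 0 := by
    intro i h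
    have := congrFun h i
    simp at this
  -- a nonzero row
  have hrow : ∀ i : Fin m, ∃ k : Fin m, θ (Pi.single i 1) k ≠ 0 := by
    intro i
    by_contra hcon
    push Not at hcon
    exact hne i (h2 _ (funext hcon))
  -- transvection facts
  have factA : ∀ i j k : Fin m, i ≠ j → k ≠ j → θ (Pi.single i 1) k = 0 := by
    intro i j k hij hkj
    have hdet : (Matrix.transvection i j (1 : F)).det = 1 := Matrix.det_transvection_of_ne i j hij 1
    have hA1 : (Matrix.transvection i j (1 : F)) *ᵥ (Pi.single j 1) =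
        (Pi.single j 1 : Fin m → F) + Pi.single i 1 := by
      rw [transv_mulVec]; simp
    have hA2 : (Matrix.transvection i j (1 : F)) *ᵥ (Pi.single k 1) =
        (Pi.single k 1 : Fin m → F) := by
      rw [transv_mulVec]; simp [Pi.single_eq_of_ne hkj.symm]
    have h := form_inv θ h4 (Matrix.transvection i j (1 : F)) (by rw [hdet]; exact one_ne_zero)
      (Pi.single j 1) (Pi.single k 1)
    rw [hA1, hA2, hdet, inv_one, one_mul, h1, add_dotProduct, hT, hT] at h
    exact add_eq_left.1 h
  have factB : ∀ i j : Fin m, i ≠ j →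
      θ (Pi.single j 1) i + θ (Pi.single i 1) j + θ (Pi.single i 1) i = 0 := by
    intro i j hij
    have hdet : (Matrix.transvection i j (1 : F)).det = 1 := Matrix.det_transvection_of_ne i j hij 1
    have hA1 : (Matrix.transvection i j (1 : F)) *ᵥ (Pi.single j 1) =
        (Pi.single j 1 : Fin m → F) + Pi.single i 1 := by
      rw [transv_mulVec]; simp
    have h := form_inv θ h4 (Matrix.transvection i j (1 : F)) (by rw [hdet]; exact one_ne_zero)
      (Pi.single j 1) (Pi.single j 1)
    rw [hA1, hdet, inv_one, one_mul, h1, add_dotProduct, dotProduct_add, dotProduct_add,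
      hT, hT, hT, hT] at h
    linear_combination h
  have hsymm : ∀ i k : Fin m, θ (Pi.single i 1) k = θ (Pi.single k 1) i := by
    intro i k
    rw [← hT, ← hT, h3]
  -- case distinction on m
  rcases Nat.lt_or_ge m 3 with hm3 | hm3
  · -- m = 1 or m = 2
    have hm12 : m = 1 ∨ m = 2 := by omega
    rcases hm12 with rfl | rfl
    · -- m = 1
      set t := θ (Pi.single (0 : Fin 1) 1) (0 : Fin 1) with ht
      have ht0 : t ≠ 0 := by
        obtain ⟨k, hk⟩ := hrow 0
        have : k = 0 := Subsingleton.elim _ _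
        rw [this] at hk; exact hk
      have hcube : ∀ c : F, c ≠ 0 → c * c * t = c⁻¹ * t := by
        intro c hc
        have h := form_inv θ h4 _ (by rw [diag_det (0 : Fin 1) c]; exact hc)
          (Pi.single (0 : Fin 1) 1) (Pi.single (0 : Fin 1) 1)
        rw [diag_mulVec, if_pos rfl, diag_det, homog θ h4 c hc, smul_dotProduct, dotProduct_smul,
          hT, smul_eq_mul, smul_eq_mul] at h
        rw [← h]; ring
      have h2F : (2 : F) = 0 := by
        have h := hcube (-1) (by simp)
        have h' : (-1 : F) * -1 * t = (-1)⁻¹ * t := h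
        rw [inv_neg_one] at h'
        have h'' : (2 : F) * t = 0 := by linear_combination h'
        rcases mul_eq_zero.1 h'' with h0 | h0
        · exact h0
        · exact absurd h0 ht0
      apply ht0
      have := h5 h2F (Pi.single (0 : Fin 1) 1)
      rw [hT] at this
      exact this
    · -- m = 2
      have h00 : θ (Pi.single (0 : Fin 2) 1) (0 : Fin 2) = 0 := factA 0 1 0 (by decide) (by decide)
      have h11 : θ (Pi.single (1 : Fin 2) 1) (1 : Fin 2) = 0 := factA 1 0 1 (by decide) (by decide)
      set t := θ (Pi.single (0 : Fin 2) 1) (1 : Fin 2) with ht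
      have ht0 : t ≠ 0 := by
        obtain ⟨k, hk⟩ := hrow 0
        fin_cases k
        · exact absurd h00 hk
        · exact hk
      have h2t : (2 : F) * t = 0 := by
        have := factB 0 1 (by decide)
        rw [hsymm 1 0, h00] at this
        linear_combination this
      have h2F : (2 : F) = 0 := by
        rcases mul_eq_zero.1 h2t with h0 | h0
        · exact h0
        · exact absurd h0 ht0
      have hsq : ∀ c : F, c ≠ 0 → c = 1 := by
        intro c hc
        have h := form_inv θ h4 _ (by rw [diag_det (0 : Fin 2) c]; exact hc)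
          (Pi.single (0 : Fin 2) 1) (Pi.single (1 : Fin 2) 1)
        rw [diag_mulVec, diag_mulVec, if_pos rfl, if_neg (by decide), one_smul, diag_det,
          homog θ h4 c hc, smul_dotProduct, hT, smul_eq_mul] at h
        -- c * t = c⁻¹ * t
        have hc2 : c * c = 1 := by
          have h' : c * t = c⁻¹ * t := h
          have h'' : c = c⁻¹ := mul_right_cancel₀ ht0 h'
          calc c * c = c * c⁻¹ := by rw [← h'']
            _ = 1 := mul_inv_cancel₀ hc
        have h3' : (c - 1) * (c - 1) = 0 := by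
          have : (c - 1) * (c - 1) = c * c - 2 * c + 1 := by ring
          rw [this, hc2, h2F]; ring_nf
          linear_combination h2F
        have := mul_self_eq_zero.1 h3'
        exact sub_eq_zero.1 this
      apply hexc
      refine ⟨rfl, ?_⟩
      rw [← Nat.card_eq_fintype_card, Nat.card_eq_two_iff]
      refine ⟨0, 1, zero_ne_one, ?_⟩
      ext c
      simp only [Set.mem_univ, Set.mem_insert_iff, Set.mem_singleton_iff, iff_true]
      by_cases hc : c = 0
      · exact Or.inl hc
      · exact Or.inr (hsq c hc)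
  · -- m ≥ 3: the form vanishes
    obtain ⟨k, hk⟩ := hrow ⟨0, by omega⟩
    apply hk
    obtain ⟨j, hj1, hj2⟩ : ∃ j : Fin m, (⟨0, by omega⟩ : Fin m) ≠ j ∧ k ≠ j := by
      by_contra hcon
      push Not at hcon
      have a0 := hcon ⟨0, by omega⟩
      have a1 := hcon ⟨1, by omega⟩
      have a2 := hcon ⟨2, by omega⟩
      simp only [ne_eq, Fin.ext_iff] at a0 a1 a2
      omega
    exact factA _ j k hj1 hj2

end Cfsg.Agent.S2140P
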