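import Mathlib

/-!
S2279 piece SP (driver helper4): abstract polynomial lemma.
If `q = X² - (2+s4) X + 1` divides `X^M - 1`, `(T-1) q(T) = -(s3 s4) E` and `(T-1) E = 0`, then
`T^M = 1 + (M s3) E`.
-/

set_option autoImplicit false

namespace Cfsg.Agent.Lead.RU2

open Matrix Polynomial

variable {F : Type*} [Field F]

theorem pow_eq_of_dvd {ι : Type*} [Fintype ι] [DecidableEq ι] (T E : Matrix ι ι F) (s3 s4 : F)
    (M : ℕ) (hs4 : s4 ≠ 0)
    (hZ : (T - 1) * (T * T - (2 + s4) • T + 1) = (-(s3 * s4)) • E)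
    (hDE : (T - 1) * E = 0)
    (hdiv : (X ^ 2 - C (2 + s4) * X + 1 : F[X]) ∣ X ^ M - 1) :
    T ^ M = 1 + ((M : F) * s3) • E := by
  classical
  set q : F[X] := X ^ 2 - C (2 + s4) * X + 1 with hq
  obtain ⟨g, hg⟩ := hdiv
  have hq1 : q.eval 1 = -s4 := by
    simp only [hq, eval_add, eval_sub, eval_pow, eval_X, eval_mul, eval_C, eval_one]
    ring
  have hg1 : g.eval 1 = 0 := by
    have h := congrArg (fun p => Polynomial.eval (1 : F) p) hg
    simp only [eval_sub, eval_pow, eval_X, eval_one, one_pow, sub_self, eval_mul, hq1] at h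
    have h' : -s4 ≠ 0 := neg_ne_zero.mpr hs4
    rcases mul_eq_zero.mp h.symm with h0 | h0
    · exact absurd h0 h'
    · exact h0
  obtain ⟨g1, hg1'⟩ : (X - C (1 : F)) ∣ g := dvd_iff_isRoot.mpr hg1
  -- derivative at 1
  have hder : (M : F) = -s4 * g1.eval 1 := by
    have h := congrArg (fun p => Polynomial.eval (1 : F) (derivative p)) hg
    rw [hg1'] at h
    simp only [derivative_sub, derivative_X_pow, derivative_one, sub_zero, derivative_mul,
      derivative_X, derivative_C, eval_add, eval_mul, eval_sub, eval_X, eval_C, eval_pow,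
      one_pow, mul_one, sub_self, zero_mul, mul_zero, add_zero, zero_add, hq1,
      eval_natCast, one_mul] at h
    exact h
  set a : F := g1.eval 1 with ha
  obtain ⟨g2, hg2⟩ : (X - C (1 : F)) ∣ g1 - C a := Polynomial.X_sub_C_dvd_sub_C_eval
  have hg1'' : g1 = C a + (X - C 1) * g2 := by rw [← hg2]; ring
  set P : F[X] := (X - C 1) * q with hP
  have hpoly : (X ^ M - 1 : F[X]) = C a * P + (X - C 1) * P * g2 := by
    rw [hg, hg1', hg1'', hP]; ring
  -- evaluate at T
  have hPT : Polynomial.aeval T P = (-(s3 * s4)) • E := by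
    rw [← hZ, hP, hq]
    simp only [map_mul, map_sub, map_add, map_pow, aeval_X, aeval_C, map_one,
      Algebra.algebraMap_eq_smul_one, one_smul, pow_two, smul_mul_assoc, one_mul]
    rw [← add_smul, smul_mul_assoc, one_mul]
  have hXT : Polynomial.aeval T (X - C (1 : F)) = T - 1 := by
    simp [Algebra.algebraMap_eq_smul_one]
  have h := congrArg (fun p => Polynomial.aeval T p) hpoly
  simp only [map_sub, map_pow, aeval_X, map_one, map_add, map_mul, aeval_C, hPT, hXT,
    Algebra.algebraMap_eq_smul_one, smul_mul_assoc, one_mul] at h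
  have h0 : (T - 1) * (-(s3 * s4)) • E = 0 := by
    rw [Matrix.mul_smul, hDE, smul_zero]
  rw [h0, zero_mul, add_zero, smul_smul] at h
  have hcoef : a * -(s3 * s4) = (M : F) * s3 := by
    rw [hder]; ring
  rw [hcoef] at h
  rw [← h]; abel

end Cfsg.Agent.Lead.RU2
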