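import Mathlib
import Cfsg.Agent.Helper4.RU2Defs

/-! S2279 piece TW (driver helper4): `w * T' = u`. -/

set_option autoImplicit false

namespace Cfsg.Agent.Lead.RU2

open Matrix Polynomial
open Cfsg.Agent.Helper12.TVG Cfsg.Agent.Helper12.RUN Cfsg.Agent.Helper4.RU2

variable {F : Type*} [Field F] {m : ℕ}

theorem wM_mul_TpM (s3 s4 : F) : wM m s3 s4 * TpM m s3 s4 = uM (m + 4) F := by
  rw [Matrix.ext_iff_mulVec]
  intro v
  rw [← mulVec_mulVec]
  funext i
  rw [wM_mulVec_apply, uM_mulVec_apply]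
  simp only [TpM_mulVec_apply, j0_val, j1_val, j2_val, jL_val, jB_val, Fin.ext_iff]
  have h3 : ¬ (1 = m + 3) := by omega
  have h4 : ¬ (0 = m + 3) := by omega
  have h5 : ¬ ((0 : ℕ) = 1) := by omega
  have h6 : ¬ ((1 : ℕ) = 0) := by omega
  simp only [h3, h4, h5, h6, if_false, if_true, add_zero]
  rcases i with ⟨i, hi⟩
  simp only
  obtain rfl | rfl | h2 : i = 0 ∨ i = 1 ∨ 2 ≤ i := by omega
  · have a1 : ¬ (0 = m + 2) := by omega
    simp [j1, h4, a1]
  · have a1 : ¬ (1 = m + 2) := by omega
    simp [j0, j1, j2, h3, a1]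
    ring
  · have a0 : ¬ i = 0 := by omega
    have a1 : ¬ i = 1 := by omega
    have b0 : ¬ i + 1 = 0 := by omega
    have b1 : ¬ i + 1 = 1 := by omega
    simp only [a0, a1, b0, b1, if_false, add_zero]
    by_cases c : i + 1 < m + 4
    · have c' : 2 ≤ i ∧ i + 1 < m + 4 := ⟨h2, c⟩
      have c3 : ¬ i = m + 3 := by omega
      rw [dif_pos c', dif_pos c]
      simp only [c3, if_false, add_zero, false_or]
      by_cases d : i = m + 2
      · have d' : i + 1 = m + 3 := by omega
        simp only [d, d', if_true]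
        ring
      · have d' : ¬ i + 1 = m + 3 := by omega
        simp only [d, d', if_false, add_zero]
    · have c' : ¬ (2 ≤ i ∧ i + 1 < m + 4) := fun h => c h.2
      have c3 : i = m + 3 := by omega
      rw [dif_neg c', dif_neg c]
      simp only [c3, if_true, true_or, add_zero]
      ring

end Cfsg.Agent.Lead.RU2
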