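import Mathlib
import Cfsg.Agent.Helper4.RU2Defs

/-! S2279 piece ZI (driver helper4): two matrix identities for `T'`. -/

set_option autoImplicit false

namespace Cfsg.Agent.Lead.RU2

open Matrix Polynomial
open Cfsg.Agent.Helper12.TVG Cfsg.Agent.Helper12.RUN Cfsg.Agent.Helper4.RU2

variable {F : Type*} [Field F] {m : ℕ}

theorem TpM_sub_one_mulVec_apply (s3 s4 : F) (v : Fin (m + 4) → F) (i : Fin (m + 4)) :
    ((TpM m s3 s4 - 1) *ᵥ v) i =
      (if i.val = 0 then v (j1 m) else 0)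
      + (if i.val = 1 then v (j2 m) + s4 * v (j0 m) + s4 * v (j1 m) else 0)
      + (if i = jL m then s3 * v (j1 m) + s3 * v (j2 m) else 0) := by
  rw [sub_mulVec, one_mulVec, Pi.sub_apply, TpM_mulVec_apply]
  ring

theorem TpM_quad_mulVec (s3 s4 : F) (v : Fin (m + 4) → F) :
    (TpM m s3 s4 * TpM m s3 s4 - (2 + s4) • TpM m s3 s4 + 1) *ᵥ v =
      TpM m s3 s4 *ᵥ (TpM m s3 s4 *ᵥ v) - (2 + s4) • (TpM m s3 s4 *ᵥ v) + v := by
  rw [add_mulVec, sub_mulVec, one_mulVec, smul_mulVec, mulVec_mulVec]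

theorem TpM_Z (s3 s4 : F) :
    (TpM m s3 s4 - 1) * (TpM m s3 s4 * TpM m s3 s4 - (2 + s4) • TpM m s3 s4 + 1)
      = (-(s3 * s4)) • vecMulVec (ev m (m + 3) 1) (ev m 2 1) := by
  rw [Matrix.ext_iff_mulVec]
  intro v
  rw [← mulVec_mulVec, TpM_quad_mulVec]
  have h03 : ¬ (0 = m + 3) := by omega
  have h13 : ¬ (1 = m + 3) := by omega
  have h23 : ¬ (2 = m + 3) := by omega
  have h01 : ¬ ((0 : ℕ) = 1) := by omega
  have h10 : ¬ ((1 : ℕ) = 0) := by omega
  have h20 : ¬ ((2 : ℕ) = 0) := by omega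
  have h21 : ¬ ((2 : ℕ) = 1) := by omega
  set y := TpM m s3 s4 *ᵥ (TpM m s3 s4 *ᵥ v) - (2 + s4) • (TpM m s3 s4 *ᵥ v) + v with hy
  have hy0 : y (j0 m) = v (j2 m) := by
    simp only [hy, Pi.add_apply, Pi.sub_apply, Pi.smul_apply, smul_eq_mul, TpM_mulVec_apply,
      j0_val, j1_val, j2_val, jL_val, Fin.ext_iff, h03, h13, h23, h01, h10, h20, h21,
      if_true, if_false, add_zero]
    ring
  have hy1 : y (j1 m) = 0 := by
    simp only [hy, Pi.add_apply, Pi.sub_apply, Pi.smul_apply, smul_eq_mul, TpM_mulVec_apply,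
      j0_val, j1_val, j2_val, jL_val, Fin.ext_iff, h03, h13, h23, h01, h10, h20, h21,
      if_true, if_false, add_zero]
    ring
  have hy2 : y (j2 m) = -s4 * v (j2 m) := by
    simp only [hy, Pi.add_apply, Pi.sub_apply, Pi.smul_apply, smul_eq_mul, TpM_mulVec_apply,
      j0_val, j1_val, j2_val, jL_val, Fin.ext_iff, h03, h13, h23, h01, h10, h20, h21,
      if_true, if_false, add_zero]
    ring
  funext i
  rw [TpM_sub_one_mulVec_apply, hy0, hy1, hy2, smul_mulVec, vecMulVec_mulVec]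
  simp only [Pi.smul_apply, MulOpposite.smul_eq_mul_unop, MulOpposite.unop_op, smul_eq_mul,
    ev_apply, Fin.ext_iff, jL_val]
  have hdot : (ev m 2 (1 : F)) ⬝ᵥ v = v (j2 m) := by
    simp only [dotProduct, ev_apply]
    have := sum_ite_val_eq v 2 (1 : F)
    simp only [one_mul] at this
    rw [this, dif_pos (by omega : 2 < m + 4)]
    rfl
  rw [hdot]
  split_ifs <;> first | (exfalso; omega) | ring

theorem TpM_sub_one_mul_E (s3 s4 : F) :
    (TpM m s3 s4 - 1) * vecMulVec (ev m (m + 3) (1 : F)) (ev m 2 1) = 0 := by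
  rw [mul_vecMulVec]
  have h : (TpM m s3 s4 - 1) *ᵥ ev m (m + 3) (1 : F) = 0 := by
    funext i
    rw [TpM_sub_one_mulVec_apply]
    have h03 : ¬ (0 = m + 3) := by omega
    have h13 : ¬ (1 = m + 3) := by omega
    have h23 : ¬ (2 = m + 3) := by omega
    simp only [ev_apply, j0_val, j1_val, j2_val, h03, h13, h23, if_false, mul_zero, add_zero,
      ite_self, Pi.zero_apply]
  rw [h]
  ext i j
  simp [vecMulVec_apply]

end Cfsg.Agent.Lead.RU2
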