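import Mathlib

set_option autoImplicit false

namespace Cfsg.Agent.S3556P

/-- Lemma A: under `hder`, no derangement commutes with an element of prime order `s ≠ p`. -/
theorem LEMA {G Ω : Type*} [Group G] [Finite G] [MulAction G Ω] (p : ℕ) (hp : p.Prime)
    (hder : ∀ g : G, (∀ ω : Ω, g • ω ≠ ω) → ∃ k : ℕ, orderOf g = p ^ k)
    (t u : G) (ht : ∀ ω : Ω, t • ω ≠ ω) (hc : Commute t u) (s : ℕ) (hs : s.Prime) (hsp : s ≠ p)
    (hu : orderOf u = s) : False := by
  obtain ⟨k, hk⟩ := hder t ht
  have hcop : Nat.Coprime s (orderOf t) := by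
    rw [hk]
    exact Nat.Coprime.pow_right k ((Nat.coprime_primes hs hp).mpr hsp)
  obtain ⟨m, hm⟩ := exists_pow_eq_self_of_coprime hcop
  have hus : u ^ s = 1 := by rw [← hu]; exact pow_orderOf_eq_one u
  have hpow : (t * u) ^ s = t ^ s := by
    rw [hc.mul_pow, hus, mul_one]
  have hder' : ∀ ω : Ω, (t * u) • ω ≠ ω := by
    intro ω hfix
    have h1 : ((t * u) ^ s) • ω = ω := by
      have : ∀ n : ℕ, ((t * u) ^ n) • ω = ω := by
        intro n
        induction n with
        | zero => simp
        | succ n ih => rw [pow_succ, mul_smul, hfix, ih]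
      exact this s
    rw [hpow] at h1
    have h2 : ((t ^ s) ^ m) • ω = ω := by
      have : ∀ n : ℕ, ((t ^ s) ^ n) • ω = ω := by
        intro n
        induction n with
        | zero => simp
        | succ n ih => rw [pow_succ, mul_smul, h1, ih]
      exact this m
    rw [hm] at h2
    exact ht ω h2
  obtain ⟨k', hk'⟩ := hder (t * u) hder'
  have hord : orderOf (t * u) = orderOf t * orderOf u :=
    hc.orderOf_mul_eq_mul_orderOf_of_coprime (by rw [hu]; exact hcop.symm)
  rw [hord, hk, hu] at hk'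
  have hdvd : s ∣ p ^ k' := ⟨p ^ k, by rw [← hk', mul_comm]⟩
  have := (Nat.prime_dvd_prime_iff_eq hs hp).mp (hs.dvd_of_dvd_pow hdvd)
  exact hsp this

end Cfsg.Agent.S3556P
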