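import Cfsg.Agent.Lead.S3590ATR
import Cfsg.Agent.Lead.S3589U2P
import Cfsg.Agent.Helper18.S3589U2M

/-! S3590 piece AU2 (driver helper5; lead): the affine involutions of the two planes. -/

set_option autoImplicit false

namespace Cfsg.Agent.S3590P

open Module Polynomial Matrix
open Cfsg.Agent.S5973P Cfsg.Agent.S3589P
open scoped Classical

noncomputable section

namespace AU2

/-- `nsum y (n * i) = i • nsum y n` when `y ^ n = 1` -/
theorem nsum_mul {R : Type*} [Semiring R] (y : R) (n : ℕ) (hy : y ^ n = 1) (i : ℕ) :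
    nsum y (n * i) = i • nsum y n := by
  induction i with
  | zero => simp [nsum]
  | succ i ih =>
    rw [Nat.mul_succ, succ_nsmul, ← ih]
    unfold nsum
    rw [Finset.sum_range_add]
    congr 1
    apply Finset.sum_congr rfl
    intro k _
    rw [pow_add, pow_mul, hy, one_pow, one_mul]

/-- the general affine-order computation: `y` of order `n`, `nsum y n v ≠ 0`, characteristic 2 -/
theorem ord_iff {F : Type*} [Field F] [CharP F 2] {V : Type*} [AddCommGroup V] [Module F V]
    (y : Module.End F V) (n : ℕ) (hn : orderOf y = n) (v : V) (hv : nsum y n v ≠ 0) (j : ℕ) :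
    (y ^ j = 1 ∧ (nsum y j) v = 0) ↔ 2 * n ∣ j := by
  have hyn : y ^ n = 1 := by rw [← hn]; exact pow_orderOf_eq_one y
  constructor
  · rintro ⟨h1, h2⟩
    have hd : n ∣ j := by rw [← hn]; exact orderOf_dvd_of_pow_eq_one h1
    obtain ⟨i, rfl⟩ := hd
    rw [nsum_mul y n hyn i] at h2
    rw [LinearMap.smul_apply] at h2
    rw [← Nat.cast_smul_eq_nsmul F] at h2
    rcases smul_eq_zero.mp h2 with h | h
    · have : 2 ∣ i := (CharP.cast_eq_zero_iff F 2 i).mp h
      rw [mul_comm 2 n]
      exact Nat.mul_dvd_mul_left n this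
    · exact absurd h hv
  · rintro ⟨i, rfl⟩
    constructor
    · rw [mul_comm 2 n, mul_assoc, pow_mul, hyn, one_pow]
    · rw [mul_comm 2 n, mul_assoc, nsum_mul y n hyn (2 * i), LinearMap.smul_apply,
        ← Nat.cast_smul_eq_nsmul F]
      have : ((2 * i : ℕ) : F) = 0 := (CharP.cast_eq_zero_iff F 2 (2 * i)).mpr (Dvd.intro i rfl)
      rw [this, zero_smul]

/-- with `v = 0` the affine order is the order -/
theorem ord_iff_zero {F : Type*} [Field F] {V : Type*} [AddCommGroup V] [Module F V]
    (y : Module.End F V) (n : ℕ) (hn : orderOf y = n) (j : ℕ) :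
    (y ^ j = 1 ∧ (nsum y j) (0 : V) = 0) ↔ n ∣ j := by
  rw [map_zero, ← hn, orderOf_dvd_iff_pow_eq_one]
  exact and_iff_left rfl

/-- not even, as an `iff` with `false = true` -/
theorem iff_false_of_eq_one {n : ℕ} (h : n = 1) : Even n ↔ false = true := by
  subst h
  constructor
  · intro h; exact absurd h (by decide)
  · intro h; exact absurd h (by decide)

theorem sw_sub_one_apply (F : Type*) [Field F] (v : Fin 1 ⊕ Fin 1 → F) :
    (U2P.sw F - 1) v = (v (Sum.inr 0) - v (Sum.inl 0)) •
      (fun k : Fin 1 ⊕ Fin 1 => if k = Sum.inl 0 then (1 : F) else -1) := by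
  funext k
  rw [LinearMap.sub_apply, Module.End.one_apply, Pi.sub_apply, U2P.sw_apply, Pi.smul_apply,
    smul_eq_mul]
  rcases k with i | i <;> fin_cases i
  · simp
  · simp

theorem finrank_range_sw (F : Type*) [Field F] :
    finrank F (LinearMap.range (U2P.sw F - 1)) = 1 := by
  have hw : (fun k : Fin 1 ⊕ Fin 1 => if k = Sum.inl 0 then (1 : F) else -1) ≠ 0 := by
    intro h
    have := congrFun h (Sum.inl 0)
    simp at this
  have : LinearMap.range (U2P.sw F - 1) =
      Submodule.span F {(fun k : Fin 1 ⊕ Fin 1 => if k = Sum.inl 0 then (1 : F) else -1)} := by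
    apply le_antisymm
    · rintro _ ⟨v, rfl⟩
      rw [sw_sub_one_apply]
      exact Submodule.smul_mem _ _ (Submodule.mem_span_singleton_self _)
    · rw [Submodule.span_singleton_le_iff_mem]
      refine ⟨Pi.single (Sum.inr 0) 1, ?_⟩
      rw [sw_sub_one_apply]
      simp
  rw [this]
  exact finrank_span_singleton hw

theorem yU_sub_one_apply {F : Type*} [Field F] (a : F) (v : U2M.Idx → F) :
    (U2M.yU a - 1) v = (a * v (Sum.inr 1)) • (Pi.single (Sum.inr 0) (1 : F) : U2M.Idx → F) := by
  funext k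
  rw [LinearMap.sub_apply, Module.End.one_apply, Pi.sub_apply, Pi.smul_apply, smul_eq_mul]
  rcases k with k | k
  · rcases k with k | k <;> exact k.elim0
  · fin_cases k
    · show U2M.yU a v (Sum.inr 0) - v (Sum.inr 0) =
        a * v (Sum.inr 1) * (Pi.single (Sum.inr 0 : U2M.Idx) (1 : F) : U2M.Idx → F) (Sum.inr 0)
      rw [U2M.yU_apply0, Pi.single_eq_same]
      ring
    · show U2M.yU a v (Sum.inr 1) - v (Sum.inr 1) =
        a * v (Sum.inr 1) * (Pi.single (Sum.inr 0 : U2M.Idx) (1 : F) : U2M.Idx → F) (Sum.inr 1)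
      rw [U2M.yU_apply1]
      have : (Pi.single (Sum.inr 0 : U2M.Idx) (1 : F) : U2M.Idx → F) (Sum.inr 1) = 0 :=
        Pi.single_eq_of_ne (by decide) _
      rw [this]
      simp

theorem finrank_range_yU {F : Type*} [Field F] {a : F} (ha : a ≠ 0) :
    finrank F (LinearMap.range (U2M.yU a - 1)) = 1 := by
  have hw : (Pi.single (Sum.inr 0) (1 : F) : U2M.Idx → F) ≠ 0 := by
    intro h
    have := congrFun h (Sum.inr 0)
    simp at this
  have : LinearMap.range (U2M.yU a - 1) =
      Submodule.span F {(Pi.single (Sum.inr 0) (1 : F) : U2M.Idx → F)} := by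
    apply le_antisymm
    · rintro _ ⟨v, rfl⟩
      rw [yU_sub_one_apply]
      exact Submodule.smul_mem _ _ (Submodule.mem_span_singleton_self _)
    · rw [Submodule.span_singleton_le_iff_mem]
      refine ⟨Pi.single (Sum.inr 1) a⁻¹, ?_⟩
      rw [yU_sub_one_apply, Pi.single_eq_same, mul_inv_cancel₀ ha, one_smul]
  rw [this]
  exact finrank_span_singleton hw

theorem nsum_two {R : Type*} [Semiring R] (y : R) : nsum y 2 = 1 + y := by
  unfold nsum
  rw [Finset.sum_range_succ, Finset.sum_range_one, pow_zero, pow_one]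

end AU2

open AU2

/-- AU2 (M; uses the transport lemma, here `ATR.ablock_of_space`): the involutions of the two planes (`rank (u - 1) = 1`, Dickson invariant
odd), and the affine swap of order 4. -/
theorem hasABlock_u2 {F : Type*} [Field F] [Fintype F] [CharP F 2] :
    HasABlock F 1 true 2 false ∧ HasABlock F 1 false 2 false ∧ HasABlock F 1 true 4 false := by
  have hstd := Cfsg.Agent.S5973P.std_plus (F := F) 1
  have hosw : orderOf (U2P.sw F) = 2 := orderOf_eq_prime (U2P.sw_sq F) (U2P.sw_ne_one F)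
  have hdim : finrank F (Fin 1 ⊕ Fin 1 → F) = 2 * 1 := by
    rw [Module.finrank_pi]; simp
  refine ⟨?_, ?_, ?_⟩
  · refine ATR.ablock_of_space (Cfsg.Agent.Helper28.Spin.QfPlus 1 F) (U2P.sw F) 0 1 true 2 false
      hstd.1 hdim ⟨fun _ => rfl, fun _ => hstd.2⟩ (U2P.sw_isom F)
      (iff_false_of_eq_one (finrank_range_sw F)) ?_
    intro j
    exact ord_iff_zero (U2P.sw F) 2 hosw j
  · obtain ⟨a, b, hab⟩ := Cfsg.Agent.Helper28.LB.exists_aniso_binary (K := F)
    have h2 : (2 : F) = 0 := U2M.two_eq_zero'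
    have ha : a ≠ 0 := by
      intro ha
      obtain ⟨s, hs⟩ := FiniteField.isSquare_of_char_two
        (CharP.ringChar_of_prime_eq_zero Nat.prime_two h2) b
      have h := hab s 1 (by rw [ha, hs]; linear_combination (s * s) * h2)
      exact one_ne_zero h.2
    obtain ⟨hnd, hnh⟩ := std_minus (F := F) 0 a b hab
    have ho : orderOf (U2M.yU a) = 2 := orderOf_eq_prime (U2M.yU_sq a) (U2M.yU_ne_one ha)
    refine ATR.ablock_of_space (Cfsg.Agent.Helper28.Spin.QfMinus 0 F a b) (U2M.yU a) 0 1 false 2
      false hnd ?_ ?_ (U2M.yU_iso a b) (iff_false_of_eq_one (finrank_range_yU ha)) ?_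
    · rw [Module.finrank_pi]
      simp
    · constructor
      · intro h; exact absurd h hnh
      · intro h; exact absurd h (by decide)
    · intro j
      exact ord_iff_zero (U2M.yU a) 2 ho j
  · refine ATR.ablock_of_space (Cfsg.Agent.Helper28.Spin.QfPlus 1 F) (U2P.sw F)
      (Pi.single (Sum.inl 0) 1) 1 true 4 false
      hstd.1 hdim ⟨fun _ => rfl, fun _ => hstd.2⟩ (U2P.sw_isom F)
      (iff_false_of_eq_one (finrank_range_sw F)) ?_
    intro j
    refine ord_iff (U2P.sw F) 2 hosw (Pi.single (Sum.inl 0) 1) ?_ j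
    rw [nsum_two]
    intro h
    have := congrFun h (Sum.inr 0)
    rw [LinearMap.add_apply, Module.End.one_apply, Pi.add_apply, U2P.sw_apply] at this
    simp at this

end

end Cfsg.Agent.S3590P
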