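import Cfsg.Agent.Lead.S3590AU2
import Cfsg.Agent.Lead.S3589U4P

/-! S3590 piece AU4 (driver helper5; lead): the affine Jordan block of order 8 on `O_4^+`. -/

set_option autoImplicit false
set_option linter.unusedSimpArgs false

namespace Cfsg.Agent.S3590P

open Module Polynomial Matrix
open Cfsg.Agent.S5973P Cfsg.Agent.S3589P
open scoped Classical

noncomputable section

namespace AU4

variable (F : Type*) [Field F]

theorem sub_one_apply (v : Fin 2 ⊕ Fin 2 → F) : (U4P.u F - 1) v = U4P.uf F v - v := by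
  rw [LinearMap.sub_apply, Module.End.one_apply, U4P.u_apply]

/-- the kernel of `u - 1` is the line spanned by the first basis vector -/
theorem ker_eq : LinearMap.ker (U4P.u F - 1) =
    Submodule.span F {(Pi.single (Sum.inl 0) (1 : F) : Fin 2 ⊕ Fin 2 → F)} := by
  apply le_antisymm
  · intro v hv
    rw [LinearMap.mem_ker, sub_one_apply] at hv
    have h0 := congrFun hv (Sum.inl 0)
    have h1 := congrFun hv (Sum.inl 1)
    have h3 := congrFun hv (Sum.inr 1)
    rw [Pi.sub_apply, U4P.uf_l0, Pi.zero_apply] at h0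
    rw [Pi.sub_apply, U4P.uf_l1, Pi.zero_apply] at h1
    rw [Pi.sub_apply, U4P.uf_r1, Pi.zero_apply] at h3
    have hx1 : v (Sum.inl 1) = 0 := by linear_combination h0
    have hy1 : v (Sum.inr 1) = 0 := by linear_combination hx1 - h3
    have hy0 : v (Sum.inr 0) = 0 := by linear_combination h1 + hx1 - hy1
    rw [Submodule.mem_span_singleton]
    refine ⟨v (Sum.inl 0), ?_⟩
    apply U4P.fun_ext4
    · simp
    · simp [hx1]
    · simp [hy0]
    · simp [hy1]
  · rw [Submodule.span_singleton_le_iff_mem, LinearMap.mem_ker, sub_one_apply]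
    apply U4P.fun_ext4
    · rw [Pi.sub_apply, U4P.uf_l0]; simp
    · rw [Pi.sub_apply, U4P.uf_l1]; simp
    · rw [Pi.sub_apply, U4P.uf_r0]; simp
    · rw [Pi.sub_apply, U4P.uf_r1]; simp

theorem finrank_range : finrank F (LinearMap.range (U4P.u F - 1)) = 3 := by
  have h := LinearMap.finrank_range_add_finrank_ker (U4P.u F - 1)
  have hk : finrank F (LinearMap.ker (U4P.u F - 1)) = 1 := by
    rw [ker_eq]
    apply finrank_span_singleton
    intro h
    have := congrFun h (Sum.inl 0)
    simp at this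
  have hd : finrank F (Fin 2 ⊕ Fin 2 → F) = 4 := by
    rw [Module.finrank_pi]; simp
  omega

theorem nsum_four_apply [CharP F 2] (v : Fin 2 ⊕ Fin 2 → F) :
    nsum (U4P.u F) 4 v = v (Sum.inr 0) • (Pi.single (Sum.inl 0) (1 : F) : Fin 2 ⊕ Fin 2 → F) := by
  have h2 : (2 : F) = 0 := CharTwo.two_eq_zero
  have e : nsum (U4P.u F) 4 v =
      v + U4P.uf F v + U4P.uf F (U4P.uf F v) + U4P.uf F (U4P.uf F (U4P.uf F v)) := by
    unfold nsum
    rw [Finset.sum_range_succ, Finset.sum_range_succ, Finset.sum_range_succ, Finset.sum_range_one,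
      pow_zero, pow_one, LinearMap.add_apply, LinearMap.add_apply, LinearMap.add_apply,
      Module.End.one_apply, U4P.u_sq_apply, U4P.u_apply]
    congr 1
  rw [e]
  apply U4P.fun_ext4
  · simp only [Pi.add_apply, Pi.smul_apply, smul_eq_mul, U4P.uf_l0, U4P.uf_l1, U4P.uf_r0,
      U4P.uf_r1, Pi.single_eq_same]
    linear_combination (2 * v (Sum.inl 0) + 2 * v (Sum.inl 1) + v (Sum.inr 0) + v (Sum.inr 1)) * h2
  · have : (Pi.single (Sum.inl 0) (1 : F) : Fin 2 ⊕ Fin 2 → F) (Sum.inl 1) = 0 :=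
      Pi.single_eq_of_ne (by decide) _
    simp only [Pi.add_apply, Pi.smul_apply, smul_eq_mul, U4P.uf_l0, U4P.uf_l1, U4P.uf_r0,
      U4P.uf_r1, this]
    linear_combination (v (Sum.inl 1) + 2 * v (Sum.inr 0) + v (Sum.inr 1)) * h2
  · have : (Pi.single (Sum.inl 0) (1 : F) : Fin 2 ⊕ Fin 2 → F) (Sum.inr 0) = 0 :=
      Pi.single_eq_of_ne (by decide) _
    simp only [Pi.add_apply, Pi.smul_apply, smul_eq_mul, U4P.uf_l0, U4P.uf_l1, U4P.uf_r0,
      U4P.uf_r1, this]
    linear_combination (2 * v (Sum.inr 0)) * h2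
  · have : (Pi.single (Sum.inl 0) (1 : F) : Fin 2 ⊕ Fin 2 → F) (Sum.inr 1) = 0 :=
      Pi.single_eq_of_ne (by decide) _
    simp only [Pi.add_apply, Pi.smul_apply, smul_eq_mul, U4P.uf_l0, U4P.uf_l1, U4P.uf_r0,
      U4P.uf_r1, this]
    linear_combination (v (Sum.inl 1) + v (Sum.inr 0) + v (Sum.inr 1)) * h2

theorem orderOf_u [CharP F 2] : orderOf (U4P.u F) = 4 := by
  have ho : orderOf (U4P.u F) = 2 ^ (1 + 1) := by
    apply orderOf_eq_prime_pow
    · rw [pow_one]; exact U4P.u_sq_ne_one F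
    · exact U4P.u_pow_four F
  rw [ho]
  norm_num

end AU4

/-- AU4 (M; uses the transport lemma, here `ATR.ablock_of_space`): the affine Jordan block of order 8. -/
theorem hasABlock_u4 {F : Type*} [Field F] [Fintype F] [CharP F 2] : HasABlock F 2 true 8 false := by
  have hstd := Cfsg.Agent.S5973P.std_plus (F := F) 2
  refine ATR.ablock_of_space (Cfsg.Agent.Helper28.Spin.QfPlus 2 F) (U4P.u F)
    (Pi.single (Sum.inr 0) 1) 2 true 8 false hstd.1 ?_
    ⟨fun _ => rfl, fun _ => hstd.2⟩ (U4P.u_isom F) ?_ ?_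
  · rw [Module.finrank_pi]
    simp
  · rw [AU4.finrank_range]
    constructor
    · intro h; exact absurd h (by decide)
    · intro h; exact absurd h (by decide)
  · intro j
    refine AU2.ord_iff (U4P.u F) 4 (AU4.orderOf_u F) (Pi.single (Sum.inr 0) 1) ?_ j
    rw [AU4.nsum_four_apply, Pi.single_eq_same, one_smul]
    intro h
    have := congrFun h (Sum.inl 0)
    simp at this

end

end Cfsg.Agent.S3590P
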