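import Mathlib
import Cfsg.Agent.Helper9.S5650.Defs
import Cfsg.Agent.Helper9.S5650.Lib
import Cfsg.Agent.Helper28.SympFrame

/-! S5650 piece REDUCE (driver helper9; lead): reduction to `P = 1`. -/

set_option autoImplicit false

namespace Cfsg.Agent.S5650P

open Matrix Cfsg.Agent.Helper28

variable {F : Type*} [Field F] {m : ℕ}

namespace REDUCE

/-- the inclusion of the rational vectors -/
def incl (F₀ : Subfield F) (u : Fin m ⊕ Fin m → F₀) : Vec m F := fun i => (u i : F)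

theorem incl_add (F₀ : Subfield F) (u v : Fin m ⊕ Fin m → F₀) :
    incl F₀ (u + v) = incl F₀ u + incl F₀ v := by
  funext i; simp [incl]

theorem incl_smul (F₀ : Subfield F) (t : F₀) (u : Fin m ⊕ Fin m → F₀) :
    incl F₀ (t • u) = (t : F) • incl F₀ u := by
  funext i; simp [incl]

theorem incl_rat (F₀ : Subfield F) (u : Fin m ⊕ Fin m → F₀) : Rat F₀ (incl F₀ u) :=
  fun i => (u i).2

theorem incl_single (F₀ : Subfield F) (a : Fin m ⊕ Fin m) :
    incl F₀ (Pi.single a (1 : F₀)) = (Pi.single a (1 : F) : Vec m F) := by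
  funext i
  by_cases h : i = a
  · subst h; simp [incl]
  · simp [incl, Pi.single_eq_of_ne h]

theorem incl_injective (F₀ : Subfield F) : Function.Injective (incl (m := m) F₀) := by
  intro u v h
  funext i
  exact Subtype.ext (congrFun h i)

/-- the rational alternating form `β(u,v) = ζ om(Pu,Pv)` -/
def beta (F₀ : Subfield F) (P : GLm m F) (ζ : F)
    (hP : Cfsg.Geo.IsFormRationalStructure (Cfsg.sympForm m F) F₀ ζ P) :
    LinearMap.BilinForm F₀ (Fin m ⊕ Fin m → F₀) :=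
  LinearMap.mk₂ F₀
    (fun u v => (⟨ζ * Cfsg.sympForm m F ((P : Mat m F) *ᵥ incl F₀ u) ((P : Mat m F) *ᵥ incl F₀ v),
      hP _ _ (incl_rat F₀ u) (incl_rat F₀ v)⟩ : F₀))
    (fun u u' v => by
      apply Subtype.ext
      show ζ * Cfsg.sympForm m F ((P : Mat m F) *ᵥ incl F₀ (u + u')) _ = _ + _
      rw [incl_add, Matrix.mulVec_add, sympForm_add_left, mul_add])
    (fun t u v => by
      apply Subtype.ext
      show ζ * Cfsg.sympForm m F ((P : Mat m F) *ᵥ incl F₀ (t • u)) _ = (t : F) * _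
      rw [incl_smul, Matrix.mulVec_smul, sympForm_smul_left]; ring)
    (fun u v v' => by
      apply Subtype.ext
      show ζ * Cfsg.sympForm m F _ ((P : Mat m F) *ᵥ incl F₀ (v + v')) = _ + _
      rw [incl_add, Matrix.mulVec_add, sympForm_add_right, mul_add])
    (fun t u v => by
      apply Subtype.ext
      show ζ * Cfsg.sympForm m F _ ((P : Mat m F) *ᵥ incl F₀ (t • v)) = (t : F) * _
      rw [incl_smul, Matrix.mulVec_smul, sympForm_smul_right]; ring)

theorem beta_val (F₀ : Subfield F) (P : GLm m F) (ζ : F)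
    (hP : Cfsg.Geo.IsFormRationalStructure (Cfsg.sympForm m F) F₀ ζ P)
    (u v : Fin m ⊕ Fin m → F₀) :
    ((beta F₀ P ζ hP u v : F₀) : F) =
      ζ * Cfsg.sympForm m F ((P : Mat m F) *ᵥ incl F₀ u) ((P : Mat m F) *ᵥ incl F₀ v) := rfl

theorem beta_isAlt (F₀ : Subfield F) (P : GLm m F) (ζ : F)
    (hP : Cfsg.Geo.IsFormRationalStructure (Cfsg.sympForm m F) F₀ ζ P) : (beta F₀ P ζ hP).IsAlt := by
  intro u
  apply Subtype.ext
  rw [beta_val, sympForm_self, mul_zero]
  rfl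

/-- entries of the Gram matrix -/
theorem gram_entry (A : Mat m F) (a b : Fin m ⊕ Fin m) :
    Cfsg.sympForm m F (A *ᵥ Pi.single a 1) (A *ᵥ Pi.single b 1) =
      (Aᵀ * Matrix.J (Fin m) F * A) a b := by
  rw [sympForm_mulVec]
  simp

theorem form_eq_of_gram {A : Mat m F} {c : F} (h : c • (Aᵀ * Matrix.J (Fin m) F * A) = Matrix.J (Fin m) F)
    (x y : Vec m F) : c * Cfsg.sympForm m F (A *ᵥ x) (A *ᵥ y) = Cfsg.sympForm m F x y := by
  rw [sympForm_mulVec]
  have h1 : Cfsg.sympForm m F x y = x ⬝ᵥ ((c • (Aᵀ * Matrix.J (Fin m) F * A)) *ᵥ y) := by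
    rw [h]; rfl
  rw [h1, Matrix.smul_mulVec, dotProduct_smul, smul_eq_mul]

/-- nondegeneracy of `om` -/
theorem eq_zero_of_om_eq_zero {x : Vec m F} (h : ∀ y : Vec m F, Cfsg.sympForm m F x y = 0) : x = 0 := by
  funext a
  rcases a with i | i
  · have := h (f i)
    have h2 := om_f_right x i
    unfold om at h2
    rw [h2] at this
    simpa using this
  · have := h (e i)
    have h2 := om_e_right x i
    unfold om at h2
    rw [h2] at this
    simpa using this

theorem beta_nondeg (F₀ : Subfield F) (P : GLm m F) (ζ : F) (hζ : ζ ≠ 0)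
    (hP : Cfsg.Geo.IsFormRationalStructure (Cfsg.sympForm m F) F₀ ζ P)
    (u : Fin m ⊕ Fin m → F₀) (h : ∀ v, beta F₀ P ζ hP u v = 0) : u = 0 := by
  -- `x := P u` is orthogonal to all `P b_a`
  set x : Vec m F := (P : Mat m F) *ᵥ incl F₀ u with hx
  have h1 : ∀ a : Fin m ⊕ Fin m, Cfsg.sympForm m F x ((P : Mat m F) *ᵥ Pi.single a 1) = 0 := by
    intro a
    have := congrArg (Subtype.val) (h (Pi.single a 1))
    rw [beta_val, incl_single] at this
    rcases mul_eq_zero.mp this with h0 | h0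
    · exact absurd h0 hζ
    · exact h0
  have h2 : ∀ y : Vec m F, Cfsg.sympForm m F x ((P : Mat m F) *ᵥ y) = 0 := by
    intro y
    have hy : y = ∑ a, y a • (Pi.single a (1 : F) : Vec m F) := by
      funext b
      simp [Finset.sum_apply, Pi.single_apply]
    rw [hy, Matrix.mulVec_sum]
    have : ∀ (s : Finset (Fin m ⊕ Fin m)),
        Cfsg.sympForm m F x (∑ a ∈ s, (P : Mat m F) *ᵥ (y a • (Pi.single a (1 : F) : Vec m F))) = 0 := by
      intro s
      induction s using Finset.induction_on with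
      | empty => simp
      | insert a s ha ih =>
        rw [Finset.sum_insert ha, sympForm_add_right, ih, Matrix.mulVec_smul, sympForm_smul_right,
          h1 a, mul_zero, add_zero]
    exact this _
  have h3 : x = 0 := by
    apply eq_zero_of_om_eq_zero
    intro y
    have := h2 ((P⁻¹ : GLm m F) *ᵥ y)
    rwa [Matrix.mulVec_mulVec, ← Matrix.GeneralLinearGroup.coe_mul, mul_inv_cancel,
      Matrix.GeneralLinearGroup.coe_one, Matrix.one_mulVec] at this
  have h4 : incl F₀ u = 0 := by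
    have := congrArg (fun z => ((P⁻¹ : GLm m F) : Mat m F) *ᵥ z) h3
    simp only [hx, Matrix.mulVec_mulVec, Matrix.mulVec_zero] at this
    rwa [← Matrix.GeneralLinearGroup.coe_mul, inv_mul_cancel,
      Matrix.GeneralLinearGroup.coe_one, Matrix.one_mulVec] at this
  apply incl_injective F₀
  rw [h4]
  funext i
  simp [incl]

/-- the rational matrix whose columns are `f' i` (at `inl i`) and `e' i` (at `inr i`) -/
def C0 (F₀ : Subfield F) (e' f' : Fin m → (Fin m ⊕ Fin m → F₀)) :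
    Matrix (Fin m ⊕ Fin m) (Fin m ⊕ Fin m) F₀ :=
  Matrix.of fun a b => Sum.elim (fun i => f' i a) (fun i => e' i a) b

theorem C0_mulVec_inl (F₀ : Subfield F) (e' f' : Fin m → (Fin m ⊕ Fin m → F₀)) (i : Fin m) :
    ((C0 F₀ e' f').map F₀.subtype) *ᵥ (Pi.single (Sum.inl i) (1 : F) : Vec m F) = incl F₀ (f' i) := by
  rw [Matrix.mulVec_single_one]
  funext a
  rfl

theorem C0_mulVec_inr (F₀ : Subfield F) (e' f' : Fin m → (Fin m ⊕ Fin m → F₀)) (i : Fin m) :
    ((C0 F₀ e' f').map F₀.subtype) *ᵥ (Pi.single (Sum.inr i) (1 : F) : Vec m F) = incl F₀ (e' i) := by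
  rw [Matrix.mulVec_single_one]
  funext a
  rfl

/-- the key matrix identity -/
theorem gram_eq (F₀ : Subfield F) (P : GLm m F) (ζ : F)
    (hP : Cfsg.Geo.IsFormRationalStructure (Cfsg.sympForm m F) F₀ ζ P)
    (e' f' : Fin m → (Fin m ⊕ Fin m → F₀))
    (hee : ∀ i i', beta F₀ P ζ hP (e' i) (e' i') = 0)
    (hff : ∀ i i', beta F₀ P ζ hP (f' i) (f' i') = 0)
    (hef : ∀ i i', beta F₀ P ζ hP (e' i) (f' i') = if i = i' then 1 else 0) :
    ζ • ((((P : Mat m F) * (C0 F₀ e' f').map F₀.subtype))ᵀ * Matrix.J (Fin m) F *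
      ((P : Mat m F) * (C0 F₀ e' f').map F₀.subtype)) = Matrix.J (Fin m) F := by
  have hfe : ∀ i i', beta F₀ P ζ hP (f' i) (e' i') = if i = i' then -1 else 0 := by
    intro i i'
    rw [← (beta_isAlt F₀ P ζ hP).neg_eq, hef i' i]
    by_cases h : i = i'
    · subst h; simp
    · rw [if_neg h, if_neg (Ne.symm h), neg_zero]
  ext a b
  rw [Matrix.smul_apply, smul_eq_mul, ← gram_entry, ← Matrix.mulVec_mulVec, ← Matrix.mulVec_mulVec]
  rcases a with i | i <;> rcases b with j | j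
  · rw [C0_mulVec_inl, C0_mulVec_inl, ← beta_val F₀ P ζ hP, hff]
    simp [Matrix.J]
  · rw [C0_mulVec_inl, C0_mulVec_inr, ← beta_val F₀ P ζ hP, hfe]
    by_cases h : i = j
    · subst h; simp [Matrix.J]
    · simp [Matrix.J, h]
  · rw [C0_mulVec_inr, C0_mulVec_inl, ← beta_val F₀ P ζ hP, hef]
    by_cases h : i = j
    · subst h; simp [Matrix.J]
    · simp [Matrix.J, h]
  · rw [C0_mulVec_inr, C0_mulVec_inr, ← beta_val F₀ P ζ hP, hee]
    simp [Matrix.J]

/-- conjugation by a similitude preserves `spGL` (one inclusion) -/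
theorem conj_mem_spGL {Q : GLm m F} {c : F} (hc : c ≠ 0)
    (hQ : ∀ x y : Vec m F, c * Cfsg.sympForm m F ((Q : Mat m F) *ᵥ x) ((Q : Mat m F) *ᵥ y) =
      Cfsg.sympForm m F x y) {g : GLm m F} (hg : g ∈ Cfsg.spGL m F) :
    Q * g * Q⁻¹ ∈ Cfsg.spGL m F := by
  apply mem_spGL_of_pres
  intro u v
  have hg' : ∀ x y : Vec m F, Cfsg.sympForm m F ((g : Mat m F) *ᵥ x) ((g : Mat m F) *ᵥ y) =
      Cfsg.sympForm m F x y := pres_of_mem_spGL hg
  have hQ' : ∀ x y : Vec m F, Cfsg.sympForm m F ((Q : Mat m F) *ᵥ x) ((Q : Mat m F) *ᵥ y) =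
      c⁻¹ * Cfsg.sympForm m F x y := by
    intro x y
    rw [← hQ x y, ← mul_assoc, inv_mul_cancel₀ hc, one_mul]
  have e1 : ∀ w : Vec m F, ((Q * g * Q⁻¹ : GLm m F) : Mat m F) *ᵥ w =
      (Q : Mat m F) *ᵥ ((g : Mat m F) *ᵥ (((Q⁻¹ : GLm m F) : Mat m F) *ᵥ w)) := by
    intro w
    rw [Matrix.GeneralLinearGroup.coe_mul, Matrix.GeneralLinearGroup.coe_mul, Matrix.mulVec_mulVec,
      Matrix.mulVec_mulVec]
  have e2 : ∀ w : Vec m F, (Q : Mat m F) *ᵥ (((Q⁻¹ : GLm m F) : Mat m F) *ᵥ w) = w := by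
    intro w
    rw [Matrix.mulVec_mulVec, ← Matrix.GeneralLinearGroup.coe_mul, mul_inv_cancel,
      Matrix.GeneralLinearGroup.coe_one, Matrix.one_mulVec]
  show Cfsg.sympForm m F _ _ = Cfsg.sympForm m F u v
  rw [e1, e1, hQ', hg', ← hQ', e2, e2]

end REDUCE

/-- REDUCE (M-L): reduction to `P = 1`. -/
theorem REDUCE.exists_conj (F₀ : Subfield F) (P : GLm m F) (ζ : F) (hζ : ζ ≠ 0)
    (hP : Cfsg.Geo.IsFormRationalStructure (Cfsg.sympForm m F) F₀ ζ P) :
    ∃ Q : GLm m F,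
      Cfsg.Geo.subfieldSubgroup F₀ P =
        (Cfsg.Geo.subfieldSubgroup F₀ (1 : GLm m F)).map (MulAut.conj Q).toMonoidHom ∧
      (Cfsg.spGL m F).map (MulAut.conj Q).toMonoidHom = Cfsg.spGL m F := by
  classical
  -- the symplectic frame over `F₀`
  have hdim : Module.finrank F₀ (⊤ : Submodule F₀ (Fin m ⊕ Fin m → F₀)) = 2 * m := by
    rw [finrank_top, Module.finrank_fintype_fun_eq_card]
    simp; ring
  obtain ⟨e', f', -, -, hee, hff, hef⟩ :=
    SympFrame.exists_alt_frame (REDUCE.beta F₀ P ζ hP) (REDUCE.beta_isAlt F₀ P ζ hP) m ⊤ hdim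
      (fun u _ h => REDUCE.beta_nondeg F₀ P ζ hζ hP u (fun v => h v trivial))
  have hgram := REDUCE.gram_eq F₀ P ζ hP e' f' hee hff hef
  set C₀ := REDUCE.C0 F₀ e' f' with hC₀
  -- `C₀` is invertible
  have hdetQ : ((P : Mat m F) * C₀.map F₀.subtype).det ≠ 0 := by
    intro h0
    have := congrArg Matrix.det hgram
    rw [Matrix.det_smul, Matrix.det_mul, Matrix.det_mul, Matrix.det_transpose, h0] at this
    simp only [mul_zero, zero_mul] at this
    exact (Matrix.isUnit_det_J (Fin m) F).ne_zero this.symm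
  have hdetC : (C₀.map F₀.subtype).det ≠ 0 := by
    intro h0
    apply hdetQ
    rw [Matrix.det_mul, h0, mul_zero]
  have hdetC₀ : C₀.det ≠ 0 := by
    intro h0
    apply hdetC
    have := RingHom.map_det F₀.subtype C₀
    rw [RingHom.mapMatrix_apply] at this
    rw [← this, h0, map_zero]
  set g₀ : Matrix.GeneralLinearGroup (Fin m ⊕ Fin m) F₀ :=
    Matrix.GeneralLinearGroup.mkOfDetNeZero C₀ hdetC₀ with hg₀
  set Cg : GLm m F := Matrix.GeneralLinearGroup.map (F₀.subtype : F₀ →+* F) g₀ with hCg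
  have hCgval : (Cg : Mat m F) = C₀.map F₀.subtype := by
    ext a b
    rw [hCg, Matrix.GeneralLinearGroup.map_apply]
    rfl
  have hCgmem : Cg ∈ (Matrix.GeneralLinearGroup.map (F₀.subtype : F₀ →+* F)).range ⊔
      Cfsg.Geo.scalars (Fin m ⊕ Fin m) F :=
    Subgroup.mem_sup_left ⟨g₀, rfl⟩
  refine ⟨P * Cg, ?_, ?_⟩
  · -- the subfield groups
    unfold Cfsg.Geo.subfieldSubgroup
    ext x
    simp only [Subgroup.mem_map, MulEquiv.coe_toMonoidHom, MulAut.conj_apply, exists_exists_and_eq_and,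
      one_mul, inv_one, mul_one]
    constructor
    · rintro ⟨y, hy, rfl⟩
      refine ⟨Cg⁻¹ * y * Cg, ?_, ?_⟩
      · exact Subgroup.mul_mem _ (Subgroup.mul_mem _ (Subgroup.inv_mem _ hCgmem) hy) hCgmem
      · group
    · rintro ⟨y, hy, rfl⟩
      refine ⟨Cg * y * Cg⁻¹, ?_, ?_⟩
      · exact Subgroup.mul_mem _ (Subgroup.mul_mem _ hCgmem hy) (Subgroup.inv_mem _ hCgmem)
      · group
  · -- `spGL`
    have hQ : ∀ x y : Vec m F, ζ * Cfsg.sympForm m F (((P * Cg : GLm m F) : Mat m F) *ᵥ x)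
        (((P * Cg : GLm m F) : Mat m F) *ᵥ y) = Cfsg.sympForm m F x y := by
      intro x y
      rw [Matrix.GeneralLinearGroup.coe_mul, hCgval]
      exact REDUCE.form_eq_of_gram hgram x y
    have hQi : ∀ x y : Vec m F, ζ⁻¹ * Cfsg.sympForm m F ((((P * Cg)⁻¹ : GLm m F) : Mat m F) *ᵥ x)
        ((((P * Cg)⁻¹ : GLm m F) : Mat m F) *ᵥ y) = Cfsg.sympForm m F x y := by
      intro x y
      have e2 : ∀ w : Vec m F, ((P * Cg : GLm m F) : Mat m F) *ᵥ
          ((((P * Cg)⁻¹ : GLm m F) : Mat m F) *ᵥ w) = w := by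
        intro w
        rw [Matrix.mulVec_mulVec, ← Matrix.GeneralLinearGroup.coe_mul, mul_inv_cancel,
          Matrix.GeneralLinearGroup.coe_one, Matrix.one_mulVec]
      rw [← hQ ((((P * Cg)⁻¹ : GLm m F) : Mat m F) *ᵥ x), e2, e2, ← mul_assoc, inv_mul_cancel₀ hζ,
        one_mul]
    apply le_antisymm
    · rintro _ ⟨g, hg, rfl⟩
      exact REDUCE.conj_mem_spGL hζ hQ hg
    · intro x hx
      refine ⟨(P * Cg)⁻¹ * x * ((P * Cg)⁻¹)⁻¹, REDUCE.conj_mem_spGL (inv_ne_zero hζ) hQi hx, ?_⟩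
      simp only [MulEquiv.coe_toMonoidHom, MulAut.conj_apply]
      group

end Cfsg.Agent.S5650P
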