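import Mathlib
import Cfsg.Agent.Lead.BL1
import Cfsg.Agent.Lead.BG8b

set_option autoImplicit false
set_option linter.unusedSectionVars false
set_option linter.unusedVariables false
set_option linter.style.haveILetI false

/-! # Bender's lemma: invariant subgroups lie in the core -/

namespace Cfsg.Agent.Lead.BL

open Subgroup Cfsg
open Cfsg.Agent.Lead.Bender
open Cfsg.Agent.Lead.TT
open Cfsg.Agent.Helper1 (centerIn centerIn_ne_bot normalizer_le_normalizer_centerIn)
open Cfsg.Agent.Lead.BG8 (fittingOf_le fittingOf_isNilpotent inf_centralizer_fittingOf_le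
  coprime_card_of_isPGroup_of_ne)

universe u
variable {G : Type u} [Group G] [Finite G] {H M R : Subgroup G}

namespace Ctx

/-- an `M`-invariant subgroup of `R` of order coprime to `|F(H)|` lies in `O_{p'}(RM)` for each
prime divisor `p` of `|F(H)|` -/
theorem inv_le_Oc (h : Ctx H M R) {Y : Subgroup G} (hYR : Y ≤ R)
    (hMY : M ≤ normalizer (Y : Set G))
    (hcop : (Nat.card Y).Coprime (Nat.card (fittingOf H)))
    {p : ℕ} (hp : p ∈ (Nat.card (fittingOf H)).primeFactors) : Y ≤ Oc p (R ⊔ M) := by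
  set F := fittingOf H with hF
  set R₁ := R ⊔ M with hR₁
  have hpp : p.Prime := Nat.prime_of_mem_primeFactors hp
  haveI : Fact p.Prime := ⟨hpp⟩
  obtain ⟨r, hr, hrp⟩ := Finset.exists_mem_ne h.hF2 p
  have hrr : r.Prime := Nat.prime_of_mem_primeFactors hr
  haveI : Fact r.Prime := ⟨hrr⟩
  have hpF : p ∣ Nat.card F := Nat.dvd_of_mem_primeFactors hp
  have hrF : r ∣ Nat.card F := Nat.dvd_of_mem_primeFactors hr
  have hR₁solv : Group.IsSolvable R₁ :=
    Cfsg.Agent.Helper7.isSolvable_sup_of_le_normalizer h.hR h.isSolvable_M h.hMR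
  have hFH : F ≤ H := fittingOf_le H
  have hMH : M ≤ H := h.M_le_H
  set Fr := pCoreOf r H with hFr
  have hFrp : IsPGroup r Fr := Cfsg.Agent.Helper14.pCoreOf_isPGroup r H
  have hFrH : Fr ≤ H := Cfsg.Agent.Helper14.pCoreOf_le r H
  have hHFr : H ≤ normalizer (Fr : Set G) := Cfsg.Agent.Helper14.le_normalizer_pCoreOf r H
  set Zp := centerIn (pCoreOf p H) with hZp
  have hNZp : normalizer (Zp : Set G) = H := h.normalizer_Z hpF
  have hZpM : Zp ≤ M := h.Z_le_M p
  have hZpp : IsPGroup p Zp := (Cfsg.Agent.Helper14.pCoreOf_isPGroup p H).to_le inf_le_left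
  set Zr := centerIn (pCoreOf r H) with hZr
  have hNZr : normalizer (Zr : Set G) = H := h.normalizer_Z hrF
  have hZrM : Zr ≤ M := h.Z_le_M r
  set O := Oc p R₁ with hO
  have hTO : Fr ⊓ R₁ ≤ O := by
    apply le_Oc_of_local hR₁solv (hZpM.trans le_sup_right) hZpp inf_le_right
    · rw [hNZp]; exact inf_le_left.trans hFrH
    · rw [hNZp]
      apply Cfsg.Agent.Lead.le_normalizer_inf'
      · exact inf_le_right.trans hHFr
      · exact inf_le_left.trans le_normalizer
    · exact coprime_card_of_isPGroup_of_ne hrr hpp hrp (hFrp.to_le inf_le_left)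
  set Mr := M ⊓ Fr with hMr
  have hMrO : Mr ≤ O := (le_inf inf_le_right (inf_le_left.trans le_sup_right)).trans hTO
  have hZrMr : Zr ≤ Mr := le_inf hZrM inf_le_left
  have hMrp : IsPGroup r Mr := hFrp.to_le inf_le_right
  have hR₁O : R₁ ≤ normalizer (O : Set G) := le_normalizer_Oc p R₁
  have hYF : Y ⊓ F = ⊥ := (disjoint_of_coprime_natCard hcop).eq_bot
  have hYR₁ : Y ≤ R₁ := hYR.trans le_sup_left
  -- `C_Y(M_r)` is trivial
  have hD : Y ⊓ centralizer (Mr : Set G) = ⊥ := by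
    apply h.eq_bot_of_centralizes (inf_le_left.trans hYR)
    · intro d hd
      obtain ⟨hdY, hdC⟩ := mem_inf.1 hd
      have hdH : d ∈ H := by
        have : d ∈ normalizer (Zr : Set G) :=
          centralizer_le_normalizer _ (centralizer_le hZrMr hdC)
        rwa [hNZr] at this
      rw [mem_centralizer_iff]
      intro a ha
      have h1 : a * d * a⁻¹ * d⁻¹ ∈ Y ⊓ F := by
        refine mem_inf.2 ⟨?_, ?_⟩
        · have h2 : a * d * a⁻¹ ∈ Y := (mem_normalizer_iff.1 (hMY ha) d).1 hdY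
          exact Y.mul_mem h2 (Y.inv_mem hdY)
        · have haF : a ∈ F := h.hM ha
          have h2 : d * a⁻¹ * d⁻¹ ∈ F :=
            (mem_normalizer_iff.1 (le_normalizer_fittingOf H hdH) a⁻¹).1 (F.inv_mem haF)
          have e : a * d * a⁻¹ * d⁻¹ = a * (d * a⁻¹ * d⁻¹) := by group
          rw [e]; exact F.mul_mem haF h2
      rw [hYF, mem_bot] at h1
      have e : a * d = (a * d * a⁻¹ * d⁻¹) * (d * a) := by group
      rw [e, h1, one_mul]
    · exact Nat.Coprime.coprime_dvd_left (card_dvd_of_le inf_le_left) hcop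
  -- coprime action
  intro y hy
  have hYO : Y ≤ normalizer ((Y ⊓ O : Subgroup G) : Set G) :=
    Cfsg.Agent.Lead.le_normalizer_inf' le_normalizer (hYR₁.trans hR₁O)
  have hMrYO : Mr ≤ normalizer ((Y ⊓ O : Subgroup G) : Set G) :=
    Cfsg.Agent.Lead.le_normalizer_inf' (inf_le_left.trans hMY)
      ((inf_le_left.trans (le_sup_right : M ≤ R₁)).trans hR₁O)
  have hcop' : (Nat.card Mr).Coprime (Nat.card (Y ⊓ O : Subgroup G)) := by
    have h1 : Nat.card Mr ∣ Nat.card F := card_dvd_of_le (inf_le_left.trans h.hM)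
    have h2 : Nat.card (Y ⊓ O : Subgroup G) ∣ Nat.card Y := card_dvd_of_le inf_le_left
    exact (Nat.Coprime.coprime_dvd_left h2 (Nat.Coprime.coprime_dvd_right h1 hcop)).symm
  have hfix : ∀ a ∈ Mr, ∀ k ∈ Y, a * k * a⁻¹ * k⁻¹ ∈ Y ⊓ O := by
    intro a ha k hk
    refine mem_inf.2 ⟨?_, ?_⟩
    · have h2 : a * k * a⁻¹ ∈ Y := (mem_normalizer_iff.1 (hMY (mem_inf.1 ha).1) k).1 hk
      exact Y.mul_mem h2 (Y.inv_mem hk)
    · have haO : a ∈ O := hMrO ha
      have h2 : k * a⁻¹ * k⁻¹ ∈ O :=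
        (mem_normalizer_iff.1 (hR₁O (hYR₁ hk)) a⁻¹).1 (O.inv_mem haO)
      have e : a * k * a⁻¹ * k⁻¹ = a * (k * a⁻¹ * k⁻¹) := by group
      rw [e]; exact O.mul_mem haO h2
  obtain ⟨c, hc, hyc⟩ := Cfsg.Agent.Helper10.exists_centralizing_in_coset
    (inf_le_left : Y ⊓ O ≤ Y) hYO hMrYO hcop' (Or.inl (TT.isSolvable_of_isPGroup hMrp)) hfix hy
  rw [hD, mem_bot] at hc
  rw [hc, mul_one] at hyc
  have := (mem_inf.1 hyc).2
  have h3 := O.inv_mem this
  rwa [inv_inv] at h3

/-- an `M`-invariant subgroup of `R` of order coprime to `|F(H)|` lies in `O_{π(F)'}(R)` -/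
theorem inv_le_core (h : Ctx H M R) {Y : Subgroup G} (hYR : Y ≤ R)
    (hMY : M ≤ normalizer (Y : Set G))
    (hcop : (Nat.card Y).Coprime (Nat.card (fittingOf H))) :
    Y ≤ Cfsg.piCoreOf (Cfsg.primesNotDvd (Nat.card (fittingOf H))) R := by
  set π := (Nat.card (fittingOf H)).primeFactors with hπ
  set W₁ : Subgroup G := (⨅ p ∈ π, Oc p (R ⊔ M)) ⊓ R with hW₁
  have hYW₁ : Y ≤ W₁ := by
    refine le_inf ?_ hYR
    apply le_iInf₂
    intro p hp
    exact h.inv_le_Oc hYR hMY hcop hp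
  refine hYW₁.trans ?_
  apply le_piCoreOf_of_normal inf_le_right
  · apply Cfsg.Agent.Lead.le_normalizer_inf' _ le_normalizer
    apply le_normalizer_of_forall_conj_mem
    intro x hx k hk
    simp only [mem_iInf] at hk ⊢
    intro p hp
    exact (mem_normalizer_iff.1 (le_normalizer_Oc p (R ⊔ M) (le_sup_left (a := R) hx)) k).1
      (hk p hp)
  · apply coprime_of_forall_primeFactors Nat.card_pos.ne'
    intro p hp
    have h1 : W₁ ≤ Oc p (R ⊔ M) := inf_le_left.trans (iInf₂_le p hp)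
    exact Nat.Coprime.coprime_dvd_left (card_dvd_of_le h1) (Oc_coprime p (R ⊔ M))

end Ctx

end Cfsg.Agent.Lead.BL
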