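import Mathlib
import Cfsg.Agent.Helper21.BswBasic

set_option autoImplicit false
set_option linter.style.haveILetI false
set_option linter.unusedSectionVars false

/-! Core of the BSW setup piece (ZA): from structural data on `C(t) = O S` to `Bsw.Hyp`. -/

namespace Cfsg.Agent.Lead.BswSetupCore

open Subgroup Cfsg.Agent.Helper21.Bsw

variable {G : Type*} [Group G]

/-- In a finite cyclic subgroup, the only solutions of `z * z = 1` are `1` and a given involution. -/
theorem eq_one_or_eq_of_cyclic [Finite G] {S0 : Subgroup G} (hcyc : IsCyclic S0) {t z : G}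
    (htS0 : t ∈ S0) (ht1 : t ≠ 1) (ht2 : t * t = 1) (hz : z ∈ S0) (hz2 : z * z = 1) :
    z = 1 ∨ z = t := by
  classical
  by_contra hcon
  rw [not_or] at hcon
  haveI : Fintype S0 := Fintype.ofFinite S0
  have hle := IsCyclic.card_pow_eq_one_le (α := S0) (n := 2) (by norm_num)
  have hsub : ({1, ⟨t, htS0⟩, ⟨z, hz⟩} : Finset S0) ⊆
      Finset.univ.filter (fun a : S0 => a ^ 2 = 1) := by
    intro a ha
    simp only [Finset.mem_insert, Finset.mem_singleton] at ha
    rw [Finset.mem_filter]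
    refine ⟨Finset.mem_univ _, ?_⟩
    rcases ha with rfl | rfl | rfl
    · exact one_pow 2
    · apply Subtype.ext; simp [pow_two, ht2]
    · apply Subtype.ext; simp [pow_two, hz2]
  have hcard : ({1, ⟨t, htS0⟩, ⟨z, hz⟩} : Finset S0).card = 3 := by
    rw [Finset.card_insert_of_notMem, Finset.card_insert_of_notMem, Finset.card_singleton]
    · simp only [Finset.mem_singleton]
      intro h
      exact hcon.2 (congrArg Subtype.val h).symm
    · simp only [Finset.mem_insert, Finset.mem_singleton, not_or]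
      refine ⟨fun h => ht1 (congrArg Subtype.val h).symm, fun h => hcon.1 (congrArg Subtype.val h).symm⟩
  have := Finset.card_le_card hsub
  omega

/-- an element of odd order group squaring to one is trivial -/
theorem eq_one_of_sq_of_odd [Finite G] {O : Subgroup G} (hodd : Odd (Nat.card O)) {o : G}
    (ho : o ∈ O) (h2 : o * o = 1) : o = 1 := by
  have h1 : orderOf o ∣ 2 := orderOf_dvd_of_pow_eq_one (by rw [pow_two]; exact h2)
  have h3 : orderOf o ∣ Nat.card O := by
    have := orderOf_dvd_natCard (⟨o, ho⟩ : O)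
    rwa [Subgroup.orderOf_mk] at this
  have h4 : orderOf o = 1 := by
    rcases (Nat.dvd_prime Nat.prime_two).mp h1 with h | h
    · exact h
    · exfalso
      rw [h] at h3
      exact (Nat.not_even_iff_odd.mpr hodd) (even_iff_two_dvd.mpr h3)
  exact orderOf_eq_one_iff.mp h4


section core

variable [Finite G] {t s : G} {O S0 S : Subgroup G}

/-- The structural data from which `Hyp` is built. -/
structure Data (t s : G) (O S0 S : Subgroup G) : Prop where
  ht : orderOf t = 2
  hOC : O ≤ centralizer ({t} : Set G)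
  hSC : S ≤ centralizer ({t} : Set G)
  hOS : O ⊓ S = ⊥
  hC : O ⊔ S = centralizer ({t} : Set G)
  hOodd : Odd (Nat.card O)
  hS2 : IsPGroup 2 S
  hS0S : S0 ≤ S
  hcyc : IsCyclic S0
  hidx : S0.relIndex S = 2
  htS0 : t ∈ S0
  hS0O : S0 ≤ centralizer (O : Set G)
  hsS : s ∈ S
  hsS0 : s ∉ S0
  hs2 : s * s = 1
  hsinvS0 : ∀ a ∈ S0, s * a * s⁻¹ = a⁻¹
  hsinvO : ∀ y ∈ O, s * y * s⁻¹ = y⁻¹
  hc : ∀ Y : Subgroup G, Y ≤ O → Y ≠ ⊥ →
    normalizer (Y : Set G) ≤ centralizer ({t} : Set G)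
  hconj : ∀ x y : G, orderOf x = 2 → orderOf y = 2 → IsConj x y

namespace Data

variable (d : Data t s O S0 S)
include d

theorem t_ne_one : t ≠ 1 := by
  intro h
  have := d.ht
  rw [h, orderOf_one] at this
  omega

theorem t_sq : t * t = 1 := by
  have := pow_orderOf_eq_one t
  rwa [d.ht, pow_two] at this

theorem s_inv : s⁻¹ = s := inv_eq_of_mul_eq_one_left d.hs2

theorem s_ne_one : s ≠ 1 := fun h => d.hsS0 (h ▸ S0.one_mem)

theorem mem_K_iff {x : G} : x ∈ O ⊔ S0 ↔ ∃ o ∈ O, ∃ z ∈ S0, x = o * z := by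
  have hle : S0 ≤ normalizer (O : Set G) := d.hS0O.trans (centralizer_le_normalizer _)
  rw [← SetLike.mem_coe, coe_mul_of_right_le_normalizer_left O S0 hle]
  constructor
  · rintro ⟨o, ho, z, hz, rfl⟩
    exact ⟨o, ho, z, hz, rfl⟩
  · rintro ⟨o, ho, z, hz, rfl⟩
    exact ⟨o, ho, z, hz, rfl⟩

theorem comm_O_S0 {o z : G} (ho : o ∈ O) (hz : z ∈ S0) : o * z = z * o :=
  (d.hS0O hz) o ho

theorem O_comm {x y : G} (hx : x ∈ O) (hy : y ∈ O) : x * y = y * x := by
  have h1 := d.hsinvO (x * y) (O.mul_mem hx hy)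
  have h2 : s * (x * y) * s⁻¹ = (s * x * s⁻¹) * (s * y * s⁻¹) := by group
  rw [h2, d.hsinvO x hx, d.hsinvO y hy] at h1
  have h3 : (x⁻¹ * y⁻¹)⁻¹ = ((x * y)⁻¹)⁻¹ := by rw [h1]
  rw [mul_inv_rev, inv_inv, inv_inv, inv_inv] at h3
  exact h3.symm

theorem S0_comm {x y : G} (hx : x ∈ S0) (hy : y ∈ S0) : x * y = y * x := by
  haveI := d.hcyc
  haveI : IsMulCommutative S0 := IsCyclic.isMulCommutative
  have := mul_comm' (⟨x, hx⟩ : S0) ⟨y, hy⟩
  exact congrArg Subtype.val this

theorem K_comm {x y : G} (hx : x ∈ O ⊔ S0) (hy : y ∈ O ⊔ S0) : x * y = y * x := by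
  obtain ⟨o, ho, z, hz, rfl⟩ := d.mem_K_iff.mp hx
  obtain ⟨o', ho', z', hz', rfl⟩ := d.mem_K_iff.mp hy
  have c1 := d.O_comm ho ho'
  have c2 := d.S0_comm hz hz'
  have c3 := d.comm_O_S0 ho' hz
  have c4 := d.comm_O_S0 ho hz'
  calc o * z * (o' * z') = o * (z * o') * z' := by group
    _ = o * (o' * z) * z' := by rw [c3]
    _ = (o * o') * (z * z') := by group
    _ = (o' * o) * (z' * z) := by rw [c1, c2]
    _ = o' * (o * z') * z := by group
    _ = o' * (z' * o) * z := by rw [c4]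
    _ = o' * z' * (o * z) := by group

theorem eq_one_of_mem_O_of_mem_S {x : G} (h1 : x ∈ O) (h2 : x ∈ S) : x = 1 := by
  have : x ∈ O ⊓ S := mem_inf.mpr ⟨h1, h2⟩
  rw [d.hOS] at this
  exact mem_bot.mp this

theorem s_not_mem_K : s ∉ O ⊔ S0 := by
  intro h
  obtain ⟨o, ho, z, hz, hsz⟩ := d.mem_K_iff.mp h
  have ho' : o = s * z⁻¹ := by rw [hsz]; group
  have hoS : o ∈ S := by
    rw [ho']
    exact S.mul_mem d.hsS (S.inv_mem (d.hS0S hz))
  have := d.eq_one_of_mem_O_of_mem_S ho hoS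
  rw [this, one_mul] at hsz
  exact d.hsS0 (hsz ▸ hz)

theorem sq_eq_one {x : G} (hx : x ∈ O ⊔ S0) (hx2 : x * x = 1) : x = 1 ∨ x = t := by
  obtain ⟨o, ho, z, hz, rfl⟩ := d.mem_K_iff.mp hx
  have c := d.comm_O_S0 ho hz
  have h1 : (o * o) * (z * z) = 1 := by
    calc (o * o) * (z * z) = o * (o * z) * z := by group
      _ = o * (z * o) * z := by rw [c]
      _ = (o * z) * (o * z) := by group
      _ = 1 := hx2
  have h2 : o * o = (z * z)⁻¹ := eq_inv_of_mul_eq_one_left h1
  have h3 : o * o ∈ S := by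
    rw [h2]
    exact S.inv_mem (S.mul_mem (d.hS0S hz) (d.hS0S hz))
  have h4 : o * o = 1 := d.eq_one_of_mem_O_of_mem_S (O.mul_mem ho ho) h3
  have h5 : o = 1 := eq_one_of_sq_of_odd d.hOodd ho h4
  rw [h4, one_mul] at h1
  rw [h5, one_mul]
  exact eq_one_or_eq_of_cyclic d.hcyc d.htS0 d.t_ne_one d.t_sq hz h1

theorem s_inverts {x : G} (hx : x ∈ O ⊔ S0) : s * x * s⁻¹ = x⁻¹ := by
  obtain ⟨o, ho, z, hz, rfl⟩ := d.mem_K_iff.mp hx
  have h2 : s * (o * z) * s⁻¹ = (s * o * s⁻¹) * (s * z * s⁻¹) := by group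
  rw [h2, d.hsinvO o ho, d.hsinvS0 z hz, mul_inv_rev]
  have c := d.comm_O_S0 (O.inv_mem ho) (S0.inv_mem hz)
  exact c

theorem S0_sup_eq : S0 ⊔ zpowers s = S := by
  have hle : S0 ⊔ zpowers s ≤ S := sup_le d.hS0S (by rw [zpowers_le]; exact d.hsS)
  have h1 := relIndex_mul_relIndex S0 (S0 ⊔ zpowers s) S le_sup_left hle
  rw [d.hidx] at h1
  have h2 : S0.relIndex (S0 ⊔ zpowers s) ≠ 1 := by
    intro h
    rw [relIndex_eq_one] at h
    exact d.hsS0 (h (le_sup_right (a := S0) (mem_zpowers s)))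
  have h3 : S0.relIndex (S0 ⊔ zpowers s) = 2 := by
    have hd : S0.relIndex (S0 ⊔ zpowers s) ∣ 2 := ⟨_, h1.symm⟩
    rcases (Nat.dvd_prime Nat.prime_two).mp hd with h | h
    · exact absurd h h2
    · exact h
  rw [h3] at h1
  have h4 : (S0 ⊔ zpowers s).relIndex S = 1 := by omega
  rw [relIndex_eq_one] at h4
  exact le_antisymm hle h4

theorem K_sup_eq : (O ⊔ S0) ⊔ zpowers s = centralizer ({t} : Set G) := by
  rw [sup_assoc, d.S0_sup_eq, d.hC]

theorem K_le : O ⊔ S0 ≤ centralizer ({t} : Set G) :=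
  sup_le d.hOC (d.hS0S.trans d.hSC)

theorem zpowers_s_le_normalizer : zpowers s ≤ normalizer ((O ⊔ S0 : Subgroup G) : Set G) := by
  rw [zpowers_le, mem_normalizer_iff]
  intro x
  constructor
  · intro hx
    rw [d.s_inverts hx]; exact (O ⊔ S0).inv_mem hx
  · intro hx
    have h1 := d.s_inverts hx
    have h2 : s * (s * x * s⁻¹) * s⁻¹ = x := by
      calc s * (s * x * s⁻¹) * s⁻¹ = (s * s) * x * (s * s)⁻¹ := by group
        _ = x := by rw [d.hs2]; simp
    rw [h2] at h1
    have : x = ((s * x * s⁻¹)⁻¹) := h1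
    rw [this]
    exact (O ⊔ S0).inv_mem hx

/-- `C(t) = K ∪ K s` -/
theorem mem_C_iff (g : G) :
    g ∈ centralizer ({t} : Set G) ↔ g ∈ O ⊔ S0 ∨ ∃ k ∈ O ⊔ S0, g = k * s := by
  rw [← d.K_sup_eq, ← SetLike.mem_coe,
    coe_mul_of_right_le_normalizer_left (O ⊔ S0) _ d.zpowers_s_le_normalizer]
  constructor
  · rintro ⟨x, hx, y, hy, rfl⟩
    obtain ⟨n, rfl⟩ := mem_zpowers_iff.mp hy
    rcases Int.emod_two_eq_zero_or_one n with h0 | h1
    · left
      obtain ⟨m, rfl⟩ : ∃ m, n = 2 * m := ⟨n / 2, by omega⟩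
      have : s ^ (2 * m) = 1 := by
        rw [zpow_mul, zpow_ofNat, pow_two, d.hs2, one_zpow]
      simpa [this] using hx
    · right
      obtain ⟨m, rfl⟩ : ∃ m, n = 2 * m + 1 := ⟨n / 2, by omega⟩
      have : s ^ (2 * m + 1) = s := by
        rw [zpow_add, zpow_mul, zpow_ofNat, pow_two, d.hs2, one_zpow, one_mul, zpow_one]
      exact ⟨x, hx, by simp [this]⟩
  · rintro (hg | ⟨k, hk, rfl⟩)
    · exact ⟨g, hg, 1, one_mem _, mul_one g⟩
    · exact ⟨k, hk, s, mem_zpowers s, rfl⟩

/-- elements of odd order of `K` lie in `O` -/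
theorem mem_O_of_odd {x : G} (hx : x ∈ O ⊔ S0) (hodd : Odd (orderOf x)) : x ∈ O := by
  obtain ⟨o, ho, z, hz, rfl⟩ := d.mem_K_iff.mp hx
  set m := orderOf (o * z) with hm
  have c : Commute o z := d.comm_O_S0 ho hz
  have h1 : o ^ m * z ^ m = 1 := by
    rw [← c.mul_pow, hm, pow_orderOf_eq_one]
  have h2 : z ^ m = (o ^ m)⁻¹ := eq_inv_of_mul_eq_one_right h1
  have h3 : z ^ m ∈ O := by rw [h2]; exact O.inv_mem (O.pow_mem ho m)
  have h4 : z ^ m = 1 := d.eq_one_of_mem_O_of_mem_S h3 (S.pow_mem (d.hS0S hz) m)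
  have h5 : orderOf z ∣ m := orderOf_dvd_of_pow_eq_one h4
  obtain ⟨k, hk⟩ := d.hS2 ⟨z, d.hS0S hz⟩
  have h6 : orderOf z ∣ 2 ^ k := by
    apply orderOf_dvd_of_pow_eq_one
    have := congrArg Subtype.val hk
    simpa using this
  have h7 : orderOf z = 1 := by
    have hcop : Nat.Coprime (2 ^ k) m := by
      apply Nat.Coprime.pow_left
      rw [Nat.coprime_two_left]
      exact hodd
    exact Nat.eq_one_of_dvd_coprimes hcop h6 h5
  rw [orderOf_eq_one_iff.mp h7, mul_one]
  exact ho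


/-- an element of even order of `K` has a power equal to `t` -/
theorem pow_half_eq_t {x : G} (hx : x ∈ O ⊔ S0) {m : ℕ} (hm : orderOf x = 2 * m) (hm0 : m ≠ 0) :
    x ^ m = t := by
  have h1 : x ^ m * x ^ m = 1 := by
    rw [← pow_add, ← two_mul, ← hm, pow_orderOf_eq_one]
  have h2 : x ^ m ≠ 1 := by
    apply pow_ne_one_of_lt_orderOf hm0
    rw [hm]; omega
  rcases d.sq_eq_one ((O ⊔ S0).pow_mem hx m) h1 with h | h
  · exact absurd h h2
  · exact h

theorem ti (g : G) (hg : g ∉ centralizer ({t} : Set G)) :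
    (O ⊔ S0) ⊓ (O ⊔ S0).map (MulAut.conj g).toMonoidHom = ⊥ := by
  rw [eq_bot_iff]
  intro x hx
  rw [mem_bot]
  obtain ⟨hxK, hxg⟩ := mem_inf.mp hx
  obtain ⟨y, hyK, hyx⟩ := hxg
  have hyx' : g * y * g⁻¹ = x := hyx
  by_contra hx1
  have hord : orderOf x = orderOf y := by
    rw [← hyx']
    exact orderOf_injective (MulAut.conj g).toMonoidHom (MulAut.conj g).injective y
  have hpos : 0 < orderOf x := orderOf_pos x
  rcases Nat.even_or_odd (orderOf x) with hev | hodd
  · -- even order: both involutions equal t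
    obtain ⟨m, hm⟩ := hev
    have hm' : orderOf x = 2 * m := by rw [hm]; ring
    have hm0 : m ≠ 0 := by omega
    have h1 := d.pow_half_eq_t hxK hm' hm0
    have h2 := d.pow_half_eq_t hyK (hord ▸ hm') hm0
    have h3 : g * t * g⁻¹ = t := by
      calc g * t * g⁻¹ = g * y ^ m * g⁻¹ := by rw [h2]
        _ = (g * y * g⁻¹) ^ m := (conj_pow (a := g) (b := y) (i := m)).symm
        _ = t := by rw [hyx', h1]
    apply hg
    rw [mem_centralizer_singleton_iff]
    calc g * t = (g * t * g⁻¹) * g := by group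
      _ = t * g := by rw [h3]
  · -- odd order
    have hxO := d.mem_O_of_odd hxK hodd
    have hyO := d.mem_O_of_odd hyK (hord ▸ hodd)
    have hy1 : y ≠ 1 := by
      intro h
      apply hx1
      rw [← hyx', h]; group
    have hY : zpowers y ≠ ⊥ := by
      rw [Ne, zpowers_eq_bot]; exact hy1
    have hN := d.hc (zpowers y) (by rw [zpowers_le]; exact hyO) hY
    -- t' = g t g⁻¹ centralizes K
    have hcent : ∀ k ∈ O ⊔ S0, k * (g * t * g⁻¹) = (g * t * g⁻¹) * k := by
      intro k hk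
      have hcomm : Commute k x := d.K_comm hk hxK
      have hcy : Commute (g⁻¹ * k * g) y := by
        have : g⁻¹ * k * g * y = y * (g⁻¹ * k * g) := by
          have e1 : x = g * y * g⁻¹ := hyx'.symm
          have e2 : k * (g * y * g⁻¹) = (g * y * g⁻¹) * k := by rw [← e1]; exact hcomm
          calc g⁻¹ * k * g * y = g⁻¹ * (k * (g * y * g⁻¹)) * g := by group
            _ = g⁻¹ * ((g * y * g⁻¹) * k) * g := by rw [e2]
            _ = y * (g⁻¹ * k * g) := by group
        exact this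
      have hmem : g⁻¹ * k * g ∈ normalizer ((zpowers y : Subgroup G) : Set G) := by
        apply centralizer_le_normalizer
        rw [mem_centralizer_iff]
        intro w hw
        obtain ⟨j, rfl⟩ := mem_zpowers_iff.mp hw
        exact ((hcy.zpow_right j).eq).symm
      have h1 := hN hmem
      rw [mem_centralizer_singleton_iff] at h1
      calc k * (g * t * g⁻¹) = g * ((g⁻¹ * k * g) * t) * g⁻¹ := by group
        _ = g * (t * (g⁻¹ * k * g)) * g⁻¹ := by rw [h1]
        _ = (g * t * g⁻¹) * k := by group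
    have ht'C : g * t * g⁻¹ ∈ centralizer ({t} : Set G) := by
      rw [mem_centralizer_singleton_iff]
      exact (hcent t (le_sup_right (a := O) d.htS0)).symm
    have ht'2 : (g * t * g⁻¹) * (g * t * g⁻¹) = 1 := by
      calc (g * t * g⁻¹) * (g * t * g⁻¹) = g * (t * t) * g⁻¹ := by group
        _ = 1 := by rw [d.t_sq]; group
    have ht'1 : g * t * g⁻¹ ≠ 1 := by
      intro h
      apply d.t_ne_one
      have : t = g⁻¹ * (g * t * g⁻¹) * g := by group
      rw [this, h]; group
    rcases (d.mem_C_iff _).mp ht'C with hK | ⟨k, hk, hks⟩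
    · rcases d.sq_eq_one hK ht'2 with h | h
      · exact ht'1 h
      · apply hg
        rw [mem_centralizer_singleton_iff]
        calc g * t = (g * t * g⁻¹) * g := by group
          _ = t * g := by rw [h]
    · -- t' = k s inverts and centralizes x
      have h1 : (g * t * g⁻¹) * x * (g * t * g⁻¹)⁻¹ = x⁻¹ := by
        rw [hks]
        have e : k * s * x * (k * s)⁻¹ = k * (s * x * s⁻¹) * k⁻¹ := by group
        rw [e, d.s_inverts hxK]
        have := d.K_comm hk ((O ⊔ S0).inv_mem hxK)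
        rw [this, mul_assoc, mul_inv_cancel, mul_one]
      have h2 : (g * t * g⁻¹) * x * (g * t * g⁻¹)⁻¹ = x := by
        rw [← hcent x hxK, mul_assoc, mul_inv_cancel, mul_one]
      have h3 : x * x = 1 := by
        have : x = x⁻¹ := h2.symm.trans h1
        calc x * x = x * x⁻¹ := by rw [← this]
          _ = 1 := mul_inv_cancel x
      exact hx1 (eq_one_of_sq_of_odd d.hOodd hxO h3)

/-- The data give the hypotheses of the abstract Brauer–Suzuki–Wall theorem. -/
theorem hyp : Hyp t s (O ⊔ S0) where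
  ht := d.ht
  hKab := fun x hx y hy => d.K_comm hx hy
  hKH := d.K_le
  htK := le_sup_right (a := O) d.htS0
  hs := orderOf_eq_prime (by rw [pow_two]; exact d.hs2) d.s_ne_one
  hsH := d.hSC d.hsS
  hsK := d.s_not_mem_K
  hH := d.K_sup_eq
  hCK := by
    apply le_antisymm
    · intro x hx
      obtain ⟨hxK, hxs⟩ := mem_inf.mp hx
      rw [mem_centralizer_singleton_iff] at hxs
      have h1 := d.s_inverts hxK
      have h2 : s * x * s⁻¹ = x := by
        rw [← hxs, mul_assoc, mul_inv_cancel, mul_one]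
      have h3 : x * x = 1 := by
        have : x = x⁻¹ := h2.symm.trans h1
        calc x * x = x * x⁻¹ := by rw [← this]
          _ = 1 := mul_inv_cancel x
      rcases d.sq_eq_one hxK h3 with h | h
      · rw [h]; exact one_mem _
      · rw [h]; exact mem_zpowers t
    · rw [zpowers_le]
      refine mem_inf.mpr ⟨le_sup_right (a := O) d.htS0, ?_⟩
      rw [mem_centralizer_singleton_iff]
      have := d.hSC d.hsS
      rw [mem_centralizer_singleton_iff] at this
      exact this.symm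
  hinv := fun x hx => d.s_inverts hx
  hTI := d.ti
  hconj := d.hconj

end Data

end core

end Cfsg.Agent.Lead.BswSetupCore
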