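import Mathlib

set_option autoImplicit false
set_option linter.style.haveILetI false

/-! Dihedral-group lemmas for the BSW setup piece (ZA). -/

namespace Cfsg.Agent.Lead.BswSetupDih

open DihedralGroup Subgroup

variable {n : ℕ}

/-- the rotation subgroup -/
def rot (n : ℕ) : Subgroup (DihedralGroup n) := zpowers (r 1)

theorem r_mem_rot [NeZero n] (i : ZMod n) : r i ∈ rot n := by
  refine mem_zpowers_iff.mpr ⟨(i.val : ℤ), ?_⟩
  rw [r_one_zpow]
  simp

theorem mem_rot_iff [NeZero n] (x : DihedralGroup n) : x ∈ rot n ↔ ∃ i, x = r i := by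
  constructor
  · intro hx
    obtain ⟨k, rfl⟩ := mem_zpowers_iff.mp hx
    exact ⟨_, r_one_zpow k⟩
  · rintro ⟨i, rfl⟩
    exact r_mem_rot i

theorem sr_not_mem_rot [NeZero n] (i : ZMod n) : sr i ∉ rot n := by
  rw [mem_rot_iff]
  rintro ⟨j, hj⟩
  cases hj

theorem card_rot [NeZero n] : Nat.card (rot n) = n := by
  unfold rot
  rw [Nat.card_zpowers, orderOf_r_one]

/-- In `D_n`, `n ≥ 3`, a cyclic subgroup of index two is the rotation subgroup. -/
theorem eq_rot_of_cyclic [NeZero n] (hn : 3 ≤ n) (A : Subgroup (DihedralGroup n)) [hA : IsCyclic A]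
    (hidx : A.index = 2) : A = rot n := by
  have hcardA : Nat.card A = n := by
    have h := A.card_mul_index
    rw [hidx, DihedralGroup.nat_card] at h
    omega
  obtain ⟨g, hg⟩ := hA.exists_generator
  have hog : orderOf (g : DihedralGroup n) = n := by
    rw [Subgroup.orderOf_coe, orderOf_eq_card_of_forall_mem_zpowers hg, hcardA]
  have hgr : ∃ i, (g : DihedralGroup n) = r i := by
    rcases hgv : (g : DihedralGroup n) with i | i
    · exact ⟨i, rfl⟩
    · rw [hgv, orderOf_sr] at hog
      omega
  obtain ⟨i, hi⟩ := hgr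
  have hle : A ≤ rot n := by
    intro x hx
    obtain ⟨k, hk⟩ := mem_zpowers_iff.mp (hg ⟨x, hx⟩)
    have : x = (g : DihedralGroup n) ^ k := by
      have := congrArg Subtype.val hk
      simpa using this.symm
    rw [this, hi]
    exact (rot n).zpow_mem (r_mem_rot i) k
  apply Subgroup.eq_of_le_of_card_ge hle
  rw [card_rot, hcardA]

/-- In a dihedral group, every element outside a cyclic subgroup of index two is an
involution inverting that subgroup. -/
theorem inverts_of_cyclic_index_two [NeZero n] (A : Subgroup (DihedralGroup n)) [IsCyclic A]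
    (hidx : A.index = 2) {x : DihedralGroup n} (hx : x ∉ A) :
    x * x = 1 ∧ ∀ a ∈ A, x * a * x⁻¹ = a⁻¹ := by
  by_cases hn : 3 ≤ n
  · have hA := eq_rot_of_cyclic hn A hidx
    rw [hA] at hx
    rcases x with i | i
    · exact absurd (r_mem_rot i) hx
    · refine ⟨sr_mul_self i, ?_⟩
      intro a ha
      rw [hA, mem_rot_iff] at ha
      obtain ⟨j, rfl⟩ := ha
      rw [inv_sr, sr_mul_r, sr_mul_sr, inv_r]
      congr 1
      ring
  · have hn0 : n ≠ 0 := NeZero.ne n
    have h12 : n = 1 ∨ n = 2 := by omega
    have hall : ∀ y z : DihedralGroup n, y * y = 1 ∧ y * z = z * y := by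
      rcases h12 with rfl | rfl <;> decide
    refine ⟨(hall x x).1, ?_⟩
    intro a _
    have h1 := (hall x a).2
    have h2 := (hall a a).1
    rw [h1, mul_assoc, mul_inv_cancel, mul_one]
    exact (inv_eq_of_mul_eq_one_left h2).symm

/-- A central element of `D_n`, `n ≥ 3`, is a rotation. -/
theorem mem_rot_of_central [NeZero n] (hn : 3 ≤ n) {z : DihedralGroup n}
    (hz : ∀ y : DihedralGroup n, y * z = z * y) : z ∈ rot n := by
  rcases z with i | i
  · exact r_mem_rot i
  · exfalso
    have h := hz (r 1)
    rw [r_mul_sr, sr_mul_r] at h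
    have h' : i - 1 = i + 1 := by
      injection h
    have h2 : (2 : ZMod n) = 0 := by
      have : (i + 1) - (i - 1) = 0 := by rw [h']; ring
      have h3 : (i + 1) - (i - 1) = (2 : ZMod n) := by ring
      rw [← h3]; exact this
    have hdvd : n ∣ 2 := by
      have := (ZMod.natCast_eq_zero_iff 2 n).mp (by exact_mod_cast h2)
      exact this
    have := Nat.le_of_dvd (by norm_num) hdvd
    omega

instance rot_isCyclic : IsCyclic (rot n) := by
  unfold rot
  infer_instance

theorem index_rot [NeZero n] : (rot n).index = 2 := by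
  have h := (rot n).card_mul_index
  rw [card_rot, DihedralGroup.nat_card] at h
  have hn0 : 0 < n := Nat.pos_of_ne_zero (NeZero.ne n)
  have : n * (rot n).index = n * 2 := by rw [h]; ring
  exact Nat.eq_of_mul_eq_mul_left hn0 this

/-- A central involution of `D_n`, `n ≥ 2`, lies in a cyclic subgroup of index two. -/
theorem exists_cyclic_index_two [NeZero n] (hn : 2 ≤ n) {z : DihedralGroup n} (hz2 : orderOf z = 2)
    (hz : ∀ y : DihedralGroup n, y * z = z * y) :
    ∃ A : Subgroup (DihedralGroup n), IsCyclic A ∧ A.index = 2 ∧ z ∈ A := by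
  by_cases h3 : 3 ≤ n
  · exact ⟨rot n, inferInstance, index_rot, mem_rot_of_central h3 hz⟩
  · have h2 : n = 2 := by omega
    subst h2
    refine ⟨zpowers z, inferInstance, ?_, mem_zpowers z⟩
    have h := (zpowers z).card_mul_index
    rw [Nat.card_zpowers, hz2, DihedralGroup.nat_card] at h
    omega

end Cfsg.Agent.Lead.BswSetupDih
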