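import Mathlib
import Cfsg.Prelude.Def_CaseTheorems
import Cfsg.Agent.Helper21.BswBasic
import Cfsg.Agent.Lead.BswSetupDih
import Cfsg.Agent.Lead.BswSetupCore
import Cfsg.Agent.Helper7.PPrimeCore
import Cfsg.Agent.Helper26.Basic
import Cfsg.Agent.Helper11.Transfer
import Cfsg.Agent.S0514
import Cfsg.Agent.S3864
import Cfsg.Agent.S0202
import Cfsg.Agent.S0203

set_option autoImplicit false
set_option linter.style.haveILetI false
set_option linter.unusedSectionVars false

/-! BSW piece ZA: from the hypotheses of S0508 to `Bsw.Hyp`. -/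

namespace Cfsg.Agent.Lead.BswSetup

open Subgroup Cfsg.Agent.Helper21.Bsw Cfsg.Agent.Lead.BswSetupDih Cfsg.Agent.Lead.BswSetupCore

variable {G : Type*} [Group G]

/-- transfer of the dihedral inversion lemma along an isomorphism -/
theorem transfer_inverts {n : ℕ} [NeZero n] (S : Subgroup G) (e : S ≃* DihedralGroup n)
    (S0 : Subgroup G) (hS0S : S0 ≤ S) (hcyc : IsCyclic S0) (hidx : S0.relIndex S = 2) {s : G}
    (hsS : s ∈ S) (hsS0 : s ∉ S0) : s * s = 1 ∧ ∀ a ∈ S0, s * a * s⁻¹ = a⁻¹ := by
  set B : Subgroup S := S0.subgroupOf S with hB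
  haveI : IsCyclic B :=
    isCyclic_of_surjective (subgroupOfEquivOfLe hS0S).symm (subgroupOfEquivOfLe hS0S).symm.surjective
  set A : Subgroup (DihedralGroup n) := B.map e.toMonoidHom with hA
  haveI : IsCyclic A :=
    isCyclic_of_surjective (B.equivMapOfInjective e.toMonoidHom e.injective)
      (B.equivMapOfInjective e.toMonoidHom e.injective).surjective
  have hAidx : A.index = 2 := by
    rw [hA]
    have := index_map_equiv (H := B) e
    rw [show (map (e : S →* DihedralGroup n) B) = map e.toMonoidHom B from rfl] at this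
    rw [this]
    exact hidx
  have hx : e ⟨s, hsS⟩ ∉ A := by
    rintro ⟨y, hy, hye⟩
    have : y = ⟨s, hsS⟩ := e.injective hye
    rw [this, hB] at hy
    have hy' : (⟨s, hsS⟩ : S) ∈ S0.subgroupOf S := hy
    exact hsS0 (mem_subgroupOf.mp hy')
  obtain ⟨h1, h2⟩ := inverts_of_cyclic_index_two A hAidx hx
  constructor
  · have : e (⟨s, hsS⟩ * ⟨s, hsS⟩) = e 1 := by rw [map_mul, h1, map_one]
    have := e.injective this
    exact congrArg Subtype.val this
  · intro a ha
    have haB : (⟨a, hS0S ha⟩ : S) ∈ S0.subgroupOf S := mem_subgroupOf.mpr ha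
    have haA : e ⟨a, hS0S ha⟩ ∈ A := ⟨⟨a, hS0S ha⟩, haB, rfl⟩
    have h3 := h2 _ haA
    have : e (⟨s, hsS⟩ * ⟨a, hS0S ha⟩ * ⟨s, hsS⟩⁻¹) = e (⟨a, hS0S ha⟩⁻¹) := by
      rw [map_mul, map_mul, map_inv, map_inv, h3]
    have := e.injective this
    exact congrArg Subtype.val this

/-- existence of a cyclic subgroup of index two containing a central involution -/
theorem exists_S0 {n : ℕ} [NeZero n] (hn : 2 ≤ n) (S : Subgroup G) (e : S ≃* DihedralGroup n)
    {t : G} (ht : orderOf t = 2) (htS : t ∈ S) (htZ : ∀ s ∈ S, s * t = t * s) :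
    ∃ S0 : Subgroup G, S0 ≤ S ∧ IsCyclic S0 ∧ S0.relIndex S = 2 ∧ t ∈ S0 := by
  have hz2 : orderOf (e ⟨t, htS⟩) = 2 := by
    have h1 := orderOf_injective e.toMonoidHom e.injective ⟨t, htS⟩
    have h2 : orderOf (e ⟨t, htS⟩) = orderOf (⟨t, htS⟩ : S) := h1
    rw [h2, Subgroup.orderOf_mk, ht]
  have hz : ∀ y : DihedralGroup n, y * e ⟨t, htS⟩ = e ⟨t, htS⟩ * y := by
    intro y
    obtain ⟨y', rfl⟩ := e.surjective y
    rw [← map_mul, ← map_mul]
    congr 1
    apply Subtype.ext
    exact htZ y' y'.2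
  obtain ⟨A, hAc, hAi, hzA⟩ := exists_cyclic_index_two hn hz2 hz
  set B : Subgroup S := A.map e.symm.toMonoidHom with hB
  haveI := hAc
  haveI : IsCyclic B :=
    isCyclic_of_surjective (A.equivMapOfInjective e.symm.toMonoidHom e.symm.injective)
      (A.equivMapOfInjective e.symm.toMonoidHom e.symm.injective).surjective
  refine ⟨B.map S.subtype, map_subtype_le B, ?_, ?_, ?_⟩
  · exact isCyclic_of_surjective (B.equivMapOfInjective S.subtype S.subtype_injective)
      (B.equivMapOfInjective S.subtype S.subtype_injective).surjective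
  · unfold relIndex
    have : (B.map S.subtype).subgroupOf S = B := comap_map_eq_self_of_injective S.subtype_injective B
    rw [this, hB]
    have := index_map_equiv (H := A) e.symm
    rw [show (map (e.symm : DihedralGroup n →* S) A) = map e.symm.toMonoidHom A from rfl] at this
    rw [this, hAi]
  · refine ⟨⟨t, htS⟩, ?_, rfl⟩
    refine ⟨e ⟨t, htS⟩, hzA, ?_⟩
    exact e.symm_apply_apply _


section conj

variable [Finite G] [IsSimpleGroup G]

theorem not_comm_of_four_dvd (t : G) (ht : orderOf t = 2) (h4 : 4 ≤ Nat.card G) :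
    ¬ IsMulCommutative G := by
  intro hc
  have hn : (zpowers t).Normal := by
    refine ⟨fun x hx g => ?_⟩
    have : g * x * g⁻¹ = x := by
      have := hc.is_comm.comm g x
      rw [this, mul_assoc, mul_inv_cancel, mul_one]
    rw [this]; exact hx
  rcases hn.eq_bot_or_eq_top with h | h
  · rw [zpowers_eq_bot] at h
    rw [h, orderOf_one] at ht
    omega
  · have hcard : Nat.card (zpowers t) = Nat.card G := by
      rw [h]; exact Subgroup.card_top
    rw [Nat.card_zpowers, ht] at hcard
    omega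

theorem card_sylow_eq (P S : Sylow 2 G) : Nat.card P = Nat.card S := by
  haveI : Fact (Nat.Prime 2) := ⟨Nat.prime_two⟩
  rw [Sylow.card_eq_multiplicity, Sylow.card_eq_multiplicity]

/-- A simple group has no normal complement to a Sylow 2-subgroup of order at least 4. -/
theorem no_normal_complement (S : Sylow 2 G) (t : G) (ht : orderOf t = 2)
    (h4 : 4 ≤ Nat.card S) (P : Sylow 2 G) (N : Subgroup G) (hN : N.Normal)
    (hc : N.IsComplement' (P : Subgroup G)) : False := by
  haveI : Fact (Nat.Prime 2) := ⟨Nat.prime_two⟩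
  have hPS := card_sylow_eq P S
  have hG4 : 4 ≤ Nat.card G := h4.trans (Nat.le_of_dvd Nat.card_pos (Subgroup.card_subgroup_dvd_card _))
  have hmul := hc.card_mul_card
  rcases hN.eq_bot_or_eq_top with h | h
  · rw [h, Subgroup.card_bot, one_mul] at hmul
    have hP : (P : Subgroup G) = ⊤ := Subgroup.eq_top_of_card_eq _ hmul
    apply Cfsg.Agent.Helper11.simple_not_pgroup (not_comm_of_four_dvd t ht hG4) 2
    have := P.2
    rw [hP] at this
    exact IsPGroup.of_equiv this Subgroup.topEquiv
  · rw [h, Subgroup.card_top] at hmul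
    have : Nat.card P = 1 := by
      have hpos : 0 < Nat.card G := Nat.card_pos
      have : Nat.card G * Nat.card P = Nat.card G * 1 := by rw [hmul, mul_one]
      exact Nat.eq_of_mul_eq_mul_left hpos this
    omega

theorem involutions_conj {n : ℕ} (hn : 2 ≤ n) (S : Sylow 2 G)
    (e : (S : Subgroup G) ≃* DihedralGroup n) :
    ∀ x y : G, orderOf x = 2 → orderOf y = 2 → IsConj x y := by
  haveI : Fact (Nat.Prime 2) := ⟨Nat.prime_two⟩
  intro x y hx hy
  have hcardS : Nat.card (S : Subgroup G) = 2 * n := by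
    rw [Nat.card_congr e.toEquiv, DihedralGroup.nat_card]
  have h4 : 4 ≤ Nat.card (S : Subgroup G) := by omega
  by_cases h3 : 3 ≤ n
  · -- order at least 8: landed S3864
    obtain ⟨a, ha⟩ := (IsPGroup.iff_card).mp S.2
    have ha3 : 3 ≤ a := by
      rw [ha] at hcardS
      by_contra hlt
      have : a ≤ 2 := by omega
      have : 2 ^ a ≤ 2 ^ 2 := Nat.pow_le_pow_right (by norm_num) this
      omega
    have hn' : n = 2 ^ (a - 1) := by
      rw [ha] at hcardS
      have : 2 ^ a = 2 * 2 ^ (a - 1) := by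
        rw [← pow_succ']
        congr 1
        omega
      omega
    subst hn'
    rcases Cfsg.Agent.S3864.result S a ha3 ⟨e⟩ with ⟨h1, -⟩ | ⟨-, ⟨N, hN, hNi⟩, -⟩ | ⟨-, P, N, hN, hc⟩
    · have hsub := (Nat.card_eq_one_iff_unique.mp h1).1
      have := hsub.elim ⟨ConjClasses.mk x, x, rfl, hx⟩ ⟨ConjClasses.mk y, y, rfl, hy⟩
      have := congrArg Subtype.val this
      exact ConjClasses.mk_eq_mk_iff_isConj.mp this
    · exfalso
      have hG4 : 4 ≤ Nat.card G :=
        h4.trans (Nat.le_of_dvd Nat.card_pos (Subgroup.card_subgroup_dvd_card _))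
      rcases hN.eq_bot_or_eq_top with h | h
      · rw [h, Subgroup.index_bot] at hNi
        omega
      · rw [h, Subgroup.index_top] at hNi
        omega
    · exact (no_normal_complement S x hx h4 P N hN hc).elim
  · -- Klein four: landed S0202 / S0203
    have hn2 : n = 2 := by omega
    subst hn2
    have hK : IsKleinFour (S : Subgroup G) :=
      { card_four := by rw [hcardS]
        exponent_two := by
          rw [Monoid.exponent_eq_of_mulEquiv e, DihedralGroup.exponent]
          rfl }
    have h13 := Cfsg.Agent.S0202.result S hK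
    have h3' := Cfsg.Agent.S0203.result S hK
    rcases h13 with h1 | h3c
    · have hsub := (Nat.card_eq_one_iff_unique.mp h1).1
      have := hsub.elim ⟨ConjClasses.mk x, x, hx, rfl⟩ ⟨ConjClasses.mk y, y, hy, rfl⟩
      have := congrArg Subtype.val this
      exact ConjClasses.mk_eq_mk_iff_isConj.mp this
    · obtain ⟨N, hN, hc⟩ := h3'.mp h3c
      exact (no_normal_complement S x hx h4 S N hN hc).elim

end conj


end Cfsg.Agent.Lead.BswSetup

namespace Cfsg.Agent.Helper21.Bsw

open Subgroup Cfsg.Agent.Lead.BswSetupCore Cfsg.Agent.Lead.BswSetup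

/-- **Piece ZA**: the hypotheses of S0508 give the hypotheses of the abstract
Brauer–Suzuki–Wall theorem. -/
theorem exists_hyp {G : Type*} [Group G] [Finite G] [IsSimpleGroup G] (S : Sylow 2 G) (n : ℕ)
    (hn : 2 ≤ n) (hS : Nonempty ((S : Subgroup G) ≃* DihedralGroup n)) (t : G) (ht : orderOf t = 2)
    (htS : t ∈ (S : Subgroup G))
    (htZ : ∀ s ∈ (S : Subgroup G), s * t = t * s) (O : Subgroup G)
    (hO : O = (Cfsg.oddCore (Subgroup.centralizer ({t} : Set G))).map (Subgroup.centralizer ({t} : Set G)).subtype)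
    (ha : O ≠ ⊥ → IsCyclic ((S : Subgroup G) ⊓ Subgroup.centralizer (O : Set G) : Subgroup G) ∧
      ((S : Subgroup G) ⊓ Subgroup.centralizer (O : Set G)).relIndex (S : Subgroup G) = 2)
    (hb : ∀ s ∈ (S : Subgroup G), s ∉ Subgroup.centralizer (O : Set G) → ∀ y ∈ O, s * y * s⁻¹ = y⁻¹)
    (hc : ∀ Y : Subgroup G, Y ≤ O → Y ≠ ⊥ → Subgroup.normalizer (Y : Set G) ≤ Subgroup.centralizer ({t} : Set G)) :
    ∃ (s : G) (K : Subgroup G), Hyp t s K := by
  classical
  haveI : Fact (Nat.Prime 2) := ⟨Nat.prime_two⟩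
  obtain ⟨e⟩ := hS
  haveI : NeZero n := ⟨by omega⟩
  set C : Subgroup G := centralizer ({t} : Set G) with hCdef
  set OC : Subgroup C := Cfsg.oddCore C with hOC
  -- S ≤ C
  have hSC : (S : Subgroup G) ≤ C := by
    intro x hx
    rw [hCdef, mem_centralizer_singleton_iff]
    exact htZ x hx
  have hOleC : O ≤ C := by rw [hO]; exact map_subtype_le _
  -- O has odd order
  have hOCcop : (Nat.card OC).Coprime 2 := Cfsg.Agent.Helper19.pPrimeCore_coprime 2
  have hcardO : Nat.card O = Nat.card OC := by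
    rw [hO]
    exact Nat.card_congr (OC.equivMapOfInjective _ C.subtype_injective).symm.toEquiv
  have hOodd : Odd (Nat.card O) := by
    rw [hcardO]
    exact Nat.coprime_two_right.mp hOCcop
  -- O is normalised by C
  have hOCn : OC.Normal := Subgroup.normal_of_characteristic OC
  have hnormO : ∀ g ∈ C, ∀ x ∈ O, g * x * g⁻¹ ∈ O := by
    intro g hg x hx
    rw [hO] at hx ⊢
    obtain ⟨x0, hx0, rfl⟩ := hx
    exact ⟨⟨g, hg⟩ * x0 * ⟨g, hg⟩⁻¹, hOCn.conj_mem x0 hx0 ⟨g, hg⟩, rfl⟩
  have hCnorm : C ≤ normalizer (O : Set G) := by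
    intro g hg
    rw [mem_normalizer_iff]
    intro x
    constructor
    · exact hnormO g hg x
    · intro hx
      have := hnormO g⁻¹ (C.inv_mem hg) _ hx
      have e1 : g⁻¹ * (g * x * g⁻¹) * g⁻¹⁻¹ = x := by group
      rwa [e1] at this
  -- index of OC is a power of two (landed S0514)
  obtain ⟨N, hNn, hNodd, k, hNk⟩ := Cfsg.Agent.S0514.result S n hn ⟨e⟩ t ht
  have hNle : N ≤ OC := by
    apply Cfsg.Agent.Helper7.le_pPrimeCore hNn
    exact Nat.coprime_two_right.mpr hNodd
  have hOCidx : OC.index ∣ 2 ^ k := by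
    rw [← hNk]
    exact Subgroup.index_dvd_of_le hNle
  have hOrel : O.relIndex C ∣ 2 ^ k := by
    have : O.subgroupOf C = OC := by
      rw [hO]
      exact comap_map_eq_self_of_injective C.subtype_injective OC
    unfold relIndex
    rw [this]
    exact hOCidx
  -- O ⊓ S = ⊥
  have hOS : O ⊓ (S : Subgroup G) = ⊥ := by
    rw [← disjoint_iff]
    apply Subgroup.disjoint_of_coprime_natCard
    obtain ⟨a, ha'⟩ := (IsPGroup.iff_card).mp S.2
    rw [ha']
    apply Nat.Coprime.pow_right
    exact Nat.coprime_two_right.mpr hOodd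
  -- O ⊔ S = C
  have hsupC : O ⊔ (S : Subgroup G) = C := by
    have hle : O ⊔ (S : Subgroup G) ≤ C := sup_le hOleC hSC
    have h1 : (O ⊔ (S : Subgroup G)).relIndex C ∣ 2 ^ k :=
      (relIndex_dvd_of_le_left C (le_sup_left : O ≤ O ⊔ (S : Subgroup G))).trans hOrel
    have h2 : (O ⊔ (S : Subgroup G)).relIndex C ∣ (S : Subgroup G).index := by
      have h3 := relIndex_dvd_of_le_left C (le_sup_right : (S : Subgroup G) ≤ O ⊔ (S : Subgroup G))
      have h4 : (S : Subgroup G).relIndex C ∣ (S : Subgroup G).index :=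
        ⟨C.index, (relIndex_mul_index hSC).symm⟩
      exact h3.trans h4
    have h5 : ¬ 2 ∣ (S : Subgroup G).index := S.not_dvd_index
    have h6 : (O ⊔ (S : Subgroup G)).relIndex C = 1 := by
      obtain ⟨j, -, hj⟩ := (Nat.dvd_prime_pow Nat.prime_two).mp h1
      rcases Nat.eq_zero_or_pos j with hj0 | hj0
      · rw [hj, hj0, pow_zero]
      · exfalso
        apply h5
        have : 2 ∣ (O ⊔ (S : Subgroup G)).relIndex C := by
          rw [hj]; exact dvd_pow_self 2 hj0.ne'
        exact this.trans h2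
    rw [relIndex_eq_one] at h6
    exact le_antisymm hle h6
  -- conjugacy of involutions
  have hconj := involutions_conj hn S e
  -- the common final step
  have key : ∀ S0 : Subgroup G, S0 ≤ (S : Subgroup G) → IsCyclic S0 →
      S0.relIndex (S : Subgroup G) = 2 → t ∈ S0 → S0 ≤ centralizer (O : Set G) →
      (∀ s ∈ (S : Subgroup G), s ∉ S0 → ∀ y ∈ O, s * y * s⁻¹ = y⁻¹) →
      ∃ (s : G) (K : Subgroup G), Hyp t s K := by
    intro S0 hS0S hcyc hidx htS0 hS0O hsO
    have hex : ∃ s ∈ (S : Subgroup G), s ∉ S0 := by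
      by_contra hcon
      push Not at hcon
      have : (S : Subgroup G) ≤ S0 := hcon
      rw [← relIndex_eq_one] at this
      omega
    obtain ⟨s, hsS, hsS0⟩ := hex
    obtain ⟨hs2, hsinv⟩ := transfer_inverts (S : Subgroup G) e S0 hS0S hcyc hidx hsS hsS0
    have d : Data t s O S0 (S : Subgroup G) :=
      { ht := ht
        hOC := hOleC
        hSC := hSC
        hOS := hOS
        hC := hsupC
        hOodd := hOodd
        hS2 := S.2
        hS0S := hS0S
        hcyc := hcyc
        hidx := hidx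
        htS0 := htS0
        hS0O := hS0O
        hsS := hsS
        hsS0 := hsS0
        hs2 := hs2
        hsinvS0 := hsinv
        hsinvO := hsO s hsS hsS0
        hc := hc
        hconj := hconj }
    exact ⟨s, O ⊔ S0, d.hyp⟩
  by_cases hOb : O = ⊥
  · -- O trivial
    obtain ⟨S0, hS0S, hcyc, hidx, htS0⟩ := exists_S0 hn (S : Subgroup G) e ht htS htZ
    apply key S0 hS0S hcyc hidx htS0
    · rw [hOb]
      intro x _
      rw [mem_centralizer_iff]
      intro y hy
      rw [coe_bot, Set.mem_singleton_iff] at hy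
      rw [hy, one_mul, mul_one]
    · intro s _ _ y hy
      rw [hOb, mem_bot] at hy
      rw [hy]; group
  · -- O nontrivial
    obtain ⟨hcyc, hidx⟩ := ha hOb
    apply key ((S : Subgroup G) ⊓ centralizer (O : Set G)) inf_le_left hcyc hidx
    · refine mem_inf.mpr ⟨htS, ?_⟩
      rw [mem_centralizer_iff]
      intro y hy
      have := hOleC hy
      rw [hCdef, mem_centralizer_singleton_iff] at this
      exact this
    · exact inf_le_right
    · intro s hsS hs y hy
      apply hb s hsS _ y hy
      intro hsc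
      exact hs (mem_inf.mpr ⟨hsS, hsc⟩)

end Cfsg.Agent.Helper21.Bsw
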