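import Mathlib

set_option autoImplicit false
set_option linter.style.haveILetI false

/-! Counting subgroups of order `p` and `p ^ 2` of an elementary abelian `p`-group
(piece CNT of S4025). -/

namespace Cfsg.Agent.Lead.CntSub

open AddSubgroup

variable {p : ℕ} [Fact p.Prime] {V : Type*} [AddCommGroup V]

theorem card_zmultiples_of_ne (hpV : ∀ v : V, p • v = 0) {v : V} (hv : v ≠ 0) :
    Nat.card (zmultiples v) = p := by
  rw [Nat.card_zmultiples, addOrderOf_eq_prime (hpV v) hv]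

theorem zmultiples_eq_of_mem [Finite V] (hpV : ∀ v : V, p • v = 0) {L : AddSubgroup V}
    (hL : Nat.card L = p) {v : V} (hvL : v ∈ L) (hv : v ≠ 0) : zmultiples v = L := by
  apply AddSubgroup.eq_of_le_of_card_ge
  · exact zmultiples_le_of_mem hvL
  · rw [hL, card_zmultiples_of_ne hpV hv]

theorem card_diff [Finite V] (U A : AddSubgroup V) (hAU : A ≤ U) :
    Nat.card {w : V // w ∈ U ∧ w ∉ A} = Nat.card U - Nat.card A := by
  have h1 : Nat.card {w : V // w ∈ U ∧ w ∉ A} = ((U : Set V) \ (A : Set V)).ncard := by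
    rw [← Nat.card_coe_set_eq]
    rfl
  rw [h1, Set.ncard_sdiff (by exact_mod_cast hAU) (Set.toFinite _)]
  rfl

theorem card_ne_zero' [Finite V] (U : AddSubgroup V) :
    Nat.card {v : V // v ∈ U ∧ v ≠ 0} = Nat.card U - 1 := by
  have h := card_diff U ⊥ bot_le
  rw [AddSubgroup.card_bot] at h
  rw [← h]
  apply Nat.card_congr
  exact Equiv.subtypeEquivRight (fun w => by rw [AddSubgroup.mem_bot])

/-- The number of independent pairs inside a subgroup of order `p ^ m`. -/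
theorem card_indep_pairs [Finite V] (hpV : ∀ v : V, p • v = 0) (U : AddSubgroup V) {m : ℕ}
    (hU : Nat.card U = p ^ m) :
    Nat.card {x : V × V // x.1 ∈ U ∧ x.2 ∈ U ∧ x.1 ≠ 0 ∧ x.2 ∉ zmultiples x.1} =
      (p ^ m - 1) * (p ^ m - p) := by
  classical
  let e : {x : V × V // x.1 ∈ U ∧ x.2 ∈ U ∧ x.1 ≠ 0 ∧ x.2 ∉ zmultiples x.1} ≃
      Σ v : {v : V // v ∈ U ∧ v ≠ 0}, {w : V // w ∈ U ∧ w ∉ zmultiples v.1} :=
    { toFun := fun x => ⟨⟨x.1.1, x.2.1, x.2.2.2.1⟩, ⟨x.1.2, x.2.2.1, x.2.2.2.2⟩⟩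
      invFun := fun y => ⟨(y.1.1, y.2.1), y.1.2.1, y.2.2.1, y.1.2.2, y.2.2.2⟩
      left_inv := fun x => rfl
      right_inv := fun y => rfl }
  rw [Nat.card_congr e]
  haveI : Fintype {v : V // v ∈ U ∧ v ≠ 0} := Fintype.ofFinite _
  rw [Nat.card_sigma]
  have hin : ∀ v : {v : V // v ∈ U ∧ v ≠ 0},
      Nat.card {w : V // w ∈ U ∧ w ∉ zmultiples v.1} = p ^ m - p := by
    intro v
    rw [card_diff U (zmultiples v.1) (zmultiples_le_of_mem v.2.1), hU,
      card_zmultiples_of_ne hpV v.2.2]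
  simp_rw [hin]
  rw [Finset.sum_const, Finset.card_univ, smul_eq_mul, Fintype.card_eq_nat_card,
    card_ne_zero' U, hU]


theorem sigma_eq_of_eq {ι : Type*} {X : Type*} {P : ι → X → Prop} {i j : ι} (h : i = j) (x : X)
    (hi : P i x) (hj : P j x) :
    (⟨i, ⟨x, hi⟩⟩ : Σ i : ι, {x : X // P i x}) = ⟨j, ⟨x, hj⟩⟩ := by
  subst h
  rfl

theorem card_addSubgroup_prime {p : ℕ} [Fact p.Prime] {V : Type*} [AddCommGroup V] [Finite V]
    (hpV : ∀ v : V, p • v = 0) {n : ℕ} (hV : Nat.card V = p ^ n) :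
    Nat.card {L : AddSubgroup V // Nat.card L = p} * (p - 1) = p ^ n - 1 := by
  classical
  haveI : Finite (AddSubgroup V) := Finite.of_injective (fun L => (L : Set V)) SetLike.coe_injective
  let e : {v : V // v ∈ (⊤ : AddSubgroup V) ∧ v ≠ 0} ≃
      Σ L : {L : AddSubgroup V // Nat.card L = p}, {v : V // v ∈ L.1 ∧ v ≠ 0} :=
    { toFun := fun v => ⟨⟨zmultiples v.1, card_zmultiples_of_ne hpV v.2.2⟩,
        ⟨v.1, mem_zmultiples v.1, v.2.2⟩⟩
      invFun := fun y => ⟨y.2.1, AddSubgroup.mem_top _, y.2.2.2⟩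
      left_inv := fun v => rfl
      right_inv := by
        rintro ⟨⟨L, hL⟩, ⟨v, hvL, hv0⟩⟩
        apply sigma_eq_of_eq (P := fun (L : {L : AddSubgroup V // Nat.card L = p}) (v : V) =>
          v ∈ L.1 ∧ v ≠ 0)
        exact Subtype.ext (zmultiples_eq_of_mem hpV hL hvL hv0) }
  have h1 := Nat.card_congr e
  rw [card_ne_zero' (⊤ : AddSubgroup V), AddSubgroup.card_top, hV] at h1
  haveI : Fintype {L : AddSubgroup V // Nat.card L = p} := Fintype.ofFinite _
  rw [Nat.card_sigma] at h1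
  have hin : ∀ L : {L : AddSubgroup V // Nat.card L = p},
      Nat.card {v : V // v ∈ L.1 ∧ v ≠ 0} = p - 1 := by
    intro L
    rw [card_ne_zero' L.1, L.2]
  simp_rw [hin] at h1
  rw [Finset.sum_const, Finset.card_univ, smul_eq_mul, Fintype.card_eq_nat_card] at h1
  exact h1.symm

theorem card_sup_zmultiples [Finite V] (hpV : ∀ v : V, p • v = 0) {v w : V} (hv : v ≠ 0)
    (hw : w ∉ zmultiples v) : Nat.card ↥(zmultiples v ⊔ zmultiples w) = p ^ 2 := by
  have hw0 : w ≠ 0 := fun h => hw (h ▸ (zmultiples v).zero_mem)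
  let f : zmultiples v × zmultiples w →+ V :=
    (zmultiples v).subtype.coprod (zmultiples w).subtype
  have hf : ∀ x : zmultiples v × zmultiples w, f x = (x.1 : V) + (x.2 : V) := fun x => rfl
  have hinj : Function.Injective f := by
    rw [injective_iff_map_eq_zero]
    rintro ⟨⟨a, ha⟩, ⟨b, hb⟩⟩ hab
    rw [hf] at hab
    simp only at hab
    have hba : b = -a := by
      have := eq_neg_of_add_eq_zero_right hab
      exact this
    have hbv : b ∈ zmultiples v := by
      rw [hba]; exact (zmultiples v).neg_mem ha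
    have hb0 : b = 0 := by
      by_contra hb0
      have := zmultiples_eq_of_mem hpV (card_zmultiples_of_ne hpV hw0) hb hb0
      apply hw
      have hwb : w ∈ zmultiples b := by
        rw [this]; exact mem_zmultiples w
      exact (zmultiples_le_of_mem hbv) hwb
    have ha0 : a = 0 := by
      rw [hb0] at hba
      have := congrArg Neg.neg hba
      simpa using this.symm
    ext
    · exact ha0
    · exact hb0
  have hrange : f.range = zmultiples v ⊔ zmultiples w := by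
    apply le_antisymm
    · rintro _ ⟨x, rfl⟩
      rw [hf]
      exact AddSubgroup.add_mem_sup x.1.2 x.2.2
    · rw [sup_le_iff]
      constructor
      · intro a ha
        exact ⟨(⟨a, ha⟩, 0), by rw [hf]; simp⟩
      · intro b hb
        exact ⟨(0, ⟨b, hb⟩), by rw [hf]; simp⟩
  rw [← hrange]
  rw [← Nat.card_congr (AddMonoidHom.ofInjective hinj).toEquiv, Nat.card_prod,
    card_zmultiples_of_ne hpV hv, card_zmultiples_of_ne hpV hw0, sq]

theorem card_addSubgroup_prime_sq {p : ℕ} [Fact p.Prime] {V : Type*} [AddCommGroup V] [Finite V]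
    (hpV : ∀ v : V, p • v = 0) {n : ℕ} (hV : Nat.card V = p ^ n) :
    Nat.card {W : AddSubgroup V // Nat.card W = p ^ 2} * ((p ^ 2 - 1) * (p ^ 2 - p)) =
      (p ^ n - 1) * (p ^ n - p) := by
  classical
  haveI : Finite (AddSubgroup V) := Finite.of_injective (fun L => (L : Set V)) SetLike.coe_injective
  let e : {x : V × V // x.1 ∈ (⊤ : AddSubgroup V) ∧ x.2 ∈ (⊤ : AddSubgroup V) ∧ x.1 ≠ 0 ∧
        x.2 ∉ zmultiples x.1} ≃
      Σ W : {W : AddSubgroup V // Nat.card W = p ^ 2},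
        {x : V × V // x.1 ∈ W.1 ∧ x.2 ∈ W.1 ∧ x.1 ≠ 0 ∧ x.2 ∉ zmultiples x.1} :=
    { toFun := fun x => ⟨⟨zmultiples x.1.1 ⊔ zmultiples x.1.2,
          card_sup_zmultiples hpV x.2.2.2.1 x.2.2.2.2⟩,
        ⟨x.1, (le_sup_left : zmultiples x.1.1 ≤ _) (mem_zmultiples _),
          (le_sup_right : zmultiples x.1.2 ≤ _) (mem_zmultiples _), x.2.2.2.1, x.2.2.2.2⟩⟩
      invFun := fun y => ⟨y.2.1, AddSubgroup.mem_top _, AddSubgroup.mem_top _, y.2.2.2.2.1,
        y.2.2.2.2.2⟩
      left_inv := fun x => rfl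
      right_inv := by
        rintro ⟨⟨W, hW⟩, ⟨x, hx1, hx2, hx3, hx4⟩⟩
        apply sigma_eq_of_eq (P := fun (W : {W : AddSubgroup V // Nat.card W = p ^ 2})
          (x : V × V) => x.1 ∈ W.1 ∧ x.2 ∈ W.1 ∧ x.1 ≠ 0 ∧ x.2 ∉ zmultiples x.1)
        apply Subtype.ext
        apply AddSubgroup.eq_of_le_of_card_ge
        · exact sup_le (zmultiples_le_of_mem hx1) (zmultiples_le_of_mem hx2)
        · rw [hW, card_sup_zmultiples hpV hx3 hx4] }
  have h1 := Nat.card_congr e
  rw [card_indep_pairs hpV (⊤ : AddSubgroup V) (m := n) (by rw [AddSubgroup.card_top, hV])] at h1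
  haveI : Fintype {W : AddSubgroup V // Nat.card W = p ^ 2} := Fintype.ofFinite _
  rw [Nat.card_sigma] at h1
  have hin : ∀ W : {W : AddSubgroup V // Nat.card W = p ^ 2},
      Nat.card {x : V × V // x.1 ∈ W.1 ∧ x.2 ∈ W.1 ∧ x.1 ≠ 0 ∧ x.2 ∉ zmultiples x.1} =
        (p ^ 2 - 1) * (p ^ 2 - p) := fun W => card_indep_pairs hpV W.1 W.2
  simp_rw [hin] at h1
  rw [Finset.sum_const, Finset.card_univ, smul_eq_mul, Fintype.card_eq_nat_card] at h1
  exact h1.symm

end Cfsg.Agent.Lead.CntSub
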