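import Mathlib

/-!
# Arithmetic pieces for S3795 (Gross, `p = 2`)

* `Cfsg.Agent.Lead.GrossTwo.sq_lt_pow` : `(2x-1)^2 < q^x` for `q ≥ 3`, `x ≥ 4`.
* `Cfsg.Agent.Lead.GrossTwo.mult_ne_zero` : arithmetic core of the counting lemma (K'):
  multiplicities `m : ι → ℕ` (`|ι| = P`) with `∑ m = D`, `∑ m^2 ≤ B`,
  `B * P ≤ D^2 + (P-1) * F` (Burnside) and `(P-1)^2 * F < D^2` are all nonzero.
-/

namespace Cfsg.Agent.Lead.GrossTwo

/-- `(2x-1)^2 < q^x` for `q ≥ 3`, `x ≥ 4` (stated without truncated subtraction: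
`(2x)^2 < q^x` is false for `x = 4, q = 3`, so we state it with `2x - 1` as `2 * y + 7`, `x = y + 4`). -/
theorem sq_lt_pow_aux (q : ℕ) (hq : 3 ≤ q) (y : ℕ) : (2 * y + 7) ^ 2 < q ^ (y + 4) := by
  have h3 : (2 * y + 7) ^ 2 < 3 ^ (y + 4) := by
    induction y with
    | zero => norm_num
    | succ k ih =>
      have : 3 ^ (k + 1 + 4) = 3 * 3 ^ (k + 4) := by ring
      rw [this]
      have h2 : (2 * (k + 1) + 7) ^ 2 ≤ 3 * (2 * k + 7) ^ 2 := by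
        have e1 : (2 * (k + 1) + 7) ^ 2 = 4 * k ^ 2 + 36 * k + 81 := by ring
        have e2 : 3 * (2 * k + 7) ^ 2 = 12 * k ^ 2 + 84 * k + 147 := by ring
        rw [e1, e2]
        omega
      omega
  exact lt_of_lt_of_le h3 (Nat.pow_le_pow_left hq _)

/-- `(2x-1)^2 < q^x` for `q ≥ 3`, `x ≥ 4` (natural subtraction, `2x - 1 ≥ 7`). -/
theorem sq_lt_pow (q x : ℕ) (hq : 3 ≤ q) (hx : 4 ≤ x) : (2 * x - 1) ^ 2 < q ^ x := by
  obtain ⟨y, rfl⟩ := Nat.exists_eq_add_of_le hx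
  have h := sq_lt_pow_aux q hq y
  have e : 2 * (4 + y) - 1 = 2 * y + 7 := by omega
  rw [e, Nat.add_comm 4 y]
  exact h

/-- If `P ≤ 2x`, `x ≥ 4`, `q ≥ 3` then `(P-1)^2 < q^x`. -/
theorem pred_sq_lt_pow (q x P : ℕ) (hq : 3 ≤ q) (hx : 4 ≤ x) (hP : P ≤ 2 * x) :
    (P - 1) ^ 2 < q ^ x :=
  lt_of_le_of_lt (Nat.pow_le_pow_left (by omega) 2) (sq_lt_pow q x hq hx)

/-- Cauchy–Schwarz over a finset, natural-number form: `(∑_{i∈s} m i)^2 ≤ |s| * ∑_{i∈s} (m i)^2`. -/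
theorem sum_sq_le_card_mul {ι : Type*} (s : Finset ι) (m : ι → ℕ) :
    (∑ i ∈ s, m i) ^ 2 ≤ s.card * ∑ i ∈ s, (m i) ^ 2 := by
  have key : ((∑ i ∈ s, m i : ℕ) : ℤ) ^ 2 ≤ (s.card : ℤ) * ((∑ i ∈ s, (m i) ^ 2 : ℕ) : ℤ) := by
    push_cast
    exact sq_sum_le_card_mul_sum_sq (s := s) (f := fun i => (m i : ℤ))
  exact_mod_cast key

/-- Arithmetic core of the counting lemma (K'). -/
theorem mult_ne_zero {ι : Type*} [Fintype ι] [DecidableEq ι] (m : ι → ℕ) (D B F : ℕ)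
    (hD : ∑ i, m i = D) (hB : ∑ i, (m i) ^ 2 ≤ B)
    (hBurn : B * Fintype.card ι ≤ D ^ 2 + (Fintype.card ι - 1) * F)
    (hlt : (Fintype.card ι - 1) ^ 2 * F < D ^ 2) : ∀ i, m i ≠ 0 := by
  intro a ha
  set P := Fintype.card ι with hP
  have hPpos : 1 ≤ P := Fintype.card_pos_iff.mpr ⟨a⟩
  -- D = sum over the complement of a
  have h1 : ∑ i ∈ Finset.univ.erase a, m i = D := by
    rw [← hD, ← Finset.add_sum_erase Finset.univ m (Finset.mem_univ a), ha, zero_add]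
  have hcard : (Finset.univ.erase a).card = P - 1 := by
    rw [Finset.card_erase_of_mem (Finset.mem_univ a), Finset.card_univ]
  have h2 : D ^ 2 ≤ (P - 1) * ∑ i ∈ Finset.univ.erase a, (m i) ^ 2 := by
    rw [← h1, ← hcard]; exact sum_sq_le_card_mul _ _
  have h3 : ∑ i ∈ Finset.univ.erase a, (m i) ^ 2 ≤ B :=
    le_trans (Finset.sum_le_sum_of_subset (Finset.erase_subset _ _)) hB
  have h4 : D ^ 2 ≤ (P - 1) * B := le_trans h2 (Nat.mul_le_mul_left _ h3)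
  -- P * D^2 ≤ (P-1) * (B * P) ≤ (P-1) * (D^2 + (P-1) F)
  have h5 : P * D ^ 2 ≤ (P - 1) * (D ^ 2 + (P - 1) * F) := by
    calc P * D ^ 2 ≤ P * ((P - 1) * B) := Nat.mul_le_mul_left _ h4
      _ = (P - 1) * (B * P) := by ring
      _ ≤ (P - 1) * (D ^ 2 + (P - 1) * F) := Nat.mul_le_mul_left _ hBurn
  obtain ⟨k, hk⟩ : ∃ k, P = k + 1 := ⟨P - 1, by omega⟩
  rw [hk] at h5 hlt
  simp only [Nat.add_sub_cancel] at h5 hlt
  nlinarith [h5, hlt]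

end Cfsg.Agent.Lead.GrossTwo
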