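import Mathlib
import Cfsg.Agent.Lead.HallCount2

/-! P. Hall: the number of Hall subgroups of a finite solvable group. -/

set_option linter.style.haveILetI false

namespace Cfsg.Agent.Lead

open Subgroup
open Pointwise

universe u

section
variable {G : Type*} [Group G]

/-- `[N : C_N(A)]` is a product of powers of `r` dividing `|N|`, each `≡ 1` modulo a prime
divisor of `|A|`, for solvable `A` acting coprimely on the `r`-group `N`. -/
theorem relIndex_centralizer_factorization [Finite G] {r : ℕ} [hr : Fact r.Prime]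
    (N : Subgroup G) (hN : IsPGroup r N) :
    ∀ k : ℕ, ∀ A : Subgroup G, Nat.card A = k → Group.IsSolvable A →
      A ≤ normalizer (N : Set G) → (Nat.card A).Coprime (Nat.card N) →
      ∃ l : List ℕ, l.prod = (centralizer (A : Set G)).relIndex N ∧
        ∀ x ∈ l, (∃ e : ℕ, x = r ^ e) ∧ x ∣ Nat.card N ∧
          ∃ q : ℕ, q.Prime ∧ q ∣ Nat.card A ∧ x ≡ 1 [MOD q] := by
  intro k
  induction k using Nat.strong_induction_on with
  | _ k ih =>
    intro A hk hs hAN hcop
    by_cases hA : A = ⊥
    · refine ⟨[], ?_, by simp⟩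
      have h1 : centralizer ((⊥ : Subgroup G) : Set G) = ⊤ := by
        rw [eq_top_iff]
        intro g _
        rw [mem_centralizer_iff]
        intro h hh
        rw [SetLike.mem_coe, mem_bot] at hh
        rw [hh, one_mul, mul_one]
      rw [hA, h1, relIndex_top_left, List.prod_nil]
    obtain ⟨B, hBA, hAB, hq⟩ := exists_le_normal_prime_relIndex A hA hs
    set q := B.relIndex A with hqdef
    haveI : Fact q.Prime := ⟨hq⟩
    have hcardA : Nat.card A = q * Nat.card B := card_eq_relIndex_mul_card hBA
    have hBlt : Nat.card B < k := by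
      rw [← hk, hcardA]
      have h1 := hq.one_lt
      have h2 : 0 < Nat.card B := Nat.card_pos
      nlinarith
    have hBs : Group.IsSolvable B :=
      Group.isSolvable_of_isSolvable_injective (f := Subgroup.inclusion hBA) (Subgroup.inclusion_injective hBA)
    have hBcop : (Nat.card B).Coprime (Nat.card N) :=
      hcop.coprime_dvd_left ⟨q, by rw [hcardA]; ring⟩
    obtain ⟨l, hl, hlg⟩ := ih _ hBlt B rfl hBs (hBA.trans hAN) hBcop
    have hqN : ¬ q ∣ Nat.card N := by
      intro h
      have h1 : q ∣ Nat.gcd (Nat.card A) (Nat.card N) := Nat.dvd_gcd ⟨_, hcardA⟩ h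
      rw [Nat.coprime_iff_gcd_eq_one.mp hcop] at h1
      exact hq.one_lt.ne' (Nat.dvd_one.mp h1)
    set V : Subgroup G := centralizer (B : Set G) ⊓ N with hV
    set x := (centralizer (A : Set G)).relIndex V with hx
    have hx1 : x ≡ 1 [MOD q] := relIndex_centralizer_modEq_one A B N hBA hAB rfl hAN hqN
    have hcle : centralizer (A : Set G) ≤ centralizer (B : Set G) :=
      centralizer_le (SetLike.coe_subset_coe.mpr hBA)
    have hVN : V ≤ N := inf_le_right
    have hmul : x * (centralizer (B : Set G)).relIndex N =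
        (centralizer (A : Set G)).relIndex N := by
      have h1 := relIndex_mul_relIndex (centralizer (A : Set G) ⊓ N) V N
        (inf_le_inf_right N hcle) hVN
      have h2 : (centralizer (A : Set G) ⊓ N).relIndex V = x := by
        rw [hx, ← inf_relIndex_right (centralizer (A : Set G) ⊓ N) V, inf_assoc,
          inf_eq_right.mpr hVN, inf_relIndex_right]
      have h3 : V.relIndex N = (centralizer (B : Set G)).relIndex N := by
        rw [hV, inf_relIndex_right]
      have h4 : (centralizer (A : Set G) ⊓ N).relIndex N =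
          (centralizer (A : Set G)).relIndex N := inf_relIndex_right _ _
      rw [h2, h3, h4] at h1
      exact h1
    have hxN : x ∣ Nat.card N := (relIndex_dvd_card _ _).trans (card_dvd_of_le hVN)
    have hxr : ∃ e : ℕ, x = r ^ e := by
      obtain ⟨n, hn⟩ := hN.exists_card_eq
      rw [hn] at hxN
      obtain ⟨e, -, he⟩ := (Nat.dvd_prime_pow hr.out).mp hxN
      exact ⟨e, he⟩
    refine ⟨x :: l, ?_, ?_⟩
    · rw [List.prod_cons, hl, hmul]
    · intro y hy
      rw [List.mem_cons] at hy
      rcases hy with rfl | hy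
      · exact ⟨hxr, hxN, q, hq, ⟨_, hcardA⟩, hx1⟩
      · obtain ⟨h1, h2, q', hq', hq'd, h3⟩ := hlg y hy
        exact ⟨h1, h2, q', hq', hq'd.trans ⟨q, by rw [hcardA]; ring⟩, h3⟩

end

/-- The admissible factors in P. Hall's theorem on the number of Hall subgroups. -/
def HallFactor (G : Type*) [Group G] (m x : ℕ) : Prop :=
  (∃ q e : ℕ, q.Prime ∧ x = q ^ e) ∧
  (∃ K L : Subgroup G, K.Normal ∧ L.Normal ∧ K < L ∧
    (∀ M : Subgroup G, M.Normal → K ≤ M → M ≤ L → M = K ∨ M = L) ∧ x ∣ K.relIndex L) ∧
  (∃ q : ℕ, q.Prime ∧ q ∣ m ∧ x ≡ 1 [MOD q])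

theorem HallFactor.of_quotient {G : Type*} [Group G] (N : Subgroup G) [N.Normal] {m' m x : ℕ}
    (hm : m' ∣ m) (h : HallFactor (G ⧸ N) m' x) : HallFactor G m x := by
  obtain ⟨h1, ⟨K, L, hK, hL, hKL, hchief, hx⟩, q, hq, hqm, hxq⟩ := h
  have hf : Function.Surjective (QuotientGroup.mk' N) := QuotientGroup.mk'_surjective N
  refine ⟨h1, ⟨K.comap (QuotientGroup.mk' N), L.comap (QuotientGroup.mk' N), inferInstance,
    inferInstance, ?_, ?_, ?_⟩, q, hq, hqm.trans hm, hxq⟩
  · exact (comap_lt_comap_of_surjective hf).mpr hKL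
  · intro M hM hKM hML
    have hNM : N ≤ M := by
      refine le_trans ?_ hKM
      intro y hy
      rw [mem_comap]
      have : (QuotientGroup.mk' N) y = 1 := (QuotientGroup.eq_one_iff y).mpr hy
      rw [this]; exact one_mem _
    have hcm : (M.map (QuotientGroup.mk' N)).comap (QuotientGroup.mk' N) = M := by
      rw [comap_map_eq, QuotientGroup.ker_mk']
      exact sup_eq_left.mpr hNM
    have hMn : (M.map (QuotientGroup.mk' N)).Normal := hM.map _ hf
    have h2 : K ≤ M.map (QuotientGroup.mk' N) := by
      rw [← map_comap_eq_self_of_surjective hf K]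
      exact map_mono hKM
    have h3 : M.map (QuotientGroup.mk' N) ≤ L := by
      rw [← map_comap_eq_self_of_surjective hf L]
      exact map_mono hML
    rcases hchief _ hMn h2 h3 with h | h
    · left; rw [← hcm, h]
    · right; rw [← hcm, h]
  · rw [relIndex_comap, map_comap_eq_self_of_surjective hf L]
    exact hx

/-- If every subgroup of order `m` contains the normal subgroup `N`, they correspond to the
subgroups of order `m / |N|` of `G ⧸ N`. -/
theorem card_hall_eq_of_le {G : Type*} [Group G] [Finite G] (N : Subgroup G) [N.Normal]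
    (m m' : ℕ) (hN : ∀ K : Subgroup G, Nat.card K = m → N ≤ K) (hm : m = m' * Nat.card N) :
    Nat.card {K : Subgroup G // Nat.card K = m} =
      Nat.card {K : Subgroup (G ⧸ N) // Nat.card K = m'} := by
  have hf : Function.Surjective (QuotientGroup.mk' N) := QuotientGroup.mk'_surjective N
  have hpos : 0 < Nat.card N := Nat.card_pos
  refine Nat.card_congr
    { toFun := fun K => ⟨K.1.map (QuotientGroup.mk' N), ?_⟩
      invFun := fun K => ⟨K.1.comap (QuotientGroup.mk' N), ?_⟩
      left_inv := ?_
      right_inv := ?_ }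
  · have h1 := card_map_mk'_of_le N K.1 (hN K.1 K.2)
    exact Nat.eq_of_mul_eq_mul_right hpos (h1.trans (K.2.trans hm))
  · have h1 := card_comap_mk' N K.1
    exact h1.trans ((congrArg (· * Nat.card N) K.2).trans hm.symm)
  · intro K
    apply Subtype.ext
    change (K.1.map (QuotientGroup.mk' N)).comap (QuotientGroup.mk' N) = K.1
    rw [comap_map_eq, QuotientGroup.ker_mk']
    exact sup_eq_left.mpr (hN K.1 K.2)
  · intro K
    apply Subtype.ext
    exact map_comap_eq_self_of_surjective hf K.1

end Cfsg.Agent.Lead
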