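import Mathlib
import Cfsg.Agent.Lead.HallCount3

/-! P. Hall: the number of Hall subgroups of a finite solvable group: the main induction. -/

set_option linter.style.haveILetI false

namespace Cfsg.Agent.Lead

open Subgroup
open Pointwise

universe u

theorem hall_count_aux (n₀ : ℕ) :
    ∀ {G : Type u} [Group G] [Finite G] [Group.IsSolvable G], Nat.card G = n₀ →
    ∀ (m n : ℕ), Nat.card G = m * n → m.Coprime n →
    ∃ l : List ℕ, l.prod = Nat.card {H : Subgroup G // Nat.card H = m} ∧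
      ∀ x ∈ l, HallFactor G m x := by
  induction n₀ using Nat.strong_induction_on with
  | _ n₀ ih =>
  intro G _ _ _ hn₀ m n hG hmn
  have hmpos : 0 < m := by
    rcases Nat.eq_zero_or_pos m with h | h
    · rw [h, zero_mul] at hG; exact absurd hG Nat.card_pos.ne'
    · exact h
  have hnpos : 0 < n := by
    rcases Nat.eq_zero_or_pos n with h | h
    · rw [h, mul_zero] at hG; exact absurd hG Nat.card_pos.ne'
    · exact h
  obtain ⟨H₀, hH₀, -⟩ := hall_exists_ge_aux _ rfl m n hG hmn (⊥ : Subgroup G) (by simp)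
  rcases subsingleton_or_nontrivial G with hsub | hnt
  · refine ⟨[], ?_, by simp⟩
    rw [List.prod_nil, eq_comm, Nat.card_eq_one_iff_unique]
    refine ⟨⟨fun a b => Subtype.ext ?_⟩, ⟨⟨H₀, hH₀⟩⟩⟩
    ext x
    rw [Subsingleton.elim x 1]
    exact ⟨fun _ => one_mem _, fun _ => one_mem _⟩
  -- a minimal normal subgroup
  let S : Set (Subgroup G) := {N | N.Normal ∧ N ≠ ⊥}
  have hS : S.Nonempty := ⟨⊤, inferInstance, top_ne_bot⟩
  obtain ⟨N, ⟨hNn, hNne⟩, hNmin⟩ := wellFounded_lt.has_min S hS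
  haveI := hNn
  have hmin : ∀ M : Subgroup G, M.Normal → M ≤ N → M = ⊥ ∨ M = N := by
    intro M hMn hMN
    by_cases hM : M = ⊥
    · exact Or.inl hM
    · right
      by_contra hne
      exact hNmin M ⟨hMn, hM⟩ (lt_of_le_of_ne hMN hne)
  obtain ⟨hc, r, hr, hexp⟩ :=
    Cfsg.Agent.Helper1.minNormal_elementary N hNne (isSolvable_subgroup N) hmin
  haveI : Fact r.Prime := ⟨hr⟩
  have hNp : IsPGroup r N := by
    intro x
    refine ⟨1, ?_⟩
    rw [pow_one]
    exact Subtype.ext (hexp x x.2)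
  obtain ⟨k, hk⟩ := hNp.exists_card_eq
  have hcG : Nat.card G = Nat.card (G ⧸ N) * Nat.card N :=
    Subgroup.card_eq_card_quotient_mul_card_subgroup N
  have hN1 : 1 < Nat.card N := (Subgroup.one_lt_card_iff_ne_bot N).mpr hNne
  have hNpos : 0 < Nat.card N := Nat.card_pos
  have hlt : Nat.card (G ⧸ N) < n₀ := by
    have h3 : 0 < Nat.card (G ⧸ N) := Nat.card_pos
    rw [← hn₀, hcG]
    nlinarith
  by_cases hrm : r ∣ m
  · -- every Hall subgroup contains `N`
    have hrn : ¬ r ∣ n := by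
      intro h
      have h1 : r ∣ Nat.gcd m n := Nat.dvd_gcd hrm h
      rw [Nat.coprime_iff_gcd_eq_one.mp hmn] at h1
      exact hr.one_lt.ne' (Nat.dvd_one.mp h1)
    have hNle : ∀ K : Subgroup G, Nat.card K = m → N ≤ K := by
      intro K hK
      apply normal_pgroup_le_of_full_ppart N hNp K
      rw [hK, hG, Nat.factorization_mul hmpos.ne' hnpos.ne', Finsupp.add_apply,
        Nat.factorization_eq_zero_of_not_dvd hrn, add_zero]
    have hNm : Nat.card N ∣ m := hH₀ ▸ card_dvd_of_le (hNle H₀ hH₀)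
    obtain ⟨m', hm'⟩ := hNm
    have hm'' : m = m' * Nat.card N := by rw [hm']; ring
    have hcQ : Nat.card (G ⧸ N) = m' * n := by
      apply Nat.eq_of_mul_eq_mul_right hNpos
      rw [← hcG, hG, hm'']; ring
    have hmn' : m'.Coprime n := hmn.coprime_dvd_left ⟨_, hm''⟩
    obtain ⟨l, hl, hlg⟩ := ih _ hlt (G := G ⧸ N) rfl m' n hcQ hmn'
    refine ⟨l, ?_, ?_⟩
    · rw [hl, card_hall_eq_of_le N m m' hNle hm'']
    · intro x hx
      exact HallFactor.of_quotient N ⟨_, hm''⟩ (hlg x hx)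
  · -- `N` is a `p'`-group
    have hNcop : (Nat.card N).Coprime m := by
      rw [hk]
      exact Nat.Coprime.pow_left _ ((Nat.Prime.coprime_iff_not_dvd hr).mpr hrm)
    obtain ⟨n', hcQ, hmn', hcount⟩ := card_hall_eq_mul N m n hG hmn hNcop H₀ hH₀
    obtain ⟨l₁, hl₁, hl₁g⟩ := ih _ hlt (G := G ⧸ N) rfl m n' hcQ hmn'
    have hHN : H₀ ⊓ N = ⊥ :=
      (disjoint_of_coprime_natCard (by rw [hH₀]; exact hNcop.symm)).eq_bot
    have hnc : normalizer (H₀ : Set G) ⊓ N = centralizer (H₀ : Set G) ⊓ N := by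
      apply le_antisymm
      · intro x hx
        refine mem_inf.mpr ⟨?_, hx.2⟩
        rw [mem_centralizer_iff]
        intro h hh
        have h1 : x * h * x⁻¹ * h⁻¹ ∈ H₀ :=
          H₀.mul_mem ((mem_normalizer_iff.mp hx.1 h).mp hh) (H₀.inv_mem hh)
        have h2 : x * h * x⁻¹ * h⁻¹ ∈ N := by
          have h3 : h * x⁻¹ * h⁻¹ ∈ N := hNn.conj_mem _ (N.inv_mem hx.2) h
          have h4 := N.mul_mem hx.2 h3
          have e : x * (h * x⁻¹ * h⁻¹) = x * h * x⁻¹ * h⁻¹ := by group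
          rw [e] at h4; exact h4
        have h5 : x * h * x⁻¹ * h⁻¹ ∈ H₀ ⊓ N := mem_inf.mpr ⟨h1, h2⟩
        rw [hHN, mem_bot] at h5
        calc h * x = (x * h * x⁻¹ * h⁻¹)⁻¹ * (x * h) := by group
          _ = x * h := by rw [h5]; group
      · exact inf_le_inf_right N (centralizer_le_normalizer _)
    have hrel : (normalizer (H₀ : Set G)).relIndex N = (centralizer (H₀ : Set G)).relIndex N := by
      rw [← inf_relIndex_right (normalizer (H₀ : Set G)) N, hnc, inf_relIndex_right]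
    obtain ⟨l₂, hl₂, hl₂g⟩ := relIndex_centralizer_factorization N hNp _ H₀ rfl
      (isSolvable_subgroup H₀) le_normalizer_of_normal (by rw [hH₀]; exact hNcop.symm)
    refine ⟨l₁ ++ l₂, ?_, ?_⟩
    · rw [List.prod_append, hl₁, hl₂, hcount, hrel]
    · intro x hx
      rw [List.mem_append] at hx
      rcases hx with hx | hx
      · exact HallFactor.of_quotient N (dvd_refl m) (hl₁g x hx)
      · obtain ⟨⟨e, he⟩, hxN, q, hq, hqd, hxq⟩ := hl₂g x hx
        refine ⟨⟨r, e, hr, he⟩, ⟨⊥, N, inferInstance, hNn, bot_lt_iff_ne_bot.mpr hNne, ?_, ?_⟩,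
          q, hq, hH₀ ▸ hqd, hxq⟩
        · intro M hM _ hMN
          exact hmin M hM hMN
        · rw [relIndex_bot_left]; exact hxN

end Cfsg.Agent.Lead
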