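import Mathlib

/-! Hamiltonian groups: a nonabelian finite group all of whose subgroups are normal contains a
quaternion pair. -/

set_option linter.style.haveILetI false

namespace Cfsg.Agent.Lead

open Subgroup

variable {G : Type*} [Group G]

/-- Auxiliary: `v ^ n * u * z ^ n = u * v ^ n` when `z = [u, v]` is central in `⟨u, v⟩`. -/
theorem pow_mul_comm_of_class_two {u v z : G} (hz : z = u * v * u⁻¹ * v⁻¹)
    (hzu : Commute z u) (hzv : Commute z v) (n : ℕ) : v ^ n * u * z ^ n = u * v ^ n := by
  have h0 : v * u * z = u * v := by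
    have h1 : z * v * u = u * v := by rw [hz]; group
    calc v * u * z = z * (v * u) := ((hzv.mul_right hzu).eq).symm
      _ = z * v * u := by rw [mul_assoc]
      _ = u * v := h1
  induction n with
  | zero => simp
  | succ n ih =>
    calc v ^ (n + 1) * u * z ^ (n + 1) = v * (v ^ n * u * z ^ n) * z := by
          rw [pow_succ', pow_succ]; group
      _ = v * (u * v ^ n) * z := by rw [ih]
      _ = v * u * (v ^ n * z) := by group
      _ = v * u * (z * v ^ n) := by rw [(hzv.pow_right n).eq]
      _ = (v * u * z) * v ^ n := by group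
      _ = u * v * v ^ n := by rw [h0]
      _ = u * v ^ (n + 1) := by rw [pow_succ']; group

/-- The class-two power formula `(uv)^n [u,v]^(n choose 2) = u^n v^n`. -/
theorem mul_pow_of_class_two {u v z : G} (hz : z = u * v * u⁻¹ * v⁻¹)
    (hzu : Commute z u) (hzv : Commute z v) (n : ℕ) :
    (u * v) ^ n * z ^ (n.choose 2) = u ^ n * v ^ n := by
  induction n with
  | zero => simp
  | succ n ih =>
    have hc : (n + 1).choose 2 = n + n.choose 2 := by
      rw [Nat.choose_succ_succ, Nat.choose_one_right]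
    have hzuv : Commute z (u * v) := hzu.mul_right hzv
    calc (u * v) ^ (n + 1) * z ^ ((n + 1).choose 2)
        = (u * v) ^ n * (u * v) * (z ^ n * z ^ (n.choose 2)) := by
          rw [hc, pow_succ (u * v) n, pow_add z]
      _ = (u * v) ^ n * ((u * v) * z ^ (n.choose 2)) * z ^ n := by
          rw [((Commute.refl z).pow_pow n (n.choose 2)).eq]; group
      _ = (u * v) ^ n * (z ^ (n.choose 2) * (u * v)) * z ^ n := by
          rw [(hzuv.pow_left (n.choose 2)).eq]
      _ = ((u * v) ^ n * z ^ (n.choose 2)) * (u * v) * z ^ n := by group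
      _ = u ^ n * v ^ n * (u * v) * z ^ n := by rw [ih]
      _ = u ^ n * (v ^ n * u * (v * z ^ n)) := by group
      _ = u ^ n * (v ^ n * u * (z ^ n * v)) := by rw [(hzv.pow_left n).eq]
      _ = u ^ n * ((v ^ n * u * z ^ n) * v) := by group
      _ = u ^ n * ((u * v ^ n) * v) := by rw [pow_mul_comm_of_class_two hz hzu hzv n]
      _ = u ^ (n + 1) * v ^ (n + 1) := by rw [pow_succ, pow_succ]; group

/-- `[u^n, v] = [u, v]^n` when `[u, v]` commutes with `u`. -/
theorem commutator_pow_left_of_commute {u v z : G} (hz : z = u * v * u⁻¹ * v⁻¹)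
    (hzu : Commute z u) (n : ℕ) : u ^ n * v * (u ^ n)⁻¹ * v⁻¹ = z ^ n := by
  induction n with
  | zero => simp
  | succ n ih =>
    calc u ^ (n + 1) * v * (u ^ (n + 1))⁻¹ * v⁻¹
        = u * (u ^ n * v * (u ^ n)⁻¹ * v⁻¹) * (v * u⁻¹ * v⁻¹) := by rw [pow_succ']; group
      _ = u * z ^ n * (v * u⁻¹ * v⁻¹) := by rw [ih]
      _ = z ^ n * (u * v * u⁻¹ * v⁻¹) := by rw [((hzu.pow_left n).eq).symm]; group
      _ = z ^ (n + 1) := by rw [← hz, pow_succ]

end Cfsg.Agent.Lead
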