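import Mathlib
import Cfsg.Agent.Lead.Hamiltonian
import Cfsg.Agent.Helper1.UniqueOrderP

/-! Hamiltonian groups: existence of a quaternion pair. -/

set_option linter.style.haveILetI false

namespace Cfsg.Agent.Lead

open Subgroup

variable {G : Type*} [Group G]

theorem commute_of_mem_zpowers {a g : G} (h : a ∈ zpowers g) : Commute a g := by
  obtain ⟨k, rfl⟩ := mem_zpowers_iff.mp h
  exact (Commute.refl g).zpow_left k

/-- two subgroups of order `p` inside a cyclic `p`-power-order group `⟨y⟩` coincide -/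
theorem zpowers_le_of_orderOf_eq_prime [Finite G] {p : ℕ} [hp : Fact p.Prime] {y u v : G} {b : ℕ}
    (hy : orderOf y = p ^ b) (hu : u ∈ zpowers y) (hv : v ∈ zpowers y) (huo : orderOf u = p)
    (hvo : orderOf v = p) : u ∈ zpowers v := by
  have hP : IsPGroup p (zpowers y) := IsPGroup.of_card (by rw [Nat.card_zpowers, hy])
  have h1 : zpowers u ≤ zpowers v :=
    Cfsg.Agent.Helper1.le_of_card_le_of_isCyclic_isPGroup (zpowers y) inferInstance hP
      (zpowers u) (zpowers v) (zpowers_le.mpr hu) (zpowers_le.mpr hv)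
      (by rw [Nat.card_zpowers, Nat.card_zpowers, huo, hvo])
  exact h1 (mem_zpowers u)

/-- In a finite nonabelian group all of whose subgroups are normal there is a quaternion pair. -/
theorem exists_quaternion_pair [Finite G] (hn : ∀ K : Subgroup G, K.Normal)
    (hna : ∃ x y : G, x * y ≠ y * x) :
    ∃ x y : G, orderOf x = 4 ∧ orderOf y = 4 ∧ y * y = x ^ 2 ∧ y * x * y⁻¹ = x⁻¹ ∧
      x * y ≠ y * x := by
  classical
  let S : Set ℕ :=
    {n | ∃ x y : G, x * y ≠ y * x ∧ orderOf y ≤ orderOf x ∧ orderOf x + orderOf y = n}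
  have hS : S.Nonempty := by
    obtain ⟨x, y, hxy⟩ := hna
    rcases le_total (orderOf y) (orderOf x) with h | h
    · exact ⟨_, x, y, hxy, h, rfl⟩
    · exact ⟨_, y, x, fun e => hxy e.symm, h, rfl⟩
  obtain ⟨x, y, hxy, hle, hsum⟩ := Nat.sInf_mem hS
  have hmin : ∀ x' y' : G, x' * y' ≠ y' * x' →
      orderOf x + orderOf y ≤ orderOf x' + orderOf y' := by
    intro x' y' h
    rw [hsum]
    rcases le_total (orderOf y') (orderOf x') with h' | h'
    · exact Nat.sInf_le ⟨x', y', h, h', rfl⟩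
    · rw [add_comm]; exact Nat.sInf_le ⟨y', x', fun e => h e.symm, h', rfl⟩
  have hxpos : 0 < orderOf x := orderOf_pos x
  have hypos : 0 < orderOf y := orderOf_pos y
  -- the commutator
  set c : G := x * y * x⁻¹ * y⁻¹ with hc
  have hc1 : c ≠ 1 := by
    intro h
    apply hxy
    have : x * y = c * (y * x) := by rw [hc]; group
    rw [this, h, one_mul]
  have hcx : c ∈ zpowers x := by
    have h1 : y * x⁻¹ * y⁻¹ ∈ zpowers x :=
      (hn (zpowers x)).conj_mem _ (inv_mem (mem_zpowers x)) y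
    have h2 := (zpowers x).mul_mem (mem_zpowers x) h1
    have e : x * (y * x⁻¹ * y⁻¹) = c := by rw [hc]; group
    rwa [e] at h2
  have hcy : c ∈ zpowers y := by
    have h1 : x * y * x⁻¹ ∈ zpowers y := (hn (zpowers y)).conj_mem _ (mem_zpowers y) x
    have h2 := (zpowers y).mul_mem h1 (inv_mem (mem_zpowers y))
    exact h2
  have hccx : Commute c x := commute_of_mem_zpowers hcx
  have hccy : Commute c y := commute_of_mem_zpowers hcy
  -- the variant commutator `c' = [x, y⁻¹]`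
  set c' : G := x * y⁻¹ * x⁻¹ * y⁻¹⁻¹ with hc'
  have hc'x : c' ∈ zpowers x := by
    have h1 : y⁻¹ * x⁻¹ * y⁻¹⁻¹ ∈ zpowers x :=
      (hn (zpowers x)).conj_mem _ (inv_mem (mem_zpowers x)) y⁻¹
    have h2 := (zpowers x).mul_mem (mem_zpowers x) h1
    have e : x * (y⁻¹ * x⁻¹ * y⁻¹⁻¹) = c' := by rw [hc']; group
    rwa [e] at h2
  have hc'y : c' ∈ zpowers y := by
    have h1 : x * y⁻¹ * x⁻¹ ∈ zpowers y :=
      (hn (zpowers y)).conj_mem _ (inv_mem (mem_zpowers y)) x
    have h2 := (zpowers y).mul_mem h1 (inv_mem (inv_mem (mem_zpowers y)))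
    exact h2
  have hc'cx : Commute c' x := commute_of_mem_zpowers hc'x
  have hc'cy : Commute c' y⁻¹ := (commute_of_mem_zpowers hc'y).inv_right
  -- `x ^ q` commutes with `y` for `q ∣ orderOf x`, `q ≠ 1`
  have hxq : ∀ q : ℕ, q.Prime → q ∣ orderOf x → Commute (x ^ q) y := by
    intro q hq hqx
    by_contra hcon
    have h1 := hmin (x ^ q) y hcon
    rw [orderOf_pow_of_dvd hq.ne_zero hqx] at h1
    have h2 : orderOf x / q < orderOf x := Nat.div_lt_self hxpos hq.one_lt
    omega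
  have hyq : ∀ q : ℕ, q.Prime → q ∣ orderOf y → Commute x (y ^ q) := by
    intro q hq hqy
    by_contra hcon
    have h1 := hmin x (y ^ q) hcon
    rw [orderOf_pow_of_dvd hq.ne_zero hqy] at h1
    have h2 : orderOf y / q < orderOf y := Nat.div_lt_self hypos hq.one_lt
    omega
  have hcq_x : ∀ q : ℕ, q.Prime → q ∣ orderOf x → c ^ q = 1 := by
    intro q hq hqx
    rw [← commutator_pow_left_of_commute hc hccx q]
    have h1 := (hxq q hq hqx).eq
    calc x ^ q * y * (x ^ q)⁻¹ * y⁻¹ = y * x ^ q * (x ^ q)⁻¹ * y⁻¹ := by rw [h1]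
      _ = 1 := by group
  have hcq_y : ∀ q : ℕ, q.Prime → q ∣ orderOf y → c ^ q = 1 := by
    intro q hq hqy
    -- apply the power formula to the pair `(y, x)` whose commutator is `c⁻¹`
    have hz : c⁻¹ = y * x * y⁻¹ * x⁻¹ := by rw [hc]; group
    have h0 := commutator_pow_left_of_commute hz hccy.inv_left q
    have h1 := (hyq q hq hqy).eq
    have h2 : y ^ q * x * (y ^ q)⁻¹ * x⁻¹ = 1 := by
      calc y ^ q * x * (y ^ q)⁻¹ * x⁻¹ = x * y ^ q * (y ^ q)⁻¹ * x⁻¹ := by rw [h1]
        _ = 1 := by group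
    rw [h2] at h0
    have h3 : (c ^ q)⁻¹ = 1 := by rw [← inv_pow]; exact h0.symm
    exact inv_eq_one.mp h3
  -- the prime `p`
  have hx1 : orderOf x ≠ 1 := by
    intro h
    rw [orderOf_eq_one_iff] at h
    apply hxy; rw [h, one_mul, mul_one]
  have hy1 : orderOf y ≠ 1 := by
    intro h
    rw [orderOf_eq_one_iff] at h
    apply hxy; rw [h, one_mul, mul_one]
  obtain ⟨p, hp, hpx⟩ := Nat.exists_prime_and_dvd hx1
  haveI : Fact p.Prime := ⟨hp⟩
  have hcp : orderOf c = p := orderOf_eq_prime (hcq_x p hp hpx) hc1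
  have hxprime : ∀ {q : ℕ}, q.Prime → q ∣ orderOf x → q = p := by
    intro q hq hqx
    have h1 : orderOf c ∣ q := orderOf_dvd_of_pow_eq_one (hcq_x q hq hqx)
    rw [hcp] at h1
    exact ((Nat.prime_dvd_prime_iff_eq hp hq).mp h1).symm
  have hyprime : ∀ {q : ℕ}, q.Prime → q ∣ orderOf y → q = p := by
    intro q hq hqy
    have h1 : orderOf c ∣ q := orderOf_dvd_of_pow_eq_one (hcq_y q hq hqy)
    rw [hcp] at h1
    exact ((Nat.prime_dvd_prime_iff_eq hp hq).mp h1).symm
  obtain ⟨a, ha⟩ : ∃ a, orderOf x = p ^ a :=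
    ⟨_, Nat.eq_prime_pow_of_unique_prime_dvd hxpos.ne' hxprime⟩
  obtain ⟨b, hb⟩ : ∃ b, orderOf y = p ^ b :=
    ⟨_, Nat.eq_prime_pow_of_unique_prime_dvd hypos.ne' hyprime⟩
  have hb1 : 1 ≤ b := by
    rcases Nat.eq_zero_or_pos b with h | h
    · rw [h, pow_zero] at hb; exact absurd hb hy1
    · exact h
  have hab : b ≤ a := by
    rw [ha, hb] at hle
    exact (Nat.pow_le_pow_iff_right hp.one_lt).mp hle
  have ha1 : 1 ≤ a := hb1.trans hab
  -- `y ^ (p ^ (b - 1))` lies in `⟨x⟩`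
  set n := p ^ (b - 1) with hn'
  have hnpos : 0 < n := pow_pos hp.pos _
  have hpn : p * n = p ^ b := by
    rw [hn', ← pow_succ']
    congr 1; omega
  have hyn_order : orderOf (y ^ n) = p := by
    rw [orderOf_pow_of_dvd hnpos.ne' (by rw [hb]; exact ⟨p, by rw [← hpn]; ring⟩), hb, ← hpn]
    exact Nat.mul_div_cancel _ hnpos
  have hyn_mem : y ^ n ∈ zpowers x := by
    have h1 : y ^ n ∈ zpowers c :=
      zpowers_le_of_orderOf_eq_prime hb (pow_mem (mem_zpowers y) n) hcy hyn_order hcp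
    exact (zpowers_le.mpr hcx) h1
  obtain ⟨t, ht⟩ := (Submonoid.mem_powers_iff _ _).mp (mem_powers_iff_mem_zpowers.mpr hyn_mem)
  -- `p ^ (a - 1) ∣ t`
  have hta : p ^ (a - 1) ∣ t := by
    have h1 : orderOf (x ^ t) = p := by rw [ht]; exact hyn_order
    rw [orderOf_pow, ha] at h1
    have h2 : Nat.gcd (p ^ a) t ∣ p ^ a := Nat.gcd_dvd_left _ _
    obtain ⟨k, hk, hk'⟩ := (Nat.dvd_prime_pow hp).mp h2
    rw [hk', Nat.pow_div hk hp.pos] at h1
    have h3 : a - k = 1 := by
      have : p ^ (a - k) = p ^ 1 := by rw [h1, pow_one]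
      exact Nat.pow_right_injective hp.two_le this
    have h4 : k = a - 1 := by omega
    rw [← h4, ← hk']
    exact Nat.gcd_dvd_right _ _
  obtain ⟨t', ht'⟩ := hta
  set m := p ^ (a - b) * t' with hm
  have hmn : m * n = t := by
    rw [hm, hn', ht']
    have : p ^ (a - 1) = p ^ (a - b) * p ^ (b - 1) := by
      rw [← pow_add]; congr 1; omega
    rw [this]; ring
  set w := x ^ m with hw
  have hwn : w ^ n = y ^ n := by rw [hw, ← pow_mul, hmn, ht]
  have hwx : Commute w x := (Commute.refl x).pow_left m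
  -- the commutator `z = [w, y⁻¹] = c' ^ m`
  set z : G := w * y⁻¹ * w⁻¹ * y⁻¹⁻¹ with hz
  have hzc' : z = c' ^ m := commutator_pow_left_of_commute hc' hc'cx m
  have hzw : Commute z w := by rw [hzc', hw]; exact (hc'cx.pow_left m).pow_right m
  have hzy : Commute z y⁻¹ := by rw [hzc']; exact hc'cy.pow_left m
  have hc'p : c' ^ p = 1 := by
    rw [← commutator_pow_left_of_commute hc' hc'cx p]
    have h1 := ((hxq p hp hpx).inv_right).eq
    calc x ^ p * y⁻¹ * (x ^ p)⁻¹ * y⁻¹⁻¹ = y⁻¹ * x ^ p * (x ^ p)⁻¹ * y⁻¹⁻¹ := by rw [h1]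
      _ = 1 := by group
  -- the modified element
  set y₁ := w * y⁻¹ with hy₁
  have hformula := mul_pow_of_class_two hz hzw hzy n
  have hrhs : w ^ n * y⁻¹ ^ n = 1 := by rw [hwn, inv_pow]; group
  rw [hrhs] at hformula
  have hxy₁ : x * y₁ ≠ y₁ * x := by
    intro h
    apply hxy
    have h1 : x * (w * y⁻¹) = w * y⁻¹ * x := h
    have h2 : w * (x * y⁻¹) = w * (y⁻¹ * x) := by
      calc w * (x * y⁻¹) = x * (w * y⁻¹) := by rw [← mul_assoc, hwx.eq, mul_assoc]
        _ = w * y⁻¹ * x := h1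
        _ = w * (y⁻¹ * x) := by rw [mul_assoc]
    have h3 : x * y⁻¹ = y⁻¹ * x := mul_left_cancel h2
    calc x * y = y * (y⁻¹ * x) * y := by group
      _ = y * (x * y⁻¹) * y := by rw [h3]
      _ = y * x := by group
  -- if `p ∣ m * n.choose 2` we contradict minimality
  have hndvd : ¬ p ∣ m * n.choose 2 := by
    intro hdvd
    have hz1 : z ^ (n.choose 2) = 1 := by
      rw [hzc', ← pow_mul]
      obtain ⟨k, hk⟩ := hdvd
      rw [hk, pow_mul, hc'p, one_pow]
    rw [hz1, mul_one] at hformula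
    have h1 : orderOf y₁ ∣ n := orderOf_dvd_of_pow_eq_one hformula
    have h2 : orderOf y₁ ≤ n := Nat.le_of_dvd hnpos h1
    have h3 : n < orderOf y := by
      rw [hb, ← hpn]
      have := hp.one_lt
      nlinarith
    have h4 := hmin x y₁ hxy₁
    omega
  have hab' : a = b := by
    by_contra hne
    apply hndvd
    have h1 : 1 ≤ a - b := by omega
    rw [hm]
    exact Dvd.dvd.mul_right (Dvd.dvd.mul_right (dvd_pow_self p (by omega)) _) _
  have hn2 : n = 2 := by
    by_contra hne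
    apply hndvd
    exact Dvd.dvd.mul_left (hp.dvd_choose_pow (by norm_num) (fun h => hne h.symm)) _
  have hp2 : p = 2 := by
    have h1 : p ∣ 2 := by
      rw [← hn2, hn']
      exact dvd_pow_self p (by
        intro h0
        rw [hn', h0, pow_zero] at hn2
        omega)
    exact (Nat.prime_dvd_prime_iff_eq hp Nat.prime_two).mp h1
  have hb2 : b = 2 := by
    rw [hn', hp2] at hn2
    have : 2 ^ (b - 1) = 2 ^ 1 := by rw [hn2, pow_one]
    have := Nat.pow_right_injective (le_refl 2) this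
    omega
  have hox : orderOf x = 4 := by rw [ha, hab', hb2, hp2]; norm_num
  have hoy : orderOf y = 4 := by rw [hb, hb2, hp2]; norm_num
  have hoc : orderOf c = 2 := by rw [hcp, hp2]
  -- `c = x ^ 2 = y ^ 2`
  have key : ∀ g : G, orderOf g = 4 → c ∈ zpowers g → c = g ^ 2 := by
    intro g hg hcg
    rw [mem_zpowers_iff_mem_range_orderOf, hg] at hcg
    obtain ⟨k, hk, hkc⟩ := Finset.mem_image.mp hcg
    rw [Finset.mem_range] at hk
    have hkc' : g ^ k = c := hkc
    have hg4 : g ^ 4 = 1 := by rw [← hg]; exact pow_orderOf_eq_one g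
    have hc2 : c ^ 2 = 1 := by rw [← hoc]; exact pow_orderOf_eq_one c
    interval_cases k
    · exact absurd (by rw [← hkc', pow_zero]) hc1
    · exfalso
      rw [pow_one] at hkc'
      rw [← hkc', hg] at hoc
      omega
    · exact hkc'.symm
    · exfalso
      have h1 : g ^ 2 = 1 := by
        have : (g ^ 3) ^ 2 = 1 := by rw [hkc']; exact hc2
        calc g ^ 2 = (g ^ 3) ^ 2 * (g ^ 4)⁻¹ := by group
          _ = 1 := by rw [this, hg4]; group
      have h2 : orderOf g ∣ 2 := orderOf_dvd_of_pow_eq_one h1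
      rw [hg] at h2
      omega
  have hcx2 : c = x ^ 2 := key x hox hcx
  have hcy2 : c = y ^ 2 := key y hoy hcy
  refine ⟨x, y, hox, hoy, ?_, ?_, hxy⟩
  · rw [← hcx2, hcy2, pow_two]
  · have h1 : x * y * x⁻¹ * y⁻¹ = x ^ 2 := by rw [← hcx2]
    calc y * x * y⁻¹ = (x⁻¹ * (x * y * x⁻¹ * y⁻¹))⁻¹ := by group
      _ = (x⁻¹ * x ^ 2)⁻¹ := by rw [h1]
      _ = x⁻¹ := by group

end Cfsg.Agent.Lead
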