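import Mathlib
import Cfsg.Agent.Lead.Hamiltonian2

/-! Hamiltonian groups: the centralizer of a quaternion pair. -/

set_option linter.style.haveILetI false

namespace Cfsg.Agent.Lead

open Subgroup

variable {G : Type*} [Group G]

theorem conj_eq_or_inv_of_orderOf_four [Finite G] (hn : ∀ K : Subgroup G, K.Normal) (g u : G)
    (hu : orderOf u = 4) : g * u * g⁻¹ = u ∨ g * u * g⁻¹ = u⁻¹ := by
  classical
  have h1 : g * u * g⁻¹ ∈ zpowers u := (hn (zpowers u)).conj_mem _ (mem_zpowers u) g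
  rw [mem_zpowers_iff_mem_range_orderOf, hu] at h1
  obtain ⟨k, hk, hkc⟩ := Finset.mem_image.mp h1
  rw [Finset.mem_range] at hk
  have hkc' : u ^ k = g * u * g⁻¹ := hkc
  have hu4 : u ^ 4 = 1 := by rw [← hu]; exact pow_orderOf_eq_one u
  have hu2 : u ^ 2 ≠ 1 := by
    intro h
    have := orderOf_dvd_of_pow_eq_one h
    rw [hu] at this; omega
  have hu1 : u ≠ 1 := by intro h; rw [h, orderOf_one] at hu; omega
  interval_cases k
  · exfalso
    rw [pow_zero] at hkc'
    apply hu1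
    calc u = g⁻¹ * (g * u * g⁻¹) * g := by group
      _ = 1 := by rw [← hkc']; group
  · left; rw [← hkc', pow_one]
  · exfalso
    apply hu2
    have h3 : (g * u * g⁻¹) ^ 2 = 1 := by rw [← hkc', ← pow_mul]; exact hu4
    rw [conj_pow] at h3
    calc u ^ 2 = g⁻¹ * (g * u ^ 2 * g⁻¹) * g := by group
      _ = 1 := by rw [h3]; group
  · right
    rw [← hkc']
    calc u ^ 3 = u ^ 4 * u⁻¹ := by group
      _ = u⁻¹ := by rw [hu4, one_mul]

/-- relations in a quaternion pair -/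
theorem quaternion_pair_conj {x y : G} (hx : x ^ 4 = 1) (hy : y ^ 4 = 1) (hyy : y * y = x ^ 2)
    (hyx : y * x * y⁻¹ = x⁻¹) : x * y * x⁻¹ = y⁻¹ := by
  have h0 : y * x = x⁻¹ * y := by
    calc y * x = (y * x * y⁻¹) * y := by group
      _ = x⁻¹ * y := by rw [hyx]
  have h1 : x * y * x = y := by
    calc x * y * x = x * (y * x) := by group
      _ = x * (x⁻¹ * y) := by rw [h0]
      _ = y := by group
  have hx4 : x * x * x * x = 1 := by rw [← hx]; simp [pow_succ, mul_assoc]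
  have hy4 : y * y * y * y = 1 := by rw [← hy]; simp [pow_succ, mul_assoc]
  have hyy' : y * y = x * x := by rw [hyy, pow_two]
  calc x * y * x⁻¹ = (x * y * x) * x⁻¹ * x⁻¹ := by group
    _ = y * x⁻¹ * x⁻¹ := by rw [h1]
    _ = y * (x * x) * (x * x * x * x)⁻¹ := by group
    _ = y * (y * y) * 1⁻¹ := by rw [hx4, hyy']
    _ = (y * y * y * y) * y⁻¹ := by group
    _ = y⁻¹ := by rw [hy4, one_mul]

theorem mul_comm_of_conj_eq {q g u : G} (h : q * u * q⁻¹ = g * u * g⁻¹) :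
    (q⁻¹ * g) * u = u * (q⁻¹ * g) := by
  calc (q⁻¹ * g) * u = q⁻¹ * (g * u * g⁻¹) * g := by group
    _ = q⁻¹ * (q * u * q⁻¹) * g := by rw [h]
    _ = u * (q⁻¹ * g) := by group

/-- Every element is a product of an element of `⟨x, y⟩` and an element centralizing `x`, `y`. -/
theorem exists_mul_centralizer [Finite G] (hn : ∀ K : Subgroup G, K.Normal) {x y : G}
    (hx : orderOf x = 4) (hy : orderOf y = 4) (hyy : y * y = x ^ 2)
    (hyx : y * x * y⁻¹ = x⁻¹) (g : G) :
    ∃ q : G, q ∈ closure ({x, y} : Set G) ∧ (q⁻¹ * g) * x = x * (q⁻¹ * g) ∧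
      (q⁻¹ * g) * y = y * (q⁻¹ * g) := by
  have hx4 : x ^ 4 = 1 := by rw [← hx]; exact pow_orderOf_eq_one x
  have hy4 : y ^ 4 = 1 := by rw [← hy]; exact pow_orderOf_eq_one y
  have hxyx : x * y * x⁻¹ = y⁻¹ := quaternion_pair_conj hx4 hy4 hyy hyx
  have hxmem : x ∈ closure ({x, y} : Set G) := subset_closure (by simp)
  have hymem : y ∈ closure ({x, y} : Set G) := subset_closure (by simp)
  have c1 : (x * y) * x * (x * y)⁻¹ = x⁻¹ := by
    calc (x * y) * x * (x * y)⁻¹ = x * (y * x * y⁻¹) * x⁻¹ := by group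
      _ = x⁻¹ := by rw [hyx]; group
  have c2 : (x * y) * y * (x * y)⁻¹ = y⁻¹ := by
    calc (x * y) * y * (x * y)⁻¹ = x * y * x⁻¹ := by group
      _ = y⁻¹ := hxyx
  rcases conj_eq_or_inv_of_orderOf_four hn g x hx with hgx | hgx <;>
  rcases conj_eq_or_inv_of_orderOf_four hn g y hy with hgy | hgy
  · refine ⟨1, one_mem _, mul_comm_of_conj_eq ?_, mul_comm_of_conj_eq ?_⟩
    · rw [hgx]; group
    · rw [hgy]; group
  · refine ⟨x, hxmem, mul_comm_of_conj_eq ?_, mul_comm_of_conj_eq ?_⟩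
    · rw [hgx]; group
    · rw [hgy, hxyx]
  · refine ⟨y, hymem, mul_comm_of_conj_eq ?_, mul_comm_of_conj_eq ?_⟩
    · rw [hgx, hyx]
    · rw [hgy]; group
  · refine ⟨x * y, mul_mem hxmem hymem, mul_comm_of_conj_eq ?_, mul_comm_of_conj_eq ?_⟩
    · rw [hgx, c1]
    · rw [hgy, c2]

/-- The centralizer of a quaternion pair has no elements of order `4`. -/
theorem sq_eq_one_of_pow_four [Finite G] (hn : ∀ K : Subgroup G, K.Normal) {x y z : G}
    (hy : orderOf y = 4) (hxyx : x * y * x⁻¹ = y⁻¹) (hxy : x * y ≠ y * x)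
    (hzx : z * x = x * z) (hzy : z * y = y * z) (hz4 : z ^ 4 = 1) : z ^ 2 = 1 := by
  classical
  have hy4 : y ^ 4 = 1 := by rw [← hy]; exact pow_orderOf_eq_one y
  have hy2 : y ^ 2 ≠ 1 := by
    intro h
    have := orderOf_dvd_of_pow_eq_one h
    rw [hy] at this; omega
  have hcomm : Commute z y := hzy
  set u := z * y with hu
  have hu4 : u ^ 4 = 1 := by rw [hu, hcomm.mul_pow, hz4, hy4, one_mul]
  have hconj : x * u * x⁻¹ = z * y⁻¹ := by
    calc x * u * x⁻¹ = (x * z) * y * x⁻¹ := by rw [hu]; group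
      _ = (z * x) * y * x⁻¹ := by rw [hzx]
      _ = z * (x * y * x⁻¹) := by group
      _ = z * y⁻¹ := by rw [hxyx]
  have h1 : x * u * x⁻¹ ∈ zpowers u := (hn (zpowers u)).conj_mem _ (mem_zpowers u) x
  rw [hconj, mem_zpowers_iff_mem_range_orderOf] at h1
  obtain ⟨k, hk, hkc⟩ := Finset.mem_image.mp h1
  rw [Finset.mem_range] at hk
  have hkc' : u ^ k = z * y⁻¹ := hkc
  have hle : orderOf u ≤ 4 := Nat.le_of_dvd (by norm_num) (orderOf_dvd_of_pow_eq_one hu4)
  have hk4 : k < 4 := lt_of_lt_of_le hk hle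
  have hzne : z ≠ y := by
    intro h
    apply hxy
    rw [← h]; exact hzx.symm
  rw [hu, hcomm.mul_pow] at hkc'
  interval_cases k
  · exfalso
    apply hzne
    rw [pow_zero, pow_zero, one_mul] at hkc'
    calc z = (z * y⁻¹) * y := by group
      _ = y := by rw [← hkc', one_mul]
  · exfalso
    apply hy2
    rw [pow_one, pow_one] at hkc'
    have : y = y⁻¹ := mul_left_cancel hkc'
    calc y ^ 2 = y * y := pow_two y
      _ = y * y⁻¹ := by rw [← this]
      _ = 1 := mul_inv_cancel y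
  · exfalso
    apply hzne
    -- z^2 y^2 = z y⁻¹ → z = y⁻³ = y
    have h2 : z * (z * y ^ 2) = z * y⁻¹ := by rw [← hkc', pow_two z]; group
    have h3 : z * y ^ 2 = y⁻¹ := mul_left_cancel h2
    calc z = (z * y ^ 2) * (y ^ 2)⁻¹ := by group
      _ = y⁻¹ * (y ^ 2)⁻¹ := by rw [h3]
      _ = (y ^ 4)⁻¹ * y := by group
      _ = y := by rw [hy4, inv_one, one_mul]
  · -- z^3 y^3 = z y⁻¹
    have h2 : z * (z ^ 2 * y ^ 4) * y⁻¹ = z * 1 * y⁻¹ := by
      rw [mul_one, ← hkc']; group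
    have h3 : z * (z ^ 2 * y ^ 4) = z * 1 := mul_right_cancel h2
    have h4 : z ^ 2 * y ^ 4 = 1 := mul_left_cancel h3
    rw [hy4, mul_one] at h4
    exact h4

theorem sq_eq_one_of_pow_two_pow [Finite G] (hn : ∀ K : Subgroup G, K.Normal) {x y : G}
    (hy : orderOf y = 4) (hxyx : x * y * x⁻¹ = y⁻¹) (hxy : x * y ≠ y * x) :
    ∀ k : ℕ, ∀ z : G, z * x = x * z → z * y = y * z → z ^ (2 ^ k) = 1 → z ^ 2 = 1 := by
  intro k
  induction k using Nat.strong_induction_on with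
  | _ k ih =>
    intro z hzx hzy hz
    rcases Nat.lt_or_ge k 2 with hk | hk
    · interval_cases k
      · rw [pow_zero, pow_one] at hz; rw [hz, one_pow]
      · rw [pow_one] at hz; exact hz
    · obtain ⟨j, rfl⟩ : ∃ j, k = j + 2 := ⟨k - 2, by omega⟩
      -- `v = z ^ (2 ^ j)` has `v ^ 4 = 1`
      have hvx : z ^ (2 ^ j) * x = x * z ^ (2 ^ j) := ((show Commute z x from hzx).pow_left _).eq
      have hvy : z ^ (2 ^ j) * y = y * z ^ (2 ^ j) := ((show Commute z y from hzy).pow_left _).eq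
      have hv4 : (z ^ (2 ^ j)) ^ 4 = 1 := by
        rw [← pow_mul]
        have : 2 ^ j * 4 = 2 ^ (j + 2) := by rw [pow_add]; norm_num
        rw [this]; exact hz
      have hv2 := sq_eq_one_of_pow_four hn hy hxyx hxy hvx hvy hv4
      rw [← pow_mul, ← pow_succ] at hv2
      exact ih (j + 1) (by omega) z hzx hzy hv2

end Cfsg.Agent.Lead
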