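import Mathlib
import Cfsg.Agent.Lead.Hamiltonian3

/-! Hamiltonian groups: the Dedekind–Baer structure theorem. -/

set_option linter.style.haveILetI false

namespace Cfsg.Agent.Lead

open Subgroup

variable {G : Type*} [Group G]

theorem eq_one_of_sq_of_odd_pow {z : G} (h2 : z ^ 2 = 1) {m : ℕ} (hm : Odd m) (hzm : z ^ m = 1) :
    z = 1 := by
  obtain ⟨j, rfl⟩ := hm
  rw [pow_succ, pow_mul, h2, one_pow, one_mul] at hzm
  exact hzm

/-- **Dedekind–Baer**: a finite nonabelian group all of whose subgroups are normal is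
`Q₈ × E × A` with `E` elementary abelian `2`-group and `A` abelian of odd order. -/
theorem hamiltonian_structure [Finite G] (hn : ∀ K : Subgroup G, K.Normal)
    (hna : ∃ x y : G, x * y ≠ y * x) :
    ∃ Q E A : Subgroup G, Nonempty (Q ≃* QuaternionGroup 2) ∧
      (∀ a ∈ E, ∀ b ∈ E, a * b = b * a) ∧ (∀ a ∈ E, a ^ 2 = 1) ∧
      (∀ a ∈ A, ∀ b ∈ A, a * b = b * a) ∧ Odd (Nat.card A) ∧ E ⊓ A = ⊥ ∧
      Q ⊓ (E ⊔ A) = ⊥ ∧ Q ⊔ (E ⊔ A) = ⊤ := by
  classical
  obtain ⟨x, y, hx, hy, hyy, hyx, hxy⟩ := exists_quaternion_pair hn hna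
  have hx4' : x ^ 4 = 1 := by rw [← hx]; exact pow_orderOf_eq_one x
  have hx4 : x ^ (2 * 2) = 1 := hx4'
  have hy4 : y ^ 4 = 1 := by rw [← hy]; exact pow_orderOf_eq_one y
  have hxyx := quaternion_pair_conj hx4' hy4 hyy hyx
  have hba : y ∉ zpowers x := fun h => hxy ((commute_of_mem_zpowers h).eq).symm
  let φ := Cfsg.Agent.Helper2.QLift.quaternionLift 2 x y hx4 hyy hyx
  have hinj : Function.Injective φ :=
    Cfsg.Agent.Helper2.QLift.quaternionLift_injective 2 x y hx4 hyy hyx (by rw [hx]) hba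
  set Q := φ.range with hQ
  have hxQ : x ∈ Q := Cfsg.Agent.Helper2.QLift.a_mem_range 2 x y hx4 hyy hyx
  have hyQ : y ∈ Q := Cfsg.Agent.Helper2.QLift.b_mem_range 2 x y hx4 hyy hyx
  have hQiso : Nonempty (Q ≃* QuaternionGroup 2) := ⟨(MonoidHom.ofInjective hinj).symm⟩
  have hclQ : closure ({x, y} : Set G) ≤ Q := by
    rw [closure_le]
    intro g hg
    rcases hg with rfl | rfl
    · exact hxQ
    · exact hyQ
  set c := x ^ 2 with hc
  have hcQ : c ∈ Q := pow_mem hxQ 2
  have hc1 : c ≠ 1 := by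
    intro h
    have := orderOf_dvd_of_pow_eq_one h
    rw [hx] at this; omega
  have hc2 : c ^ 2 = 1 := by rw [hc, ← pow_mul]; exact hx4'
  -- the centralizer
  set C : Subgroup G := centralizer ({x, y} : Set G) with hC
  have hCmem : ∀ z, z ∈ C ↔ z * x = x * z ∧ z * y = y * z := by
    intro z
    rw [hC, mem_centralizer_iff]
    constructor
    · intro h
      exact ⟨(h x (by simp)).symm, (h y (by simp)).symm⟩
    · rintro ⟨h1, h2⟩ m hm
      rcases hm with rfl | rfl
      · exact h1.symm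
      · exact h2.symm
  have hcC : c ∈ C := by
    rw [hCmem]
    constructor
    · rw [hc]; exact ((Commute.refl x).pow_left 2).eq
    · rw [← hyy]; group
  -- `C` is abelian
  have hCcomm : ∀ a ∈ C, ∀ b ∈ C, a * b = b * a := by
    by_contra hcon
    push Not at hcon
    obtain ⟨a, ha, b, hb, hab⟩ := hcon
    have hnC : ∀ K : Subgroup C, K.Normal := fun K => by
      have h1 := (hn (K.map C.subtype)).subgroupOf C
      rwa [show (K.map C.subtype).subgroupOf C = K from
        comap_map_eq_self_of_injective C.subtype_injective K] at h1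
    obtain ⟨x', y', hx', -, -, -, -⟩ := exists_quaternion_pair hnC
      ⟨⟨a, ha⟩, ⟨b, hb⟩, fun h => hab (congrArg Subtype.val h)⟩
    have h1 : ((x' : G)) ^ 4 = 1 := by
      have := pow_orderOf_eq_one x'
      rw [hx'] at this
      have h2 := congrArg Subtype.val this
      rwa [Subgroup.coe_pow, Subgroup.coe_one] at h2
    have h2 := sq_eq_one_of_pow_four hn hy hxyx hxy ((hCmem _).mp x'.2).1 ((hCmem _).mp x'.2).2 h1
    have h3 : x' ^ 2 = 1 := Subtype.ext (by rwa [Subgroup.coe_pow, Subgroup.coe_one])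
    have := orderOf_dvd_of_pow_eq_one h3
    rw [hx'] at this; omega
  -- the subgroups `E₁` and `A`
  let E₁ : Subgroup G :=
    { carrier := {z | z ∈ C ∧ z ^ 2 = 1}
      mul_mem' := by
        rintro a b ⟨ha, ha2⟩ ⟨hb, hb2⟩
        refine ⟨C.mul_mem ha hb, ?_⟩
        have : Commute a b := hCcomm a ha b hb
        rw [this.mul_pow, ha2, hb2, one_mul]
      one_mem' := ⟨C.one_mem, one_pow 2⟩
      inv_mem' := by
        rintro a ⟨ha, ha2⟩
        exact ⟨C.inv_mem ha, by rw [inv_pow, ha2, inv_one]⟩ }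
  let A : Subgroup G :=
    { carrier := {z | z ∈ C ∧ ∃ m : ℕ, Odd m ∧ z ^ m = 1}
      mul_mem' := by
        rintro a b ⟨ha, m, hm, ham⟩ ⟨hb, m', hm', hbm⟩
        refine ⟨C.mul_mem ha hb, m * m', hm.mul hm', ?_⟩
        have : Commute a b := hCcomm a ha b hb
        rw [this.mul_pow, pow_mul, ham, one_pow, mul_comm m m', pow_mul, hbm, one_pow, one_mul]
      one_mem' := ⟨C.one_mem, 1, odd_one, pow_one 1⟩
      inv_mem' := by
        rintro a ⟨ha, m, hm, ham⟩
        exact ⟨C.inv_mem ha, m, hm, by rw [inv_pow, ham, inv_one]⟩ }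
  have hE₁mem : ∀ z, z ∈ E₁ ↔ z ∈ C ∧ z ^ 2 = 1 := fun z => Iff.rfl
  have hAmem : ∀ z, z ∈ A ↔ z ∈ C ∧ ∃ m : ℕ, Odd m ∧ z ^ m = 1 := fun z => Iff.rfl
  have hE₁C : E₁ ≤ C := fun z hz => hz.1
  have hAC : A ≤ C := fun z hz => hz.1
  have hcE₁ : c ∈ E₁ := ⟨hcC, hc2⟩
  -- a maximal subgroup of `E₁` avoiding `c`
  let S : Set (Subgroup G) := {E | E ≤ E₁ ∧ c ∉ E}
  have hS : S.Nonempty := ⟨⊥, bot_le, fun h => hc1 (mem_bot.mp h)⟩
  obtain ⟨E, ⟨hEE₁, hcE⟩, hEmax⟩ := wellFounded_gt.has_min S hS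
  have hE₁dec : ∀ z ∈ E₁, ∃ e ∈ E, z = e ∨ z = e * c := by
    intro z hz
    by_cases hzE : z ∈ E
    · exact ⟨z, hzE, Or.inl rfl⟩
    · have hlt : E < E ⊔ zpowers z := by
        refine lt_of_le_of_ne le_sup_left ?_
        intro h
        apply hzE
        rw [h]
        exact (le_sup_right : zpowers z ≤ E ⊔ zpowers z) (mem_zpowers z)
      have hle : E ⊔ zpowers z ≤ E₁ := sup_le hEE₁ (zpowers_le.mpr hz)
      have hcmem : c ∈ E ⊔ zpowers z := by
        by_contra hcn
        exact hEmax _ ⟨hle, hcn⟩ hlt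
      haveI := hn (zpowers z)
      obtain ⟨e, he, w, hw, hew⟩ := mem_sup_of_normal_right.mp hcmem
      rw [mem_zpowers_iff_mem_range_orderOf] at hw
      obtain ⟨k, hk, hkw⟩ := Finset.mem_image.mp hw
      rw [Finset.mem_range] at hk
      have hkw' : z ^ k = w := hkw
      have hoz : orderOf z ≤ 2 :=
        Nat.le_of_dvd (by norm_num) (orderOf_dvd_of_pow_eq_one hz.2)
      have hk2 : k < 2 := lt_of_lt_of_le hk hoz
      interval_cases k
      · exfalso
        apply hcE
        rw [pow_zero] at hkw'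
        rw [← hew, ← hkw', mul_one]; exact he
      · rw [pow_one] at hkw'
        refine ⟨e⁻¹, E.inv_mem he, Or.inr ?_⟩
        rw [← hew, ← hkw']; group
  -- decomposition of `C`
  have hCdec : ∀ z ∈ C, ∃ e₁ ∈ E₁, ∃ a ∈ A, z = e₁ * a := by
    intro z hz
    obtain ⟨k, m, hm, ho⟩ := Nat.exists_eq_two_pow_mul_odd (orderOf_pos z).ne'
    have hzx := ((hCmem z).mp hz).1
    have hzy := ((hCmem z).mp hz).2
    have hux : z ^ m * x = x * z ^ m := ((show Commute z x from hzx).pow_left _).eq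
    have huy : z ^ m * y = y * z ^ m := ((show Commute z y from hzy).pow_left _).eq
    have hu : (z ^ m) ^ (2 ^ k) = 1 := by
      rw [← pow_mul, mul_comm, ← ho]; exact pow_orderOf_eq_one z
    have hu2 : (z ^ m) ^ 2 = 1 := sq_eq_one_of_pow_two_pow hn hy hxyx hxy k _ hux huy hu
    refine ⟨(z ^ m)⁻¹, ⟨C.inv_mem (C.pow_mem hz m), by rw [inv_pow, hu2, inv_one]⟩,
      z ^ (m + 1), ⟨C.pow_mem hz _, m, hm, ?_⟩, ?_⟩
    · obtain ⟨j, hj⟩ : ∃ j, m + 1 = 2 * j := by
        obtain ⟨i, hi⟩ := hm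
        exact ⟨i + 1, by omega⟩
      rw [← pow_mul, hj]
      have : 2 * j * m = m * 2 * j := by ring
      rw [this, pow_mul, pow_mul, hu2, one_pow]
    · rw [pow_succ]; group
  refine ⟨Q, E, A, hQiso, ?_, ?_, ?_, ?_, ?_, ?_, ?_⟩
  · intro a ha b hb
    exact hCcomm a (hE₁C (hEE₁ ha)) b (hE₁C (hEE₁ hb))
  · intro a ha
    exact (hEE₁ ha).2
  · intro a ha b hb
    exact hCcomm a (hAC ha) b (hAC hb)
  · -- `A` has odd order
    rw [← Nat.not_even_iff_odd]
    intro hev
    haveI : Fact (Nat.Prime 2) := ⟨Nat.prime_two⟩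
    obtain ⟨a, ha⟩ := exists_prime_orderOf_dvd_card' 2 (even_iff_two_dvd.mp hev)
    have h1 : (a : G) ^ 2 = 1 := by
      have := pow_orderOf_eq_one a
      rw [ha] at this
      have h2 := congrArg Subtype.val this
      rwa [Subgroup.coe_pow, Subgroup.coe_one] at h2
    obtain ⟨-, m, hm, ham⟩ := a.2
    have h3 : (a : G) = 1 := eq_one_of_sq_of_odd_pow h1 hm ham
    have h4 : a = 1 := Subtype.ext h3
    rw [h4, orderOf_one] at ha
    omega
  · rw [eq_bot_iff]
    intro z hz
    rw [mem_bot]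
    obtain ⟨-, m, hm, hzm⟩ := hz.2
    exact eq_one_of_sq_of_odd_pow (hEE₁ hz.1).2 hm hzm
  · -- `Q ∩ (E A) = 1`
    rw [eq_bot_iff]
    intro g hg
    rw [mem_bot]
    have hgQ : g ∈ Q := hg.1
    have hgEA : g ∈ E ⊔ A := hg.2
    have hgC : g ∈ C := (sup_le (hEE₁.trans hE₁C) hAC) hgEA
    have hgx := ((hCmem g).mp hgC).1
    have hgy := ((hCmem g).mp hgC).2
    -- `g = 1` or `g = c`
    have hZ : g = 1 ∨ g = c := by
      obtain ⟨q, hq⟩ := hgQ
      rcases q with i | i
      · have hi : i = ((i.val : ℕ) : ZMod (2 * 2)) := (ZMod.natCast_zmod_val i).symm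
        have hlt : i.val < 4 := ZMod.val_lt i
        have hg' : g = x ^ i.val := by
          rw [← hq]
          change Cfsg.Agent.Helper2.QLift.zp 2 x hx4 i = _
          rw [hi, Cfsg.Agent.Helper2.QLift.zp_natCast, ZMod.val_natCast]
          congr 1
          exact (Nat.mod_eq_of_lt hlt).symm
        generalize i.val = k at hlt hg'
        interval_cases k
        · left; rw [hg', pow_zero]
        · exfalso
          rw [pow_one] at hg'
          rw [hg'] at hgy
          exact hxy hgy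
        · right; exact hg'
        · exfalso
          apply hxy
          have h3 : x ^ 3 = x⁻¹ := by
            calc x ^ 3 = x ^ 4 * x⁻¹ := by group
              _ = x⁻¹ := by rw [hx4', one_mul]
          rw [hg', h3] at hgy
          calc x * y = x * (y * x⁻¹) * x := by group
            _ = x * (x⁻¹ * y) * x := by rw [hgy]
            _ = y * x := by group
      · exfalso
        apply hxy
        have hg' : g = y * Cfsg.Agent.Helper2.QLift.zp 2 x hx4 i := hq.symm
        set w := Cfsg.Agent.Helper2.QLift.zp 2 x hx4 i with hw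
        have hwx : Commute w x :=
          commute_of_mem_zpowers (Cfsg.Agent.Helper2.QLift.zp_mem_zpowers 2 x hx4 i)
        rw [hg'] at hgx
        have h1 : y * x * w = x * y * w := by
          calc y * x * w = y * (x * w) := by group
            _ = y * (w * x) := by rw [hwx.eq]
            _ = y * w * x := by group
            _ = x * (y * w) := hgx
            _ = x * y * w := by group
        exact (mul_right_cancel h1).symm
    rcases hZ with h | h
    · exact h
    · exfalso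
      apply hcE
      haveI := hn A
      obtain ⟨e, he, a, ha, hea⟩ := mem_sup_of_normal_right.mp hgEA
      have haE₁ : a ∈ E₁ := by
        have : a = e⁻¹ * c := by rw [← h, ← hea]; group
        rw [this]
        exact E₁.mul_mem (E₁.inv_mem (hEE₁ he)) hcE₁
      obtain ⟨-, m, hm, ham⟩ := ha
      have ha1 : a = 1 := eq_one_of_sq_of_odd_pow haE₁.2 hm ham
      rw [← h, ← hea, ha1, mul_one]
      exact he
  · -- `Q E A = G`
    rw [eq_top_iff]
    intro g _
    obtain ⟨q, hq, hgx, hgy⟩ := exists_mul_centralizer hn hx hy hyy hyx g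
    have hh : q⁻¹ * g ∈ C := (hCmem _).mpr ⟨hgx, hgy⟩
    obtain ⟨e₁, he₁, a, ha, hea⟩ := hCdec _ hh
    obtain ⟨e, he, hee⟩ := hE₁dec e₁ he₁
    have hqQ : q ∈ Q := hclQ hq
    have hg : g = q * (e₁ * a) := by rw [← hea]; group
    have hQle : Q ≤ Q ⊔ (E ⊔ A) := le_sup_left
    have hEle : E ≤ Q ⊔ (E ⊔ A) := le_sup_left.trans le_sup_right
    have hAle : A ≤ Q ⊔ (E ⊔ A) := le_sup_right.trans le_sup_right
    rw [hg]
    refine mul_mem (hQle hqQ) (mul_mem ?_ (hAle ha))
    rcases hee with h | h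
    · rw [h]; exact hEle he
    · rw [h]; exact mul_mem (hEle he) (hQle hcQ)

end Cfsg.Agent.Lead
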