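import Mathlib
import Cfsg.Agent.Lead.Coprime3
import Cfsg.Agent.Lead.CoprimeAbelian
import Cfsg.Agent.Lead.CoprimeSylow

set_option autoImplicit false
open Pointwise

/-! Coprime action with `C_K(A)` of prime index `p` in `K`: then `|[K,A]| = p`. -/

namespace Cfsg.Agent.Lead

open Subgroup
open scoped commutatorElement

variable {G : Type*} [Group G]

/-- The `p`-group case: if `C_P(A)` has index `p` in the `p`-group `P` (coprime action), then
`[P,A]` has order `p` and meets `C(A)` trivially. -/
theorem pgroup_commutator_card_of_index_p [Finite G] {p : ℕ} [hp : Fact p.Prime]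
    (A P : Subgroup G) (hP : IsPGroup p P) (hAP : A ≤ normalizer (P : Set G))
    (hcop : (Nat.card A).Coprime (Nat.card P))
    (hidx : (centralizer (A : Set G)).relIndex P = p) :
    Nat.card (⁅P, A⁆ : Subgroup G) = p ∧ ⁅P, A⁆ ⊓ centralizer (A : Set G) = ⊥ := by
  set Z : Subgroup G := centralizer (A : Set G) with hZ
  set D₀ : Subgroup G := P ⊓ Z with hD₀
  have hsolv : Group.IsSolvable A ∨ Group.IsSolvable P := by
    right
    have : Group.IsNilpotent P := hP.isNilpotent
    infer_instance
  set L : Subgroup G := ⁅P, A⁆ with hL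
  have hLP : L ≤ P := commutator_le_of_le_normalizer hAP
  have hLA : A ≤ normalizer (L : Set G) := le_normalizer_commutator_right P A
  have hLL : ⁅L, A⁆ = L := coprime_commutator_commutator A P hAP hcop hsolv
  have hcopL : (Nat.card A).Coprime (Nat.card L) :=
    hcop.coprime_dvd_right (card_dvd_of_le hLP)
  -- `D₀` is normal in `P`
  have hD₀idx : (D₀.subgroupOf P).index = p := by
    change D₀.relIndex P = p
    rw [hD₀, inf_relIndex_left]
    exact hidx
  have hpP : p ∣ Nat.card P := by
    rw [← hidx]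
    exact relIndex_dvd_card _ _
  have hD₀n : (D₀.subgroupOf P).Normal := by
    apply normal_of_index_eq_minFac_card
    rw [hD₀idx]
    obtain ⟨n, hn⟩ := hP.exists_card_eq
    have hn0 : n ≠ 0 := by
      rintro rfl
      rw [hn, pow_zero] at hpP
      exact hp.out.one_lt.ne' (Nat.dvd_one.mp hpP)
    rw [hn, Nat.pow_minFac hn0, hp.out.minFac_eq]
  have hPD₀ : ⁅P, D₀⁆ ≤ D₀ := by
    rw [commutator_le]
    intro u hu d hd
    have h1 : (⟨u, hu⟩ : P) * ⟨d, hd.1⟩ * (⟨u, hu⟩ : P)⁻¹ ∈ D₀.subgroupOf P :=
      hD₀n.conj_mem _ (by rw [mem_subgroupOf]; exact hd) _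
    rw [mem_subgroupOf] at h1
    rw [commutatorElement_def]
    exact D₀.mul_mem h1 (D₀.inv_mem hd)
  have hD₀A : ⁅D₀, A⁆ = ⊥ := by
    rw [commutator_eq_bot_iff_le_centralizer]
    exact inf_le_right
  have h1 : ⁅⁅P, D₀⁆, A⁆ = ⊥ := by
    rw [eq_bot_iff, ← hD₀A]
    exact commutator_mono hPD₀ le_rfl
  have h2 : ⁅⁅D₀, A⁆, P⁆ = ⊥ := by
    rw [hD₀A, commutator_bot_left]
  have h3 : ⁅⁅A, P⁆, D₀⁆ = ⊥ := commutator_commutator_eq_bot_of_rotate h1 h2
  rw [commutator_comm A P, commutator_eq_bot_iff_le_centralizer] at h3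
  -- `L` is abelian
  have hcyc : IsCyclic (P ⧸ D₀.subgroupOf P) := by
    have : Nat.card (P ⧸ D₀.subgroupOf P) = p := hD₀idx
    exact isCyclic_of_prime_card this
  have hLcomm : IsMulCommutative L := by
    refine MonoidHom.isMulCommutative_of_isCyclic_of_ker_le_center
      ((QuotientGroup.mk' (D₀.subgroupOf P)).comp (inclusion hLP)) ?_
    intro x hx
    rw [MonoidHom.mem_ker, MonoidHom.comp_apply, QuotientGroup.mk'_apply,
      QuotientGroup.eq_one_iff, mem_subgroupOf] at hx
    have hx' : (x : G) ∈ D₀ := hx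
    rw [mem_center_iff]
    intro l
    apply Subtype.ext
    have h4 := h3 l.2
    rw [mem_centralizer_iff] at h4
    exact (h4 x hx').symm
  have hLZ : L ⊓ Z = ⊥ := by
    have h4 := coprime_abelian_inf A L hLA hcopL
    rw [hLL] at h4
    rw [eq_bot_iff, ← h4]
    exact le_inf le_rfl inf_le_left
  refine ⟨?_, hLZ⟩
  have hcardL : Nat.card L = Z.relIndex L := by
    rw [← relIndex_bot_left, ← hLZ, inf_relIndex_left]
  have hle : Nat.card L ≤ p := by
    rw [hcardL, ← hidx]
    apply relIndex_le_of_le_right hLP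
    rw [hidx]
    exact hp.out.ne_zero
  have hne : Nat.card L ≠ 1 := by
    intro h
    have hLbot : L = ⊥ := L.card_eq_one.mp h
    rw [hL, commutator_eq_bot_iff_le_centralizer] at hLbot
    have : Z.relIndex P = 1 := relIndex_eq_one.mpr hLbot
    rw [hidx] at this
    exact hp.out.one_lt.ne' this
  obtain ⟨n, hn⟩ := (hP.to_le hLP).exists_card_eq
  rw [hn] at hle hne ⊢
  rcases n with _ | _ | n
  · exact absurd (pow_zero p) hne
  · exact pow_one p
  · exfalso
    have : p ^ 1 < p ^ (n + 1 + 1) := Nat.pow_lt_pow_right hp.out.one_lt (by omega)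
    rw [pow_one] at this
    omega

/-- Coprime action with `C_K(A)` of prime index `p` in `K`: then `|[K,A]| = p`. -/
theorem commutator_card_of_index_p [Finite G] (A K : Subgroup G)
    (hAK : A ≤ normalizer (K : Set G)) (hcop : (Nat.card A).Coprime (Nat.card K))
    (hsolv : Group.IsSolvable A ∨ Group.IsSolvable K) (p : ℕ) (hp : p.Prime)
    (hidx : (K ⊓ centralizer (A : Set G)).relIndex K = p) :
    Nat.card (⁅K, A⁆ : Subgroup G) = p := by
  have hpf : Fact p.Prime := ⟨hp⟩
  set Z : Subgroup G := centralizer (A : Set G) with hZ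
  have hidx' : Z.relIndex K = p := by rw [← hidx, inf_relIndex_left]
  obtain ⟨P₀, hP₀⟩ := coprime_exists_invariant_sylow A K hAK hcop hsolv p
  set P : Subgroup G := (P₀ : Subgroup K).map K.subtype with hPdef
  have hPK : P ≤ K := map_subtype_le _
  have hPp : IsPGroup p P := P₀.2.map _
  have hcardP : Nat.card P = p ^ (Nat.card K).factorization p := by
    rw [hPdef, card_map_of_injective (subtype_injective _), Sylow.card_eq_multiplicity]
  have hcopP : (Nat.card A).Coprime (Nat.card P) :=
    hcop.coprime_dvd_right (card_dvd_of_le hPK)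
  have h2 : p * Nat.card (K ⊓ Z : Subgroup G) = Nat.card K := by
    have := relIndex_mul_relIndex ⊥ (K ⊓ Z) K bot_le inf_le_left
    rw [relIndex_bot_left, relIndex_bot_left, hidx, mul_comm] at this
    exact this
  have hidxP : Z.relIndex P = p := by
    have hle : Z.relIndex P ≤ p := by
      rw [← hidx']
      exact relIndex_le_of_le_right hPK (by rw [hidx']; exact hp.ne_zero)
    have hdvd : Z.relIndex P ∣ p ^ (Nat.card K).factorization p := by
      rw [← hcardP]
      exact relIndex_dvd_card _ _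
    obtain ⟨i, -, hi'⟩ := (Nat.dvd_prime_pow hp).mp hdvd
    rw [hi'] at hle ⊢
    rcases i with _ | _ | i
    · exfalso
      have hPZ : P ≤ Z := relIndex_eq_one.mp (by rw [hi', pow_zero])
      have h1 : Nat.card P ∣ Nat.card (K ⊓ Z : Subgroup G) := card_dvd_of_le (le_inf hPK hPZ)
      have hC0 : Nat.card (K ⊓ Z : Subgroup G) ≠ 0 := Nat.card_pos.ne'
      have h3 : (Nat.card K).factorization p =
          (Nat.card (K ⊓ Z : Subgroup G)).factorization p + 1 := by
        rw [← h2, Nat.factorization_mul hp.ne_zero hC0, Finsupp.add_apply,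
          hp.factorization_self, add_comm]
      rw [hcardP, h3] at h1
      exact Nat.pow_succ_factorization_not_dvd hC0 hp h1
    · exact pow_one p
    · exfalso
      have : p ^ 1 < p ^ (i + 1 + 1) := Nat.pow_lt_pow_right hp.one_lt (by omega)
      rw [pow_one] at this
      omega
  obtain ⟨hRcard, hRZ⟩ := pgroup_commutator_card_of_index_p A P hPp hP₀ hcopP hidxP
  set R : Subgroup G := ⁅P, A⁆ with hR
  have hRK : R ≤ K := (commutator_le_of_le_normalizer hP₀).trans hPK
  have hRA : A ≤ normalizer (R : Set G) := le_normalizer_commutator_right P A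
  have hcompl : IsComplement' (R.subgroupOf K) ((K ⊓ Z).subgroupOf K) := by
    apply isComplement'_of_card_mul_and_disjoint
    · rw [Nat.card_congr (subgroupOfEquivOfLe hRK).toEquiv,
        Nat.card_congr (subgroupOfEquivOfLe (inf_le_left : K ⊓ Z ≤ K)).toEquiv, hRcard]
      exact h2
    · rw [disjoint_def]
      intro x hx1 hx2
      rw [mem_subgroupOf] at hx1 hx2
      have : (x : G) ∈ R ⊓ Z := ⟨hx1, hx2.2⟩
      rw [hRZ, mem_bot] at this
      exact Subtype.ext this
  have hle : ⁅K, A⁆ ≤ R := by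
    rw [commutator_le]
    intro k hk a ha
    obtain ⟨⟨u, c⟩, huc⟩ := hcompl.2 ⟨k, hk⟩
    have hu : ((u : K) : G) ∈ R := u.2
    have hc : ((c : K) : G) ∈ K ⊓ Z := c.2
    have hk' : k = ((u : K) : G) * ((c : K) : G) := by
      have := congrArg (fun z : K => (z : G)) huc
      exact this.symm
    have hca : a * ((c : K) : G) = ((c : K) : G) * a := by
      have h5 : ((c : K) : G) ∈ centralizer (A : Set G) := hc.2
      rw [mem_centralizer_iff] at h5
      exact h5 a ha
    have e : ⁅k, a⁆ = ⁅((u : K) : G), a⁆ := by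
      rw [hk', commutatorElement_def, commutatorElement_def]
      have h1 : ((u : K) : G) * ((c : K) : G) * a * (((u : K) : G) * ((c : K) : G))⁻¹ * a⁻¹ =
          ((u : K) : G) * (((c : K) : G) * a) * ((c : K) : G)⁻¹ * ((u : K) : G)⁻¹ * a⁻¹ := by
        group
      rw [h1, ← hca]
      group
    rw [e]
    exact (commutator_le_of_le_normalizer hRA) (commutator_mem_commutator hu ha)
  have hge : R ≤ ⁅K, A⁆ := commutator_mono hPK le_rfl
  rw [le_antisymm hle hge]
  exact hRcard

end Cfsg.Agent.Lead
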