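import Mathlib
import Cfsg.Agent.Helper18.K2P.Defs
import Cfsg.Agent.Helper18.K2P.Defs2
import Cfsg.Agent.Helper18.K2P.QB
import Cfsg.Agent.Helper18.K2P.RACT
import Cfsg.Agent.Helper18.K2P.STAB
import Cfsg.Agent.Helper18.K2P.OMEGA
import Cfsg.Agent.Helper8.K2PG
import Cfsg.Agent.Helper7.K2MSMOVE

set_option autoImplicit false
set_option linter.unusedSectionVars false
set_option linter.unusedVariables false

/-! # K2P (S5692, `k = 2`, hyperbolic blocks), chapter B, piece B1 = STORSING (lead):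
an `InA` vector with a SINGULAR nonzero component gives a frame Siegel element. -/

namespace Cfsg.Agent.K2P

open Matrix Cfsg.Agent.OC2P Cfsg.Agent.Helper28.Sg Cfsg.Agent.Helper28.Spin
  Cfsg.Agent.Helper12.OrthGen Cfsg.Agent.K2M

variable {F : Type*} [Field F] [Fintype F] {t : ℕ} {Q : QuadraticForm F (Fin t × Fin 2 → F)}
  {q : QuadraticForm F (Fin 2 → F)} {e f : Fin 2 → F} {M : Subgroup (OG Q)}

/-- a square different from `0` and `1` -/
theorem B.STORSING.aux_nu (hq : 7 ≤ Fintype.card F) : ∃ ν : F, ν ≠ 0 ∧ ν ≠ 1 ∧ IsSquare ν := by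
  classical
  have hex : ∃ x : F, x ≠ 0 ∧ x ≠ 1 ∧ x ≠ -1 := by
    by_contra hcon
    push Not at hcon
    have hsub : (Finset.univ : Finset F) ⊆ {0, 1, -1} := by
      intro x _
      simp only [Finset.mem_insert, Finset.mem_singleton]
      by_cases h0 : x = 0
      · exact Or.inl h0
      · by_cases h1 : x = 1
        · exact Or.inr (Or.inl h1)
        · exact Or.inr (Or.inr (hcon x h0 h1))
    have h1 := Finset.card_le_card hsub
    have h2 : ({0, 1, -1} : Finset F).card ≤ 3 := Finset.card_le_three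
    rw [Finset.card_univ] at h1
    omega
  obtain ⟨x, hx0, hx1, hxm⟩ := hex
  refine ⟨x * x, mul_ne_zero hx0 hx0, ?_, ⟨x, rfl⟩⟩
  intro h
  have : (x - 1) * (x + 1) = 0 := by linear_combination h
  rcases mul_eq_zero.mp this with h' | h'
  · exact hx1 (by linear_combination h')
  · exact hxm (by linear_combination h')

/-- the core: `r_a r_{a₂} ∈ M`, `a - a₂ = κ • binj i u` with `u` singular, the `i`-component of `a` a multiple of `u`,
`a` not a block vector: a Siegel element with centre `binj i u` and a nonzero parameter vanishing on block `i` -/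
theorem B.STORSING.aux_core {i : Fin t} {u : Fin 2 → F} (hu : Q (binj i u) = 0)
    {a a₂ : Fin t × Fin 2 → F} (ha : Q a ≠ 0) (ha₂ : Q a₂ ≠ 0) (hQ : Q a₂ = Q a) {κ c : F} (hκ : κ ≠ 0)
    (hdiff : a - a₂ = κ • binj i u) (hai : bproj i a = c • u) (hab : ¬ IsBlk a)
    (h : reflO Q a ha * reflO Q a₂ ha₂ ∈ M) :
    ∃ w : Fin t × Fin 2 → F, w ≠ 0 ∧ bproj i w = 0 ∧ w ∈ Rad M (binj i u) hu := by
  have hz : Q (a - a₂) = 0 := by
    rw [hdiff]
    have : Q (κ • binj i u) = κ * κ * Q (binj i u) := Q_smul Q κ _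
    rw [this, hu, mul_zero]
  have h1 := STOSIEG.main (H := M) ha ha₂ hQ hz h
  have hcu : Q (κ • binj i u) = 0 := by rw [← hdiff]; exact hz
  have h2 : (-(Q a)⁻¹) • a ∈ Rad M (κ • binj i u) hcu := mem_Rad_of_eq hcu h1 hdiff rfl
  have h3 : κ • ((-(Q a)⁻¹) • a) ∈ Rad M (binj i u) hu := Rad_smul_left hu κ hcu h2
  set μ : F := κ * (-(Q a)⁻¹) with hμ
  have hμ0 : μ ≠ 0 := mul_ne_zero hκ (neg_ne_zero.mpr (inv_ne_zero ha))
  have h4 : μ • a ∈ Rad M (binj i u) hu := by
    have : κ • ((-(Q a)⁻¹) • a) = μ • a := by rw [smul_smul]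
    rw [← this]; exact h3
  have h5 : (μ * c) • binj i u ∈ Rad M (binj i u) hu := smul_self_mem_Rad hu _
  refine ⟨μ • a - (μ * c) • binj i u, ?_, ?_, (Rad M (binj i u) hu).sub_mem h4 h5⟩
  · intro h0
    apply hab
    refine ⟨i, ?_⟩
    have e1 : μ • a = (μ * c) • binj i u := sub_eq_zero.mp h0
    have e2 : a = c • binj i u := by
      have : μ • a = μ • (c • binj i u) := by rw [e1, smul_smul]
      exact smul_right_injective _ hμ0 this
    rw [e2, ← QB.binj_smul]
    exact binj_mem i _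
  · rw [QB.bproj_sub, QB.bproj_smul, QB.bproj_smul, bproj_binj, hai, smul_smul, sub_self]

/-- B1 = STORSING: an `InA` vector, not a block vector, with a singular nonzero component, gives a frame Siegel element -/
theorem B.STORSING (bp : BP Q q e f) (ht : 3 ≤ t) (hq : 7 ≤ Fintype.card F) (hM : HasMO M)
    {a : Fin t × Fin 2 → F} (ha : InA M a) (hab : ¬ IsBlk a) {i : Fin t} (hi0 : bproj i a ≠ 0)
    (hiq : q (bproj i a) = 0) : SiegF Q q e f M := by
  obtain ⟨b, ha', hb, ⟨l₀, hbl⟩, hQab, hmem⟩ := ha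
  -- a block `l ≠ i`
  obtain ⟨l, hli⟩ : ∃ l : Fin t, l ≠ i := by
    by_cases h0 : i = ⟨0, by omega⟩
    · exact ⟨⟨1, by omega⟩, by rw [h0]; intro h; exact absurd (congrArg Fin.val h) (by simp)⟩
    · exact ⟨⟨0, by omega⟩, fun h => h0 h.symm⟩
  -- move `b` to block `l`
  obtain ⟨y, hy⟩ := UNIV.main bp (Q a)
  have hb'Q : Q (binj l y) ≠ 0 := by rw [QB.Q_binj bp.toBM0, hy]; exact ha'
  have hbeq : b = binj l₀ (bproj l₀ b) := QB.mem_Dblk_iff'.mp hbl
  have hb0Q : Q (binj l₀ (bproj l₀ b)) ≠ 0 := by rw [← hbeq]; exact hb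
  have hqb : q (bproj l₀ b) = Q a := by
    rw [← QB.Q_binj bp.toBM0 l₀, ← hbeq, hQab]
  have hpair : reflO Q (binj l₀ (bproj l₀ b)) hb0Q * reflO Q (binj l y) hb'Q ∈ M := by
    apply OMEGA.pair_mem bp.toBM0 ht hM
    rw [hqb, hy]
    exact ⟨Q a, rfl⟩
  have hbb : reflO Q b hb = reflO Q (binj l₀ (bproj l₀ b)) hb0Q := reflO_congr' hbeq hb hb0Q
  have hab' : reflO Q a ha' * reflO Q (binj l y) hb'Q ∈ M := by
    have : reflO Q a ha' * reflO Q (binj l y) hb'Q =
        (reflO Q a ha' * reflO Q b hb) * (reflO Q b hb * reflO Q (binj l y) hb'Q) := by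
      rw [mul_assoc, ← mul_assoc (reflO Q b hb), reflO_mul_self, one_mul]
    rw [this]
    apply M.mul_mem hmem
    rw [hbb]; exact hpair
  -- the rotation
  obtain ⟨ν, hν0, hν1, hνsq⟩ := B.STORSING.aux_nu (F := F) hq
  have hm : TOR.rho bp i ν hν0 ∈ M := TOR.mem bp ht hM i hν0 hνsq
  have hmb : mt Q (TOR.rho bp i ν hν0) *ᵥ binj l y = binj l y :=
    TOR.fix bp i hν0 (bproj_binj_ne hli.symm y)
  have hma : Q (mt Q (TOR.rho bp i ν hν0) *ᵥ a) ≠ 0 := by rw [Q_isom]; exact ha'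
  have hmove := SMOVE.main (H := M) ha' hb'Q hab' hm hmb hma
  have hQ2 : Q (mt Q (TOR.rho bp i ν hν0) *ᵥ a) = Q a := Q_isom _ _
  have hform := TOR.mulVec bp i hν0 a
  rcases PLANE.sing bp hiq with ⟨c, hc⟩ | ⟨c, hc⟩
  · -- component `c • e`
    have hc0 : c ≠ 0 := by rintro rfl; rw [zero_smul] at hc; exact hi0 hc
    have hue : Q (binj i e) = 0 := by rw [QB.Q_binj bp.toBM0, bp.qe]
    have p1 : QuadraticMap.polar ⇑q (bproj i a) f = c := by
      rw [hc, QuadraticMap.polar_smul_left, bp.ef, smul_eq_mul, mul_one]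
    have p2 : QuadraticMap.polar ⇑q (bproj i a) e = 0 := by
      rw [hc, QuadraticMap.polar_smul_left, PLANE.polar_ee bp, smul_zero]
    have hdiff : a - mt Q (TOR.rho bp i ν hν0) *ᵥ a = ((1 - ν) * c) • binj i e := by
      rw [hform, p1, p2, mul_zero, zero_smul, add_zero]
      module
    have hκ : (1 - ν) * c ≠ 0 := mul_ne_zero (sub_ne_zero.mpr (Ne.symm hν1)) hc0
    obtain ⟨w, hw0, hwi, hw⟩ := B.STORSING.aux_core (M := M) hue ha' hma hQ2 hκ hdiff hc hab hmove
    exact ⟨i, e, w, hue, Or.inl rfl, hw0, hwi, hw⟩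
  · -- component `c • f`
    have hc0 : c ≠ 0 := by rintro rfl; rw [zero_smul] at hc; exact hi0 hc
    have huf : Q (binj i f) = 0 := by rw [QB.Q_binj bp.toBM0, bp.qf]
    have p1 : QuadraticMap.polar ⇑q (bproj i a) f = 0 := by
      rw [hc, QuadraticMap.polar_smul_left, PLANE.polar_ff bp, smul_zero]
    have p2 : QuadraticMap.polar ⇑q (bproj i a) e = c := by
      rw [hc, QuadraticMap.polar_smul_left, PLANE.polar_fe bp, smul_eq_mul, mul_one]
    have hν1' : ν⁻¹ ≠ 1 := by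
      intro h
      apply hν1
      have := inv_eq_one.mp h
      exact this
    have hdiff : a - mt Q (TOR.rho bp i ν hν0) *ᵥ a = ((1 - ν⁻¹) * c) • binj i f := by
      rw [hform, p1, p2, mul_zero, zero_smul, add_zero]
      module
    have hκ : (1 - ν⁻¹) * c ≠ 0 := mul_ne_zero (sub_ne_zero.mpr (Ne.symm hν1')) hc0
    obtain ⟨w, hw0, hwi, hw⟩ := B.STORSING.aux_core (M := M) huf ha' hma hQ2 hκ hdiff hc hab hmove
    exact ⟨i, f, w, huf, Or.inr rfl, hw0, hwi, hw⟩

end Cfsg.Agent.K2P
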