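import Mathlib

set_option autoImplicit false

/-! # Laffey–MacHale: linear algebra, part A (geometric sums, no `Z_q × Z_q`) -/

namespace Cfsg.Agent.Lead.LM

open Finset

/-- If `a ^ q = 1` and `a` has no nonzero fixed vectors then `1 + a + ... + a^(q-1)` kills `V`. -/
theorem geom_smul_zero {V : Type*} [AddCommGroup V] {E : Type*} [Ring E] [Module E V]
    (a : E) {q : ℕ} (haq : a ^ q = 1) (hfpf : ∀ v : V, a • v = v → v = 0) (v : V) :
    (∑ i ∈ range q, a ^ i) • v = 0 := by
  apply hfpf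
  have h1 : ((a - 1) * ∑ i ∈ range q, a ^ i) • v = 0 := by
    rw [mul_geom_sum, haq, sub_self, zero_smul]
  rw [mul_smul, sub_smul, one_smul, sub_eq_zero] at h1
  exact h1

/-- A group containing commuting `z`, `y` of order `q` with `y ∉ ⟨z⟩`, all of whose
elements of order `q` act without fixed points, can only act on modules killed by `q`. -/
theorem noZqZq {V : Type*} [AddCommGroup V] {E : Type*} [Ring E] [Module E V]
    {A : Type*} [Group A] (ρ : A →* E) {q : ℕ} (hq : 0 < q) (z y : A) (hzy : Commute z y)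
    (hz : z ^ q = 1) (hy : y ^ q = 1)
    (hfpf : ∀ a : A, a ^ q = 1 → a ≠ 1 → ∀ v : V, ρ a • v = v → v = 0)
    (hyz : ∀ j : ℕ, y * z ^ j ≠ 1) (hzi : ∀ i, 0 < i → i < q → z ^ i ≠ 1) (v : V) :
    q • v = 0 := by
  have hS : ∀ a : A, a ^ q = 1 → a ≠ 1 → ∀ w : V, (∑ i ∈ range q, ρ a ^ i) • w = 0 := by
    intro a haq ha1 w
    exact geom_smul_zero (ρ a) (by rw [← map_pow, haq, map_one]) (hfpf a haq ha1) w
  have hT0 : (∑ j ∈ range q, ∑ i ∈ range q, ρ (y * z ^ j) ^ i) • v = 0 := by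
    rw [sum_smul]
    apply sum_eq_zero
    intro j _
    apply hS
    · rw [(hzy.symm.pow_right j).mul_pow, hy, ← pow_mul, mul_comm, pow_mul, hz, one_pow,
        one_mul]
    · exact hyz j
  have hT1 : (∑ j ∈ range q, ∑ i ∈ range q, ρ (y * z ^ j) ^ i)
      = ∑ i ∈ range q, ρ y ^ i * ∑ j ∈ range q, ρ (z ^ i) ^ j := by
    rw [sum_comm]
    apply sum_congr rfl
    intro i _
    rw [mul_sum]
    apply sum_congr rfl
    intro j _
    rw [← map_pow, ← map_pow, ← map_pow, ← map_mul]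
    congr 1
    rw [(hzy.symm.pow_right j).mul_pow, ← pow_mul, ← pow_mul, mul_comm]
  rw [hT1, sum_smul, sum_eq_single 0] at hT0
  · simpa [Nat.cast_smul_eq_nsmul] using hT0
  · intro i hi hi0
    rw [mul_smul, hS (z ^ i) (by rw [← pow_mul, mul_comm, pow_mul, hz, one_pow])
      (hzi i (Nat.pos_of_ne_zero hi0) (mem_range.mp hi)), smul_zero]
  · intro h0
    exact absurd (mem_range.mpr hq) h0

end Cfsg.Agent.Lead.LM
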