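import Mathlib
import Cfsg.Agent.Lead.LMa

set_option autoImplicit false

/-! # Laffey–MacHale: linear algebra, part B (primitive root from transitivity) -/

namespace Cfsg.Agent.Lead.LM

open Polynomial

section Fwd

variable {p : ℕ} [hp : Fact p.Prime]
variable {V : Type*} [AddCommGroup V] [Module (ZMod p) V]

/-- The cyclic `F_p[a]`-submodule generated by `v`. -/
noncomputable def cyc (a : Module.End (ZMod p) V) (v : V) : Submodule (ZMod p) V :=
  LinearMap.range ((LinearMap.applyₗ v).comp (aeval a).toLinearMap)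

theorem mem_cyc {a : Module.End (ZMod p) V} {v u : V} :
    u ∈ cyc a v ↔ ∃ f : (ZMod p)[X], aeval a f v = u := by
  simp [cyc, LinearMap.mem_range]

theorem self_mem_cyc (a : Module.End (ZMod p) V) (v : V) : v ∈ cyc a v :=
  mem_cyc.mpr ⟨1, by simp⟩

theorem cyc_le_of_mem {a : Module.End (ZMod p) V} {v u : V} (hu : u ∈ cyc a v) :
    cyc a u ≤ cyc a v := by
  intro w hw
  obtain ⟨f, rfl⟩ := mem_cyc.mp hu
  obtain ⟨f', rfl⟩ := mem_cyc.mp hw
  exact mem_cyc.mpr ⟨f' * f, by simp⟩

theorem semiconj_aeval {a a' β : Module.End (ZMod p) V} (h : SemiconjBy β a a')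
    (f : (ZMod p)[X]) : SemiconjBy β (aeval a f) (aeval a' f) := by
  induction f using Polynomial.induction_on' with
  | add f g hf hg =>
    simp only [map_add]
    exact hf.add_right hg
  | monomial n c =>
    simp only [aeval_monomial]
    have h1 : SemiconjBy β (a ^ n) (a' ^ n) := h.pow_right n
    unfold SemiconjBy at h1 ⊢
    rw [← mul_assoc, ← Algebra.commutes, mul_assoc, h1, mul_assoc]

theorem card_cyc_le {a β : Module.End (ZMod p) V} [Finite V] {j : ℕ}
    (hβ : Function.Injective β) (h : SemiconjBy β a (a ^ j)) (v : V) :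
    Nat.card (cyc a v) ≤ Nat.card (cyc a (β v)) := by
  have hmem : ∀ u : cyc a v, β u ∈ cyc a (β v) := by
    rintro ⟨u, hu⟩
    obtain ⟨f, rfl⟩ := mem_cyc.mp hu
    refine mem_cyc.mpr ⟨expand (ZMod p) j f, ?_⟩
    rw [expand_aeval]
    have := semiconj_aeval h f
    have h2 := LinearMap.congr_fun this.eq v
    simpa using h2.symm
  refine Nat.card_le_card_of_injective (fun u => ⟨β u, hmem u⟩) ?_
  intro u u' huu
  apply Subtype.ext
  apply hβ
  simpa using congrArg Subtype.val huu

theorem primitive_root_of_transitive {q : ℕ} [hq : Fact q.Prime] [Finite V] [Nontrivial V]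
    (hpq : p ≠ q)
    (a : Module.End (ZMod p) V) (haq : a ^ q = 1) (hfpf : ∀ v : V, a v = v → v = 0)
    (H1 : ∀ v w : V, v ≠ 0 → w ≠ 0 → ∃ (β : Module.End (ZMod p) V) (j : ℕ),
      Function.Injective β ∧ SemiconjBy β a (a ^ j) ∧ β v = w)
    (H2 : ∀ j, 0 < j → j < q → ∃ β : Module.End (ZMod p) V,
      Function.Injective β ∧ SemiconjBy β a (a ^ j)) :
    orderOf (p : ZMod q) = q - 1 := by
  classical
  have hΦa : aeval a (cyclotomic q (ZMod p)) = 0 := by
    rw [cyclotomic_prime, map_sum]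
    simp only [map_pow, aeval_X]
    ext v
    have := geom_smul_zero (V := V) a haq (fun v hv => hfpf v hv) v
    simpa using this
  have : Module.Finite (ZMod p) V := Module.Finite.of_finite
  have hint : IsIntegral (ZMod p) a := Algebra.IsIntegral.isIntegral a
  have hμΦ : minpoly (ZMod p) a ∣ cyclotomic q (ZMod p) := minpoly.dvd (ZMod p) a hΦa
  have hμ0 : minpoly (ZMod p) a ≠ 0 := minpoly.ne_zero hint
  have hμu : ¬ IsUnit (minpoly (ZMod p) a) := minpoly.not_isUnit (ZMod p) a
  obtain ⟨g, hgirr, hgμ⟩ := WfDvdMonoid.exists_irreducible_factor hμu hμ0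
  obtain ⟨k, hk⟩ := hgμ
  have hgΦ : g ∣ cyclotomic q (ZMod p) := (Dvd.intro k hk.symm).trans hμΦ
  obtain ⟨h, hh⟩ := hgΦ
  have : NeZero ((q : ℕ) : ZMod p) := ⟨by
    intro h0
    rw [ZMod.natCast_eq_zero_iff] at h0
    exact hpq ((Nat.prime_dvd_prime_iff_eq hp.out hq.out).mp h0)⟩
  have hsep : (g * h).Separable := hh ▸ separable_cyclotomic q (ZMod p)
  obtain ⟨u, t, hut⟩ := hsep.isCoprime
  have hkg : ∃ v₁ : V, v₁ ≠ 0 ∧ aeval a g v₁ = 0 := by
    by_contra hcon
    push Not at hcon
    have hka : aeval a k = 0 := by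
      ext v
      by_contra hv
      apply hcon _ hv
      have : aeval a (minpoly (ZMod p) a) v = 0 := by rw [minpoly.aeval]; rfl
      rw [hk, map_mul] at this
      exact this
    have hdvd : minpoly (ZMod p) a ∣ k := minpoly.dvd (ZMod p) a hka
    have hk0 : k ≠ 0 := by rintro rfl; rw [mul_zero] at hk; exact hμ0 hk
    rw [hk] at hdvd
    have h1 : g * k ∣ 1 * k := by rwa [one_mul]
    have h2 := (mul_dvd_mul_iff_right hk0).mp h1
    exact hgirr.not_isUnit (isUnit_of_dvd_one h2)
  obtain ⟨v₁, hv₁0, hv₁⟩ := hkg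
  have hbez : ∀ w : V, aeval a (u * g) w + aeval a (t * h) w = w := by
    intro w
    have := congrArg (fun f => aeval a f w) hut
    simpa using this
  have hga : aeval a g = 0 := by
    by_cases hkh : ∃ v₂ : V, v₂ ≠ 0 ∧ aeval a h v₂ = 0
    · exfalso
      obtain ⟨v₂, hv₂0, hv₂⟩ := hkh
      have h1 : aeval a (t * h) v₂ = 0 := by
        rw [map_mul, Module.End.mul_apply, hv₂, map_zero]
      have h2 : aeval a (u * g) v₁ = 0 := by
        rw [map_mul, Module.End.mul_apply, hv₁, map_zero]
      have e1 : aeval a (t * h) (v₁ + v₂) = v₁ := by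
        have h3 := hbez v₁
        rw [h2, zero_add] at h3
        rw [map_add, h1, add_zero, h3]
      have e2 : aeval a (u * g) (v₁ + v₂) = v₂ := by
        have h3 := hbez v₂
        rw [h1, add_zero] at h3
        rw [map_add, h2, zero_add, h3]
      have hv0 : v₁ + v₂ ≠ 0 := by
        intro h0
        rw [h0, map_zero] at e1
        exact hv₁0 e1.symm
      have hsub : cyc a v₁ ≤ cyc a (v₁ + v₂) := cyc_le_of_mem (mem_cyc.mpr ⟨_, e1⟩)
      have hv₂mem : v₂ ∈ cyc a (v₁ + v₂) := mem_cyc.mpr ⟨_, e2⟩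
      have hv₂not : v₂ ∉ cyc a v₁ := by
        intro hm
        obtain ⟨f, hf⟩ := mem_cyc.mp hm
        have hg2 : aeval a g v₂ = 0 := by
          rw [← hf, ← Module.End.mul_apply, ← map_mul, mul_comm, map_mul, Module.End.mul_apply,
            hv₁, map_zero]
        have h3 := hbez v₂
        rw [map_mul, Module.End.mul_apply, hg2, map_zero, map_mul, Module.End.mul_apply, hv₂,
          map_zero, add_zero] at h3
        exact hv₂0 h3.symm
      have hlt : Nat.card (cyc a v₁) < Nat.card (cyc a (v₁ + v₂)) := by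
        have hss : (cyc a v₁ : Set V) ⊂ (cyc a (v₁ + v₂) : Set V) :=
          ⟨hsub, fun hcon => hv₂not (hcon hv₂mem)⟩
        have h4 := Set.ncard_lt_ncard hss (Set.toFinite _)
        rwa [← Nat.card_coe_set_eq, ← Nat.card_coe_set_eq] at h4
      obtain ⟨β, j, hβ, hsc, hβv⟩ := H1 (v₁ + v₂) v₁ hv0 hv₁0
      have h5 := card_cyc_le hβ hsc (v₁ + v₂)
      rw [hβv] at h5
      omega
    · push Not at hkh
      ext v
      by_contra hv
      apply hkh _ hv
      have h1 : aeval a (cyclotomic q (ZMod p)) v = 0 := by rw [hΦa]; rfl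
      rw [hh, mul_comm, map_mul] at h1
      exact h1
  have hμg : minpoly (ZMod p) a ∣ g := minpoly.dvd (ZMod p) a hga
  obtain ⟨c, hc⟩ := hμg
  have hcu : IsUnit c := (hgirr.isUnit_or_isUnit hc).resolve_left hμu
  have hgμ' : g ∣ minpoly (ZMod p) a := by
    rw [hc]; exact (IsUnit.mul_right_dvd hcu).mpr dvd_rfl
  have hexp : ∀ j, 0 < j → j < q → g ∣ expand (ZMod p) j g := by
    intro j hj0 hjq
    obtain ⟨β, hβ, hsc⟩ := H2 j hj0 hjq
    have hβs : Function.Surjective β := Finite.injective_iff_surjective.mp hβ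
    have h1 := semiconj_aeval hsc g
    have h2 : aeval (a ^ j) g = 0 := by
      ext w
      obtain ⟨w', rfl⟩ := hβs w
      have h3 := LinearMap.congr_fun h1.eq w'
      rw [hga] at h3
      simpa using h3.symm
    rw [← expand_aeval] at h2
    have h4 := minpoly.dvd (ZMod p) a h2
    exact hgμ'.trans h4
  have : Fact (Irreducible g) := ⟨hgirr⟩
  have hζg : aeval (AdjoinRoot.root g) g = 0 := by
    rw [AdjoinRoot.aeval_eq, AdjoinRoot.mk_self]
  have hζΦ : aeval (AdjoinRoot.root g) (cyclotomic q (ZMod p)) = 0 := by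
    rw [hh, map_mul, hζg, zero_mul]
  have : NeZero ((q : ℕ) : AdjoinRoot g) := by
    have := NeZero.of_injective (a := ((q : ℕ) : ZMod p))
      (f := algebraMap (ZMod p) (AdjoinRoot g)) (algebraMap (ZMod p) (AdjoinRoot g)).injective
    simpa using this
  have hprim : IsPrimitiveRoot (AdjoinRoot.root g) q := by
    rw [← isRoot_cyclotomic_iff, IsRoot.def, ← map_cyclotomic q (algebraMap (ZMod p) (AdjoinRoot g)),
      eval_map_algebraMap]
    exact hζΦ
  have hroots : ∀ j, 0 < j → j < q → aeval ((AdjoinRoot.root g) ^ j) g = 0 := by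
    intro j hj0 hjq
    obtain ⟨d, hd⟩ := hexp j hj0 hjq
    rw [← expand_aeval, hd, map_mul, hζg, zero_mul]
  have hdeg : q - 1 ≤ g.natDegree := by
    have hZcard : ((Finset.Ico 1 q).image (fun j => (AdjoinRoot.root g) ^ j)).card = q - 1 := by
      rw [Finset.card_image_of_injOn, Nat.card_Ico]
      intro i hi j hj hij
      simp only [Finset.coe_Ico, Set.mem_Ico] at hi hj
      exact hprim.pow_inj hi.2 hj.2 hij
    have hZsub : ((Finset.Ico 1 q).image (fun j => (AdjoinRoot.root g) ^ j)).val ⊆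
        (g.map (algebraMap (ZMod p) (AdjoinRoot g))).roots := by
      intro r hr
      rw [Finset.mem_val, Finset.mem_image] at hr
      obtain ⟨j, hj, rfl⟩ := hr
      rw [Finset.mem_Ico] at hj
      rw [mem_roots (map_ne_zero hgirr.ne_zero), IsRoot.def, eval_map_algebraMap]
      exact hroots j hj.1 hj.2
    have h6 := card_le_degree_of_subset_roots hZsub
    rw [hZcard, natDegree_map] at h6
    exact h6
  have hcop : p.Coprime q := (Nat.coprime_primes hp.out hq.out).mpr hpq
  have hdeg2 := natDegree_of_dvd_cyclotomic_of_irreducible (K := ZMod p) (p := p) (f := 1) (n := q)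
    (by simp [ZMod.card]) hcop ⟨h, hh⟩ hgirr
  rw [← orderOf_units, ZMod.coe_unitOfCoprime] at hdeg2
  simp only [pow_one] at hdeg2
  have hle : orderOf (p : ZMod q) ≤ q - 1 := by
    have hp0 : (p : ZMod q) ≠ 0 := by
      intro h0
      rw [ZMod.natCast_eq_zero_iff] at h0
      exact hpq ((Nat.prime_dvd_prime_iff_eq hq.out hp.out).mp h0).symm
    apply orderOf_le_of_pow_eq_one
    · have := hq.out.two_le; omega
    · exact ZMod.pow_card_sub_one_eq_one hp0
  omega

end Fwd

end Cfsg.Agent.Lead.LM
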