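import Mathlib
import Cfsg.Agent.Lead.LMb

set_option autoImplicit false

/-! # Laffey–MacHale: bridge from multiplicative abelian groups of exponent `p` to `ZMod p`-modules -/

namespace Cfsg.Agent.Lead.LM

section Bridge

variable {W : Type*} [CommGroup W] {p : ℕ} [hp : Fact p.Prime]

/-- The `ZMod p`-module structure on `Additive W` for a commutative group `W` of exponent `p`. -/
@[reducible] noncomputable def addModule (hexp : ∀ w : W, w ^ p = 1) :
    Module (ZMod p) (Additive W) :=
  AddCommGroup.zmodModule (n := p) (by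
    intro x
    exact congrArg Additive.ofMul (hexp x.toMul))

/-- The linear endomorphism attached to an automorphism. -/
noncomputable def toLin (hexp : ∀ w : W, w ^ p = 1) (φ : MulAut W) :
    letI := addModule hexp
    Module.End (ZMod p) (Additive W) :=
  letI := addModule hexp
  (MonoidHom.toAdditive φ.toMonoidHom).toZModLinearMap p

theorem toLin_apply (hexp : ∀ w : W, w ^ p = 1) (φ : MulAut W) (v : Additive W) :
    letI := addModule hexp
    toLin hexp φ v = Additive.ofMul (φ v.toMul) := rfl

theorem toLin_mul (hexp : ∀ w : W, w ^ p = 1) (φ ψ : MulAut W) :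
    letI := addModule hexp
    toLin hexp (φ * ψ) = toLin hexp φ * toLin hexp ψ := by
  letI := addModule hexp
  ext v
  rfl

theorem toLin_one (hexp : ∀ w : W, w ^ p = 1) :
    letI := addModule hexp
    toLin hexp (1 : MulAut W) = 1 := by
  letI := addModule hexp
  ext v
  rfl

theorem toLin_pow (hexp : ∀ w : W, w ^ p = 1) (φ : MulAut W) (j : ℕ) :
    letI := addModule hexp
    toLin hexp (φ ^ j) = toLin hexp φ ^ j := by
  letI := addModule hexp
  induction j with
  | zero => rw [pow_zero, pow_zero, toLin_one]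
  | succ n ih => rw [pow_succ, pow_succ, toLin_mul, ih]

theorem toLin_injective (hexp : ∀ w : W, w ^ p = 1) (φ : MulAut W) :
    letI := addModule hexp
    Function.Injective (toLin hexp φ) := by
  letI := addModule hexp
  intro v w hvw
  have h1 : φ v.toMul = φ w.toMul := congrArg Additive.toMul hvw
  exact congrArg Additive.ofMul (φ.injective h1)

theorem primitive_root_mult [Finite W] [Nontrivial W] {q : ℕ} [hq : Fact q.Prime] (hpq : p ≠ q)
    (hexp : ∀ w : W, w ^ p = 1) (α : MulAut W) (hαq : α ^ q = 1)
    (hfpf : ∀ w, α w = w → w = 1)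
    (H1 : ∀ v w : W, v ≠ 1 → w ≠ 1 →
      ∃ (β : MulAut W) (j : ℕ), (∀ u, β (α u) = (α ^ j) (β u)) ∧ β v = w)
    (H2 : ∀ j, 0 < j → j < q → ∃ β : MulAut W, ∀ u, β (α u) = (α ^ j) (β u)) :
    orderOf (p : ZMod q) = q - 1 := by
  letI := addModule hexp
  have hsemi : ∀ (β : MulAut W) (j : ℕ), (∀ u, β (α u) = (α ^ j) (β u)) →
      SemiconjBy (toLin hexp β) (toLin hexp α) (toLin hexp α ^ j) := by
    intro β j h
    unfold SemiconjBy
    rw [← toLin_pow, ← toLin_mul, ← toLin_mul]
    congr 1
    ext u
    exact h u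
  refine primitive_root_of_transitive (V := Additive W) hpq (toLin hexp α) ?_ ?_ ?_ ?_
  · rw [← toLin_pow, hαq, toLin_one]
  · intro v hv
    have h1 : α v.toMul = v.toMul := congrArg Additive.toMul hv
    exact congrArg Additive.ofMul (hfpf _ h1)
  · intro v w hv hw
    obtain ⟨β, j, hβ, hβv⟩ := H1 v.toMul w.toMul
      (fun h => hv (congrArg Additive.ofMul h)) (fun h => hw (congrArg Additive.ofMul h))
    exact ⟨toLin hexp β, j, toLin_injective hexp β, hsemi β j hβ, congrArg Additive.ofMul hβv⟩
  · intro j hj0 hjq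
    obtain ⟨β, hβ⟩ := H2 j hj0 hjq
    exact ⟨toLin hexp β, toLin_injective hexp β, hsemi β j hβ⟩

end Bridge

end Cfsg.Agent.Lead.LM
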