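import Mathlib
import Cfsg.Agent.Lead.LMc
import Cfsg.Agent.Helper29.KazarinB

set_option autoImplicit false

/-! # Laffey–MacHale: forward direction, group theory -/

namespace Cfsg.Agent.Lead.LM

open Subgroup

section Orbits

variable {G : Type*} [Group G]

theorem orderOf_eq_of_orbit_eq {g h : G}
    (hgh : (Quotient.mk'' g : MulAction.orbitRel.Quotient (MulAut G) G) = Quotient.mk'' h) :
    ∃ φ : MulAut G, φ h = g := by
  rw [Quotient.eq''] at hgh
  change g ∈ MulAction.orbit (MulAut G) h at hgh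
  obtain ⟨φ, hφ⟩ := MulAction.mem_orbit_iff.mp hgh
  exact ⟨φ, hφ⟩

theorem orbit_eq_of_aut {g h : G} (φ : MulAut G) (hφ : φ h = g) :
    (Quotient.mk'' g : MulAction.orbitRel.Quotient (MulAut G) G) = Quotient.mk'' h := by
  rw [Quotient.eq'']
  change g ∈ MulAction.orbit (MulAut G) h
  exact MulAction.mem_orbit_iff.mpr ⟨φ, hφ⟩

theorem three_orbits [Finite G]
    (h3 : Nat.card (MulAction.orbitRel.Quotient (MulAut G) G) = 3) {a b : G}
    (ha : orderOf a ≠ 1) (hb : orderOf b ≠ 1) (hab : orderOf a ≠ orderOf b) (g : G) :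
    g = 1 ∨ (∃ φ : MulAut G, φ a = g) ∨ (∃ φ : MulAut G, φ b = g) := by
  classical
  haveI : Fintype (MulAction.orbitRel.Quotient (MulAut G) G) := Fintype.ofFinite _
  rw [Nat.card_eq_fintype_card] at h3
  set q1 : MulAction.orbitRel.Quotient (MulAut G) G := Quotient.mk'' 1 with hq1
  set qa : MulAction.orbitRel.Quotient (MulAut G) G := Quotient.mk'' a with hqa
  set qb : MulAction.orbitRel.Quotient (MulAut G) G := Quotient.mk'' b with hqb
  have h1a : q1 ≠ qa := by
    intro h
    obtain ⟨φ, hφ⟩ := orderOf_eq_of_orbit_eq h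
    have : orderOf (φ a) = orderOf a := MulEquiv.orderOf_eq φ a
    rw [hφ, orderOf_one] at this
    exact ha this.symm
  have h1b : q1 ≠ qb := by
    intro h
    obtain ⟨φ, hφ⟩ := orderOf_eq_of_orbit_eq h
    have : orderOf (φ b) = orderOf b := MulEquiv.orderOf_eq φ b
    rw [hφ, orderOf_one] at this
    exact hb this.symm
  have hab' : qa ≠ qb := by
    intro h
    obtain ⟨φ, hφ⟩ := orderOf_eq_of_orbit_eq h
    have : orderOf (φ b) = orderOf b := MulEquiv.orderOf_eq φ b
    rw [hφ] at this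
    exact hab this
  have hcard : ({q1, qa, qb} : Finset _).card = 3 :=
    Finset.card_eq_three.mpr ⟨q1, qa, qb, h1a, h1b, hab', rfl⟩
  have huniv := Finset.eq_univ_of_card _ (hcard.trans h3.symm)
  have hg : (Quotient.mk'' g : MulAction.orbitRel.Quotient (MulAut G) G) ∈
      ({q1, qa, qb} : Finset _) := by rw [huniv]; exact Finset.mem_univ _
  simp only [Finset.mem_insert, Finset.mem_singleton] at hg
  rcases hg with hg | hg | hg
  · left
    obtain ⟨φ, hφ⟩ := orderOf_eq_of_orbit_eq hg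
    rw [← hφ, map_one]
  · right; left
    exact orderOf_eq_of_orbit_eq hg
  · right; right
    exact orderOf_eq_of_orbit_eq hg

end Orbits

/-- The hypotheses extracted from "three automorphism orbits". -/
structure ThreeOrb (G : Type*) [Group G] (p q : ℕ) : Prop where
  hp : p.Prime
  hq : q.Prime
  hpq : p ≠ q
  ord : ∀ g : G, g ≠ 1 → orderOf g = p ∨ orderOf g = q
  trp : ∀ g h : G, orderOf g = p → orderOf h = p → ∃ φ : MulAut G, φ g = h
  trq : ∀ g h : G, orderOf g = q → orderOf h = q → ∃ φ : MulAut G, φ g = h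
  exp : ∃ g : G, orderOf g = p
  exq : ∃ g : G, orderOf g = q

theorem ThreeOrb.symm {G : Type*} [Group G] {p q : ℕ} (T : ThreeOrb G p q) : ThreeOrb G q p :=
  ⟨T.hq, T.hp, T.hpq.symm, fun g hg => (T.ord g hg).symm, T.trq, T.trp, T.exq, T.exp⟩

theorem exists_threeOrb {G : Type*} [Group G] [Finite G]
    (hnpp : ¬ IsPrimePow (Nat.card G)) (hnt : Nat.card G ≠ 1)
    (h3 : Nat.card (MulAction.orbitRel.Quotient (MulAut G) G) = 3) :
    ∃ p q : ℕ, ThreeOrb G p q := by
  obtain ⟨p, hp, hpd⟩ := Nat.exists_prime_and_dvd hnt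
  have hex : ∃ q : ℕ, q.Prime ∧ q ∣ Nat.card G ∧ q ≠ p := by
    by_contra hcon
    push Not at hcon
    apply hnpp
    rw [isPrimePow_iff_unique_prime_dvd]
    exact ⟨p, ⟨hp, hpd⟩, fun q hq => hcon q hq.1 hq.2⟩
  obtain ⟨q, hq, hqd, hqp⟩ := hex
  haveI := Fact.mk hp
  haveI := Fact.mk hq
  obtain ⟨a, ha⟩ := exists_prime_orderOf_dvd_card' p hpd
  obtain ⟨b, hb⟩ := exists_prime_orderOf_dvd_card' q hqd
  have key := three_orbits h3 (a := a) (b := b) (by rw [ha]; exact hp.ne_one)
    (by rw [hb]; exact hq.ne_one) (by rw [ha, hb]; exact hqp.symm)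
  have hord : ∀ g : G, g ≠ 1 → orderOf g = p ∨ orderOf g = q := by
    intro g hg
    rcases key g with h | ⟨φ, hφ⟩ | ⟨φ, hφ⟩
    · exact absurd h hg
    · left; rw [← hφ, MulEquiv.orderOf_eq, ha]
    · right; rw [← hφ, MulEquiv.orderOf_eq, hb]
  have htr : ∀ (c : G) (r s : ℕ), r.Prime → r ≠ s → orderOf c = r → (∀ g : G, g ≠ 1 →
      orderOf g = r ∨ orderOf g = s) → (∀ g : G, g = 1 ∨ (∃ φ : MulAut G, φ c = g) ∨ orderOf g = s) →
      ∀ g h : G, orderOf g = r → orderOf h = r → ∃ φ : MulAut G, φ g = h := by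
    intro c r s hr hrs hc _ hk g h hg hh
    have h1 : ∀ g : G, orderOf g = r → ∃ φ : MulAut G, φ c = g := by
      intro g hg
      rcases hk g with h | h | h
      · rw [h, orderOf_one] at hg; exact absurd hg.symm hr.ne_one
      · exact h
      · rw [h] at hg; exact absurd hg.symm hrs
    obtain ⟨φ₁, hφ₁⟩ := h1 g hg
    obtain ⟨φ₂, hφ₂⟩ := h1 h hh
    refine ⟨φ₂ * φ₁⁻¹, ?_⟩
    rw [MulAut.mul_apply, ← hφ₁, MulAut.inv_apply_self, hφ₂]
  refine ⟨p, q, hp, hq, hqp.symm, hord, ?_, ?_, ⟨a, ha⟩, ⟨b, hb⟩⟩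
  · apply htr a p q hp hqp.symm ha hord
    intro g
    rcases key g with h | h | ⟨φ, hφ⟩
    · exact Or.inl h
    · exact Or.inr (Or.inl h)
    · right; right; rw [← hφ, MulEquiv.orderOf_eq, hb]
  · apply htr b q p hq hqp hb (fun g hg => (hord g hg).symm)
    intro g
    rcases key g with h | ⟨φ, hφ⟩ | h
    · exact Or.inl h
    · right; right; rw [← hφ, MulEquiv.orderOf_eq, ha]
    · exact Or.inr (Or.inl h)

section Basic

variable {G : Type*} [Group G] [Finite G] {p q : ℕ}

theorem ThreeOrb.prime_dvd (T : ThreeOrb G p q) {r : ℕ} (hr : r.Prime) (hrd : r ∣ Nat.card G) :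
    r = p ∨ r = q := by
  haveI := Fact.mk hr
  obtain ⟨x, hx⟩ := exists_prime_orderOf_dvd_card' r hrd
  have hx1 : x ≠ 1 := by
    rintro rfl
    rw [orderOf_one] at hx
    exact hr.ne_one hx.symm
  rcases T.ord x hx1 with h | h
  · left; rw [← hx, h]
  · right; rw [← hx, h]

theorem ThreeOrb.fpf (T : ThreeOrb G p q) (x y : G) (hx : orderOf x = q) (hy : orderOf y = p) :
    x * y * x⁻¹ ≠ y := by
  intro h
  have hc : Commute x y := by
    unfold Commute SemiconjBy
    rw [← h, inv_mul_cancel_right, h]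
  have hcop : (orderOf x).Coprime (orderOf y) := by
    rw [hx, hy]; exact (Nat.coprime_primes T.hq T.hp).mpr T.hpq.symm
  have hord := hc.orderOf_mul_eq_mul_orderOf_of_coprime hcop
  rw [hx, hy] at hord
  have hne : x * y ≠ 1 := by
    intro h1
    rw [h1, orderOf_one] at hord
    have := T.hp.two_le
    have := T.hq.two_le
    nlinarith
  have h2p := T.hp.two_le
  have h2q := T.hq.two_le
  rcases T.ord _ hne with h1 | h1
  · rw [h1] at hord; nlinarith
  · rw [h1] at hord; nlinarith

theorem ThreeOrb.pow_eq_one_of_pgroup (T : ThreeOrb G p q) {H : Subgroup G} (hH : IsPGroup p H)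
    {g : G} (hg : g ∈ H) : g ^ p = 1 := by
  by_cases h1 : g = 1
  · rw [h1, one_pow]
  · rcases T.ord g h1 with h | h
    · rw [← h, pow_orderOf_eq_one]
    · exfalso
      obtain ⟨k, hk⟩ := hH ⟨g, hg⟩
      have hk' : g ^ p ^ k = 1 := by simpa using congrArg Subtype.val hk
      have hd : q ∣ p ^ k := h ▸ orderOf_dvd_of_pow_eq_one hk'
      have := (Nat.prime_dvd_prime_iff_eq T.hq T.hp).mp (T.hq.dvd_of_dvd_pow hd)
      exact T.hpq this.symm

theorem ThreeOrb.orderOf_of_pgroup (T : ThreeOrb G p q) {H : Subgroup G} (hH : IsPGroup p H)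
    {g : G} (hg : g ∈ H) (h1 : g ≠ 1) : orderOf g = p :=
  orderOf_eq_prime (T.pow_eq_one_of_pgroup hH hg) h1 (hp := ⟨T.hp⟩)

/-- A nontrivial solvable normal subgroup contains a nontrivial abelian normal subgroup. -/
theorem exists_abelian_normal : ∀ (n : ℕ) (N : Subgroup G), Nat.card N = n → N.Normal →
    Group.IsSolvable N → N ≠ ⊥ →
    ∃ A : Subgroup G, A ≤ N ∧ A.Normal ∧ A ≠ ⊥ ∧ ∀ a ∈ A, ∀ b ∈ A, a * b = b * a := by
  intro n
  induction n using Nat.strong_induction_on with
  | _ n ih =>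
    intro N hn hN hsol hbot
    by_cases hcomm : ⁅N, N⁆ = ⊥
    · refine ⟨N, le_rfl, hN, hbot, ?_⟩
      intro a ha b hb
      have hle := Subgroup.commutator_eq_bot_iff_le_centralizer.mp hcomm
      exact ((Subgroup.mem_centralizer_iff.mp (hle ha)) b hb).symm
    · have hle : ⁅N, N⁆ ≤ N := Subgroup.commutator_le_right N N
      have hlt : ⁅N, N⁆ < N := by
        refine lt_of_le_of_ne hle ?_
        intro heq
        haveI : Nontrivial N := (Subgroup.nontrivial_iff_ne_bot N).mpr hbot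
        have h1 := Group.IsSolvable.commutator_lt_top_of_nontrivial (G := N)
        have h2 : (_root_.commutator N).map N.subtype = (⊤ : Subgroup N).map N.subtype := by
          rw [Subgroup.map_subtype_commutator, heq, ← MonoidHom.range_eq_map, Subgroup.range_subtype]
        exact h1.ne (Subgroup.map_injective N.subtype_injective h2)
      have hcard : Nat.card (⁅N, N⁆ : Subgroup G) < n := by
        rw [← hn]
        exact Set.Finite.card_lt_card (Set.toFinite _) hlt
      haveI : Group.IsSolvable (⁅N, N⁆ : Subgroup G) :=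
        Group.isSolvable_of_isSolvable_injective (Subgroup.inclusion_injective hle)
      obtain ⟨A, hA1, hA2, hA3, hA4⟩ := ih _ hcard ⁅N, N⁆ rfl
        (Subgroup.commutator_normal N N) inferInstance hcomm
      exact ⟨A, hA1.trans hle, hA2, hA3, hA4⟩

/-- The `r`-torsion of an abelian subgroup. -/
def torsionIn (A : Subgroup G) (hA : ∀ a ∈ A, ∀ b ∈ A, a * b = b * a) (r : ℕ) : Subgroup G where
  carrier := {a | a ∈ A ∧ a ^ r = 1}
  mul_mem' := by
    rintro a b ⟨ha, ha'⟩ ⟨hb, hb'⟩
    exact ⟨A.mul_mem ha hb, by rw [(show Commute a b from hA a ha b hb).mul_pow, ha', hb', one_mul]⟩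
  one_mem' := ⟨A.one_mem, one_pow r⟩
  inv_mem' := by
    rintro a ⟨ha, ha'⟩
    exact ⟨A.inv_mem ha, by rw [inv_pow, ha', inv_one]⟩

theorem torsionIn_normal (A : Subgroup G) (hA : ∀ a ∈ A, ∀ b ∈ A, a * b = b * a) (r : ℕ)
    (hAn : A.Normal) : (torsionIn A hA r).Normal := by
  constructor
  rintro a ⟨ha, ha'⟩ g
  exact ⟨hAn.conj_mem a ha g, by rw [conj_pow, ha', mul_one, mul_inv_cancel]⟩

theorem torsionIn_isPGroup (A : Subgroup G) (hA : ∀ a ∈ A, ∀ b ∈ A, a * b = b * a) (r : ℕ) :
    IsPGroup r (torsionIn A hA r) := by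
  rintro ⟨a, ha, ha'⟩
  exact ⟨1, Subtype.ext (by simpa using ha')⟩

/-- Some prime has a normal subgroup of that prime-power order containing an element of that
prime order (via Kazarin's theorem). -/
theorem ThreeOrb.exists_normal_pgroup (T : ThreeOrb G p q) :
    (∃ B : Subgroup G, B.Normal ∧ IsPGroup p B ∧ ∃ y ∈ B, orderOf y = p) ∨
    (∃ B : Subgroup G, B.Normal ∧ IsPGroup q B ∧ ∃ y ∈ B, orderOf y = q) := by
  haveI := Fact.mk T.hp
  obtain ⟨a, ha⟩ := T.exp
  have hpd : p ∣ Nat.card G := ha ▸ orderOf_dvd_natCard a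
  let S : Sylow p G := default
  have hSbot : (S : Subgroup G) ≠ ⊥ := S.ne_bot_of_dvd_card hpd
  haveI : Nontrivial (S : Subgroup G) := (Subgroup.nontrivial_iff_ne_bot _).mpr hSbot
  haveI := IsPGroup.center_nontrivial S.isPGroup'
  obtain ⟨z', hz'⟩ := exists_ne (1 : Subgroup.center (S : Subgroup G))
  set z : G := ((z' : (S : Subgroup G)) : G) with hz
  have hz1 : z ≠ 1 := by
    intro h
    apply hz'
    apply Subtype.ext
    apply Subtype.ext
    exact h
  have hSle : (S : Subgroup G) ≤ centralizer ({z} : Set G) := by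
    intro s hs
    rw [Subgroup.mem_centralizer_iff]
    intro h hh
    rw [Set.mem_singleton_iff] at hh
    subst hh
    have := Subgroup.mem_center_iff.mp z'.2 ⟨s, hs⟩
    exact (congrArg Subtype.val this).symm
  have hidx : (centralizer ({z} : Set G)).index ∣ (S : Subgroup G).index :=
    Subgroup.index_dvd_of_le hSle
  have hpow : (centralizer ({z} : Set G)).index =
      q ^ (centralizer ({z} : Set G)).index.primeFactorsList.length := by
    apply Nat.eq_prime_pow_of_unique_prime_dvd Subgroup.index_ne_zero_of_finite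
    intro d hd hdd
    rcases T.prime_dvd hd (hdd.trans (Subgroup.index_dvd_card _)) with h | h
    · exfalso
      subst h
      exact S.not_dvd_index (hdd.trans hidx)
    · exact h
  have hsol := Cfsg.Agent.Helper29.Kazarin.kazarin z T.hq _ hpow
  have hNbot : normalClosure ({z} : Set G) ≠ ⊥ := by
    intro h
    have : z ∈ normalClosure ({z} : Set G) := subset_normalClosure (Set.mem_singleton z)
    rw [h, Subgroup.mem_bot] at this
    exact hz1 this
  obtain ⟨A, -, hAn, hAbot, hAc⟩ := exists_abelian_normal _ _ rfl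
    (Subgroup.normalClosure_normal) hsol hNbot
  obtain ⟨y, hyA, hy1⟩ : ∃ y ∈ A, y ≠ 1 := by
    by_contra hcon
    push Not at hcon
    exact hAbot ((Subgroup.eq_bot_iff_forall A).mpr hcon)
  rcases T.ord y hy1 with h | h
  · left
    exact ⟨torsionIn A hAc p, torsionIn_normal A hAc p hAn, torsionIn_isPGroup A hAc p, y,
      ⟨hyA, by rw [← h, pow_orderOf_eq_one]⟩, h⟩
  · right
    exact ⟨torsionIn A hAc q, torsionIn_normal A hAc q hAn, torsionIn_isPGroup A hAc q, y,
      ⟨hyA, by rw [← h, pow_orderOf_eq_one]⟩, h⟩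

end Basic

end Cfsg.Agent.Lead.LM
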