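import Mathlib
import Cfsg.Agent.Lead.LMd

set_option autoImplicit false

/-! # Laffey–MacHale: forward direction, the normal Sylow subgroup -/

namespace Cfsg.Agent.Lead.LM

open Subgroup

/-- `toLin` as a monoid homomorphism. -/
noncomputable def toLinHom {W : Type*} [CommGroup W] {p : ℕ} [Fact p.Prime]
    (hexp : ∀ w : W, w ^ p = 1) :
    MulAut W →* @Module.End (ZMod p) (Additive W) _ _ (addModule hexp) :=
  { toFun := toLin hexp
    map_one' := toLin_one hexp
    map_mul' := toLin_mul hexp }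

theorem no_rank_two {W : Type*} [CommGroup W] {p q : ℕ} [Fact p.Prime] (hpq : p.Coprime q)
    (hexp : ∀ w : W, w ^ p = 1) {A : Type*} [Group A] (θ : A →* MulAut W) (hq : 0 < q)
    (z y : A) (hzy : Commute z y) (hz : z ^ q = 1) (hy : y ^ q = 1)
    (hfpf : ∀ a : A, a ^ q = 1 → a ≠ 1 → ∀ w : W, θ a w = w → w = 1)
    (hyz : ∀ j : ℕ, y * z ^ j ≠ 1) (hzi : ∀ i, 0 < i → i < q → z ^ i ≠ 1) (w : W) : w = 1 := by
  letI := addModule hexp
  have hfp : ∀ a : A, a ^ q = 1 → a ≠ 1 → ∀ v : Additive W,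
      ((toLinHom hexp).comp θ) a • v = v → v = 0 := by
    intro a haq ha1 v hv
    have h1 : θ a v.toMul = v.toMul := congrArg Additive.toMul hv
    exact congrArg Additive.ofMul (hfpf a haq ha1 _ h1)
  have h := noZqZq (V := Additive W) ((toLinHom hexp).comp θ) hq z y hzy hz hy hfp hyz hzi
    (Additive.ofMul w)
  have hwq : w ^ q = 1 := congrArg Additive.toMul h
  have h1 : orderOf w ∣ Nat.gcd p q :=
    Nat.dvd_gcd (orderOf_dvd_of_pow_eq_one (hexp w)) (orderOf_dvd_of_pow_eq_one hwq)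
  rw [hpq] at h1
  exact orderOf_eq_one_iff.mp (Nat.dvd_one.mp h1)

section SylowNormal

variable {G : Type*} [Group G] [Finite G] {p q : ℕ}

theorem ThreeOrb.mem_sylow (T : ThreeOrb G p q) [Fact p.Prime] {B : Subgroup G} (hBn : B.Normal)
    (hBp : IsPGroup p B) {y₀ : G} (hy₀B : y₀ ∈ B) (hy₀ : orderOf y₀ = p) (S : Sylow p G) {g : G}
    (hg : orderOf g = p) : g ∈ S := by
  obtain ⟨φ, hφ⟩ := T.trp y₀ g hy₀ hg
  haveI hBn' : (B.map φ.toMonoidHom).Normal := hBn.map _ φ.surjective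
  have hBp' : IsPGroup p (B.map φ.toMonoidHom) := hBp.map _
  have hsup : IsPGroup p (B.map φ.toMonoidHom ⊔ S : Subgroup G) :=
    hBp'.to_sup_of_normal_left S.isPGroup'
  have heq := S.is_maximal' hsup le_sup_right
  have hle : B.map φ.toMonoidHom ≤ S := heq ▸ le_sup_left
  exact hle (hφ ▸ Subgroup.mem_map_of_mem _ hy₀B)

theorem ThreeOrb.aut_mem_sylow (T : ThreeOrb G p q) [Fact p.Prime] {B : Subgroup G}
    (hBn : B.Normal) (hBp : IsPGroup p B) {y₀ : G} (hy₀B : y₀ ∈ B) (hy₀ : orderOf y₀ = p)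
    (S : Sylow p G) (φ : MulAut G) {s : G} (hs : s ∈ S) : φ s ∈ S := by
  by_cases h1 : s = 1
  · rw [h1, map_one]; exact one_mem _
  · apply T.mem_sylow hBn hBp hy₀B hy₀ S
    rw [MulEquiv.orderOf_eq]
    exact T.orderOf_of_pgroup S.isPGroup' hs h1

theorem ThreeOrb.sylow_normal (T : ThreeOrb G p q) [Fact p.Prime] {B : Subgroup G}
    (hBn : B.Normal) (hBp : IsPGroup p B) {y₀ : G} (hy₀B : y₀ ∈ B) (hy₀ : orderOf y₀ = p)
    (S : Sylow p G) : (S : Subgroup G).Normal := by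
  constructor
  intro s hs g
  have := T.aut_mem_sylow hBn hBp hy₀B hy₀ S (MulAut.conj g) hs
  simp only [MulAut.conj_apply] at this
  exact this

theorem ThreeOrb.sylow_comm (T : ThreeOrb G p q) [Fact p.Prime] {B : Subgroup G}
    (hBn : B.Normal) (hBp : IsPGroup p B) {y₀ : G} (hy₀B : y₀ ∈ B) (hy₀ : orderOf y₀ = p)
    (S : Sylow p G) : ∀ s ∈ S, ∀ t ∈ S, s * t = t * s := by
  have hy₀S : y₀ ∈ S := T.mem_sylow hBn hBp hy₀B hy₀ S hy₀
  have hy₀1 : y₀ ≠ 1 := by
    rintro rfl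
    rw [orderOf_one] at hy₀
    exact (Fact.out : p.Prime).ne_one hy₀.symm
  haveI : Nontrivial (S : Subgroup G) := ⟨⟨⟨y₀, hy₀S⟩, 1, fun h => hy₀1 (congrArg Subtype.val h)⟩⟩
  haveI := IsPGroup.center_nontrivial S.isPGroup'
  obtain ⟨z', hz'⟩ := exists_ne (1 : Subgroup.center (S : Subgroup G))
  have hz1 : ((z' : (S : Subgroup G)) : G) ≠ 1 := by
    intro h
    apply hz'
    apply Subtype.ext
    apply Subtype.ext
    exact h
  have hzS : ((z' : (S : Subgroup G)) : G) ∈ S := (z' : (S : Subgroup G)).2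
  have hzord := T.orderOf_of_pgroup S.isPGroup' hzS hz1
  intro s hs t ht
  by_cases hs1 : s = 1
  · rw [hs1, one_mul, mul_one]
  · have hsord := T.orderOf_of_pgroup S.isPGroup' hs hs1
    obtain ⟨φ, hφ⟩ := T.trp _ s hzord hsord
    have ht' : φ.symm t ∈ S := T.aut_mem_sylow hBn hBp hy₀B hy₀ S φ.symm ht
    have hcomm := Subgroup.mem_center_iff.mp z'.2 ⟨φ.symm t, ht'⟩
    have hcomm' : φ.symm t * ((z' : (S : Subgroup G)) : G) = ((z' : (S : Subgroup G)) : G) * φ.symm t :=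
      congrArg Subtype.val hcomm
    have := congrArg φ hcomm'
    rw [map_mul, map_mul, hφ, MulEquiv.apply_symm_apply] at this
    exact this.symm

theorem ThreeOrb.not_sq_dvd (T : ThreeOrb G p q) [Fact p.Prime] [Fact q.Prime] (P : Subgroup G)
    [P.Normal] (hPc : ∀ s ∈ P, ∀ t ∈ P, s * t = t * s) (hPe : ∀ s ∈ P, s ^ p = 1) (hPnt : P ≠ ⊥) :
    ¬ q ^ 2 ∣ Nat.card G := by
  intro hdvd
  have hq2 := (Fact.out : q.Prime).two_le
  obtain ⟨K, hK⟩ := Sylow.exists_subgroup_card_pow_prime q hdvd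
  have hKc : ∀ a b : K, a * b = b * a := by
    haveI := IsPGroup.isMulCommutative_of_card_eq_prime_sq hK
    exact fun a b => mul_comm' a b
  have hKp : IsPGroup q K := IsPGroup.of_card hK
  have hKq : ∀ k ∈ K, k ^ q = 1 := fun k hk => T.symm.pow_eq_one_of_pgroup hKp hk
  haveI hKnt : Nontrivial K := by
    rw [← Finite.one_lt_card_iff_nontrivial, hK]
    exact Nat.one_lt_pow two_ne_zero (Fact.out : q.Prime).one_lt
  obtain ⟨z', hz'⟩ := exists_ne (1 : K)
  have hz1 : (z' : G) ≠ 1 := fun h => hz' (Subtype.ext h)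
  have hzq : orderOf (z' : G) = q := orderOf_eq_prime (hKq _ z'.2) hz1
  have hex : ∃ y ∈ K, y ∉ zpowers (z' : G) := by
    by_contra hcon
    push Not at hcon
    have hle : K ≤ zpowers (z' : G) := hcon
    have h1 := Subgroup.card_le_of_le hle
    rw [hK, Nat.card_zpowers, hzq] at h1
    nlinarith
  obtain ⟨y, hyK, hyz⟩ := hex
  letI : CommGroup P :=
    { (inferInstance : Group P) with mul_comm := fun a b => Subtype.ext (hPc a a.2 b b.2) }
  have hall := no_rank_two (W := P) (p := p) (q := q)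
    ((Nat.coprime_primes T.hp T.hq).mpr T.hpq)
    (fun w => Subtype.ext (by simpa using hPe w w.2)) (MulAut.conjNormal (H := P))
    (by omega) (z' : G) y (congrArg Subtype.val (hKc z' ⟨y, hyK⟩)) (hKq _ z'.2) (hKq _ hyK) ?_ ?_ ?_
  · apply hPnt
    rw [Subgroup.eq_bot_iff_forall]
    intro w hw
    exact congrArg Subtype.val (hall ⟨w, hw⟩)
  · intro a haq ha1 w hw
    by_contra hw1
    have haord : orderOf a = q := orderOf_eq_prime haq ha1
    have hwG1 : (w : G) ≠ 1 := fun h => hw1 (Subtype.ext h)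
    have hword : orderOf (w : G) = p := orderOf_eq_prime (hPe w w.2) hwG1
    apply T.fpf a w haord hword
    have := congrArg Subtype.val hw
    rwa [MulAut.conjNormal_apply] at this
  · intro j hj
    apply hyz
    have : y = ((z' : G) ^ j)⁻¹ := eq_inv_of_mul_eq_one_left hj
    rw [this]
    exact inv_mem (pow_mem (mem_zpowers _) j)
  · intro i hi0 hiq
    exact pow_ne_one_of_lt_orderOf hi0.ne' (hzq ▸ hiq)

end SylowNormal

end Cfsg.Agent.Lead.LM
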