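import Mathlib
import Cfsg.Agent.Lead.LMe

set_option autoImplicit false

/-! # Laffey–MacHale: forward direction, conclusion -/

namespace Cfsg.Agent.Lead.LM

open Subgroup

section Restrict

variable {G : Type*} [Group G]

/-- Restriction of an automorphism to a characteristic subgroup. -/
noncomputable def restrictChar (H : Subgroup G) [hH : H.Characteristic] (φ : MulAut G) : MulAut H :=
  (MulEquiv.subgroupMap φ H).trans
    (MulEquiv.subgroupCongr (Subgroup.characteristic_iff_map_eq.mp hH φ))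

theorem restrictChar_apply (H : Subgroup G) [hH : H.Characteristic] (φ : MulAut G) (u : H) :
    ((restrictChar H φ u : H) : G) = φ u := rfl

theorem exists_decomp [Finite G] (P : Subgroup G) (x : G) (hc : P.IsComplement' (zpowers x))
    (g : G) : ∃ u ∈ P, ∃ j : ℕ, g = u * x ^ j := by
  obtain ⟨⟨s, t⟩, hst⟩ := hc.2 g
  have ht : (t : G) ∈ Submonoid.powers x := mem_powers_iff_mem_zpowers.mpr t.2
  obtain ⟨j, hj⟩ := ht
  have hj' : x ^ j = (t : G) := hj
  exact ⟨s, s.2, j, by rw [hj']; exact hst.symm⟩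

end Restrict

section Final

variable {G : Type*} [Group G] [Finite G] {p q : ℕ}

theorem ThreeOrb.card_eq (T : ThreeOrb G p q) [Fact p.Prime] [Fact q.Prime] (P : Sylow p G)
    [(P : Subgroup G).Normal] (hPc : ∀ s ∈ P, ∀ t ∈ P, s * t = t * s)
    (hPe : ∀ s ∈ P, s ^ p = 1) :
    ∃ n, 1 ≤ n ∧ Nat.card P = p ^ n ∧ (P : Subgroup G).index = q ∧ Nat.card G = p ^ n * q := by
  obtain ⟨a, ha⟩ := T.exp
  obtain ⟨b, hb⟩ := T.exq
  have hpd : p ∣ Nat.card G := ha ▸ orderOf_dvd_natCard a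
  have hqd : q ∣ Nat.card G := hb ▸ orderOf_dvd_natCard b
  have hPbot : (P : Subgroup G) ≠ ⊥ := P.ne_bot_of_dvd_card hpd
  obtain ⟨n, hn⟩ := IsPGroup.iff_card.mp P.isPGroup'
  have hn1 : 1 ≤ n := by
    rcases Nat.eq_zero_or_pos n with h0 | h0
    · exfalso
      rw [h0, pow_zero] at hn
      exact hPbot (Subgroup.card_eq_one.mp hn)
    · exact h0
  have hidx : (P : Subgroup G).index = q ^ (P : Subgroup G).index.primeFactorsList.length := by
    apply Nat.eq_prime_pow_of_unique_prime_dvd Subgroup.index_ne_zero_of_finite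
    intro d hd hdd
    rcases T.prime_dvd hd (hdd.trans (Subgroup.index_dvd_card _)) with h | h
    · exfalso
      subst h
      exact P.not_dvd_index hdd
    · exact h
  set k := (P : Subgroup G).index.primeFactorsList.length with hk
  have hcard : Nat.card G = p ^ n * q ^ k := by
    rw [← (P : Subgroup G).card_mul_index, hn, ← hidx]
  have hcop : Nat.Coprime q (p ^ n) :=
    Nat.Coprime.pow_right n ((Nat.coprime_primes T.hq T.hp).mpr T.hpq.symm)
  have hk0 : k ≠ 0 := by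
    intro h0
    rw [h0, pow_zero, mul_one] at hcard
    rw [hcard] at hqd
    have := (Nat.Coprime.dvd_of_dvd_mul_left hcop (by simpa using hqd) : q ∣ 1)
    exact T.hq.one_lt.ne' (Nat.dvd_one.mp this)
  have hk2 : k < 2 := by
    by_contra hge
    push Not at hge
    apply T.not_sq_dvd (P : Subgroup G) hPc hPe hPbot
    rw [hcard]
    exact Dvd.dvd.mul_left (pow_dvd_pow q hge) _
  have hk1 : k = 1 := by omega
  rw [hk1, pow_one] at hidx hcard
  exact ⟨n, hn1, hn, hidx, hcard⟩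

theorem ThreeOrb.primitive_root (T : ThreeOrb G p q) [Fact p.Prime] [Fact q.Prime] (P : Sylow p G)
    [hPn : (P : Subgroup G).Normal] (hPc : ∀ s ∈ P, ∀ t ∈ P, s * t = t * s)
    (hPe : ∀ s ∈ P, s ^ p = 1) {n : ℕ} (hn1 : 1 ≤ n) (hcardP : Nat.card P = p ^ n)
    (hcard : Nat.card G = p ^ n * q) : orderOf (p : ZMod q) = q - 1 := by
  obtain ⟨x, hx⟩ := T.exq
  haveI hchar : (P : Subgroup G).Characteristic := P.characteristic_of_normal hPn
  have hcop : Nat.Coprime (p ^ n) q :=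
    Nat.Coprime.pow_left n ((Nat.coprime_primes T.hp T.hq).mpr T.hpq)
  have hcompl : (P : Subgroup G).IsComplement' (zpowers x) := by
    apply isComplement'_of_coprime
    · rw [Nat.card_zpowers, hx, hcardP, hcard]
    · rw [Nat.card_zpowers, hx, hcardP]; exact hcop
  letI : CommGroup (P : Subgroup G) :=
    { (inferInstance : Group (P : Subgroup G)) with
      mul_comm := fun a b => Subtype.ext (hPc a a.2 b b.2) }
  haveI : Nontrivial (P : Subgroup G) := by
    rw [← Finite.one_lt_card_iff_nontrivial, hcardP]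
    exact Nat.one_lt_pow (by omega) T.hp.one_lt
  have hordP : ∀ v : (P : Subgroup G), v ≠ 1 → orderOf (v : G) = p := by
    intro v hv
    exact orderOf_eq_prime (hPe v v.2) (fun h => hv (Subtype.ext h))
  have hpowx : ∀ j : ℕ, (MulAut.conjNormal (H := (P : Subgroup G)) x) ^ j =
      MulAut.conjNormal (H := (P : Subgroup G)) (x ^ j) := fun j => (map_pow _ x j).symm
  refine primitive_root_mult (W := (P : Subgroup G)) T.hpq
    (fun w => Subtype.ext (by simpa using hPe w w.2)) (MulAut.conjNormal (H := (P : Subgroup G)) x)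
    ?_ ?_ ?_ ?_
  · rw [hpowx, ← hx, pow_orderOf_eq_one, map_one]
  · intro w hw
    by_contra hw1
    apply T.fpf x w hx (hordP w hw1)
    have := congrArg Subtype.val hw
    rwa [MulAut.conjNormal_apply] at this
  · intro v w hv hw
    obtain ⟨φ, hφ⟩ := T.trp (v : G) (w : G) (hordP v hv) (hordP w hw)
    obtain ⟨u₀, hu₀, j, hj⟩ := exists_decomp (P : Subgroup G) x hcompl (φ x)
    refine ⟨restrictChar (P : Subgroup G) φ, j, ?_, Subtype.ext hφ⟩
    intro u
    apply Subtype.ext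
    rw [hpowx, restrictChar_apply, MulAut.conjNormal_apply, MulAut.conjNormal_apply,
      restrictChar_apply, map_mul, map_mul, map_inv, hj]
    have ht : x ^ j * φ u * (x ^ j)⁻¹ ∈ (P : Subgroup G) :=
      hPn.conj_mem _ ((restrictChar (P : Subgroup G) φ u).2) _
    have hc := hPc u₀ hu₀ _ ht
    calc u₀ * x ^ j * φ u * (u₀ * x ^ j)⁻¹
        = u₀ * (x ^ j * φ u * (x ^ j)⁻¹) * u₀⁻¹ := by group
      _ = x ^ j * φ u * (x ^ j)⁻¹ := by rw [hc, mul_inv_cancel_right]
  · intro j hj0 hjq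
    have hxj : orderOf (x ^ j) = q := by
      rw [Nat.Coprime.orderOf_pow, hx]
      rw [hx]
      exact (Nat.Prime.coprime_iff_not_dvd T.hq).mpr (Nat.not_dvd_of_pos_of_lt hj0 hjq)
    obtain ⟨φ, hφ⟩ := T.trq x (x ^ j) hx hxj
    refine ⟨restrictChar (P : Subgroup G) φ, ?_⟩
    intro u
    apply Subtype.ext
    rw [hpowx, restrictChar_apply, MulAut.conjNormal_apply, MulAut.conjNormal_apply,
      restrictChar_apply, map_mul, map_mul, map_inv, hφ]

theorem ThreeOrb.conclusion (T : ThreeOrb G p q) {B : Subgroup G} (hBn : B.Normal)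
    (hBp : IsPGroup p B) {y₀ : G} (hy₀B : y₀ ∈ B) (hy₀ : orderOf y₀ = p) :
    ∃ n, 1 ≤ n ∧ Nat.card G = p ^ n * q ∧
      (∀ P : Sylow p G, (P : Subgroup G).Normal ∧ (∀ s ∈ P, ∀ t ∈ P, s * t = t * s) ∧
        ∀ s ∈ P, s ^ p = 1) ∧
      orderOf (p : ZMod q) = q - 1 ∧
      ∀ x y : G, orderOf x = q → orderOf y = p → x * y * x⁻¹ ≠ y := by
  haveI := Fact.mk T.hp
  haveI := Fact.mk T.hq
  have hall : ∀ P : Sylow p G, (P : Subgroup G).Normal ∧ (∀ s ∈ P, ∀ t ∈ P, s * t = t * s) ∧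
      ∀ s ∈ P, s ^ p = 1 := fun P =>
    ⟨T.sylow_normal hBn hBp hy₀B hy₀ P, T.sylow_comm hBn hBp hy₀B hy₀ P,
      fun s hs => T.pow_eq_one_of_pgroup P.isPGroup' hs⟩
  let P : Sylow p G := default
  obtain ⟨hPn, hPc, hPe⟩ := hall P
  haveI := hPn
  obtain ⟨n, hn1, hcardP, -, hcard⟩ := T.card_eq P hPc hPe
  exact ⟨n, hn1, hcard, hall, T.primitive_root P hPc hPe hn1 hcardP hcard, T.fpf⟩

theorem forward (hnpp : ¬ IsPrimePow (Nat.card G)) (hnt : Nat.card G ≠ 1)
    (h3 : Nat.card (MulAction.orbitRel.Quotient (MulAut G) G) = 3) :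
    ∃ p q n : ℕ, p.Prime ∧ q.Prime ∧ p ≠ q ∧ 1 ≤ n ∧ Nat.card G = p ^ n * q ∧
      (∀ P : Sylow p G, (P : Subgroup G).Normal ∧ (∀ s ∈ P, ∀ t ∈ P, s * t = t * s) ∧
        ∀ s ∈ P, s ^ p = 1) ∧
      orderOf (p : ZMod q) = q - 1 ∧
      ∀ x y : G, orderOf x = q → orderOf y = p → x * y * x⁻¹ ≠ y := by
  obtain ⟨p₀, q₀, T⟩ := exists_threeOrb hnpp hnt h3
  rcases T.exists_normal_pgroup with ⟨B, hBn, hBp, y₀, hy₀B, hy₀⟩ | ⟨B, hBn, hBp, y₀, hy₀B, hy₀⟩
  · obtain ⟨n, h1, h2, h3, h4, h5⟩ := T.conclusion hBn hBp hy₀B hy₀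
    exact ⟨p₀, q₀, n, T.hp, T.hq, T.hpq, h1, h2, h3, h4, h5⟩
  · obtain ⟨n, h1, h2, h3, h4, h5⟩ := T.symm.conclusion hBn hBp hy₀B hy₀
    exact ⟨q₀, p₀, n, T.hq, T.hp, T.hpq.symm, h1, h2, h3, h4, h5⟩

end Final

end Cfsg.Agent.Lead.LM
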