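import Mathlib
import Cfsg.Agent.Lead.LMc

set_option autoImplicit false

/-! # Laffey–MacHale: linear algebra for the converse direction -/

namespace Cfsg.Agent.Lead.LM

open Polynomial

section Core

theorem linearEquiv_of_card_eq {K : Type*} [Field K] [Finite K] {V₁ V₂ : Type*}
    [AddCommGroup V₁] [Module K V₁] [AddCommGroup V₂] [Module K V₂] [Finite V₁] [Finite V₂]
    (hcard : Nat.card V₁ = Nat.card V₂) : Nonempty (V₁ ≃ₗ[K] V₂) := by
  haveI : Module.Finite K V₁ := Module.Finite.of_finite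
  haveI : Module.Finite K V₂ := Module.Finite.of_finite
  have e1 := Module.natCard_eq_pow_finrank (K := K) (V := V₁)
  have e2 := Module.natCard_eq_pow_finrank (K := K) (V := V₂)
  rw [hcard, e2] at e1
  have hK : 1 < Nat.card K := Finite.one_lt_card
  exact ⟨LinearEquiv.ofFinrankEq V₁ V₂ (Nat.pow_right_injective hK e1).symm⟩

theorem linearEquiv_transitive {K : Type*} [Field K] {V : Type*} [AddCommGroup V] [Module K V]
    [FiniteDimensional K V] {v w : V} (hv : v ≠ 0) (hw : w ≠ 0) :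
    ∃ β : V ≃ₗ[K] V, β v = w := by
  let f : (K ∙ v) ≃ₗ[K] (K ∙ w) :=
    (LinearEquiv.toSpanNonzeroSingleton K V v hv).symm.trans
      (LinearEquiv.toSpanNonzeroSingleton K V w hw)
  obtain ⟨g, hg⟩ := Submodule.exists_linearEquiv_restrict_eq f
  refine ⟨g, ?_⟩
  have hvm : v ∈ K ∙ v := Submodule.mem_span_singleton_self v
  have h1 := hg ⟨v, hvm⟩
  rw [← h1]
  have h2 : (LinearEquiv.toSpanNonzeroSingleton K V v hv).symm ⟨v, hvm⟩ = 1 := by
    rw [LinearEquiv.symm_apply_eq, LinearEquiv.toSpanNonzeroSingleton_one]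
  simp only [f, LinearEquiv.trans_apply, h2, LinearEquiv.toSpanNonzeroSingleton_one]

end Core

section Bwd

variable {p q : ℕ} [hp : Fact p.Prime] [hq : Fact q.Prime]

theorem cyclotomic_irreducible (hpq : p ≠ q) (hord : orderOf (p : ZMod q) = q - 1) :
    Irreducible (cyclotomic q (ZMod p)) := by
  have hpn : ¬ p ∣ q := fun h => hpq ((Nat.prime_dvd_prime_iff_eq hp.out hq.out).mp h)
  apply ZMod.irreducible_of_dvd_cyclotomic_of_natDegree hpn dvd_rfl
  rw [natDegree_cyclotomic, Nat.totient_prime hq.out, ← orderOf_units, ZMod.coe_unitOfCoprime,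
    hord]

variable {V : Type*} [AddCommGroup V] [Module (ZMod p) V]

/-- The ring homomorphism `F_p[ζ_q] → End V` attached to `a` with `Φ_q(a) = 0`. -/
noncomputable def kHom (a : Module.End (ZMod p) V)
    (ha : aeval a (cyclotomic q (ZMod p)) = 0) :
    AdjoinRoot (cyclotomic q (ZMod p)) →+* Module.End (ZMod p) V :=
  Ideal.Quotient.lift (Ideal.span {cyclotomic q (ZMod p)}) (aeval a).toRingHom (by
    intro g hg
    obtain ⟨c, rfl⟩ := Ideal.mem_span_singleton.mp hg
    change aeval a (cyclotomic q (ZMod p) * c) = 0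
    rw [map_mul, ha, zero_mul])

theorem kHom_root (a : Module.End (ZMod p) V) (ha : aeval a (cyclotomic q (ZMod p)) = 0) :
    kHom a ha (AdjoinRoot.root _) = a := by
  change Ideal.Quotient.lift _ _ _ (Ideal.Quotient.mk _ X) = a
  rw [Ideal.Quotient.lift_mk]
  exact aeval_X a

/-- The `F_p[ζ_q]`-module structure attached to `a`. -/
@[reducible] noncomputable def kModule (a : Module.End (ZMod p) V)
    (ha : aeval a (cyclotomic q (ZMod p)) = 0) :
    Module (AdjoinRoot (cyclotomic q (ZMod p))) V :=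
  Module.compHom V (kHom a ha)

theorem kModule_root_smul (a : Module.End (ZMod p) V)
    (ha : aeval a (cyclotomic q (ZMod p)) = 0) (v : V) :
    letI := kModule a ha
    (AdjoinRoot.root (cyclotomic q (ZMod p))) • v = a v := by
  letI := kModule a ha
  change kHom a ha (AdjoinRoot.root _) v = a v
  rw [kHom_root]

theorem finite_adjoinRoot_cyclotomic : Finite (AdjoinRoot (cyclotomic q (ZMod p))) := by
  haveI := (cyclotomic.monic q (ZMod p)).finite_adjoinRoot
  exact Module.finite_of_finite (ZMod p)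

theorem exists_conj_add [hirr : Fact (Irreducible (cyclotomic q (ZMod p)))]
    {V₁ V₂ : Type*} [AddCommGroup V₁] [Module (ZMod p) V₁] [AddCommGroup V₂]
    [Module (ZMod p) V₂] [Finite V₁] [Finite V₂] (a₁ : Module.End (ZMod p) V₁)
    (a₂ : Module.End (ZMod p) V₂) (h₁ : aeval a₁ (cyclotomic q (ZMod p)) = 0)
    (h₂ : aeval a₂ (cyclotomic q (ZMod p)) = 0) (hcard : Nat.card V₁ = Nat.card V₂) :
    ∃ β : V₁ ≃+ V₂, ∀ v, β (a₁ v) = a₂ (β v) := by
  haveI := finite_adjoinRoot_cyclotomic (p := p) (q := q)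
  letI := kModule a₁ h₁
  letI := kModule a₂ h₂
  obtain ⟨β⟩ := linearEquiv_of_card_eq (K := AdjoinRoot (cyclotomic q (ZMod p))) hcard
  refine ⟨β.toAddEquiv, fun v => ?_⟩
  have e1 := kModule_root_smul a₁ h₁ v
  have e2 := kModule_root_smul a₂ h₂ (β v)
  have e3 := β.map_smul (AdjoinRoot.root (cyclotomic q (ZMod p))) v
  change β (a₁ v) = a₂ (β v)
  rw [← e1, ← e2]
  exact e3

theorem exists_trans_add [hirr : Fact (Irreducible (cyclotomic q (ZMod p)))] [Finite V]
    (a : Module.End (ZMod p) V) (ha : aeval a (cyclotomic q (ZMod p)) = 0) {v w : V}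
    (hv : v ≠ 0) (hw : w ≠ 0) :
    ∃ β : V ≃+ V, (∀ u, β (a u) = a (β u)) ∧ β v = w := by
  letI := kModule a ha
  haveI : FiniteDimensional (AdjoinRoot (cyclotomic q (ZMod p))) V := Module.Finite.of_finite
  obtain ⟨β, hβ⟩ := linearEquiv_transitive (K := AdjoinRoot (cyclotomic q (ZMod p))) hv hw
  refine ⟨β.toAddEquiv, fun u => ?_, hβ⟩
  have e1 := kModule_root_smul a ha u
  have e2 := kModule_root_smul a ha (β u)
  have e3 := β.map_smul (AdjoinRoot.root (cyclotomic q (ZMod p))) u
  change β (a u) = a (β u)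
  rw [← e1, ← e2]
  exact e3

end Bwd

end Cfsg.Agent.Lead.LM
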