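import Mathlib
import Cfsg.Agent.Lead.LMg

set_option autoImplicit false

/-! # Laffey–MacHale: converse direction, extending automorphisms -/

namespace Cfsg.Agent.Lead.LM

open Subgroup

theorem exists_aut_extend {G : Type*} [Group G] [Finite G] (P : Subgroup G) [hPn : P.Normal]
    (x : G) (hcompl : P.IsComplement' (zpowers x)) {q : ℕ} (hq : q.Prime) (hidx : P.index = q)
    (β : MulAut P) (y : G) (hy : orderOf y ∣ orderOf x) (hyP : y ∉ P)
    (hcompat : ∀ v : P, ((β (MulAut.conjNormal x v) : P) : G) = y * β v * y⁻¹) :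
    ∃ φ : MulAut G, (∀ v : P, φ v = β v) ∧ φ x = y := by
  classical
  have hgenall : ∀ k : zpowers x, k ∈ zpowers (⟨x, mem_zpowers x⟩ : zpowers x) := by
    rintro ⟨k, hk⟩
    obtain ⟨n, rfl⟩ := mem_zpowers_iff.mp hk
    exact mem_zpowers_iff.mpr ⟨n, Subtype.ext (by simp)⟩
  have hordgen : orderOf (⟨x, mem_zpowers x⟩ : zpowers x) = orderOf x := Subgroup.orderOf_mk x _
  let fg : zpowers x →* G :=
    monoidHomOfForallMemZpowers hgenall (g' := y) (by rw [hordgen]; exact hy)
  have hfggen : fg ⟨x, mem_zpowers x⟩ = y := monoidHomOfForallMemZpowers_apply_gen hgenall _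
  let fn : P →* G := P.subtype.comp β.toMonoidHom
  have hpow : ∀ (n : ℕ) (v : P),
      ((β (MulAut.conjNormal (x ^ n) v) : P) : G) = y ^ n * β v * (y ^ n)⁻¹ := by
    intro n
    induction n with
    | zero => intro v; simp
    | succ n ih =>
      intro v
      have h1 : MulAut.conjNormal (H := P) (x ^ (n + 1)) v =
          MulAut.conjNormal x (MulAut.conjNormal (x ^ n) v) := by
        rw [pow_succ', map_mul]; rfl
      rw [h1, hcompat, ih, pow_succ']
      group
  have hlift : ∀ k : zpowers x,
      fn.comp ((((P.normalizerMonoidHom).comp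
        (inclusion (P.normalizer_eq_top ▸ le_top))) k).toMonoidHom) =
      (MulAut.conj (fg k)).toMonoidHom.comp fn := by
    intro k
    have hk : (k : G) ∈ Submonoid.powers x := mem_powers_iff_mem_zpowers.mpr k.2
    obtain ⟨n, hn⟩ := hk
    have hn' : x ^ n = (k : G) := hn
    have hkn : k = (⟨x, mem_zpowers x⟩ : zpowers x) ^ n := Subtype.ext (by simp [hn'])
    have hfgk : fg k = y ^ n := by rw [hkn, map_pow, hfggen]
    ext v
    have h2 := hpow n v
    simp only [MonoidHom.comp_apply, MulEquiv.coe_toMonoidHom, MulAut.conj_apply, fn,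
      Subgroup.coe_subtype]
    rw [hfgk, ← h2]
    congr 2
    apply Subtype.ext
    simp [hn']
  let ψ : G →* G := (SemidirectProduct.lift fn fg hlift).comp
    (SemidirectProduct.mulEquivSubgroup hcompl).symm.toMonoidHom
  have hψP : ∀ v : P, ψ v = β v := by
    intro v
    have h1 : (SemidirectProduct.mulEquivSubgroup hcompl).symm (v : G) =
        SemidirectProduct.inl v := by
      rw [MulEquiv.symm_apply_eq]
      simp
    change SemidirectProduct.lift fn fg hlift
      ((SemidirectProduct.mulEquivSubgroup hcompl).symm (v : G)) = _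
    rw [h1, SemidirectProduct.lift_inl]
    rfl
  have hψx : ψ x = y := by
    have h1 : (SemidirectProduct.mulEquivSubgroup hcompl).symm x =
        SemidirectProduct.inr (⟨x, mem_zpowers x⟩ : zpowers x) := by
      rw [MulEquiv.symm_apply_eq]
      simp
    change SemidirectProduct.lift fn fg hlift
      ((SemidirectProduct.mulEquivSubgroup hcompl).symm x) = _
    rw [h1, SemidirectProduct.lift_inr, hfggen]
  have hsurj : Function.Surjective ψ := by
    rw [← MonoidHom.range_eq_top]
    have hPle : P ≤ ψ.range := by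
      intro v hv
      refine ⟨((β.symm ⟨v, hv⟩ : P) : G), ?_⟩
      rw [hψP, MulEquiv.apply_symm_apply]
    have hyr : y ∈ ψ.range := ⟨x, hψx⟩
    have hrel := Subgroup.relIndex_mul_index hPle
    rw [hidx] at hrel
    have hdiv : ψ.range.index ∣ q := Dvd.intro_left _ hrel
    rcases (Nat.dvd_prime hq).mp hdiv with h1 | h1
    · exact Subgroup.index_eq_one.mp h1
    · exfalso
      rw [h1] at hrel
      have h2 : P.relIndex ψ.range = 1 := by
        have hq0 : 0 < q := hq.pos
        exact Nat.eq_of_mul_eq_mul_right hq0 (by rw [hrel, one_mul])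
      exact hyP (Subgroup.relIndex_eq_one.mp h2 hyr)
  have hbij : Function.Bijective ψ := ⟨Finite.injective_iff_surjective.mpr hsurj, hsurj⟩
  exact ⟨MulEquiv.ofBijective ψ hbij, hψP, hψx⟩

end Cfsg.Agent.Lead.LM
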