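import Mathlib
import Cfsg.Agent.Lead.LMf
import Cfsg.Agent.Lead.LMh

set_option autoImplicit false

/-! # Laffey–MacHale: converse direction, conclusion -/

namespace Cfsg.Agent.Lead.LM

open Subgroup

section BwdMult

variable {W : Type*} [CommGroup W] {p q : ℕ} [hp : Fact p.Prime] [hq : Fact q.Prime]

theorem aeval_cyclotomic_toLin (hexp : ∀ w : W, w ^ p = 1) (α : MulAut W) (hαq : α ^ q = 1)
    (hfpf : ∀ w, α w = w → w = 1) :
    letI := addModule hexp
    Polynomial.aeval (toLin hexp α) (Polynomial.cyclotomic q (ZMod p)) = 0 := by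
  letI := addModule hexp
  rw [Polynomial.cyclotomic_prime, map_sum]
  simp only [map_pow, Polynomial.aeval_X]
  ext v
  have hfp : ∀ v : Additive W, toLin hexp α • v = v → v = 0 := by
    intro v hv
    have h1 : α v.toMul = v.toMul := congrArg Additive.toMul hv
    exact congrArg Additive.ofMul (hfpf _ h1)
  have := geom_smul_zero (V := Additive W) (toLin hexp α) (q := q)
    (by rw [← toLin_pow, hαq, toLin_one]) hfp v
  exact this

theorem exists_conj_mult [Finite W] (hpq : p ≠ q) (hord : orderOf (p : ZMod q) = q - 1)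
    (hexp : ∀ w : W, w ^ p = 1) (α₁ α₂ : MulAut W) (h₁ : α₁ ^ q = 1) (h₂ : α₂ ^ q = 1)
    (hf₁ : ∀ w, α₁ w = w → w = 1) (hf₂ : ∀ w, α₂ w = w → w = 1) :
    ∃ β : MulAut W, ∀ u, β (α₁ u) = α₂ (β u) := by
  letI := addModule hexp
  haveI : Fact (Irreducible (Polynomial.cyclotomic q (ZMod p))) :=
    ⟨cyclotomic_irreducible hpq hord⟩
  obtain ⟨β, hβ⟩ := exists_conj_add (toLin hexp α₁) (toLin hexp α₂)
    (aeval_cyclotomic_toLin hexp α₁ h₁ hf₁) (aeval_cyclotomic_toLin hexp α₂ h₂ hf₂) rfl
  refine ⟨MulEquiv.toAdditive.symm β, fun u => ?_⟩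
  exact congrArg Additive.toMul (hβ (Additive.ofMul u))

theorem exists_trans_mult [Finite W] (hpq : p ≠ q) (hord : orderOf (p : ZMod q) = q - 1)
    (hexp : ∀ w : W, w ^ p = 1) (α : MulAut W) (h : α ^ q = 1)
    (hf : ∀ w, α w = w → w = 1) {v w : W} (hv : v ≠ 1) (hw : w ≠ 1) :
    ∃ β : MulAut W, (∀ u, β (α u) = α (β u)) ∧ β v = w := by
  letI := addModule hexp
  haveI : Fact (Irreducible (Polynomial.cyclotomic q (ZMod p))) :=
    ⟨cyclotomic_irreducible hpq hord⟩
  obtain ⟨β, hβ, hβv⟩ := exists_trans_add (toLin hexp α)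
    (aeval_cyclotomic_toLin hexp α h hf) (v := Additive.ofMul v) (w := Additive.ofMul w)
    (fun h0 => hv (congrArg Additive.toMul h0)) (fun h0 => hw (congrArg Additive.toMul h0))
  refine ⟨MulEquiv.toAdditive.symm β, fun u => ?_, ?_⟩
  · exact congrArg Additive.toMul (hβ (Additive.ofMul u))
  · exact congrArg Additive.toMul hβv

end BwdMult

section Backward

variable {G : Type*} [Group G] [Finite G] {p q n : ℕ} [hp : Fact p.Prime] [hq : Fact q.Prime]

theorem orderOf_eq_of_not_mem (hpq : p ≠ q) (hcard : Nat.card G = p ^ n * q) (P : Sylow p G)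
    (hPn : (P : Subgroup G).Normal)
    (hfpf : ∀ x y : G, orderOf x = q → orderOf y = p → x * y * x⁻¹ ≠ y) {g : G}
    (hg : g ∉ (P : Subgroup G)) : orderOf g = q := by
  have hm : orderOf g ∣ p ^ n * q := hcard ▸ orderOf_dvd_natCard g
  have hm0 : orderOf g ≠ 0 := (orderOf_pos g).ne'
  have hqm : q ∣ orderOf g := by
    by_contra hnq
    have hcop : Nat.Coprime (orderOf g) q :=
      ((Nat.Prime.coprime_iff_not_dvd hq.out).mpr hnq).symm
    have hd : orderOf g ∣ p ^ n := hcop.dvd_of_dvd_mul_right hm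
    obtain ⟨k, -, hk⟩ := (Nat.dvd_prime_pow hp.out).mp hd
    have hpg : IsPGroup p (zpowers g) := IsPGroup.of_card (n := k) (by rw [Nat.card_zpowers, hk])
    obtain ⟨Q, hQ⟩ := hpg.exists_le_sylow
    haveI := Sylow.unique_of_normal P hPn
    have hQP : Q = P := Subsingleton.elim Q P
    exact hg (hQP ▸ hQ (mem_zpowers g))
  have hpm : ¬ p ∣ orderOf g := by
    intro hpd
    have h1 : orderOf (g ^ (orderOf g / p)) = p := orderOf_pow_orderOf_div hm0 hpd
    have h2 : orderOf (g ^ (orderOf g / q)) = q := orderOf_pow_orderOf_div hm0 hqm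
    apply hfpf _ _ h2 h1
    have hc : Commute (g ^ (orderOf g / q)) (g ^ (orderOf g / p)) :=
      (Commute.refl g).pow_pow _ _
    rw [hc.eq, mul_inv_cancel_right]
  have hcop : Nat.Coprime (orderOf g) (p ^ n) :=
    Nat.Coprime.pow_right n ((Nat.Prime.coprime_iff_not_dvd hp.out).mpr hpm).symm
  exact Nat.dvd_antisymm (hcop.dvd_of_dvd_mul_left hm) hqm

theorem backward (hpq : p ≠ q) (hn : 1 ≤ n) (hcard : Nat.card G = p ^ n * q) (P : Sylow p G)
    (hPn : (P : Subgroup G).Normal) (hPc : ∀ s ∈ P, ∀ t ∈ P, s * t = t * s)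
    (hPe : ∀ s ∈ P, s ^ p = 1) (hord : orderOf (p : ZMod q) = q - 1)
    (hfpf : ∀ x y : G, orderOf x = q → orderOf y = p → x * y * x⁻¹ ≠ y) :
    Nat.card (MulAction.orbitRel.Quotient (MulAut G) G) = 3 := by
  classical
  haveI := hPn
  have hp2 := hp.out.two_le
  have hq2 := hq.out.two_le
  have hcardP : Nat.card P = p ^ n := by
    rw [P.card_eq_multiplicity, hcard, Nat.factorization_mul (pow_ne_zero n hp.out.ne_zero)
      hq.out.ne_zero, Nat.Prime.factorization_pow hp.out, hq.out.factorization]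
    simp [hpq.symm]
  have hidx : (P : Subgroup G).index = q := by
    have h1 := (P : Subgroup G).card_mul_index
    rw [hcardP, hcard] at h1
    exact Nat.eq_of_mul_eq_mul_left (pow_pos hp.out.pos n) h1
  have hqd : q ∣ Nat.card G := hcard ▸ Dvd.intro_left _ rfl
  obtain ⟨x, hx⟩ := exists_prime_orderOf_dvd_card' q hqd
  have hcop : Nat.Coprime (p ^ n) q :=
    Nat.Coprime.pow_left n ((Nat.coprime_primes hp.out hq.out).mpr hpq)
  have hcompl : (P : Subgroup G).IsComplement' (zpowers x) := by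
    apply isComplement'_of_coprime
    · rw [Nat.card_zpowers, hx, hcardP, hcard]
    · rw [Nat.card_zpowers, hx, hcardP]; exact hcop
  letI : CommGroup (P : Subgroup G) :=
    { (inferInstance : Group (P : Subgroup G)) with
      mul_comm := fun a b => Subtype.ext (hPc a a.2 b b.2) }
  have hexp : ∀ w : (P : Subgroup G), w ^ p = 1 := fun w => Subtype.ext (by simpa using hPe w w.2)
  have hordP : ∀ v : (P : Subgroup G), v ≠ 1 → orderOf (v : G) = p := by
    intro v hv
    exact orderOf_eq_prime (hPe v v.2) (fun h => hv (Subtype.ext h))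
  have hnotP : ∀ g : G, orderOf g = q → g ∉ (P : Subgroup G) := by
    intro g hg hgP
    have h1 : q ∣ p := hg ▸ orderOf_dvd_of_pow_eq_one (hPe g hgP)
    exact hpq ((Nat.prime_dvd_prime_iff_eq hq.out hp.out).mp h1).symm
  have hαq : ∀ g : G, orderOf g = q → (MulAut.conjNormal (H := (P : Subgroup G)) g) ^ q = 1 := by
    intro g hg
    rw [← map_pow, ← hg, pow_orderOf_eq_one, map_one]
  have hαf : ∀ g : G, orderOf g = q → ∀ w : (P : Subgroup G),
      MulAut.conjNormal (H := (P : Subgroup G)) g w = w → w = 1 := by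
    intro g hg w hw
    by_contra hw1
    apply hfpf g w hg (hordP w hw1)
    have := congrArg Subtype.val hw
    rwa [MulAut.conjNormal_apply] at this
  -- transitivity outside P
  have htrq : ∀ g : G, g ∉ (P : Subgroup G) → ∃ φ : MulAut G, φ x = g := by
    intro g hg
    have hgq : orderOf g = q := orderOf_eq_of_not_mem hpq hcard P hPn hfpf hg
    obtain ⟨β, hβ⟩ := exists_conj_mult (W := (P : Subgroup G)) hpq hord hexp
      (MulAut.conjNormal x) (MulAut.conjNormal g) (hαq x hx) (hαq g hgq) (hαf x hx) (hαf g hgq)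
    obtain ⟨φ, -, hφx⟩ := exists_aut_extend (P : Subgroup G) x hcompl hq.out hidx β g
      (by rw [hx, hgq]) hg (by
        intro v
        rw [hβ v, MulAut.conjNormal_apply])
    exact ⟨φ, hφx⟩
  -- transitivity inside P
  have htrp : ∀ v w : (P : Subgroup G), v ≠ 1 → w ≠ 1 → ∃ φ : MulAut G, φ (v : G) = w := by
    intro v w hv hw
    obtain ⟨β, hβ, hβv⟩ := exists_trans_mult (W := (P : Subgroup G)) hpq hord hexp
      (MulAut.conjNormal x) (hαq x hx) (hαf x hx) hv hw
    obtain ⟨φ, hφP, -⟩ := exists_aut_extend (P : Subgroup G) x hcompl hq.out hidx β x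
      dvd_rfl (hnotP x hx) (by
        intro u
        rw [hβ u, MulAut.conjNormal_apply])
    exact ⟨φ, by rw [hφP, hβv]⟩
  -- a nontrivial element of P
  haveI : Nontrivial (P : Subgroup G) := by
    rw [← Finite.one_lt_card_iff_nontrivial, hcardP]
    exact Nat.one_lt_pow (by omega) hp.out.one_lt
  obtain ⟨v₀, hv₀⟩ := exists_ne (1 : (P : Subgroup G))
  haveI : Fintype (MulAction.orbitRel.Quotient (MulAut G) G) := Fintype.ofFinite _
  rw [Nat.card_eq_fintype_card, ← Finset.card_univ]
  set q1 : MulAction.orbitRel.Quotient (MulAut G) G := Quotient.mk'' 1 with hq1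
  set qv : MulAction.orbitRel.Quotient (MulAut G) G := Quotient.mk'' (v₀ : G) with hqv
  set qx : MulAction.orbitRel.Quotient (MulAut G) G := Quotient.mk'' x with hqx
  have hv₀ord := hordP v₀ hv₀
  have h1v : q1 ≠ qv := by
    intro h
    obtain ⟨φ, hφ⟩ := orderOf_eq_of_orbit_eq h
    have : orderOf (φ (v₀ : G)) = orderOf (v₀ : G) := MulEquiv.orderOf_eq φ _
    rw [hφ, orderOf_one, hv₀ord] at this
    omega
  have h1x : q1 ≠ qx := by
    intro h
    obtain ⟨φ, hφ⟩ := orderOf_eq_of_orbit_eq h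
    have : orderOf (φ x) = orderOf x := MulEquiv.orderOf_eq φ _
    rw [hφ, orderOf_one, hx] at this
    omega
  have hvx : qv ≠ qx := by
    intro h
    obtain ⟨φ, hφ⟩ := orderOf_eq_of_orbit_eq h
    have : orderOf (φ x) = orderOf x := MulEquiv.orderOf_eq φ _
    rw [hφ, hx, hv₀ord] at this
    exact hpq this
  have huniv : (Finset.univ : Finset (MulAction.orbitRel.Quotient (MulAut G) G)) = {q1, qv, qx} := by
    symm
    rw [Finset.eq_univ_iff_forall]
    intro c
    induction c using Quotient.inductionOn' with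
    | h g =>
      simp only [Finset.mem_insert, Finset.mem_singleton]
      by_cases hg1 : g = 1
      · left; rw [hg1]
      · by_cases hgP : g ∈ (P : Subgroup G)
        · right; left
          obtain ⟨φ, hφ⟩ := htrp v₀ ⟨g, hgP⟩ hv₀ (fun h => hg1 (congrArg Subtype.val h))
          exact orbit_eq_of_aut φ hφ
        · right; right
          obtain ⟨φ, hφ⟩ := htrq g hgP
          exact orbit_eq_of_aut φ hφ
  rw [huniv]
  exact Finset.card_eq_three.mpr ⟨q1, qv, qx, h1v, h1x, hvx, rfl⟩

end Backward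

end Cfsg.Agent.Lead.LM
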