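import Mathlib

set_option autoImplicit false

namespace Cfsg.Agent.Lead.PClassRed

/-- every element of `p`-power order has class size prime to `p` -/
def PCls (p : ℕ) (G : Type*) [Group G] : Prop :=
  ∀ x : G, (∃ k : ℕ, orderOf x = p ^ k) → ¬ p ∣ (Subgroup.centralizer ({x} : Set G)).index

variable {G : Type*} [Group G]

/-- For `N` normal, `|N : A ∩ N| = |AN : A|`. -/
lemma relIndex_eq_relIndex_sup_pc [Finite G] (A N : Subgroup G) [N.Normal] :
    A.relIndex N = A.relIndex (A ⊔ N) := by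
  have h1 : N.relIndex (A ⊔ N) = N.relIndex A := Subgroup.relIndex_sup_right A N
  have h2 : Nat.card N * N.relIndex (A ⊔ N) = Nat.card (A ⊔ N : Subgroup G) := by
    have := Subgroup.relIndex_mul_relIndex ⊥ N (A ⊔ N) bot_le le_sup_right
    rwa [Subgroup.relIndex_bot_left, Subgroup.relIndex_bot_left] at this
  have h3 : Nat.card (A ⊓ N : Subgroup G) * N.relIndex A = Nat.card A := by
    have := Subgroup.relIndex_mul_relIndex ⊥ (A ⊓ N) A bot_le inf_le_left
    rwa [Subgroup.relIndex_bot_left, Subgroup.relIndex_bot_left, Subgroup.inf_relIndex_left] at this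
  have h4 : Nat.card (A ⊓ N : Subgroup G) * A.relIndex N = Nat.card N := by
    have := Subgroup.relIndex_mul_relIndex ⊥ (A ⊓ N) N bot_le inf_le_right
    rwa [Subgroup.relIndex_bot_left, Subgroup.relIndex_bot_left, Subgroup.inf_relIndex_right] at this
  have h5 : Nat.card A * A.relIndex (A ⊔ N) = Nat.card (A ⊔ N : Subgroup G) := by
    have := Subgroup.relIndex_mul_relIndex ⊥ A (A ⊔ N) bot_le le_sup_left
    rwa [Subgroup.relIndex_bot_left, Subgroup.relIndex_bot_left] at this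
  have hpos : 0 < Nat.card A := Nat.card_pos
  have h6 : Nat.card A * A.relIndex N = Nat.card A * A.relIndex (A ⊔ N) := by
    rw [h5, ← h2, h1, ← h4, ← h3]; ring
  exact Nat.eq_of_mul_eq_mul_left hpos h6

lemma relIndex_dvd_index_normal_right_pc [Finite G] (A N : Subgroup G) [N.Normal] :
    A.relIndex N ∣ A.index := by
  rw [relIndex_eq_relIndex_sup_pc]
  exact Subgroup.relIndex_dvd_index_of_le le_sup_left

lemma centralizer_subtype_pc (N : Subgroup G) (x : N) :
    Subgroup.centralizer ({x} : Set N) =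
      (Subgroup.centralizer ({(x : G)} : Set G)).subgroupOf N := by
  ext y
  rw [Subgroup.mem_subgroupOf, Subgroup.mem_centralizer_iff, Subgroup.mem_centralizer_iff]
  constructor
  · intro h z hz
    rw [Set.mem_singleton_iff] at hz
    subst hz
    have := h x (Set.mem_singleton x)
    exact congrArg Subtype.val this
  · intro h z hz
    rw [Set.mem_singleton_iff] at hz
    subst hz
    exact Subtype.ext (h (z : G) (Set.mem_singleton _))

theorem PCls.sub [Finite G] {p : ℕ} (h : PCls p G) (N : Subgroup G) [N.Normal] : PCls p N := by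
  intro x hx hdvd
  obtain ⟨k, hk⟩ := hx
  have hx' : ∃ k, orderOf (x : G) = p ^ k := ⟨k, by rw [Subgroup.orderOf_coe]; exact hk⟩
  apply h (x : G) hx'
  rw [centralizer_subtype_pc] at hdvd
  exact dvd_trans hdvd (relIndex_dvd_index_normal_right_pc _ N)

lemma exists_pElement_lift [Finite G] {p : ℕ} [hp : Fact p.Prime] (N : Subgroup G) [N.Normal]
    (xb : G ⧸ N) (k : ℕ) (hk : orderOf xb = p ^ k) :
    ∃ x : G, (QuotientGroup.mk x : G ⧸ N) = xb ∧ ∃ j, orderOf x = p ^ j := by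
  obtain ⟨g, rfl⟩ := QuotientGroup.mk_surjective xb
  have hm : orderOf g ≠ 0 := (orderOf_pos g).ne'
  obtain ⟨a, s, hs, hms⟩ := Nat.exists_eq_pow_mul_and_not_dvd hm p hp.out.ne_one
  have hcop : Nat.Coprime s (p ^ k) :=
    (Nat.Coprime.pow_left k ((Nat.Prime.coprime_iff_not_dvd hp.out).2 hs)).symm
  rcases Nat.eq_zero_or_pos k with rfl | hkpos
  · refine ⟨1, ?_, 0, by simp⟩
    rw [pow_zero, orderOf_eq_one_iff] at hk
    rw [hk]; rfl
  · have h1 : 1 < p ^ k := Nat.one_lt_pow hkpos.ne' hp.out.one_lt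
    obtain ⟨t, -, ht⟩ := Nat.exists_mul_mod_eq_one_of_coprime hcop h1
    refine ⟨g ^ (s * t), ?_, ?_⟩
    · rw [QuotientGroup.mk_pow]
      conv_rhs => rw [← pow_one (QuotientGroup.mk g : G ⧸ N)]
      rw [pow_eq_pow_iff_modEq, hk]
      unfold Nat.ModEq
      rw [ht, Nat.mod_eq_of_lt h1]
    · have : (g ^ (s * t)) ^ (p ^ a) = 1 := by
        rw [← pow_mul, show s * t * p ^ a = (p ^ a * s) * t by ring, ← hms, pow_mul,
          pow_orderOf_eq_one, one_pow]
      obtain ⟨j, -, hj⟩ := (Nat.dvd_prime_pow hp.out).1 (orderOf_dvd_of_pow_eq_one this)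
      exact ⟨j, hj⟩

theorem PCls.quot [Finite G] {p : ℕ} [hp : Fact p.Prime] (h : PCls p G) (N : Subgroup G)
    [N.Normal] : PCls p (G ⧸ N) := by
  intro xb hx hdvd
  obtain ⟨k, hk⟩ := hx
  obtain ⟨x, rfl, hxp⟩ := exists_pElement_lift N xb k hk
  apply h x hxp
  have hle : (Subgroup.centralizer ({x} : Set G)).map (QuotientGroup.mk' N) ≤
      Subgroup.centralizer ({(QuotientGroup.mk x : G ⧸ N)} : Set (G ⧸ N)) := by
    rintro _ ⟨c, hc, rfl⟩
    rw [Subgroup.mem_centralizer_iff]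
    intro y hy
    rw [Set.mem_singleton_iff] at hy
    subst hy
    have := (Subgroup.mem_centralizer_iff.1 hc) x (Set.mem_singleton x)
    simp only [QuotientGroup.mk'_apply, ← QuotientGroup.mk_mul]
    rw [this]
  exact dvd_trans hdvd (dvd_trans (Subgroup.index_dvd_of_le hle)
    (Subgroup.index_map_dvd _ (QuotientGroup.mk'_surjective N)))

lemma sylow_conj_in_pc [Finite G] {p : ℕ} [hp : Fact p.Prime] (P Q : Sylow p G) (D : Subgroup G)
    (hP : (P : Subgroup G) ≤ D) (hQ : (Q : Subgroup G) ≤ D) :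
    ∃ d ∈ D, ∀ y, y ∈ (P : Subgroup G) ↔ d⁻¹ * y * d ∈ (Q : Subgroup G) := by
  obtain ⟨d, hd⟩ := MulAction.exists_smul_eq D (Q.subtype hQ) (P.subtype hP)
  have key : ∀ y : D, y ∈ ((P.subtype hP : Sylow p D) : Subgroup D) ↔
      y ∈ ((d • Q.subtype hQ : Sylow p D) : Subgroup D) := by
    intro y; rw [hd]
  have key2 : ∀ y : D, (y : G) ∈ (P : Subgroup G) ↔ (d⁻¹ * y * d : D).1 ∈ (Q : Subgroup G) := by
    intro y
    have := key y
    rw [Sylow.coe_subgroup_smul, Subgroup.mem_pointwise_smul_iff_inv_smul_mem] at this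
    simpa [Sylow.coe_subtype, Subgroup.mem_subgroupOf, MulAut.smul_def] using this
  refine ⟨d, d.2, fun y => ?_⟩
  constructor
  · intro hy
    have := (key2 ⟨y, hP hy⟩).1 hy
    simpa using this
  · intro hy
    have hyD : y ∈ D := by
      have h1 : d⁻¹.1 * y * d.1 ∈ D := hQ hy
      have h2 : y = d.1 * (d⁻¹.1 * y * d.1) * d⁻¹.1 := by
        simp [mul_assoc]
      rw [h2]
      exact D.mul_mem (D.mul_mem d.2 h1) (d⁻¹).2
    have := (key2 ⟨y, hyD⟩).2 (by simpa using hy)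
    simpa using this

theorem central_mod_normal [Finite G] {p : ℕ} [hp : Fact p.Prime] (h : PCls p G)
    (N : Subgroup G) [N.Normal]
    (hQ : ∀ Q : Sylow p (G ⧸ N), IsMulCommutative (Q : Subgroup (G ⧸ N))) (P : Sylow p G)
    (x : G) (hx : x ∈ (P : Subgroup G)) :
    ∃ z ∈ (P : Subgroup G), (∀ y ∈ (P : Subgroup G), z * y = y * z) ∧ x⁻¹ * z ∈ N := by
  have hxp : ∃ k, orderOf x = p ^ k := by
    obtain ⟨k, hk⟩ := (IsPGroup.iff_orderOf.1 P.2) ⟨x, hx⟩
    exact ⟨k, by rw [← hk, Subgroup.orderOf_mk]⟩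
  set C := Subgroup.centralizer ({x} : Set G) with hC
  have hCi : ¬ p ∣ C.index := h x hxp
  set D : Subgroup G := (Subgroup.centralizer
    ({(QuotientGroup.mk x : G ⧸ N)} : Set (G ⧸ N))).comap (QuotientGroup.mk' N) with hD
  have memD : ∀ g, g ∈ D ↔ (QuotientGroup.mk x : G ⧸ N) * QuotientGroup.mk g =
      QuotientGroup.mk g * QuotientGroup.mk x := by
    intro g
    rw [hD, Subgroup.mem_comap, Subgroup.mem_centralizer_iff]
    constructor
    · intro hg; exact hg _ (Set.mem_singleton _)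
    · intro hg y hy
      rw [Set.mem_singleton_iff] at hy; subst hy; exact hg
  have hCD : C ≤ D := by
    intro g hg
    rw [memD, ← QuotientGroup.mk_mul, ← QuotientGroup.mk_mul]
    rw [(Subgroup.mem_centralizer_iff.1 hg) x (Set.mem_singleton x)]
  have hPD : (P : Subgroup G) ≤ D := by
    intro g hg
    rw [memD]
    have hpg : IsPGroup p ((P : Subgroup G).map (QuotientGroup.mk' N)) := P.2.map _
    obtain ⟨R, hR⟩ := hpg.exists_le_sylow
    have h1 : (QuotientGroup.mk x : G ⧸ N) ∈ (R : Subgroup (G ⧸ N)) := hR ⟨x, hx, rfl⟩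
    have h2 : (QuotientGroup.mk g : G ⧸ N) ∈ (R : Subgroup (G ⧸ N)) := hR ⟨g, hg, rfl⟩
    have := (hQ R).is_comm.comm ⟨_, h1⟩ ⟨_, h2⟩
    exact congrArg Subtype.val this
  have hxC : x ∈ C := by
    rw [Subgroup.mem_centralizer_iff]; intro y hy; rw [Set.mem_singleton_iff] at hy; rw [hy]
  have hz : IsPGroup p (Subgroup.zpowers (⟨x, hxC⟩ : C)) := by
    rw [IsPGroup.iff_card, Nat.card_zpowers]
    obtain ⟨k, hk⟩ := hxp
    exact ⟨k, by rw [Subgroup.orderOf_mk, hk]⟩
  obtain ⟨Q0, hQ0⟩ := hz.exists_le_sylow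
  have hcard : Nat.card ((Q0 : Subgroup C).map C.subtype) = p ^ (Nat.card G).factorization p := by
    rw [Subgroup.card_map_of_injective C.subtype_injective, Sylow.card_eq_multiplicity]
    congr 1
    have := Subgroup.card_mul_index C
    rw [← this, Nat.factorization_mul Nat.card_pos.ne' (Subgroup.index_ne_zero_of_finite),
      Finsupp.add_apply, Nat.factorization_eq_zero_of_not_dvd hCi, add_zero]
  set Q : Sylow p G := Sylow.ofCard _ hcard with hQdef
  have hQC : (Q : Subgroup G) ≤ C := Subgroup.map_subtype_le _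
  have hxQ : x ∈ (Q : Subgroup G) := ⟨⟨x, hxC⟩, hQ0 (Subgroup.mem_zpowers _), rfl⟩
  have hQD : (Q : Subgroup G) ≤ D := hQC.trans hCD
  obtain ⟨d, hdD, hd⟩ := sylow_conj_in_pc P Q D hPD hQD
  refine ⟨d * x * d⁻¹, ?_, ?_, ?_⟩
  · rw [hd]
    have : d⁻¹ * (d * x * d⁻¹) * d = x := by group
    rw [this]; exact hxQ
  · intro y hy
    have hyQ := (hd y).1 hy
    have hcomm := (Subgroup.mem_centralizer_iff.1 (hQC hyQ)) x (Set.mem_singleton x)
    -- x * (d⁻¹ y d) = (d⁻¹ y d) * x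
    have h1 : d * x * d⁻¹ * y = d * (x * (d⁻¹ * y * d)) * d⁻¹ := by group
    have h2 : y * (d * x * d⁻¹) = d * ((d⁻¹ * y * d) * x) * d⁻¹ := by group
    rw [h1, h2, hcomm]
  · rw [← QuotientGroup.eq_one_iff]
    have := (memD d).1 hdD
    simp only [QuotientGroup.mk_mul, QuotientGroup.mk_inv]
    rw [← this]
    group

theorem abelian_sylow_of_normal [Finite G] {p : ℕ} [hp : Fact p.Prime] (h : PCls p G)
    (N : Subgroup G) [N.Normal]
    (hN : ∀ Q : Sylow p N, IsMulCommutative (Q : Subgroup N))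
    (hQ : ∀ Q : Sylow p (G ⧸ N), IsMulCommutative (Q : Subgroup (G ⧸ N))) (P : Sylow p G) :
    IsMulCommutative (P : Subgroup G) := by
  -- elements of `P ⊓ N` commute
  have hPN : ∀ a b : G, a ∈ (P : Subgroup G) → a ∈ N → b ∈ (P : Subgroup G) → b ∈ N →
      a * b = b * a := by
    intro a b haP haN hbP hbN
    have hpg : IsPGroup p ((P : Subgroup G).subgroupOf N) := P.2.comap_subtype
    obtain ⟨R, hR⟩ := hpg.exists_le_sylow
    have h1 : (⟨a, haN⟩ : N) ∈ (R : Subgroup N) := hR (by rw [Subgroup.mem_subgroupOf]; exact haP)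
    have h2 : (⟨b, hbN⟩ : N) ∈ (R : Subgroup N) := hR (by rw [Subgroup.mem_subgroupOf]; exact hbP)
    have := (hN R).is_comm.comm ⟨_, h1⟩ ⟨_, h2⟩
    have := congrArg Subtype.val (congrArg Subtype.val this)
    exact this
  refine ⟨⟨fun a b => Subtype.ext ?_⟩⟩
  obtain ⟨x, hx⟩ := a
  obtain ⟨y, hy⟩ := b
  show x * y = y * x
  obtain ⟨z, hzP, hzc, hzN⟩ := central_mod_normal h N hQ P x hx
  obtain ⟨w, hwP, hwc, hwN⟩ := central_mod_normal h N hQ P y hy
  have hn : x⁻¹ * z ∈ (P : Subgroup G) := (P : Subgroup G).mul_mem ((P : Subgroup G).inv_mem hx) hzP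
  have hm : y⁻¹ * w ∈ (P : Subgroup G) := (P : Subgroup G).mul_mem ((P : Subgroup G).inv_mem hy) hwP
  have hnm := hPN _ _ hn hzN hm hwN
  -- x = z * (x⁻¹ z)⁻¹
  have hzx : z * x = x * z := hzc x hx
  have hzy : z * y = y * z := hzc y hy
  have hwx : w * x = x * w := hwc x hx
  have hwy : w * y = y * w := hwc y hy
  have hzw : z * w = w * z := hzc w hwP
  -- from hnm : x⁻¹ z y⁻¹ w = y⁻¹ w x⁻¹ z
  have e1 : x⁻¹ * z * (y⁻¹ * w) = (x⁻¹ * y⁻¹) * (z * w) := by
    have hzy' : z * y⁻¹ = y⁻¹ * z := by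
      have := congrArg (fun t => y⁻¹ * t * y⁻¹) hzy
      simpa [mul_assoc] using this.symm
    calc x⁻¹ * z * (y⁻¹ * w) = x⁻¹ * (z * y⁻¹) * w := by group
      _ = x⁻¹ * (y⁻¹ * z) * w := by rw [hzy']
      _ = (x⁻¹ * y⁻¹) * (z * w) := by group
  have e2 : y⁻¹ * w * (x⁻¹ * z) = (y⁻¹ * x⁻¹) * (z * w) := by
    have hwx' : w * x⁻¹ = x⁻¹ * w := by
      have := congrArg (fun t => x⁻¹ * t * x⁻¹) hwx
      simpa [mul_assoc] using this.symm
    calc y⁻¹ * w * (x⁻¹ * z) = y⁻¹ * (w * x⁻¹) * z := by group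
      _ = y⁻¹ * (x⁻¹ * w) * z := by rw [hwx']
      _ = (y⁻¹ * x⁻¹) * (w * z) := by group
      _ = (y⁻¹ * x⁻¹) * (z * w) := by rw [hzw]
  rw [e1, e2] at hnm
  have e3 : x⁻¹ * y⁻¹ = y⁻¹ * x⁻¹ := mul_right_cancel hnm
  have e4 : (y * x)⁻¹ = (x * y)⁻¹ := by rw [mul_inv_rev, mul_inv_rev]; exact e3
  exact (inv_injective e4).symm

end Cfsg.Agent.Lead.PClassRed
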