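import Mathlib
import Cfsg.Agent.Lead.PiClosed3

/-! `π`-closure criteria for `π'`-homogeneous groups (S4051, S4050). -/

namespace Cfsg.Agent.Lead

open Subgroup

variable {G : Type*} [Group G] [Finite G]

/-- If `G` is `π'`-homogeneous and `K ⊴ G` with `K` and `G/K` both `π`-closed, then `G` is
`π`-closed. -/
theorem piClosed_of_normal {π : Set ℕ} (hhom : PiHom π G) (K : Subgroup G) [hKn : K.Normal]
    (hK : PiClosed π K) (hQ : PiClosed π (G ⧸ K)) : PiClosed π G := by
  obtain ⟨Kπ, hKπn, hKπ1, hKπ2⟩ := HasNormalHall.of_piClosed hK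
  set M : Subgroup G := Kπ.map K.subtype with hM
  have hMK : M ≤ K := map_subtype_le _
  have hMmem : ∀ x : G, x ∈ M ↔ x ∈ K ∧ ∀ p : ℕ, p.Prime → p ∣ orderOf x → p ∈ π := by
    intro x
    constructor
    · rintro ⟨y, hy, rfl⟩
      refine ⟨y.2, ?_⟩
      have := (mem_iff_isPiElt_of_normalHall π Kπ hKπ1 hKπ2 y).mp hy
      simpa [Subgroup.orderOf_coe] using this
    · rintro ⟨hxK, hx⟩
      refine ⟨⟨x, hxK⟩, ?_, rfl⟩
      have h2 : (⟨x, hxK⟩ : K) ∈ Kπ := by
        rw [mem_iff_isPiElt_of_normalHall π Kπ hKπ1 hKπ2]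
        simpa [Subgroup.orderOf_mk] using hx
      exact h2
  have hMn : M.Normal := by
    constructor
    intro x hx g
    rw [hMmem] at hx ⊢
    refine ⟨hKn.conj_mem x hx.1 g, ?_⟩
    have : orderOf (g * x * g⁻¹) = orderOf x := by
      have := orderOf_injective (MulAut.conj g).toMonoidHom (MulAut.conj g).injective x
      simpa [MulAut.conj_apply] using this
    rw [this]; exact hx.2
  have hMcard : Nat.card M = Nat.card Kπ := card_map_of_injective K.subtype_injective
  have hMpi : PiNum π (Nat.card M) := by rw [hMcard]; exact hKπ1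
  have hhom' : PiHom π (G ⧸ M) := hhom.quotient M hMpi
  set f := QuotientGroup.mk' M with hf
  have hfs : Function.Surjective f := QuotientGroup.mk'_surjective M
  set Nb : Subgroup (G ⧸ M) := K.map f with hNb
  have hNbn : Nb.Normal := hKn.map f hfs
  have hNbcard : PiPrimeNum π (Nat.card Nb) := by
    have e1 : Nb.comap f = K := by
      rw [hNb, comap_map_eq, QuotientGroup.ker_mk', sup_of_le_left hMK]
    have e2 : Nat.card (Nb.comap f) = Nat.card Nb * Nat.card M := card_comap_mk' M Nb
    rw [e1] at e2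
    have e3 : Nat.card Kπ * Kπ.index = Nat.card K := Subgroup.card_mul_index _
    have e4 : Nat.card Nb = Kπ.index := by
      rw [← hMcard, e2, mul_comm] at e3
      exact (Nat.eq_of_mul_eq_mul_right Nat.card_pos e3).symm
    rw [e4]; exact hKπ2
  have hQ' : PiClosed π ((G ⧸ M) ⧸ Nb) :=
    PiClosed.of_mulEquiv (QuotientGroup.quotientQuotientEquivQuotient M K hMK).symm hQ
  have h1 : HasNormalHall π (G ⧸ M) :=
    HasNormalHall.of_quotient_piPrime hhom' Nb hNbcard (HasNormalHall.of_piClosed hQ')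
  exact PiClosed.of_hasNormalHall (HasNormalHall.of_quotient M hMpi h1)

end Cfsg.Agent.Lead
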