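import Mathlib
import Cfsg.Agent.Lead.PiClosed4

/-! S4050: `G` is `π`-closed iff `G` is `π`-separable and `π'`-homogeneous. -/

namespace Cfsg.Agent.Lead

open Subgroup

variable {G : Type*} [Group G] [Finite G]

omit [Finite G] in
theorem PiClosed.of_card_piNum {π : Set ℕ} (h : PiNum π (Nat.card G)) : PiClosed π G :=
  ⟨⊤, fun x => ⟨fun _ p hp hpx => h p hp (hpx.trans (orderOf_dvd_natCard x)), fun _ => mem_top x⟩⟩

omit [Finite G] in
theorem PiClosed.of_card_piPrimeNum {π : Set ℕ} (h : PiPrimeNum π (Nat.card G)) :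
    PiClosed π G := by
  refine ⟨⊥, fun x => ⟨fun hx p hp hpx => ?_, fun hx => ?_⟩⟩
  · rw [mem_bot] at hx
    rw [hx, orderOf_one] at hpx
    exact absurd (Nat.dvd_one.mp hpx) hp.ne_one
  · rw [mem_bot, ← orderOf_eq_one_iff]
    exact eq_one_of_piNum_of_piPrimeNum (π := π) hx (h.of_dvd (orderOf_dvd_natCard x))

/-- A `π`-closed group is `π'`-homogeneous. -/
theorem PiHom.of_piClosed {π : Set ℕ} (h : PiClosed π G) : PiHom π G := by
  obtain ⟨K, hKn, hK1, hK2⟩ := HasNormalHall.of_piClosed h
  intro H hHne hHcard p hp hpd hpπ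
  have := Fact.mk hp
  set N := normalizer (H : Set G) with hN
  set C := centralizer (H : Set G) with hC
  let P0 : Sylow p N := default
  set P : Subgroup G := (P0 : Subgroup N).map N.subtype with hP
  have hPN : P ≤ N := map_subtype_le _
  have hPp : IsPGroup p P := P0.isPGroup'.map _
  have hHK : H ⊓ K = ⊥ :=
    (disjoint_of_coprime_natCard (coprime_of_piNum_of_piPrimeNum hK1 hHcard).symm).eq_bot
  have hPC : P ≤ C := by
    intro x hx
    have hxK : x ∈ K := by
      rw [mem_iff_isPiElt_of_normalHall π K hK1 hK2]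
      intro q hq hqx
      obtain ⟨k, hk⟩ := hPp ⟨x, hx⟩
      have h3 : orderOf x ∣ p ^ k := by
        apply orderOf_dvd_of_pow_eq_one
        have := congrArg Subtype.val hk
        rwa [Subgroup.coe_pow, Subgroup.coe_one] at this
      have h4 := (Nat.prime_dvd_prime_iff_eq hq hp).mp (hq.dvd_of_dvd_pow (hqx.trans h3))
      rw [h4]; exact hpπ
    have hxN : x ∈ N := hPN hx
    rw [hC, mem_centralizer_iff]
    intro h hh
    have h1 : x * h * x⁻¹ * h⁻¹ ∈ H ⊓ K := by
      refine mem_inf.mpr ⟨?_, ?_⟩
      · exact H.mul_mem ((mem_normalizer_iff.mp hxN h).mp hh) (H.inv_mem hh)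
      · have : x * h * x⁻¹ * h⁻¹ = x * (h * x⁻¹ * h⁻¹) := by group
        rw [this]
        exact K.mul_mem hxK (hKn.conj_mem _ (K.inv_mem hxK) h)
    rw [hHK, mem_bot] at h1
    have h2 : x * h = h * x := by
      have := mul_inv_eq_one.mp h1
      exact mul_inv_eq_iff_eq_mul.mp this
    exact h2.symm
  have h1 : C.relIndex N ∣ P.relIndex N := relIndex_dvd_of_le_left N hPC
  have h2 : P.subgroupOf N = (P0 : Subgroup N) :=
    comap_map_eq_self_of_injective N.subtype_injective _
  have h3 : P.relIndex N = (P0 : Subgroup N).index := by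
    rw [← h2]; rfl
  rw [h3] at h1
  exact P0.not_dvd_index (hpd.trans h1)

theorem piClosed_iff_piSeparable_piHom (π : Set ℕ) :
    PiClosed π G ↔
    ((∃ (n : ℕ) (H : Fin (n + 1) → Subgroup G), H 0 = ⊥ ∧ H (Fin.last n) = ⊤ ∧ Monotone H ∧
      (∀ i, (H i).Normal) ∧
      ∀ i : Fin n, (∀ q : ℕ, q.Prime → q ∣ (H i.castSucc).relIndex (H i.succ) → q ∈ π) ∨
        (∀ q : ℕ, q.Prime → q ∣ (H i.castSucc).relIndex (H i.succ) → q ∉ π)) ∧
     PiHom π G) := by
  constructor
  · intro h
    refine ⟨?_, PiHom.of_piClosed h⟩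
    obtain ⟨K, hKn, hK1, hK2⟩ := HasNormalHall.of_piClosed h
    refine ⟨2, ![⊥, K, ⊤], rfl, rfl, ?_, ?_, ?_⟩
    · intro i j hij
      fin_cases i <;> fin_cases j <;> simp_all
    · intro i
      fin_cases i <;> simp <;> infer_instance
    · intro i
      fin_cases i
      · left
        intro q hq hqd
        simp at hqd
        exact hK1 q hq hqd
      · right
        intro q hq hqd
        have : (![⊥, K, ⊤] : Fin 3 → Subgroup G) (Fin.castSucc (1 : Fin 2)) = K := rfl
        have h2 : (![⊥, K, ⊤] : Fin 3 → Subgroup G) (Fin.succ (1 : Fin 2)) = ⊤ := rfl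
        simp only [] at hqd
        change q ∣ (K : Subgroup G).relIndex ⊤ at hqd
        rw [relIndex_top_right] at hqd
        exact hK2 q hq hqd
  · rintro ⟨⟨n, H, h0, hlast, hmono, hnorm, hfac⟩, hhom⟩
    have key : ∀ i : Fin (n + 1), PiClosed π (H i) := by
      intro i
      induction i using Fin.induction with
      | zero =>
        apply PiClosed.of_card_piNum
        rw [h0, Subgroup.card_bot]
        intro p hp hp1
        exact absurd (Nat.dvd_one.mp hp1) hp.ne_one
      | succ i ih =>
        set A := H i.castSucc with hA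
        set B := H i.succ with hB
        have hAB : A ≤ B := hmono (Fin.castSucc_lt_succ).le
        have hAn : A.Normal := hnorm _
        have hhomB : PiHom π B := hhom.subgroup B
        have hA' : PiClosed π (A.subgroupOf B) :=
          PiClosed.of_mulEquiv (subgroupOfEquivOfLe hAB).symm ih
        have hQ' : PiClosed π (B ⧸ A.subgroupOf B) := by
          have hc : Nat.card (B ⧸ A.subgroupOf B) = A.relIndex B := by
            rw [← Subgroup.index_eq_card]; rfl
          rcases hfac i with h | h
          · apply PiClosed.of_card_piNum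
            rw [hc]; exact h
          · apply PiClosed.of_card_piPrimeNum
            rw [hc]; exact h
        exact piClosed_of_normal hhomB (A.subgroupOf B) hA' hQ'
    have h1 := key (Fin.last n)
    rw [hlast] at h1
    exact PiClosed.of_mulEquiv Subgroup.topEquiv h1

end Cfsg.Agent.Lead
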