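import Mathlib

set_option autoImplicit false
set_option linter.unusedSectionVars false
set_option linter.unusedVariables false

namespace Cfsg.Agent.S0679P

open Equiv MulAction

variable {α : Type*} [Fintype α] [DecidableEq α] {G : Subgroup (Equiv.Perm α)}

theorem ONE.EVSOLV (h : Group.IsSolvable (G ⊓ alternatingGroup α : Subgroup (Perm α))) :
    Group.IsSolvable G := by
  have : Group.IsSolvable (G ⊓ alternatingGroup α : Subgroup (Perm α)) := h
  refine Group.isSolvable_of_ker_le_range
    (Subgroup.inclusion (inf_le_left : G ⊓ alternatingGroup α ≤ G))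
    ((Equiv.Perm.sign (α := α)).comp G.subtype) ?_
  intro x hx
  rw [MonoidHom.mem_ker] at hx
  have hxA : (x : Perm α) ∈ alternatingGroup α := by
    rw [Equiv.Perm.mem_alternatingGroup]
    simpa using hx
  exact ⟨⟨x.1, ⟨x.2, hxA⟩⟩, Subtype.ext rfl⟩

end Cfsg.Agent.S0679P
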