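import Mathlib

set_option autoImplicit false

/-! S0983 piece CROSS: `N(P)` normalizes a Sylow `r`-subgroup when Sylow's theorem forces a unique
Sylow `r`-subgroup in `N(P)` and `r² ∤ |G|`. -/

namespace Cfsg.Agent.S0983P

theorem normalizer_le_normalizer_of_unique {G : Type*} [Group G] [Finite G] (p r : ℕ)
    [Fact p.Prime] [Fact r.Prime] (P : Sylow p G)
    (hr : r ∣ Nat.card ↥(Subgroup.normalizer ((P : Subgroup G) : Set G)))
    (hr2 : ¬ r ^ 2 ∣ Nat.card G)
    (huniq : ∀ e : ℕ, e ∣ Nat.card ↥(Subgroup.normalizer ((P : Subgroup G) : Set G)) →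
      e % r = 1 → e = 1) :
    ∃ R : Sylow r G, Subgroup.normalizer ((P : Subgroup G) : Set G) ≤
      Subgroup.normalizer ((R : Subgroup G) : Set G) := by
  classical
  have hrp : r.Prime := Fact.out
  set N := Subgroup.normalizer ((P : Subgroup G) : Set G) with hN
  obtain ⟨Q⟩ : Nonempty (Sylow r ↥N) := inferInstance
  -- `Q` is normal in `N`
  have h1 : Nat.card (Sylow r ↥N) = 1 := by
    apply huniq
    · exact (Sylow.card_dvd_index Q).trans (Subgroup.index_dvd_card _)
    · have := card_sylow_modEq_one r ↥N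
      rw [Nat.ModEq, Nat.mod_eq_of_lt hrp.one_lt] at this
      exact this
  have hQn : (Q : Subgroup ↥N).Normal := by
    rw [← Subgroup.normalizer_eq_top_iff, ← Subgroup.index_eq_one]
    exact (Sylow.card_eq_index_normalizer Q).symm.trans h1
  -- the image of `Q` in `G`
  set R' : Subgroup G := (Q : Subgroup ↥N).map N.subtype with hR'
  have hR'p : IsPGroup r ↥R' := Q.isPGroup'.map N.subtype
  obtain ⟨R, hR⟩ := hR'p.exists_le_sylow
  have hcQ : r ∣ Nat.card ↥(Q : Subgroup ↥N) := Q.dvd_card_of_dvd_card hr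
  have hcR' : Nat.card ↥R' = Nat.card ↥(Q : Subgroup ↥N) :=
    Subgroup.card_map_of_injective N.subtype_injective
  have hrle : r ≤ Nat.card ↥R' := by
    rw [hcR']
    exact Nat.le_of_dvd Nat.card_pos hcQ
  have hRle : Nat.card ↥(R : Subgroup G) ≤ r := by
    obtain ⟨k, hk⟩ := R.isPGroup'.exists_card_eq
    have hdvd : r ^ k ∣ Nat.card G := hk ▸ Subgroup.card_subgroup_dvd_card (R : Subgroup G)
    have hk1 : k ≤ 1 := by
      by_contra hcon
      push Not at hcon
      exact hr2 ((pow_dvd_pow r hcon).trans hdvd)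
    rw [hk]
    calc r ^ k ≤ r ^ 1 := Nat.pow_le_pow_right hrp.pos hk1
      _ = r := pow_one r
  have hRR' : R' = (R : Subgroup G) := Subgroup.eq_of_le_of_card_ge hR (hRle.trans hrle)
  refine ⟨R, ?_⟩
  intro n hn
  rw [← hRR']
  have key : ∀ (n : G) (hn : n ∈ N) (h : G), h ∈ R' → n * h * n⁻¹ ∈ R' := by
    intro n hn h hh
    rw [hR', Subgroup.mem_map] at hh ⊢
    obtain ⟨q, hq, rfl⟩ := hh
    exact ⟨⟨n, hn⟩ * q * ⟨n, hn⟩⁻¹, hQn.conj_mem q hq ⟨n, hn⟩, rfl⟩
  rw [Subgroup.mem_set_normalizer_iff]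
  intro h
  constructor
  · exact key n hn h
  · intro hh
    have := key n⁻¹ (N.inv_mem hn) _ hh
    simpa [mul_assoc] using this

end Cfsg.Agent.S0983P
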