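import Mathlib
import Cfsg.Agent.Helper18.CensusG
import Cfsg.Agent.Helper18.CensusF
import Cfsg.Agent.S0992
import Cfsg.Agent.S1018
import Cfsg.Agent.S1019
import Cfsg.Agent.Lead.S0983CROSS

set_option autoImplicit false

/-! S0983 piece O4620: there is no simple group of order 4620. -/

namespace Cfsg.Agent.S0983P

open Cfsg.Agent.Helper18.Census

universe u

namespace O4620

/-- three pairwise disjoint sets of elements cannot have more elements than the group -/
theorem card_three_orders_le {G : Type*} [Group G] [Finite G] (a b c : ℕ) (hab : a ≠ b)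
    (hac : a ≠ c) (hbc : b ≠ c) :
    Nat.card {g : G // orderOf g = a} + Nat.card {g : G // orderOf g = b} +
      Nat.card {g : G // orderOf g = c} ≤ Nat.card G := by
  classical
  have : Fintype G := Fintype.ofFinite G
  rw [Nat.card_eq_fintype_card, Nat.card_eq_fintype_card, Nat.card_eq_fintype_card,
    Nat.card_eq_fintype_card, Fintype.card_subtype, Fintype.card_subtype, Fintype.card_subtype]
  have h1 : Disjoint (Finset.univ.filter (fun g : G => orderOf g = a))
      (Finset.univ.filter (fun g : G => orderOf g = b)) := by
    rw [Finset.disjoint_filter]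
    intro g _ h1 h2
    exact hab (h1.symm.trans h2)
  have h2 : Disjoint (Finset.univ.filter (fun g : G => orderOf g = a) ∪
      Finset.univ.filter (fun g : G => orderOf g = b))
      (Finset.univ.filter (fun g : G => orderOf g = c)) := by
    rw [Finset.disjoint_union_left, Finset.disjoint_filter, Finset.disjoint_filter]
    refine ⟨?_, ?_⟩
    · intro g _ h1 h2
      exact hac (h1.symm.trans h2)
    · intro g _ h1 h2
      exact hbc (h1.symm.trans h2)
  rw [← Finset.card_union_of_disjoint h1, ← Finset.card_union_of_disjoint h2]
  exact Finset.card_le_univ _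

end O4620

theorem no4620 : NoSimple.{u} 4620 := by
  intro G _ _ _ hG hcard
  have : Fact (Nat.Prime 11) := ⟨by norm_num⟩
  have : Fact (Nat.Prime 7) := ⟨by norm_num⟩
  have : Fact (Nat.Prime 5) := ⟨by norm_num⟩
  have h11G : Nat.card G = 420 * 11 ^ 1 := hcard.trans (by norm_num)
  have h7G : Nat.card G = 660 * 7 ^ 1 := hcard.trans (by norm_num)
  have h5G : Nat.card G = 924 * 5 ^ 1 := hcard.trans (by norm_num)
  have hm11 : ¬ 11 ∣ 420 := by decide
  have hm7 : ¬ 7 ∣ 660 := by decide
  have hm5 : ¬ 5 ∣ 924 := by decide
  -- Sylow 11
  have hn11 : Nat.card (Sylow 11 G) = 210 := by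
    have hmem := Cfsg.Agent.Helper11.card_sylow_mem_filter 420 1 h11G hm11
    have hset : (Nat.divisors 420).filter (fun d => d % 11 = 1) = {1, 12, 210} := by decide +kernel
    rw [hset] at hmem
    simp only [Finset.mem_insert, Finset.mem_singleton] at hmem
    rcases hmem with h | h | h
    · exact absurd h (Cfsg.Agent.Helper11.simple_card_sylow_ne_one hG 11 (by rw [hcard]; decide))
    · have hb := badCand_false hG (n := 4620) (p := 11) (a := 1) (m := 420) hcard (by norm_num)
        hm11 le_rfl
      rw [h] at hb
      exact absurd hb (by decide)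
    · exact h
  have hN11 : ∀ R : Sylow 11 G,
      Nat.card ↥(Subgroup.normalizer ((R : Subgroup G) : Set G)) = 22 := by
    intro R
    have := Cfsg.Agent.Helper11.card_sylow_mul_card_normalizer R
    rw [hn11, hcard] at this
    omega
  -- Sylow 7
  have hn7 : Nat.card (Sylow 7 G) = 330 := by
    have hmem := Cfsg.Agent.Helper11.card_sylow_mem_filter 660 1 h7G hm7
    have hset : (Nat.divisors 660).filter (fun d => d % 7 = 1) = {1, 15, 22, 330} := by decide +kernel
    rw [hset] at hmem
    simp only [Finset.mem_insert, Finset.mem_singleton] at hmem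
    rcases hmem with h | h | h | h
    · exact absurd h (Cfsg.Agent.Helper11.simple_card_sylow_ne_one hG 7 (by rw [hcard]; decide))
    · -- 15
      exfalso
      obtain ⟨P⟩ : Nonempty (Sylow 7 G) := inferInstance
      have hNP : Nat.card ↥(Subgroup.normalizer ((P : Subgroup G) : Set G)) = 308 := by
        have := Cfsg.Agent.Helper11.card_sylow_mul_card_normalizer P
        rw [h, hcard] at this
        omega
      obtain ⟨R, hR⟩ := normalizer_le_normalizer_of_unique 7 11 P (by rw [hNP]; decide)
        (by rw [hcard]; decide) (by
          rw [hNP]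
          intro e he
          have he' : e ∈ Nat.divisors 308 := Nat.mem_divisors.mpr ⟨he, by decide⟩
          have hall : ∀ e ∈ Nat.divisors 308, e % 11 = 1 → e = 1 := by decide +kernel
          exact hall e he')
      have hdvd := Subgroup.card_dvd_of_le hR
      rw [hNP, hN11 R] at hdvd
      exact absurd hdvd (by decide)
    · -- 22
      exfalso
      have hb := notF_false hG (n := 4620) (p := 7) (m := 660) hcard (by norm_num) hm7
        (by norm_num) (by norm_num)
      rw [h] at hb
      exact absurd hb (by decide)
    · exact h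
  have hN7 : ∀ R : Sylow 7 G,
      Nat.card ↥(Subgroup.normalizer ((R : Subgroup G) : Set G)) = 14 := by
    intro R
    have := Cfsg.Agent.Helper11.card_sylow_mul_card_normalizer R
    rw [hn7, hcard] at this
    omega
  -- Sylow 5
  have hn5 : Nat.card (Sylow 5 G) = 231 := by
    have hmem := Cfsg.Agent.Helper11.card_sylow_mem_filter 924 1 h5G hm5
    have hset : (Nat.divisors 924).filter (fun d => d % 5 = 1) = {1, 6, 11, 21, 66, 231} := by
      decide +kernel
    rw [hset] at hmem
    simp only [Finset.mem_insert, Finset.mem_singleton] at hmem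
    rcases hmem with h | h | h | h | h | h
    · exact absurd h (Cfsg.Agent.Helper11.simple_card_sylow_ne_one hG 5 (by rw [hcard]; decide))
    · exfalso
      have hb := badCand_false hG (n := 4620) (p := 5) (a := 1) (m := 924) hcard (by norm_num)
        hm5 le_rfl
      rw [h] at hb
      exact absurd hb (by decide)
    · exfalso
      have hb := notF_false hG (n := 4620) (p := 5) (m := 924) hcard (by norm_num) hm5
        (by norm_num) (by norm_num)
      rw [h] at hb
      exact absurd hb (by decide)
    · exact absurd h Cfsg.Agent.S1010.result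
    · -- 66
      exfalso
      obtain ⟨P⟩ : Nonempty (Sylow 5 G) := inferInstance
      have hNP : Nat.card ↥(Subgroup.normalizer ((P : Subgroup G) : Set G)) = 70 := by
        have := Cfsg.Agent.Helper11.card_sylow_mul_card_normalizer P
        rw [h, hcard] at this
        omega
      obtain ⟨R, hR⟩ := normalizer_le_normalizer_of_unique 5 7 P (by rw [hNP]; decide)
        (by rw [hcard]; decide) (by
          rw [hNP]
          intro e he
          have he' : e ∈ Nat.divisors 70 := Nat.mem_divisors.mpr ⟨he, by decide⟩
          have hall : ∀ e ∈ Nat.divisors 70, e % 7 = 1 → e = 1 := by decide +kernel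
          exact hall e he')
      have hdvd := Subgroup.card_dvd_of_le hR
      rw [hNP, hN7 R] at hdvd
      exact absurd hdvd (by decide)
    · exact h
  -- counting elements of orders 11, 7, 5
  obtain ⟨P11⟩ : Nonempty (Sylow 11 G) := inferInstance
  obtain ⟨P7⟩ : Nonempty (Sylow 7 G) := inferInstance
  obtain ⟨P5⟩ : Nonempty (Sylow 5 G) := inferInstance
  have hP11 : Nat.card ↥(P11 : Subgroup G) = 11 := by
    have := (Cfsg.Agent.Helper11.sylow_card_of_card_eq_pow 420 1 h11G hm11 P11).1
    rwa [pow_one] at this
  have hP7 : Nat.card ↥(P7 : Subgroup G) = 7 := by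
    have := (Cfsg.Agent.Helper11.sylow_card_of_card_eq_pow 660 1 h7G hm7 P7).1
    rwa [pow_one] at this
  have hP5 : Nat.card ↥(P5 : Subgroup G) = 5 := by
    have := (Cfsg.Agent.Helper11.sylow_card_of_card_eq_pow 924 1 h5G hm5 P5).1
    rwa [pow_one] at this
  have c11 := Cfsg.Agent.Helper11.card_orderOf_eq_prime P11 hP11
  have c7 := Cfsg.Agent.Helper11.card_orderOf_eq_prime P7 hP7
  have c5 := Cfsg.Agent.Helper11.card_orderOf_eq_prime P5 hP5
  have hle := O4620.card_three_orders_le (G := G) 11 7 5 (by decide) (by decide) (by decide)
  rw [c11, c7, c5, hn11, hn7, hn5, hcard] at hle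
  omega

end Cfsg.Agent.S0983P
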