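import Mathlib
import Cfsg.Agent.S0991
import Cfsg.Agent.Helper11.SimpleTools

set_option autoImplicit false

/-! S0984 end-piece: a simple group of order 2520 with a subgroup of index 7 is `A_7`. -/

namespace Cfsg.Agent.S0984P

theorem IDX7.card_alt7 : Nat.card (alternatingGroup (Fin 7)) = 2520 := by
  rw [Nat.card_eq_fintype_card]
  have h := two_mul_card_alternatingGroup (α := Fin 7)
  rw [Fintype.card_perm, Fintype.card_fin] at h
  have : (7 : ℕ).factorial = 5040 := by decide
  omega

theorem IDX7.of_index {G : Type*} [Group G] [Finite G] [IsSimpleGroup G]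
    (hG : ¬ IsMulCommutative G) (H : Subgroup G) (hH : H ≠ ⊤) (n : ℕ) (hn : H.index = n) :
    ∃ f : G →* ↥(alternatingGroup (Fin n)), Function.Injective f := by
  subst hn
  exact Cfsg.Agent.S0991.result hG H hH

/-- A simple group of order 2520 with a subgroup of index 7 is isomorphic to `A_7`. -/
theorem IDX7 {G : Type*} [Group G] [Finite G] [IsSimpleGroup G] (h : Nat.card G = 2520)
    (H : Subgroup G) (hH : H.index = 7) : Nonempty (G ≃* alternatingGroup (Fin 7)) := by
  have hna : ¬ IsMulCommutative G :=
    Cfsg.Agent.Helper11.simple_noncomm_of_card (by rw [h]; norm_num)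
  have hne : H ≠ ⊤ := by
    rintro rfl
    simp at hH
  obtain ⟨f, hf⟩ := IDX7.of_index hna H hne 7 hH
  have hbij : Function.Bijective f :=
    hf.bijective_of_nat_card_le (by rw [h, IDX7.card_alt7])
  exact ⟨MulEquiv.ofBijective f hbij⟩

/-- Variant: a subgroup of order 360. -/
theorem IDX7.of_card {G : Type*} [Group G] [Finite G] [IsSimpleGroup G] (h : Nat.card G = 2520)
    (H : Subgroup G) (hH : Nat.card H = 360) : Nonempty (G ≃* alternatingGroup (Fin 7)) := by
  refine IDX7 h H ?_
  have := H.card_mul_index
  rw [h, hH] at this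
  omega

end Cfsg.Agent.S0984P
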