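import Cfsg.Agent.Helper22.S1589Basic
import Cfsg.Agent.Helper14.S1589PERM253
import Cfsg.Agent.Helper14.S1589SYLQ
import Cfsg.Agent.Helper14.S1589FOURTRANS
import Cfsg.Agent.Helper27.S1589LA
import Cfsg.Agent.Helper27.S1589LB
import Cfsg.Agent.Helper11.S1589RSET
import Cfsg.Agent.Helper9.S1589SMALLFIX

/-! S1589 piece PART1: a subgroup of order 322560 of `M24` stabilises an octad. -/

set_option autoImplicit false
set_option linter.all false

namespace Cfsg.Agent.S1589P

open Cfsg Cfsg.Agent.Helper27 Cfsg.Agent.Helper17.M23Idx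
open scoped Pointwise

variable {K : Subgroup (Equiv.Perm GolayPt)}

namespace PART1

theorem smul_orbF' (K : Subgroup (Equiv.Perm GolayPt)) (x : GolayPt) {k : Equiv.Perm GolayPt} (hk : k ∈ K) :
    k • orbF K x = orbF K x :=
  smul_eq_of_maps (fun b hb => (orbF_inv K x hk b).mpr hb)

theorem card_orbF_le' (K : Subgroup (Equiv.Perm GolayPt)) (x : GolayPt) : (orbF K x).card ≤ 24 := by
  rw [← card_univ_golay]
  exact Finset.card_le_card (Finset.subset_univ _)

/-- every orbit has size divisible by 8 -/
theorem eight_dvd_orb (hM : K ≤ M24) (hcard : Nat.card K = 322560) (x : GolayPt) : 8 ∣ (orbF K x).card := by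
  have h1 := card_eq_orbF_mul K x
  have h2 := card_fixH_dvd hM x
  rw [hcard] at h1
  obtain ⟨c, hc⟩ := h2
  -- 322560 = n * s, s * c = 10200960
  have hpos : 0 < Nat.card (fixH K {x}) := by
    rcases Nat.eq_zero_or_pos (Nat.card (fixH K {x})) with h | h
    · rw [h] at hc; omega
    · exact h
  -- 2^10 ∣ n * s, and 2^8 ∤ s
  have h1024 : 1024 ∣ (orbF K x).card * Nat.card (fixH K {x}) := by rw [← h1]; norm_num
  have hs : ¬ 256 ∣ Nat.card (fixH K {x}) := by
    intro h
    have : 256 ∣ 10200960 := by rw [hc]; exact Dvd.dvd.mul_right h c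
    norm_num at this
  -- use 2-adic valuations
  haveI : Fact (Nat.Prime 2) := ⟨Nat.prime_two⟩
  have hn0 : (orbF K x).card ≠ 0 := by
    intro h; rw [h] at h1; omega
  have hv : 10 ≤ padicValNat 2 ((orbF K x).card * Nat.card (fixH K {x})) := by
    rw [show (1024 : ℕ) = 2 ^ 10 from rfl] at h1024
    exact (padicValNat_dvd_iff_le (by positivity)).mp h1024
  rw [padicValNat.mul hn0 hpos.ne'] at hv
  have hv2 : padicValNat 2 (Nat.card (fixH K {x})) < 8 := by
    by_contra hge
    rw [not_lt] at hge
    apply hs
    rw [show (256 : ℕ) = 2 ^ 8 from rfl]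
    exact (padicValNat_dvd_iff_le hpos.ne').mpr hge
  rw [show (8 : ℕ) = 2 ^ 3 from rfl]
  exact (padicValNat_dvd_iff_le hn0).mpr (by omega)

theorem orb_cases (hM : K ≤ M24) (hcard : Nat.card K = 322560) (x : GolayPt) :
    (orbF K x).card = 8 ∨ (orbF K x).card = 16 ∨ (orbF K x).card = 24 := by
  have h8 := eight_dvd_orb hM hcard x
  have hle := card_orbF_le' K x
  have hpos : 0 < (orbF K x).card := Finset.card_pos.mpr ⟨x, self_mem_orbF K x⟩
  obtain ⟨c, hc⟩ := h8
  omega

/-- the case of an orbit of size 8 -/
theorem case_eight (hM : K ≤ M24) (hcard : Nat.card K = 322560) (x : GolayPt) (h8 : (orbF K x).card = 8) :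
    ∃ o ∈ octads, ∀ k ∈ K, k • o = o := by
  classical
  have hKx : Nat.card (fixH K {x}) = 40320 := by
    have := card_eq_orbF_mul K x
    rw [hcard, h8] at this
    omega
  have hHM : fixH K {x} ≤ M24 := (fixH_le K {x}).trans hM
  have hHx : ∀ k ∈ fixH K {x}, k x = x := fun k hk => ((mem_fixH_singleton K x k).mp hk).2
  rcases perm253 hHM hHx hKx with ⟨s, hs, hxs, -, hfix⟩ | ⟨o, ho, hxo, -, hfix⟩
  · exfalso
    set F := insert x s with hF
    have hFc : F.card = 3 := by rw [hF, Finset.card_insert_of_notMem hxs, hs]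
    have hle : fixG F ≤ K := hfix.trans (fixH_le K {x})
    -- a point of the orbit outside F
    have hex : ∃ a ∈ orbF K x, a ∉ F := by
      by_contra hne
      push Not at hne
      have := Finset.card_le_card (fun a ha => hne a ha : orbF K x ⊆ F)
      omega
    obtain ⟨a, haB, haF⟩ := hex
    -- a point outside the orbit and F
    have hex2 : ∃ b, b ∉ orbF K x ∪ F := by
      by_contra hne
      push Not at hne
      have h1 : (Finset.univ : Finset GolayPt) ⊆ orbF K x ∪ F := fun b _ => hne b
      have h2 := Finset.card_le_card h1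
      have h3 := Finset.card_union_le (orbF K x) F
      rw [card_univ_golay] at h2
      omega
    obtain ⟨b, hb⟩ := hex2
    rw [Finset.mem_union, not_or] at hb
    obtain ⟨h, hh, hab⟩ := fixG_three_trans hFc haF hb.2
    apply hb.1
    rw [← hab]
    exact (orbF_inv K x (hle hh) a).mpr haB
  · have hle : fixG o ≤ K := hfix.trans (fixH_le K {x})
    have hoc : o.card = 8 := octad_card ho
    have hsub : orbF K x ⊆ o := by
      by_contra hne
      rw [Finset.not_subset] at hne
      obtain ⟨a, haB, hao⟩ := hne
      have hex2 : ∃ b, b ∉ orbF K x ∪ o := by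
        by_contra hne
        push Not at hne
        have h1 : (Finset.univ : Finset GolayPt) ⊆ orbF K x ∪ o := fun b _ => hne b
        have h2 := Finset.card_le_card h1
        have h3 := Finset.card_union_le (orbF K x) o
        rw [card_univ_golay] at h2
        omega
      obtain ⟨b, hb⟩ := hex2
      rw [Finset.mem_union, not_or] at hb
      obtain ⟨h, hh, hab⟩ := fixG_octad_trans ho hao hb.2
      apply hb.1
      rw [← hab]
      exact (orbF_inv K x (hle hh) a).mpr haB
    have heq : orbF K x = o := Finset.eq_of_subset_of_card_le hsub (by rw [hoc, h8])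
    refine ⟨o, ho, ?_⟩
    intro k hk
    rw [← heq]
    exact smul_orbF' K x hk

/-- without an orbit of size 8 the group is transitive -/
theorem trans_of_no_eight (hM : K ≤ M24) (hcard : Nat.card K = 322560)
    (hno : ∀ x, (orbF K x).card ≠ 8) : Trans K := by
  classical
  obtain ⟨x⟩ : Nonempty GolayPt := by
    have : Nat.card GolayPt ≠ 0 := by rw [card_GolayPt]; norm_num
    exact (Nat.card_pos_iff.mp (Nat.pos_of_ne_zero this)).1
  rcases orb_cases hM hcard x with h | h | h
  · exact (hno x h).elim
  · exfalso
    have hex : ∃ y, y ∉ orbF K x := by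
      by_contra hne
      push Not at hne
      have h1 : (Finset.univ : Finset GolayPt) ⊆ orbF K x := fun b _ => hne b
      have h2 := Finset.card_le_card h1
      rw [card_univ_golay] at h2
      omega
    obtain ⟨y, hy⟩ := hex
    have hdisj : Disjoint (orbF K y) (orbF K x) := by
      rw [Finset.disjoint_left]
      intro b hby hbx
      apply hy
      obtain ⟨k, hk, rfl⟩ := (mem_orbF K y b).mp hby
      exact (orbF_inv K x hk y).mp hbx
    have hcu : (orbF K y ∪ orbF K x).card ≤ 24 := by
      rw [← card_univ_golay]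
      exact Finset.card_le_card (Finset.subset_univ _)
    rw [Finset.card_union_of_disjoint hdisj, h] at hcu
    rcases orb_cases hM hcard y with h' | h' | h'
    · exact hno y h'
    · omega
    · omega
  · exact trans_of_card_orbF h

end PART1

open PART1

/-- PART1 -/
theorem part1 (hM : K ≤ M24) (hcard : Nat.card K = 322560) : ∃ o ∈ octads, ∀ k ∈ K, k • o = o := by
  classical
  by_cases hex : ∃ x, (orbF K x).card = 8
  · obtain ⟨x, hx⟩ := hex
    exact case_eight hM hcard x hx
  exfalso
  push Not at hex
  have hT : Trans K := trans_of_no_eight hM hcard hex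
  have hcardpt : ∀ y, Nat.card (fixH K {y}) = 13440 := by
    intro y
    have := card_of_trans hT y
    rw [hcard] at this
    omega
  obtain ⟨o, ho, hQ⟩ := exists_fixG_octad_le hM (by rw [hcard]; norm_num)
  have hoc : o.card = 8 := octad_card ho
  obtain ⟨x, hxo⟩ : o.Nonempty := Finset.card_pos.mp (by rw [hoc]; norm_num)
  obtain ⟨R, hRo, hstab, htr, hdvd⟩ := exists_rset hM ho hQ hxo
  rw [hcardpt x] at hdvd
  have hxR : x ∉ R := fun h => (Finset.mem_erase.mp (hRo h)).1 rfl
  have hRle : R.card ≤ 7 := by
    have := Finset.card_le_card hRo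
    rw [Finset.card_erase_of_mem hxo, hoc] at this
    exact this
  have hcases : R.card = 2 ∨ R.card = 3 ∨ R.card = 7 := by
    have hdec : ∀ n ≤ 7, (23 - n) ∣ 13440 → n = 2 ∨ n = 3 ∨ n = 7 := by decide
    exact hdec _ hRle hdvd
  rcases hcases with h2 | h3 | h7
  · exact no_triple hM hT h2 hxR hstab htr (by rw [hcardpt x]; norm_num)
  · -- an element of order 7 fixing x would fix R pointwise
    haveI : Fact (Nat.Prime 7) := ⟨by norm_num⟩
    obtain ⟨g, hgKx, hg7⟩ := exists_orderOf_mem (fixH K {x}) 7 (by rw [hcardpt x]; norm_num)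
    have hgK : g ∈ K := ((mem_fixH_singleton K x g).mp hgKx).1
    have hgx : g x = x := ((mem_fixH_singleton K x g).mp hgKx).2
    have hfix7 := seven_fixed (hM hgK) hg7
    have hRinv : ∀ q, g q ∈ R ↔ q ∈ R := by
      intro q
      have hs := hstab g hgKx
      constructor
      · intro h
        have h1 : g q ∈ g • R := by rw [hs]; exact h
        rw [mem_smul_perm_iff] at h1
        simpa using h1
      · intro h
        rw [← hs, mem_smul_perm_iff]
        simpa using h
    have hpt := fix_of_small_prime (pow_eq_one_of_orderOf hg7) R (by rw [h3]; norm_num) hRinv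
    have hsub : insert x R ⊆ g.supportᶜ := by
      intro b hb
      rw [mem_fix_iff]
      rcases Finset.mem_insert.mp hb with rfl | hb
      · exact hgx
      · exact hpt b hb
    have := Finset.card_le_card hsub
    rw [Finset.card_insert_of_notMem hxR, h3, hfix7] at this
    omega
  · have hReq : R = o.erase x := by
      apply Finset.eq_of_subset_of_card_le hRo
      rw [Finset.card_erase_of_mem hxo, hoc, h7]
    have hoeq : o = insert x R := by
      rw [hReq, Finset.insert_erase hxo]
    refine no_octad_block hM hT ho hQ hxo ?_ (by rw [hcard]; norm_num)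
    intro k hk
    have hkx : k x = x := ((mem_fixH_singleton K x k).mp hk).2
    rw [hoeq, Finset.smul_finset_insert, hstab k hk, Equiv.Perm.smul_def, hkx]

end Cfsg.Agent.S1589P
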