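import Mathlib
import Cfsg.Agent.Helper5.S2536DefsA

/-! S2536 stage 2, piece W2 (`witness_seven`): an `A₄ ≤ A₇` (acting on the six 2-subsets of a 4-set and
fixing a seventh point) has orbits of sizes 6 and 1, hence no invariant 4-set. -/

set_option autoImplicit false

namespace Cfsg.Agent.S2536P

open Equiv Nat

namespace W2

/-- the twelve elements, as vectors -/
def v : Fin 12 → Fin 7 → Fin 7 :=
  ![![0, 1, 2, 3, 4, 5, 6],
    ![0, 4, 3, 2, 1, 5, 6],
    ![1, 2, 0, 5, 3, 4, 6],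
    ![1, 3, 5, 0, 2, 4, 6],
    ![2, 0, 1, 4, 5, 3, 6],
    ![2, 5, 4, 1, 0, 3, 6],
    ![3, 0, 4, 1, 5, 2, 6],
    ![3, 5, 1, 4, 0, 2, 6],
    ![4, 2, 5, 0, 3, 1, 6],
    ![4, 3, 0, 5, 2, 1, 6],
    ![5, 1, 3, 2, 4, 0, 6],
    ![5, 4, 2, 3, 1, 0, 6]]

/-- the multiplication table -/
def mt : Fin 12 → Fin 12 → Fin 12 :=
  ![![0, 1, 2, 3, 4, 5, 6, 7, 8, 9, 10, 11],
    ![1, 0, 9, 8, 6, 7, 4, 5, 3, 2, 11, 10],
    ![2, 3, 4, 5, 0, 1, 10, 11, 6, 7, 8, 9],
    ![3, 2, 7, 6, 10, 11, 0, 1, 5, 4, 9, 8],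
    ![4, 5, 0, 1, 2, 3, 8, 9, 10, 11, 6, 7],
    ![5, 4, 11, 10, 8, 9, 2, 3, 1, 0, 7, 6],
    ![6, 7, 1, 0, 9, 8, 3, 2, 11, 10, 4, 5],
    ![7, 6, 10, 11, 3, 2, 9, 8, 0, 1, 5, 4],
    ![8, 9, 5, 4, 11, 10, 1, 0, 7, 6, 2, 3],
    ![9, 8, 6, 7, 1, 0, 11, 10, 4, 5, 3, 2],
    ![10, 11, 3, 2, 7, 6, 5, 4, 9, 8, 0, 1],
    ![11, 10, 8, 9, 5, 4, 7, 6, 2, 3, 1, 0]]

/-- the inverses -/
def iv : Fin 12 → Fin 12 := ![0, 1, 4, 6, 2, 9, 3, 8, 7, 5, 10, 11]

/-- first factor of a decomposition into elements of order dividing 3 -/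
def d1 : Fin 12 → Fin 12 := ![0, 2, 2, 3, 4, 5, 6, 7, 8, 9, 2, 2]

/-- second factor -/
def d2 : Fin 12 → Fin 12 := ![0, 5, 0, 0, 0, 0, 0, 0, 0, 0, 6, 7]

/-- an element mapping `0` to `i` -/
def tr : Fin 7 → Fin 12 := ![0, 2, 4, 6, 8, 10, 0]

theorem v_mul : ∀ i j x, v i (v j x) = v (mt i j) x := by decide +kernel

theorem v_inv : ∀ i x, v (iv i) (v i x) = x := by decide +kernel

theorem v_inv' : ∀ i x, v i (v (iv i) x) = x := by decide +kernel

theorem v_zero : ∀ x, v 0 x = x := by decide +kernel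

theorem v_inj : ∀ i j, v i = v j → i = j := by decide +kernel

theorem mt_dec : ∀ i, mt (d1 i) (d2 i) = i ∧ mt (mt (d1 i) (d1 i)) (d1 i) = 0 ∧
    mt (mt (d2 i) (d2 i)) (d2 i) = 0 := by decide +kernel

theorem v_tr : ∀ i : Fin 7, i ≠ 6 → v (tr i) 0 = i := by decide +kernel

/-- the twelve elements, as permutations -/
def e (i : Fin 12) : Perm (Fin 7) := ⟨v i, v (iv i), v_inv i, v_inv' i⟩

theorem e_apply (i : Fin 12) (x : Fin 7) : e i x = v i x := rfl

theorem e_zero : e 0 = 1 := by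
  ext x
  rw [e_apply, v_zero]
  rfl

theorem e_mul (i j : Fin 12) : e i * e j = e (mt i j) := by
  ext x
  rw [Perm.mul_apply, e_apply, e_apply, e_apply, v_mul]

theorem e_inv (i : Fin 12) : (e i)⁻¹ = e (iv i) := by
  ext x
  rfl

theorem e_injective : Function.Injective e := by
  intro i j h
  apply v_inj
  funext x
  have := congrArg (fun g : Perm (Fin 7) => g x) h
  exact this

theorem sign_of_cube {g : Perm (Fin 7)} (h : g * g * g = 1) : Perm.sign g = 1 := by
  have h3 : Perm.sign g * Perm.sign g * Perm.sign g = 1 := by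
    rw [← map_mul, ← map_mul, h, map_one]
  rcases Int.units_eq_one_or (Perm.sign g) with h1 | h1
  · exact h1
  · rw [h1] at h3
    exact absurd h3 (by decide)

theorem sign_e (i : Fin 12) : Perm.sign (e i) = 1 := by
  obtain ⟨h1, h2, h3⟩ := mt_dec i
  have ha : Perm.sign (e (d1 i)) = 1 := by
    apply sign_of_cube
    rw [e_mul, e_mul, h2, e_zero]
  have hb : Perm.sign (e (d2 i)) = 1 := by
    apply sign_of_cube
    rw [e_mul, e_mul, h3, e_zero]
  rw [← h1, ← e_mul, map_mul, ha, hb, mul_one]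

/-- the witness group -/
def X : Subgroup (Perm (Fin 7)) where
  carrier := Set.range e
  one_mem' := ⟨0, e_zero⟩
  mul_mem' := by
    rintro _ _ ⟨i, rfl⟩ ⟨j, rfl⟩
    exact ⟨mt i j, (e_mul i j).symm⟩
  inv_mem' := by
    rintro _ ⟨i, rfl⟩
    exact ⟨iv i, (e_inv i).symm⟩

theorem card_X : Nat.card X = 12 := by
  have h : Nat.card X = Nat.card (Set.range e) := rfl
  rw [h, Nat.card_range_of_injective e_injective, Nat.card_eq_fintype_card, Fintype.card_fin]

end W2

open W2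

/-- W2 -/
theorem witness_seven {π : Set ℕ} (hπ : Is23 π 7) :
    ∃ X : Subgroup (Perm (Fin 7)), X ≤ alternatingGroup (Fin 7) ∧ PiNum π (Nat.card X) ∧
      ∀ p : Fin 7 → Prop, Nat.card {x // p x} = 4 → ¬ X ≤ setStab p := by
  refine ⟨W2.X, ?_, ?_, ?_⟩
  · rintro _ ⟨i, rfl⟩
    rw [Equiv.Perm.mem_alternatingGroup]
    exact sign_e i
  · intro r hr hdvd
    rw [card_X] at hdvd
    have hle : r ≤ 12 := Nat.le_of_dvd (by norm_num) hdvd
    have h23 : r = 2 ∨ r = 3 := by
      interval_cases r <;> first | (exfalso; revert hr; decide) | (exfalso; revert hdvd; decide) | simp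
    have hr7 : r ≤ 7 := by rcases h23 with h | h <;> omega
    exact (hπ r hr hr7).2 h23
  · intro p hp hle
    classical
    -- `p` is constant on `{0,…,5}`
    have hconst : ∀ i : Fin 7, i ≠ 6 → (p i ↔ p 0) := by
      intro i hi
      have := hle (show e (tr i) ∈ W2.X from ⟨tr i, rfl⟩) 0
      rw [e_apply, v_tr i hi] at this
      exact this
    rw [Nat.card_eq_fintype_card, Fintype.card_subtype] at hp
    by_cases h0 : p 0
    · -- at least six points satisfy `p`
      have hsub : (Finset.univ.erase (6 : Fin 7)) ⊆ Finset.univ.filter p := by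
        intro i hi
        rw [Finset.mem_erase] at hi
        rw [Finset.mem_filter]
        exact ⟨Finset.mem_univ _, (hconst i hi.1).2 h0⟩
      have h6 := Finset.card_le_card hsub
      rw [Finset.card_erase_of_mem (Finset.mem_univ _), Finset.card_univ, Fintype.card_fin] at h6
      have h6' : 6 ≤ (Finset.univ.filter p).card := h6
      rw [hp] at h6'
      omega
    · have hsub : Finset.univ.filter p ⊆ {(6 : Fin 7)} := by
        intro i hi
        rw [Finset.mem_filter] at hi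
        rw [Finset.mem_singleton]
        by_contra hne
        exact h0 ((hconst i hne).1 hi.2)
      have h1 := Finset.card_le_card hsub
      rw [Finset.card_singleton, hp] at h1
      omega

end Cfsg.Agent.S2536P
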