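import Mathlib
import Cfsg.Agent.Lead.S2553Defs
import Cfsg.Agent.S0496

set_option autoImplicit false

/-! S2553 piece NOSQ. -/

namespace Cfsg.Agent.S2553P

/-- NOSQ -/
theorem sq_not_dvd (T : Type) [Group T] [Finite T] [IsSimpleGroup T] (hna : ¬ IsMulCommutative T) :
    ¬ Nat.card T ^ 2 ∣ 20160 := by
  intro h
  have hle : Nat.card T ^ 2 ≤ 20160 := Nat.le_of_dvd (by norm_num) h
  have h142 : Nat.card T < 142 := by
    by_contra hge
    have hge := Nat.le_of_not_lt hge
    have : 142 ^ 2 ≤ Nat.card T ^ 2 := Nat.pow_le_pow_left hge 2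
    omega
  have h60 : Nat.card T = 60 := by
    rcases Cfsg.Agent.S0496.result hna (by omega) with h | h | h | h | h | h <;> omega
  rw [h60] at h
  revert h
  decide

end Cfsg.Agent.S2553P
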