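import Mathlib
import Cfsg.Agent.Lead.S2553Defs
import Cfsg.Agent.Helper15.EmbedA8

set_option autoImplicit false

/-! S2553 piece TRANSPORT. -/

namespace Cfsg.Agent.S2553P

/-- TRANSPORT: a subgroup of `GL₄(2)` is isomorphic to a subgroup of `A₈ ≤ Perm (Fin 8)` -/
theorem exists_perm_model (H : Subgroup (GL (Fin 4) (ZMod 2))) :
    ∃ K : Subgroup Γ8, K ≤ A8 ∧ Nonempty (↥H ≃* ↥K) := by
  obtain ⟨ι, hι⟩ := Cfsg.Agent.Helper15.exists_GL4_embed
  let j : GL (Fin 4) (ZMod 2) →* Γ8 := (A8.subtype).comp ι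
  have hj : Function.Injective j := A8.subtype_injective.comp hι
  refine ⟨H.map j, ?_, ⟨H.equivMapOfInjective j hj⟩⟩
  rintro _ ⟨x, -, rfl⟩
  exact (ι x).2

end Cfsg.Agent.S2553P
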