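import Mathlib
import Cfsg.Prelude.Def_LieTypeDatum
import Cfsg.Agent.Helper7.FieldPlus0

/-!
# S2715 piece D (SQ2): similarities over the fixed field with square multiplier and trivial class
induce inner automorphisms of `PΩ⁺_{2m}(F)` when `|F| = |F₀|²` (lead)
-/

set_option autoImplicit false
set_option linter.unusedSectionVars false
set_option linter.unusedVariables false

namespace Cfsg.Agent.S2715P

open Module Submodule Matrix Cfsg.Agent.Helper28.QPlus Cfsg.Agent.Helper28.IDP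
  Cfsg.Agent.Helper28.Spin Cfsg.Agent.Helper28.PG Cfsg.Agent.Helper28.FO
  Cfsg.Agent.Helper28.SSim Cfsg.Agent.Helper28.GC Cfsg.Agent.Helper28.Sg
  Cfsg.Agent.Helper28.PA Cfsg.Agent.Helper7.PlusF Cfsg.Agent.Helper7.PlusG
  Cfsg.Agent.Helper28.IsoTransport Cfsg.Agent.Helper7.FieldPlus
open Cfsg.Agent.Helper7.FieldPSL (FDesc)

variable {F : Type*} [Field F] {F₀ : Type*} [Field F₀] {m : ℕ}

section generic

variable {ι : Type} [Fintype ι] [DecidableEq ι] (E : FDesc F F₀)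
  {Q : QuadraticForm F (ι → F)} {Q₀ : QuadraticForm F₀ (ι → F₀)}

theorem jGO_scal_D (hc : Compat E Q Q₀) (l : F₀ˣ) :
    jGO E hc (scal Q₀ l) = scal Q (Units.map (E.j : F₀ →* F) l) := by
  apply Subtype.ext
  apply Units.ext
  rw [jGO_coe, jGLg_coe, scal_val, scal_val]
  ext i j
  simp only [Matrix.map_apply, Matrix.smul_apply, Matrix.one_apply, smul_eq_mul, Units.coe_map,
    MonoidHom.coe_coe]
  split_ifs <;> simp

theorem jGO_prodO_D [Fintype F] [Fintype F₀] (hc : Compat E Q Q₀) (L : List (NS Q₀)) :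
    jGO E hc (oGO Q₀ (prodO Q₀ L)) = oGO Q (prodO Q (L.map (jNS E hc))) := by
  apply Subtype.ext
  show jGLg E ((prodO Q₀ L : ↥(Cfsg.isometryGroup F₀ ⇑Q₀)) : GL ι F₀) = _
  rw [jGLg_prodO E hc L]
  rfl

end generic

theorem jGO_mem_Inn_of_isSquare [Fintype F] [Fintype F₀] (E : FDesc F F₀) (h2F : (2 : F) ≠ 0)
    (hm : 3 ≤ m) (hcard : Fintype.card F = Fintype.card F₀ ^ 2) (k : ↥(GO (QfPlus m F₀)))
    (hk : cls k = 0) (hsq : IsSquare (mu (QfPlus m F₀) k : F₀)) :
    cG (QfPlus m F) (jGO E (compat_plus E m) k) ∈ Cfsg.Inn (Cfsg.POmega F ⇑(QfPlus m F)) := by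
  classical
  have h20 := two_ne_zero_sub' E h2F
  obtain ⟨l, s, hgs⟩ := exists_scal_mul_of_isSquare (QfPlus m F₀) (hex_plus (by omega)) k hsq
  obtain ⟨L, rfl⟩ := Cfsg.Agent.Helper28.CDG.cd_list (QfPlus m F₀) h20 (QfPlus_nondeg m) s
  have hpg : jGO E (compat_plus E m) k = scal (QfPlus m F) (Units.map (E.j : F₀ →* F) l) *
      oGO (QfPlus m F) (prodO (QfPlus m F) (L.map (jNS E (compat_plus E m)))) := by
    rw [hgs, map_mul, jGO_scal_D, jGO_prodO_D]
  rw [hpg, map_mul, cG_scal, one_mul, cG_oGO]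
  apply cAut_mem_Inn
  rw [prodO_mem_Omega_iff (QfPlus m F) h2F]
  constructor
  · rw [hgs, cls_mul, cls_scal, zero_add, cls_oGO_prodO] at hk
    rw [List.length_map]
    exact ZMod.natCast_eq_zero_iff_even.1 hk
  · rw [normProd_map]
    exact isSquare_j E h2F hcard _

end Cfsg.Agent.S2715P
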