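import Mathlib
import Cfsg.Agent.Lead.S2787Defs

/-! S2787 piece SEC: a `DihLike` finite group has no section containing a `2`-subgroup with two
non-commuting elements of order `> 2`. -/

set_option autoImplicit false

namespace Cfsg.Agent.S2787P

namespace SEC

/-- the image of a Sylow `p`-subgroup under a surjection onto a `p`-group is everything -/
theorem sylow_map_eq_top {A B : Type*} [Group A] [Group B] [Finite A] {p : ℕ} [Fact p.Prime]
    (f : A →* B) (hf : Function.Surjective f) (hB : IsPGroup p B) (P : Sylow p A) :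
    (P : Subgroup A).map f = ⊤ := by
  have hBfin : Finite B := Finite.of_surjective f hf
  rw [← Subgroup.index_eq_one]
  have h1 : ((P : Subgroup A).map f).index ∣ (P : Subgroup A).index :=
    Subgroup.index_map_dvd _ hf
  have h2 : ((P : Subgroup A).map f).index ∣ Nat.card B := Subgroup.index_dvd_card _
  obtain ⟨n, hn⟩ := hB.exists_card_eq
  rw [hn] at h2
  obtain ⟨k, -, hk⟩ := (Nat.dvd_prime_pow (Fact.out : p.Prime)).1 h2
  rcases Nat.eq_zero_or_pos k with h0 | hpos
  · rw [hk, h0, pow_zero]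
  · exfalso
    have h3 : p ∣ (P : Subgroup A).index := by
      refine dvd_trans ?_ h1
      rw [hk]
      exact dvd_pow_self p hpos.ne'
    exact P.not_dvd_index h3

end SEC

theorem no_section {G : Type*} [Group G] [Finite G] (hG : DihLike G)
    {X : Type*} [Group X] [Finite X] (T : Subgroup X) (hT : IsPGroup 2 T)
    (x y : X) (hx : x ∈ T) (hy : y ∈ T) (hx2 : x * x ≠ 1) (hy2 : y * y ≠ 1)
    (hxy : x * y ≠ y * x)
    (M N : Subgroup G) [hN : (N.subgroupOf M).Normal] (e : M ⧸ N.subgroupOf M ≃* X) : False := by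
  classical
  have : Fact (Nat.Prime 2) := ⟨Nat.prime_two⟩
  let f : M →* X := e.toMonoidHom.comp (QuotientGroup.mk' (N.subgroupOf M))
  have hf : Function.Surjective f := by
    intro z
    obtain ⟨w, hw⟩ := e.surjective z
    obtain ⟨m, hm⟩ := QuotientGroup.mk'_surjective (N.subgroupOf M) w
    refine ⟨m, ?_⟩
    change e (QuotientGroup.mk' (N.subgroupOf M) m) = z
    rw [hm, hw]
  let f' : T.comap f →* T := f.subgroupComap T
  have hf' : Function.Surjective f' := f.subgroupComap_surjective_of_surjective T hf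
  obtain ⟨P⟩ : Nonempty (Sylow 2 (T.comap f)) := inferInstance
  have htop := SEC.sylow_map_eq_top f' hf' hT P
  obtain ⟨sx, hsxP, hsx⟩ : (⟨x, hx⟩ : T) ∈ (P : Subgroup (T.comap f)).map f' := by
    rw [htop]; exact Subgroup.mem_top _
  obtain ⟨sy, hsyP, hsy⟩ : (⟨y, hy⟩ : T) ∈ (P : Subgroup (T.comap f)).map f' := by
    rw [htop]; exact Subgroup.mem_top _
  have hfx : f (sx : M) = x := congrArg Subtype.val hsx
  have hfy : f (sy : M) = y := congrArg Subtype.val hsy
  -- the 2-subgroup of `G`
  let S : Subgroup G := ((P : Subgroup (T.comap f)).map (T.comap f).subtype).map M.subtype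
  have hS : IsPGroup 2 S := (P.isPGroup'.map _).map _
  obtain ⟨c, hc⟩ := hG S hS
  have hxS : ((sx : M) : G) ∈ S := ⟨(sx : M), ⟨sx, hsxP, rfl⟩, rfl⟩
  have hyS : ((sy : M) : G) ∈ S := ⟨(sy : M), ⟨sy, hsyP, rfl⟩, rfl⟩
  have hxc : ((sx : M) : G) ∈ Subgroup.zpowers c := by
    by_contra hnot
    have h1 := hc _ hxS hnot
    apply hx2
    have h2 : (sx : M) * (sx : M) = 1 := Subtype.ext (by simpa using h1)
    rw [← hfx, ← map_mul, h2, map_one]
  have hyc : ((sy : M) : G) ∈ Subgroup.zpowers c := by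
    by_contra hnot
    have h1 := hc _ hyS hnot
    apply hy2
    have h2 : (sy : M) * (sy : M) = 1 := Subtype.ext (by simpa using h1)
    rw [← hfy, ← map_mul, h2, map_one]
  obtain ⟨i, hi⟩ := Subgroup.mem_zpowers_iff.1 hxc
  obtain ⟨j, hj⟩ := Subgroup.mem_zpowers_iff.1 hyc
  have hcomm : (sx : M) * (sy : M) = (sy : M) * (sx : M) := by
    apply Subtype.ext
    rw [Subgroup.coe_mul, Subgroup.coe_mul, ← hi, ← hj]
    exact zpow_mul_comm c i j
  apply hxy
  rw [← hfx, ← hfy, ← map_mul, hcomm, map_mul]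

end Cfsg.Agent.S2787P
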