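import Mathlib

set_option autoImplicit false
set_option linter.style.haveILetI false

namespace Cfsg.Agent.S3520P

/-- CENT2: in a finite non-abelian simple group centralisers of non-identity elements are proper, and two of
them have different orders. -/
theorem CENT2 {T : Type*} [Group T] [Finite T] (hs : IsSimpleGroup T) (hT : ¬ IsMulCommutative T) :
    (∀ s : T, s ≠ 1 → Nat.card (Subgroup.centralizer ({s} : Set T)) < Nat.card T) ∧
    ∃ s s' : T, s ≠ 1 ∧ s' ≠ 1 ∧
      Nat.card (Subgroup.centralizer ({s} : Set T)) ≠ Nat.card (Subgroup.centralizer ({s'} : Set T)) := by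
  classical
  haveI := hs
  -- the centre is trivial
  have hZ : Subgroup.center T = ⊥ := by
    rcases Subgroup.Normal.eq_bot_or_eq_top (H := Subgroup.center T) inferInstance with h | h
    · exact h
    · exfalso
      apply hT
      refine ⟨⟨fun a b => ?_⟩⟩
      have : a ∈ Subgroup.center T := by rw [h]; exact Subgroup.mem_top a
      exact (Subgroup.mem_center_iff.mp this b).symm
  have h1 : ∀ s : T, s ≠ 1 → Nat.card (Subgroup.centralizer ({s} : Set T)) < Nat.card T := by
    intro s hs1
    have hne : Subgroup.centralizer ({s} : Set T) ≠ ⊤ := by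
      intro h
      apply hs1
      have : s ∈ Subgroup.center T := by
        rw [Subgroup.mem_center_iff]
        intro g
        have hg : g ∈ Subgroup.centralizer ({s} : Set T) := by rw [h]; exact Subgroup.mem_top g
        have := Subgroup.mem_centralizer_iff.mp hg s rfl
        exact this.symm
      rw [hZ, Subgroup.mem_bot] at this
      exact this
    have hle := Subgroup.card_le_card_group (Subgroup.centralizer ({s} : Set T))
    rcases hle.lt_or_eq with h | h
    · exact h
    · exact absurd ((Subgroup.card_eq_iff_eq_top _).mp h) hne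
  refine ⟨h1, ?_⟩
  by_contra hcon
  push Not at hcon
  -- all centralisers of non-identity elements have the same order
  obtain ⟨s0, hs0⟩ : ∃ s0 : T, s0 ≠ 1 := by
    by_contra h
    push Not at h
    apply hT
    refine ⟨⟨fun a b => ?_⟩⟩
    rw [h a, h b]
  set c := Nat.card (Subgroup.centralizer ({s0} : Set T)) with hc
  have hall : ∀ s : T, s ≠ 1 → Nat.card (Subgroup.centralizer ({s} : Set T)) = c :=
    fun s hs1 => hcon s s0 hs1 hs0
  -- for every prime p, p ^ v_p(|T|) divides c
  have hdiv : Nat.card T ∣ c := by
    have hTpos : Nat.card T ≠ 0 := Nat.card_pos.ne'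
    have hcpos : c ≠ 0 := Nat.card_pos.ne'
    rw [← Nat.factorization_le_iff_dvd hTpos hcpos]
    intro p
    by_cases hp : p.Prime
    swap
    · simp [Nat.factorization_eq_zero_of_not_prime _ hp]
    haveI : Fact p.Prime := ⟨hp⟩
    by_cases hpT : (Nat.card T).factorization p = 0
    · rw [hpT]; exact Nat.zero_le _
    obtain P : Sylow p T := default
    have hPcard : Nat.card P = p ^ (Nat.card T).factorization p := P.card_eq_multiplicity
    have hPnt : Nontrivial P := by
      rw [← Finite.one_lt_card_iff_nontrivial, hPcard]
      exact Nat.one_lt_pow hpT hp.one_lt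
    have hPg : IsPGroup p P := P.isPGroup'
    haveI := hPnt
    have hcen : Nontrivial (Subgroup.center P) := hPg.center_nontrivial
    obtain ⟨⟨z, hz⟩, hz1⟩ := exists_ne (1 : Subgroup.center P)
    have hz1' : (z : T) ≠ 1 := by
      intro h
      apply hz1
      apply Subtype.ext
      apply Subtype.ext
      simpa using h
    have hPle : (P : Subgroup T) ≤ Subgroup.centralizer ({(z : T)} : Set T) := by
      intro g hg
      rw [Subgroup.mem_centralizer_iff]
      intro y hy
      rw [Set.mem_singleton_iff] at hy
      subst hy
      have := Subgroup.mem_center_iff.mp hz ⟨g, hg⟩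
      have h2 := congrArg Subtype.val this
      simpa using h2.symm
    have hd : Nat.card P ∣ c := by
      rw [← hall (z : T) hz1']
      exact Subgroup.card_dvd_of_le hPle
    rw [hPcard] at hd
    exact (hp.pow_dvd_iff_le_factorization hcpos).mp hd
  have := h1 s0 hs0
  have hle := Nat.le_of_dvd Nat.card_pos hdiv
  omega

end Cfsg.Agent.S3520P
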