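import Cfsg.Agent.Helper5.S3590Defs
import Cfsg.Agent.Helper22.S3589TRANSP

/-! S3590 (driver helper5; lead): a self-contained copy of the transport lemma ATRANSP under a fresh
name (`ATR.ablock_of_space`), so that AU2 / AU4 do not wait for the official ATRANSP. -/

set_option autoImplicit false

namespace Cfsg.Agent.S3590P

open Module
open Cfsg.Agent.S5973P Cfsg.Agent.S3589P
open scoped Classical

noncomputable section

namespace ATR

variable {F : Type*} [Field F] {V V' : Type*} [AddCommGroup V] [Module F V]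
  [AddCommGroup V'] [Module F V']

theorem conj_nsum (e : V ≃ₗ[F] V') (y : Module.End F V) (j : ℕ) :
    nsum (e.conjRingEquiv y) j = e.conjRingEquiv (nsum y j) := by
  unfold nsum
  rw [map_sum]
  exact Finset.sum_congr rfl fun i _ => (map_pow _ _ _).symm

theorem finrank_range_conj (e : V ≃ₗ[F] V') (f : Module.End F V) :
    finrank F (LinearMap.range (e.conjRingEquiv f)) = finrank F (LinearMap.range f) := by
  have h : LinearMap.range (e.conjRingEquiv f) = (LinearMap.range f).map e.toLinearMap := by
    ext w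
    constructor
    · rintro ⟨x, rfl⟩
      rw [TRANSP.conj_apply]
      exact ⟨f (e.symm x), ⟨e.symm x, rfl⟩, rfl⟩
    · rintro ⟨_, ⟨x, rfl⟩, rfl⟩
      refine ⟨e x, ?_⟩
      rw [TRANSP.conj_apply, LinearEquiv.symm_apply_apply]
      rfl
  rw [h]
  exact LinearEquiv.finrank_map_eq e _

/-- copy of ATRANSP under a fresh name -/
theorem ablock_of_space {F : Type*} [Field F] [Fintype F] {V : Type*} [AddCommGroup V] [Module F V]
    [FiniteDimensional F V] (Q : QuadraticForm F V) (y : Module.End F V) (v : V) (d : ℕ) (hyp : Bool)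
    (o : ℕ) (ev : Bool) (hND : ND Q) (hdim : finrank F V = 2 * d) (hhyp : IsHyp Q ↔ hyp = true)
    (hiso : ∀ w, Q (y w) = Q w)
    (hev : Even (finrank F (LinearMap.range (y - 1))) ↔ ev = true)
    (hord : ∀ j : ℕ, (y ^ j = 1 ∧ (nsum y j) v = 0) ↔ o ∣ j) : HasABlock F d hyp o ev := by
  set e : V ≃ₗ[F] (Fin (2 * d) → F) := (Module.finBasisOfFinrankEq F V hdim).equivFun with he
  refine ⟨Q.comp e.symm.toLinearMap, e.conjRingEquiv y, e v, TRANSP.nd_comp_equiv Q e.symm hND,
    ?_, ?_, ?_, ?_⟩
  · rw [← hhyp]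
    refine (isHyp_of_isometry Q (Q.comp e.symm.toLinearMap) e fun v => ?_).symm
    simp [QuadraticMap.comp_apply]
  · intro w
    rw [TRANSP.conj_apply]
    simp only [QuadraticMap.comp_apply, LinearEquiv.coe_coe, LinearEquiv.symm_apply_apply]
    exact hiso _
  · rw [← hev]
    have : e.conjRingEquiv y - 1 = e.conjRingEquiv (y - 1) := by
      rw [map_sub, map_one]
    rw [this, finrank_range_conj]
  · intro j
    rw [TRANSP.conj_pow_eq_one_iff, conj_nsum, TRANSP.conj_apply, LinearEquiv.symm_apply_apply,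
      LinearEquiv.map_eq_zero_iff]
    exact hord j

end ATR

end

end Cfsg.Agent.S3590P
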