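import Mathlib

/-!
# Lead.S3Fpf1 — "Lemma L" for S4305 (S₃ acting fixed-point-freely)

`X` a finite group, `f t : MulAut X` with `f^3 = 1`, `t f t = f^2`, `f` fixed-point-free,
`D ⊴ X` with `x⁻¹ t(x) ∈ D` for all `x` and `D ∩ f(D) ∩ f²(D) = 1`.  Then `X` is commutative.
-/

set_option autoImplicit false

namespace Cfsg.Agent.Lead.S3Fpf

open Subgroup

section
variable {X : Type*} [Group X]

/-- For a fixed-point-free automorphism of a finite group, `x ↦ x⁻¹ * f x` is surjective. -/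
theorem fpf_surj [Finite X] (f : MulAut X) (hfpf : ∀ x : X, f x = x → x = 1) :
    Function.Surjective (fun x : X => x⁻¹ * f x) := by
  apply Finite.surjective_of_injective
  intro x y hxy
  simp only at hxy
  have h1 : f (y * x⁻¹) = y * x⁻¹ := by
    rw [map_mul, map_inv]
    have : f x = x * (y⁻¹ * f y) := by rw [← hxy]; group
    rw [this]; group
  have h2 := hfpf _ h1
  have : y = x := by
    have := congrArg (· * x) h2
    simpa using this
  exact this.symm

/-- Order three fixed-point-free: `y * f y * f (f y) = 1`. -/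
theorem fpf3_prod [Finite X] (f : MulAut X) (hf3 : ∀ x : X, f (f (f x)) = x)
    (hfpf : ∀ x : X, f x = x → x = 1) (y : X) : y * f y * f (f y) = 1 := by
  obtain ⟨x, rfl⟩ := fpf_surj f hfpf y
  simp only [map_mul, map_inv, hf3]
  group

/-- Order three fixed-point-free: `y` commutes with `f y`. -/
theorem fpf3_comm [Finite X] (f : MulAut X) (hf3 : ∀ x : X, f (f (f x)) = x)
    (hfpf : ∀ x : X, f x = x → x = 1) (y : X) : y * f y = f y * y := by
  have h1 := fpf3_prod f hf3 hfpf y
  have h2 := fpf3_prod f hf3 hfpf y⁻¹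
  simp only [map_inv] at h2
  -- h1 : y * f y = (f (f y))⁻¹ ;  h2 : f y * y = (f (f y))⁻¹
  have e1 : y * f y = (f (f y))⁻¹ := eq_inv_of_mul_eq_one_left h1
  have e2 : f y * y = (f (f y))⁻¹ := by
    have : (f y * y)⁻¹ = f (f y) := by
      rw [mul_inv_rev]
      have := eq_inv_of_mul_eq_one_left h2
      rw [this, inv_inv]
    rw [← this, inv_inv]
  rw [e1, e2]

/-- Order three fixed-point-free: `y` commutes with `f (f y)`. -/
theorem fpf3_comm2 [Finite X] (f : MulAut X) (hf3 : ∀ x : X, f (f (f x)) = x)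
    (hfpf : ∀ x : X, f x = x → x = 1) (y : X) : y * f (f y) = f (f y) * y := by
  have := fpf3_comm f hf3 hfpf (f (f y))
  rw [hf3] at this
  exact this.symm

/-- Key step: if `N ⊴ X`, `g` is an endomorphism-like map with `y * g y = g y * y` for all `y`,
`g w ∈ N`, then `w` commutes with every `g x'` modulo `N`. -/
theorem comm_mod_of_comm (g : MulAut X) (N : Subgroup X) [N.Normal]
    (hcomm : ∀ y : X, y * g y = g y * y) (w : X) (hw : g w ∈ N) (x' : X) :
    w * g x' * w⁻¹ * (g x')⁻¹ ∈ N := by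
  have h1 := hcomm (x' * w)
  have h2 := hcomm x'
  rw [map_mul] at h1
  -- work in the quotient
  rw [← QuotientGroup.eq_one_iff]
  have hq : (QuotientGroup.mk (g w) : X ⧸ N) = 1 := (QuotientGroup.eq_one_iff _).2 hw
  have h1' := congrArg (QuotientGroup.mk : X → X ⧸ N) h1
  have h2' := congrArg (QuotientGroup.mk : X → X ⧸ N) h2
  simp only [QuotientGroup.mk_mul, hq, mul_one] at h1' h2'
  simp only [QuotientGroup.mk_mul, QuotientGroup.mk_inv]
  set a : X ⧸ N := QuotientGroup.mk x'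
  set b : X ⧸ N := QuotientGroup.mk (g x')
  set c : X ⧸ N := QuotientGroup.mk w
  -- h1' : a * c * b = b * (a * c) ; h2' : a * b = b * a
  have h3 : a * (c * b) = a * (b * c) := by
    calc a * (c * b) = a * c * b := by group
      _ = b * (a * c) := h1'
      _ = b * a * c := by group
      _ = a * b * c := by rw [h2']
      _ = a * (b * c) := by group
  have h4 : c * b = b * c := mul_left_cancel h3
  calc c * b * c⁻¹ * b⁻¹ = b * c * c⁻¹ * b⁻¹ := by rw [h4]
    _ = 1 := by group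

end

/-- **Lemma L.** -/
theorem lemmaL {X : Type*} [Group X] [Finite X] (f t : MulAut X)
    (hf3 : ∀ x : X, f (f (f x)) = x)
    (htf : ∀ x : X, t (f (t x)) = f (f x))
    (hfpf : ∀ x : X, f x = x → x = 1)
    (D : Subgroup X) [D.Normal] (hD : ∀ x : X, x⁻¹ * t x ∈ D)
    (hint : D ⊓ D.map (f : X →* X) ⊓ D.map ((f * f : MulAut X) : X →* X) = ⊥) :
    ∀ x y : X, x * y = y * x := by
  classical
  have hfsurj : Function.Surjective f := f.surjective
  -- normality of the images
  have hN1 : (D.map (f : X →* X)).Normal :=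
    Subgroup.Normal.map inferInstance _ hfsurj
  have hN2 : (D.map ((f * f : MulAut X) : X →* X)).Normal :=
    Subgroup.Normal.map inferInstance _ (f * f).surjective
  -- Step 4: every `w = x⁻¹ t x` is central
  have hcentral : ∀ x z : X, (x⁻¹ * t x) * z = z * (x⁻¹ * t x) := by
    intro x z
    set w := x⁻¹ * t x with hw
    have hwD : w ∈ D := hD x
    have hcomm1 : ∀ y : X, y * f y = f y * y := fpf3_comm f hf3 hfpf
    have hcomm2 : ∀ y : X, y * (f * f) y = (f * f) y * y := by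
      intro y
      simpa [MulAut.mul_apply] using fpf3_comm2 f hf3 hfpf y
    obtain ⟨z1, rfl⟩ := hfsurj z
    have m1 : w * f z1 * w⁻¹ * (f z1)⁻¹ ∈ D.map (f : X →* X) :=
      comm_mod_of_comm f _ hcomm1 w (Subgroup.mem_map_of_mem _ hwD) z1
    obtain ⟨z2, hz2⟩ := (f * f).surjective (f z1)
    have m2 : w * f z1 * w⁻¹ * (f z1)⁻¹ ∈ D.map ((f * f : MulAut X) : X →* X) := by
      have hmem : (f * f) w ∈ D.map ((f * f : MulAut X) : X →* X) := ⟨w, hwD, rfl⟩
      have := comm_mod_of_comm (f * f) _ hcomm2 w hmem z2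
      rwa [hz2] at this
    have m0 : w * f z1 * w⁻¹ * (f z1)⁻¹ ∈ D := by
      have h1 : f z1 * w⁻¹ * (f z1)⁻¹ ∈ D :=
        (inferInstance : D.Normal).conj_mem _ (D.inv_mem hwD) _
      have : w * f z1 * w⁻¹ * (f z1)⁻¹ = w * (f z1 * w⁻¹ * (f z1)⁻¹) := by group
      rw [this]
      exact D.mul_mem hwD h1
    have hbot : w * f z1 * w⁻¹ * (f z1)⁻¹ ∈ (⊥ : Subgroup X) := by
      rw [← hint]
      exact ⟨⟨m0, m1⟩, m2⟩
    rw [Subgroup.mem_bot] at hbot
    calc w * f z1 = w * f z1 * w⁻¹ * (f z1)⁻¹ * (f z1 * w) := by group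
      _ = 1 * (f z1 * w) := by rw [hbot]
      _ = f z1 * w := one_mul _
  -- Step 5: t₂ = f t f⁻¹ also has central commutators
  have hf_inv : ∀ x : X, f.symm x = f (f x) := by
    intro x
    apply f.injective
    rw [MulEquiv.apply_symm_apply, hf3]
  have hcentral_img : ∀ c : X, (∀ z, c * z = z * c) → ∀ z, f c * z = z * f c := by
    intro c hc z
    obtain ⟨z', rfl⟩ := hfsurj z
    rw [← map_mul, ← map_mul, hc]
  have hcentral2 : ∀ x z : X, (x⁻¹ * f (t (f (f x)))) * z = z * (x⁻¹ * f (t (f (f x)))) := by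
    intro x z
    have h := hcentral_img _ (hcentral (f (f x))) z
    rw [map_mul, map_inv, hf3] at h
    exact h
  -- Step 6: f = t ∘ t₂ where t₂ = f t f²  (using t f t = f²)
  have hft : ∀ x : X, f x = t (f (t (f (f x)))) := by
    intro x
    have h4 := htf (f (f x))
    -- h4 : t (f (t (f (f x)))) = f (f (f (f x)))
    rw [h4, hf3]
  have hfcentral : ∀ x z : X, (x⁻¹ * f x) * z = z * (x⁻¹ * f x) := by
    intro x z
    obtain ⟨u, hu⟩ : ∃ u : X, u = f (t (f (f x))) := ⟨_, rfl⟩
    have e : x⁻¹ * f x = (x⁻¹ * u) * (u⁻¹ * t u) := by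
      rw [hft x, ← hu]; group
    rw [e]
    have c1 : ∀ z : X, (x⁻¹ * u) * z = z * (x⁻¹ * u) := by
      intro z; rw [hu]; exact hcentral2 x z
    have c2 := hcentral u
    calc (x⁻¹ * u) * (u⁻¹ * t u) * z = (x⁻¹ * u) * ((u⁻¹ * t u) * z) := by group
      _ = (x⁻¹ * u) * (z * (u⁻¹ * t u)) := by rw [c2]
      _ = ((x⁻¹ * u) * z) * (u⁻¹ * t u) := by group
      _ = (z * (x⁻¹ * u)) * (u⁻¹ * t u) := by rw [c1]
      _ = z * ((x⁻¹ * u) * (u⁻¹ * t u)) := by group
  -- Step 7
  intro x y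
  obtain ⟨x0, hx0⟩ := fpf_surj f hfpf x
  simp only at hx0
  rw [← hx0]
  exact hfcentral x0 y

end Cfsg.Agent.Lead.S3Fpf
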