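import Mathlib

/-!
# Lead.S3Fpf2 — transfer fact for S4305

An abelian Sylow `p`-subgroup `S` of a finite group `X` satisfies `S ∩ Z(X) ∩ X' = 1`.
-/

set_option autoImplicit false

namespace Cfsg.Agent.Lead.S3Fpf

open Subgroup MonoidHom
open scoped IsMulCommutative

/-- If `S` is an abelian Sylow `p`-subgroup of the finite group `X`, then an element of
`S ∩ Z(X) ∩ [X,X]` is trivial. -/
theorem sylow_abelian_center_commutator {X : Type*} [Group X] [Finite X] {p : ℕ} [Fact p.Prime]
    (S : Sylow p X) (hS : ∀ a ∈ (S : Subgroup X), ∀ b ∈ (S : Subgroup X), a * b = b * a)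
    (z : X) (hzS : z ∈ (S : Subgroup X)) (hzZ : z ∈ center X) (hzC : z ∈ commutator X) :
    z = 1 := by
  classical
  have : IsMulCommutative (S : Subgroup X) :=
    ⟨⟨fun a b => Subtype.ext (hS a a.2 b b.2)⟩⟩
  have key : ∀ (k : ℕ) (g₀ : X), g₀⁻¹ * z ^ k * g₀ ∈ (S : Subgroup X) →
      g₀⁻¹ * z ^ k * g₀ = z ^ k := by
    intro k g₀ _
    have hc : z ^ k ∈ center X := (center X).pow_mem hzZ k
    rw [mem_center_iff] at hc
    rw [mul_assoc, ← hc g₀, ← mul_assoc, inv_mul_cancel, one_mul]
  have h1 := transfer_eq_pow (H := (S : Subgroup X)) (MonoidHom.id (S : Subgroup X)) z key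
  have h2 : transfer (MonoidHom.id (S : Subgroup X)) z = 1 := by
    have := Abelianization.commutator_subset_ker (transfer (MonoidHom.id (S : Subgroup X))) hzC
    exact this
  rw [h2] at h1
  have h3 : z ^ (S : Subgroup X).index = 1 := by
    have := congrArg (fun s : (S : Subgroup X) => (s : X)) h1
    simpa using this.symm
  -- order of z is a power of p and divides the index, which is prime to p
  obtain ⟨k, hk⟩ := (S.isPGroup' ⟨z, hzS⟩)
  have hk' : z ^ p ^ k = 1 := by
    have := congrArg (fun s : (S : Subgroup X) => (s : X)) hk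
    simpa using this
  have hcop : Nat.Coprime (p ^ k) (S : Subgroup X).index := by
    apply Nat.Coprime.pow_left
    rw [Nat.Prime.coprime_iff_not_dvd (Fact.out)]
    exact S.not_dvd_index
  have hd : orderOf z ∣ Nat.gcd (p ^ k) (S : Subgroup X).index :=
    Nat.dvd_gcd (orderOf_dvd_of_pow_eq_one hk') (orderOf_dvd_of_pow_eq_one h3)
  rw [hcop.gcd_eq_one, Nat.dvd_one, orderOf_eq_one_iff] at hd
  exact hd

end Cfsg.Agent.Lead.S3Fpf
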