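import Mathlib
import Cfsg.Agent.Helper29.S3fQuot

/-!
# Piece (P6) of S4305: the dagger property of `X = G/C`

Every proper `A`-invariant subgroup of `X = G / C_G(V)` is abelian.
-/

set_option autoImplicit false

namespace Cfsg.Agent.Lead.S3fP6

open Cfsg.Agent.Helper29.S3f
open scoped commutatorElement

universe u

/-- Abstract core: `H0` a finite group with nilpotent commutator subgroup, `V0 ⊴ H0` an `r`-group,
`φ : H0 →* Y` a homomorphism whose kernel contains every element centralizing `V0`, and such that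
`r ∤ |φ(H0')|`.  Then `φ(H0')` is trivial. -/
theorem core {H0 : Type*} [Group H0] [Finite H0] {Y : Type*} [Group Y]
    (hnil : Group.IsNilpotent ↥(commutator H0)) {r : ℕ} [Fact r.Prime]
    (V0 : Subgroup H0) [V0.Normal] (hV0 : IsPGroup r V0) (φ : H0 →* Y)
    (hker : ∀ y : H0, (∀ v ∈ V0, y * v = v * y) → φ y = 1)
    (hr : ¬ r ∣ Nat.card ↥((commutator H0).map φ)) :
    (commutator H0).map φ = ⊥ := by
  classical
  by_contra hne
  have hcard : Nat.card ↥((commutator H0).map φ) ≠ 1 := fun h => hne (Subgroup.card_eq_one.mp h)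
  obtain ⟨p, hp, hpdvd⟩ := Nat.exists_prime_and_dvd hcard
  have : Fact p.Prime := ⟨hp⟩
  have hpr : p ≠ r := fun h => hr (h ▸ hpdvd)
  set D0 : Subgroup H0 := commutator H0 with hD0
  have hD0n : D0.Normal := by rw [hD0]; infer_instance
  obtain ⟨P⟩ : Nonempty (Sylow p ↥D0) := inferInstance
  have h03 : Group.IsNilpotent ↥D0 ↔
      ∀ (p : ℕ) (_hp : Fact p.Prime) (P : Sylow p ↥D0), (↑P : Subgroup ↥D0).Normal :=
    (Group.isNilpotent_of_finite_tfae (G := ↥D0)).out 0 3
  have hPn : (P : Subgroup ↥D0).Normal := h03.mp hnil p inferInstance P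
  have hPc : (P : Subgroup ↥D0).Characteristic := Sylow.characteristic_of_normal P hPn
  set P1 : Subgroup H0 := (P : Subgroup ↥D0).map D0.subtype with hP1
  have hP1n : P1.Normal := ConjAct.normal_of_characteristic_of_normal
  have hP1p : IsPGroup p P1 := P.isPGroup'.map _
  -- P1 centralizes V0
  have hdisj : P1 ⊓ V0 = ⊥ := (IsPGroup.disjoint_of_ne p r hpr P1 V0 hP1p hV0).eq_bot
  have hcomm : ⁅P1, V0⁆ = ⊥ := by
    rw [eq_bot_iff, ← hdisj]
    exact Subgroup.commutator_le_inf P1 V0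
  have hcent : P1 ≤ Subgroup.centralizer (V0 : Set H0) :=
    Subgroup.commutator_eq_bot_iff_le_centralizer.mp hcomm
  -- P ≤ ker of ψ := φ restricted to D0
  let ψ : ↥D0 →* Y := φ.comp D0.subtype
  have hPker : (P : Subgroup ↥D0) ≤ ψ.ker := by
    intro y hy
    rw [MonoidHom.mem_ker]
    show φ (y : H0) = 1
    apply hker
    intro v hv
    have hy1 : (y : H0) ∈ P1 := ⟨y, hy, rfl⟩
    have := (Subgroup.mem_centralizer_iff.mp (hcent hy1)) v hv
    exact this.symm
  -- counting
  have hrange : ψ.range = D0.map φ := by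
    rw [MonoidHom.range_comp, Subgroup.range_subtype]
  have h1 : Nat.card ↥ψ.range * Nat.card ↥ψ.ker = Nat.card ↥D0 := by
    have := Subgroup.card_eq_card_quotient_mul_card_subgroup ψ.ker
    rw [Nat.card_congr (QuotientGroup.quotientKerEquivRange ψ).toEquiv] at this
    exact this.symm
  have h2 : Nat.card ↥(P : Subgroup ↥D0) ∣ Nat.card ↥ψ.ker := Subgroup.card_dvd_of_le hPker
  have h3 : Nat.card ↥(P : Subgroup ↥D0) * (P : Subgroup ↥D0).index = Nat.card ↥D0 :=
    (P : Subgroup ↥D0).card_mul_index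
  obtain ⟨k, hk⟩ := h2
  have hPpos : 0 < Nat.card ↥(P : Subgroup ↥D0) := Nat.card_pos
  have h4 : (P : Subgroup ↥D0).index = Nat.card ↥ψ.range * k := by
    have : Nat.card ↥(P : Subgroup ↥D0) * (P : Subgroup ↥D0).index =
        Nat.card ↥(P : Subgroup ↥D0) * (Nat.card ↥ψ.range * k) := by
      rw [h3, ← h1, hk]; ring
    exact Nat.eq_of_mul_eq_mul_left hPpos this
  have h5 : p ∣ (P : Subgroup ↥D0).index := by
    rw [h4, hrange]
    exact Dvd.dvd.mul_right hpdvd k
  exact P.not_dvd_index h5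

/-- (P6) the dagger property of `X = G/C`. -/
theorem dagger {Γ : Type u} [Group Γ] [Finite Γ] (j : A0 →* Γ) (G : Subgroup Γ) [G.Normal]
    (hG : HypInt j G) {r : ℕ} [Fact r.Prime] (V : Subgroup Γ) [V.Normal] (hVG : V ≤ G)
    (hV : IsPGroup r V)
    (C : Subgroup Γ) [C.Normal] (hC : C = G ⊓ Subgroup.centralizer (V : Set Γ)) (hVC : V ≤ C)
    (hr : ¬ r ∣ Nat.card ↥⁅G.map (QuotientGroup.mk' C), G.map (QuotientGroup.mk' C)⁆)
    (IH : ∀ (Γ' : Type u) [Group Γ'] [Finite Γ'] (j' : A0 →* Γ') (G' : Subgroup Γ'),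
      HypInt j' G' → Nat.card G' < Nat.card G → Group.IsNilpotent ↥⁅G', G'⁆)
    (H : Subgroup (Γ ⧸ C)) (hH : H ≤ G.map (QuotientGroup.mk' C))
    (hne : H ≠ G.map (QuotientGroup.mk' C))
    (hHA : AInv ((QuotientGroup.mk' C).comp j) H) : ∀ a ∈ H, ∀ b ∈ H, a * b = b * a := by
  classical
  set mk := QuotientGroup.mk' C with hmk
  set H0 : Subgroup Γ := G ⊓ H.comap mk with hH0
  have hH0G : H0 ≤ G := inf_le_left
  have hCG : C ≤ G := by rw [hC]; exact inf_le_left
  have hCH0 : C ≤ H0 := by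
    refine le_inf hCG ?_
    intro c hc
    rw [Subgroup.mem_comap]
    have : mk c = 1 := (QuotientGroup.eq_one_iff c).mpr hc
    rw [this]; exact H.one_mem
  have hVH0 : V ≤ H0 := hVC.trans hCH0
  -- image of H0 is H
  have hmap : H0.map mk = H := by
    apply le_antisymm
    · rintro _ ⟨h, hh, rfl⟩
      exact hh.2
    · intro x hx
      obtain ⟨g, hg, rfl⟩ := hH hx
      exact ⟨g, ⟨hg, hx⟩, rfl⟩
  have hH0ne : H0 ≠ G := by
    intro h
    apply hne
    rw [← hmap, h]
  have hlt : Nat.card H0 < Nat.card G := by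
    by_contra hcon
    push Not at hcon
    exact hH0ne (Subgroup.eq_of_le_of_card_ge hH0G hcon)
  have hH0A : AInv j H0 := by
    intro a h hh
    refine ⟨hG.inv a h hh.1, ?_⟩
    show j a * h * (j a)⁻¹ ∈ H.comap mk
    rw [Subgroup.mem_comap]
    have := hHA a (mk h) hh.2
    simpa using this
  have hnil : Group.IsNilpotent ↥⁅H0, H0⁆ := IH Γ j H0 (hG.sub hH0G hH0A) hlt
  -- transfer to the type ↥H0
  have hnil' : Group.IsNilpotent ↥(commutator ↥H0) := by
    have e := Subgroup.equivMapOfInjective (commutator ↥H0) H0.subtype H0.subtype_injective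
    rw [Subgroup.map_subtype_commutator] at e
    exact Group.nilpotent_of_mulEquiv e.symm
  let V0 : Subgroup ↥H0 := V.subgroupOf H0
  have : V0.Normal := Subgroup.Normal.subgroupOf inferInstance H0
  have hV0 : IsPGroup r V0 := by
    have : IsPGroup r (V.subgroupOf H0) := hV.comap_subtype
    exact this
  let φ : ↥H0 →* Γ ⧸ C := mk.comp H0.subtype
  have hker : ∀ y : ↥H0, (∀ v ∈ V0, y * v = v * y) → φ y = 1 := by
    intro y hy
    show mk (y : Γ) = 1
    rw [hmk, QuotientGroup.mk'_apply, QuotientGroup.eq_one_iff, hC]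
    refine ⟨hH0G y.2, ?_⟩
    show (y : Γ) ∈ Subgroup.centralizer (V : Set Γ)
    rw [Subgroup.mem_centralizer_iff]
    intro v hv
    have := hy ⟨v, hVH0 hv⟩ (by
      show (⟨v, hVH0 hv⟩ : ↥H0) ∈ V.subgroupOf H0
      rw [Subgroup.mem_subgroupOf]; exact hv)
    have := congrArg Subtype.val this
    simpa using this.symm
  have himg : (commutator ↥H0).map φ = ⁅H, H⁆ := by
    have : (commutator ↥H0).map φ = ((commutator ↥H0).map H0.subtype).map mk := by
      rw [Subgroup.map_map]
    rw [this, Subgroup.map_subtype_commutator, Subgroup.map_commutator, hmap]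
  have hr' : ¬ r ∣ Nat.card ↥((commutator ↥H0).map φ) := by
    rw [himg]
    intro hdvd
    apply hr
    exact hdvd.trans (Subgroup.card_dvd_of_le (Subgroup.commutator_mono hH hH))
  have hbot := core hnil' V0 hV0 φ hker hr'
  rw [himg] at hbot
  have hcent := Subgroup.commutator_eq_bot_iff_le_centralizer.mp hbot
  intro a ha b hb
  exact ((Subgroup.mem_centralizer_iff.mp (hcent ha)) b hb).symm

end Cfsg.Agent.Lead.S3fP6
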