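import Mathlib
import Cfsg.Agent.Helper27.S4700Defs
import Cfsg.Agent.Helper5.CentralChar
import Cfsg.Agent.Helper24.BrauerCong

set_option autoImplicit false

/-!
# S4700 pieces INDEX and DVDX

`index_centralizer_of_mem`: for `y ∈ P ∖ 1`, `P` a Sylow subgroup of order `p`,
`|G : C_G(y)| = f (1 + n p)`.
`irrDeg_dvd_of_val`: `χ(y) = ±1` forces `χ(1) ∣ f (1 + n p)`.
-/

namespace Cfsg.Agent.S4700P

open Cfsg Cfsg.Agent.Helper24 Cfsg.Agent.Helper1.W2p Cfsg.Agent.S0996P Cfsg.Agent.S4503P
  Cfsg.Agent.S0999P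

universe u

variable {G : Type u} [Group G]

section
variable [Finite G]

/-- a nontrivial element of a subgroup of prime order generates it -/
theorem zpowers_eq_of_card_prime (p : ℕ) [hp : Fact p.Prime] (P : Subgroup G)
    (hP : Nat.card P = p) (y : G) (hy : y ∈ P) (hy1 : y ≠ 1) : Subgroup.zpowers y = P := by
  have hle : Subgroup.zpowers y ≤ P := by
    rw [Subgroup.zpowers_le]; exact hy
  have hdvd : Nat.card (Subgroup.zpowers y) ∣ Nat.card P := Subgroup.card_dvd_of_le hle
  rw [hP] at hdvd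
  rcases (Nat.dvd_prime hp.out).1 hdvd with h1 | h1
  · exfalso
    rw [Subgroup.card_eq_one, Subgroup.zpowers_eq_bot] at h1
    exact hy1 h1
  · apply Subgroup.eq_of_le_of_card_ge hle
    rw [h1, hP]

/-- the centralizer of a nontrivial element of `P` (of prime order) is the centralizer of `P` -/
theorem centralizer_singleton_eq (p : ℕ) [hp : Fact p.Prime] (P : Subgroup G)
    (hP : Nat.card P = p) (y : G) (hy : y ∈ P) (hy1 : y ≠ 1) :
    Subgroup.centralizer ({y} : Set G) = Subgroup.centralizer (P : Set G) := by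
  have hz := zpowers_eq_of_card_prime p P hP y hy hy1
  rw [← hz, Subgroup.zpowers_eq_closure, Subgroup.centralizer_closure]

/-- INDEX -/
theorem index_centralizer_of_mem (p : ℕ) [Fact p.Prime] (P : Sylow p G) (hP : Nat.card P = p)
    (n : ℕ) (hn : Nat.card (Sylow p G) = 1 + n * p) (y : G) (hy : y ∈ (P : Subgroup G))
    (hy1 : y ≠ 1) :
    (Subgroup.centralizer ({y} : Set G)).index = fN (P : Subgroup G) * (1 + n * p) := by
  rw [centralizer_singleton_eq p (P : Subgroup G) hP y hy hy1]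
  have h1 : (Subgroup.centralizer ((P : Subgroup G) : Set G)).relIndex
      (Subgroup.normalizer ((P : Subgroup G) : Set G)) *
      (Subgroup.normalizer ((P : Subgroup G) : Set G)).index =
      (Subgroup.centralizer ((P : Subgroup G) : Set G)).index :=
    Subgroup.relIndex_mul_index (Subgroup.centralizer_le_normalizer _)
  have h2 : Nat.card (Sylow p G) = (Subgroup.normalizer ((P : Subgroup G) : Set G)).index :=
    Sylow.card_eq_index_normalizer P
  rw [← h1, ← h2, hn]
  rfl

/-- DVDX -/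
theorem irrDeg_dvd_of_val (p : ℕ) [Fact p.Prime] (P : Sylow p G) (hP : Nat.card P = p)
    (n : ℕ) (hn : Nat.card (Sylow p G) = 1 + n * p) (χ : IrrCharacter G) (y : G)
    (hy : y ∈ (P : Subgroup G)) (hy1 : y ≠ 1) (s : ℤ) (hs : s = 1 ∨ s = -1)
    (hval : (χ : G → ℂ) y = (s : ℂ)) : irrDeg χ ∣ fN (P : Subgroup G) * (1 + n * p) := by
  have hint := Cfsg.Agent.Helper5.CC.isIntegral_centralChar χ y
  rw [Cfsg.Agent.Helper5.CC.centralChar_def, index_centralizer_of_mem p P hP n hn y hy hy1, hval,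
    irrDeg_spec χ] at hint
  have hne : irrDeg χ ≠ 0 := (irrDeg_pos χ).ne'
  have hne' : (irrDeg χ : ℂ) ≠ 0 := by exact_mod_cast hne
  have hdvd : (irrDeg χ : ℤ) ∣ ((fN (P : Subgroup G) * (1 + n * p) : ℕ) : ℤ) * s :=
    int_dvd_of_eq_mul_isIntegral (a := ((fN (P : Subgroup G) * (1 + n * p) : ℕ) : ℤ) * s) hne hint
      (by push_cast; field_simp)
  have hs1 : IsUnit s := by
    rcases hs with h | h <;> simp [h]
  have hdvd2 : (irrDeg χ : ℤ) ∣ ((fN (P : Subgroup G) * (1 + n * p) : ℕ) : ℤ) :=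
    (IsUnit.dvd_mul_right hs1).1 hdvd
  exact_mod_cast hdvd2

end

end Cfsg.Agent.S4700P
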