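import Mathlib

/-!
# Auxiliary lemmas for S4706: elements of order divisible by `p` on `p` points, multiple transitivity
-/

set_option autoImplicit false
set_option linter.style.haveILetI false

namespace Cfsg.Agent.Lead.S4706

open MulAction

universe u v

variable {H : Type u} [Group H] {Ω : Type v} [MulAction H Ω]

/-- A nontrivial element of prime order `p` acting faithfully on `p` points has no fixed point. -/
theorem no_fixed_of_orderOf_eq [Fintype Ω] [FaithfulSMul H Ω] {p : ℕ} [Fact p.Prime]
    (hΩ : Fintype.card Ω = p) (y : H) (hy : orderOf y = p) (x : Ω) : y • x ≠ x := by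
  classical
  have hp : p.Prime := Fact.out
  intro hx
  -- the orbit of any point under `zpowers y` has size 1 or p
  have hy1 : y ≠ 1 := by
    rintro rfl
    rw [orderOf_one] at hy
    exact hp.one_lt.ne hy
  -- some point z is moved
  obtain ⟨z, hz⟩ : ∃ z : Ω, y • z ≠ z := by
    by_contra hcon
    push Not at hcon
    apply hy1
    apply FaithfulSMul.eq_of_smul_eq_smul (α := Ω)
    intro w
    rw [hcon w, one_smul]
  -- the orbit of z under the cyclic group has size p, so it is everything
  have hcard : Nat.card (Subgroup.zpowers y) = p := by rw [Nat.card_zpowers, hy]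
  haveI : Finite (Subgroup.zpowers y) := by
    apply Nat.finite_of_card_ne_zero
    rw [hcard]; exact hp.ne_zero
  have hstab : stabilizer (Subgroup.zpowers y) z = ⊥ := by
    have hdvd : Nat.card (stabilizer (Subgroup.zpowers y) z) ∣ p := by
      rw [← hcard]; exact Subgroup.card_subgroup_dvd_card _
    rcases (Nat.dvd_prime hp).mp hdvd with h1 | h1
    · exact Subgroup.card_eq_one.mp h1
    · exfalso
      have htop : stabilizer (Subgroup.zpowers y) z = ⊤ := by
        apply Subgroup.eq_top_of_card_eq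
        rw [h1, hcard]
      have : (⟨y, Subgroup.mem_zpowers y⟩ : Subgroup.zpowers y) ∈
          stabilizer (Subgroup.zpowers y) z := by rw [htop]; trivial
      exact hz this
  have huniv : (orbit (Subgroup.zpowers y) z : Set Ω) = Set.univ := by
    rw [Set.eq_univ_iff_ncard, ← MulAction.index_stabilizer, hstab, Subgroup.index_bot, hcard,
      Nat.card_eq_fintype_card, hΩ]
  have hxmem : x ∈ orbit (Subgroup.zpowers y) z := by rw [huniv]; trivial
  obtain ⟨⟨k, hk⟩, hkx⟩ := hxmem
  -- y commutes with k, so y fixes z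
  apply hz
  have hkx' : k • z = x := hkx
  have hcomm : y * k = k * y := by
    obtain ⟨n, rfl⟩ := Subgroup.mem_zpowers_iff.mp hk
    exact (Commute.zpow_right (Commute.refl y) n).eq
  have : k • (y • z) = k • z := by
    rw [← mul_smul, ← hcomm, mul_smul, hkx', hx]
  exact MulAction.injective k this

/-- An element of order divisible by `p` acting faithfully on `p` points has no fixed point. -/
theorem no_fixed_of_dvd_orderOf [Fintype Ω] [FaithfulSMul H Ω] [Finite H] {p : ℕ} [Fact p.Prime]
    (hΩ : Fintype.card Ω = p) (g : H) (hg : p ∣ orderOf g) (x : Ω) : g • x ≠ x := by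
  have hp : p.Prime := Fact.out
  intro hx
  obtain ⟨m, hm⟩ := hg
  have hpos : 0 < orderOf g := orderOf_pos g
  have hy : orderOf (g ^ m) = p := by
    have hm0 : m ≠ 0 := by
      rintro rfl; rw [mul_zero] at hm; omega
    rw [orderOf_pow' g hm0, hm, Nat.gcd_mul_left_left, Nat.mul_div_cancel _ (Nat.pos_of_ne_zero hm0)]
  refine no_fixed_of_orderOf_eq hΩ (g ^ m) hy x ?_
  exact smul_pow_fixed hx m
where
  smul_pow_fixed {g : H} {x : Ω} (hx : g • x = x) : ∀ m : ℕ, g ^ m • x = x := by
    intro m
    induction m with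
    | zero => simp
    | succ n ih => rw [pow_succ, mul_smul, hx, ih]

/-- Elements of the setwise stabilizer of a pair (in the sense `s² • a = a`) are `p`-regular. -/
theorem not_dvd_orderOf_of_sq_fixed [Fintype Ω] [FaithfulSMul H Ω] [Finite H] {p : ℕ}
    [Fact p.Prime] (hp2 : p ≠ 2) (hΩ : Fintype.card Ω = p) (s : H) (a : Ω)
    (hs : s • s • a = a) : ¬ p ∣ orderOf s := by
  have hp : p.Prime := Fact.out
  intro hdvd
  have h2 : p ∣ orderOf (s ^ 2) := by
    rw [orderOf_pow' s (by norm_num)]
    have hcop : Nat.Coprime p (Nat.gcd (orderOf s) 2) := by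
      apply Nat.Coprime.coprime_dvd_right (Nat.gcd_dvd_right _ _)
      exact (Nat.coprime_primes hp Nat.prime_two).mpr hp2
    obtain ⟨k, hk⟩ := Nat.gcd_dvd_left (orderOf s) 2
    have hpk : p ∣ Nat.gcd (orderOf s) 2 * k := by rw [← hk]; exact hdvd
    have hpk' : p ∣ k := (Nat.Coprime.dvd_mul_left hcop).mp hpk
    have hgpos : 0 < Nat.gcd (orderOf s) 2 := Nat.gcd_pos_of_pos_right _ (by norm_num)
    have : orderOf s / Nat.gcd (orderOf s) 2 = k := Nat.div_eq_of_eq_mul_right hgpos hk
    rw [this]
    exact hpk'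
  refine no_fixed_of_dvd_orderOf hΩ (s ^ 2) h2 a ?_
  rw [pow_two, mul_smul, hs]

/-- Three-transitivity, unpacked. -/
theorem exists_of_three (h3 : IsMultiplyPretransitive H Ω 3) {a b c a' b' c' : Ω}
    (hab : a ≠ b) (hac : a ≠ c) (hbc : b ≠ c) (hab' : a' ≠ b') (hac' : a' ≠ c')
    (hbc' : b' ≠ c') : ∃ g : H, g • a = a' ∧ g • b = b' ∧ g • c = c' := by
  have inj3 : ∀ {a b c : Ω}, a ≠ b → a ≠ c → b ≠ c → Function.Injective ![a, b, c] := by
    intro a b c hab hac hbc i j hij
    fin_cases i <;> fin_cases j <;>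
      first | rfl | (exfalso; simp at hij; first | exact hab hij | exact hac hij | exact hbc hij | exact hab hij.symm | exact hac hij.symm | exact hbc hij.symm)
  let e : Fin 3 ↪ Ω := ⟨![a, b, c], inj3 hab hac hbc⟩
  let e' : Fin 3 ↪ Ω := ⟨![a', b', c'], inj3 hab' hac' hbc'⟩
  obtain ⟨g, hg⟩ := h3.exists_smul_eq e e'
  refine ⟨g, ?_, ?_, ?_⟩
  · exact DFunLike.congr_fun hg 0
  · exact DFunLike.congr_fun hg 1
  · exact DFunLike.congr_fun hg 2

/-- Two-transitivity, unpacked. -/
theorem exists_of_two (h2 : IsMultiplyPretransitive H Ω 2) {a b a' b' : Ω}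
    (hab : a ≠ b) (hab' : a' ≠ b') : ∃ g : H, g • a = a' ∧ g • b = b' := by
  have inj2 : ∀ {a b : Ω}, a ≠ b → Function.Injective ![a, b] := by
    intro a b hab i j hij
    fin_cases i <;> fin_cases j <;>
      first | rfl | (exfalso; simp at hij; first | exact hab hij | exact hab hij.symm)
  let e : Fin 2 ↪ Ω := ⟨![a, b], inj2 hab⟩
  let e' : Fin 2 ↪ Ω := ⟨![a', b'], inj2 hab'⟩
  obtain ⟨g, hg⟩ := h2.exists_smul_eq e e'
  refine ⟨g, ?_, ?_⟩
  · exact DFunLike.congr_fun hg 0
  · exact DFunLike.congr_fun hg 1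

end Cfsg.Agent.Lead.S4706
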