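import Mathlib
import Cfsg.Agent.Lead.S4706Aux
import Cfsg.Agent.Helper1.W2pDefs
import Cfsg.Agent.Helper11.PermSylow

/-!
# S4706: the group-theoretic frame (transitivity, self-centralizing Sylow, `eN P = 2`)
-/

set_option autoImplicit false
set_option linter.style.haveILetI false

namespace Cfsg.Agent.Lead.S4706

open MulAction Cfsg.Agent.Helper1.W2p

universe u v

variable {H : Type u} [Group H] {Ω : Type v} [MulAction H Ω]

/-- An element of order `p` acting faithfully on `p` points generates a transitive group. -/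
theorem orbit_zpowers_eq_univ [Fintype Ω] [FaithfulSMul H Ω] {p : ℕ} [Fact p.Prime]
    (hΩ : Fintype.card Ω = p) (y : H) (hy : orderOf y = p) (z : Ω) :
    (orbit (Subgroup.zpowers y) z : Set Ω) = Set.univ := by
  have hp : p.Prime := Fact.out
  have hz : y • z ≠ z := no_fixed_of_orderOf_eq hΩ y hy z
  have hcard : Nat.card (Subgroup.zpowers y) = p := by rw [Nat.card_zpowers, hy]
  haveI : Finite (Subgroup.zpowers y) := by
    apply Nat.finite_of_card_ne_zero
    rw [hcard]; exact hp.ne_zero
  have hstab : stabilizer (Subgroup.zpowers y) z = ⊥ := by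
    have hdvd : Nat.card (stabilizer (Subgroup.zpowers y) z) ∣ p := by
      rw [← hcard]; exact Subgroup.card_subgroup_dvd_card _
    rcases (Nat.dvd_prime hp).mp hdvd with h1 | h1
    · exact Subgroup.card_eq_one.mp h1
    · exfalso
      have htop : stabilizer (Subgroup.zpowers y) z = ⊤ := by
        apply Subgroup.eq_top_of_card_eq
        rw [h1, hcard]
      have : (⟨y, Subgroup.mem_zpowers y⟩ : Subgroup.zpowers y) ∈
          stabilizer (Subgroup.zpowers y) z := by rw [htop]; trivial
      exact hz this
  rw [Set.eq_univ_iff_ncard, ← MulAction.index_stabilizer, hstab, Subgroup.index_bot, hcard,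
    Nat.card_eq_fintype_card, hΩ]

/-- A group acting faithfully on `p` points whose order is divisible by `p` is transitive. -/
theorem isPretransitive_of_dvd_card [Fintype Ω] [FaithfulSMul H Ω] [Finite H] {p : ℕ}
    [Fact p.Prime] (hΩ : Fintype.card Ω = p) (hdvd : p ∣ Nat.card H) : IsPretransitive H Ω := by
  obtain ⟨y, hy⟩ := exists_prime_orderOf_dvd_card' p hdvd
  refine ⟨fun x z => ?_⟩
  have hz : z ∈ (orbit (Subgroup.zpowers y) x : Set Ω) := by
    rw [orbit_zpowers_eq_univ hΩ y hy x]; trivial
  obtain ⟨k, hk⟩ := hz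
  exact ⟨(k : H), hk⟩

/-- If `|N_H(P)| = 2p` for a Sylow `p`-subgroup of order `p` (acting faithfully on `p` points,
`p` odd), then `P` is self-centralizing. -/
theorem centralizer_eq_of_card_normalizer [Fintype Ω] [FaithfulSMul H Ω] [Finite H] {p : ℕ}
    [Fact p.Prime] (hp2 : p ≠ 2) (hΩ : Fintype.card Ω = p) (P : Sylow p H)
    (hP : Nat.card P = p)
    (hN : Nat.card (Subgroup.normalizer ((P : Subgroup H) : Set H)) = 2 * p) :
    Subgroup.centralizer ((P : Subgroup H) : Set H) = (P : Subgroup H) := by
  classical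
  have hp : p.Prime := Fact.out
  set C := Subgroup.centralizer ((P : Subgroup H) : Set H) with hC
  -- P is commutative, so P ≤ C
  have hPC : (P : Subgroup H) ≤ C := by
    rw [hC, Subgroup.le_centralizer_iff_isMulCommutative]
    haveI : IsCyclic (P : Subgroup H) := isCyclic_of_prime_card hP
    exact ⟨⟨IsCyclic.commGroup.mul_comm⟩⟩
  have hCN : C ≤ Subgroup.normalizer ((P : Subgroup H) : Set H) :=
    Subgroup.centralizer_le_normalizer _
  have hCdvd : Nat.card C ∣ 2 * p := by
    rw [← hN]; exact Subgroup.card_dvd_of_le hCN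
  by_cases h2 : 2 ∣ Nat.card C
  · exfalso
    haveI : Fact (Nat.Prime 2) := ⟨Nat.prime_two⟩
    obtain ⟨u, hu⟩ := exists_prime_orderOf_dvd_card' 2 h2
    have hu' : orderOf (u : H) = 2 := by rw [Subgroup.orderOf_coe, hu]
    -- u has a fixed point
    have hcardZ : Nat.card (Subgroup.zpowers (u : H)) = 2 ^ 1 := by
      rw [Nat.card_zpowers, hu', pow_one]
    have hPG : IsPGroup 2 (Subgroup.zpowers (u : H)) := IsPGroup.of_card hcardZ
    have hmod := hPG.card_modEq_card_fixedPoints Ω
    have hodd : Odd p := hp.odd_of_ne_two hp2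
    have hne : Nat.card (fixedPoints (Subgroup.zpowers (u : H)) Ω) ≠ 0 := by
      intro h0
      rw [h0, Nat.card_eq_fintype_card, hΩ] at hmod
      have : p % 2 = 0 := hmod
      rcases hodd with ⟨k, hk⟩
      omega
    have hpos : 0 < Nat.card (fixedPoints (Subgroup.zpowers (u : H)) Ω) := Nat.pos_of_ne_zero hne
    rw [Nat.card_pos_iff] at hpos
    obtain ⟨⟨x, hx⟩⟩ := hpos.1
    have hux : (u : H) • x = x := hx ⟨(u : H), Subgroup.mem_zpowers _⟩
    -- a generator of P
    have hPne : (P : Subgroup H) ≠ ⊥ := by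
      intro h
      have : Nat.card (P : Subgroup H) = 1 := by rw [h, Subgroup.card_bot]
      rw [hP] at this
      exact hp.one_lt.ne' this
    obtain ⟨t, ht1⟩ := (Subgroup.ne_bot_iff_exists_ne_one).mp hPne
    have htord : orderOf (t : H) = p := by
      have h1 : orderOf t ∣ p := by
        have h2 : orderOf t ∣ Nat.card (P : Subgroup H) := orderOf_dvd_natCard t
        rwa [hP] at h2
      rw [Subgroup.orderOf_coe]
      rcases (Nat.dvd_prime hp).mp h1 with h | h
      · exact absurd (orderOf_eq_one_iff.mp h) ht1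
      · exact h
    -- u fixes every point
    have hall : ∀ z : Ω, (u : H) • z = z := by
      intro z
      have hz : z ∈ (orbit (Subgroup.zpowers (t : H)) x : Set Ω) := by
        rw [orbit_zpowers_eq_univ hΩ (t : H) htord x]; trivial
      obtain ⟨⟨k, hk⟩, hkz⟩ := hz
      have hkz' : k • x = z := hkz
      have hkP : k ∈ (P : Subgroup H) := by
        have : Subgroup.zpowers (t : H) ≤ (P : Subgroup H) := by
          rw [Subgroup.zpowers_le]; exact t.2
        exact this hk
      have hcomm : k * (u : H) = (u : H) * k := (Subgroup.mem_centralizer_iff.mp u.2) k hkP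
      rw [← hkz', ← mul_smul, ← hcomm, mul_smul, hux]
    have hu1 : (u : H) = 1 := by
      apply FaithfulSMul.eq_of_smul_eq_smul (α := Ω)
      intro w
      rw [hall w, one_smul]
    rw [hu1, orderOf_one] at hu'
    omega
  · -- |C| is odd and divides 2p, so divides p
    have hcop : Nat.Coprime (Nat.card C) 2 := by
      rw [Nat.coprime_comm, Nat.Prime.coprime_iff_not_dvd Nat.prime_two]
      exact h2
    have hCp : Nat.card C ∣ p := hcop.dvd_of_dvd_mul_left hCdvd
    have hle : Nat.card C ≤ p := Nat.le_of_dvd hp.pos hCp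
    symm
    apply Subgroup.eq_of_le_of_card_ge hPC
    rw [hP]; exact hle

/-- `eN P = 2` when `|P| = p` and `|N(P)| = 2p`. -/
theorem eN_eq_two [Finite H] {p : ℕ} [Fact p.Prime] (P : Sylow p H) (hP : Nat.card P = p)
    (hN : Nat.card (Subgroup.normalizer ((P : Subgroup H) : Set H)) = 2 * p) :
    eN (P : Subgroup H) = 2 := by
  have hp : p.Prime := Fact.out
  unfold eN
  have h := Cfsg.Agent.Helper11.relIndex_mul_card
    (Subgroup.le_normalizer (H := (P : Subgroup H)))
  rw [hP, hN] at h
  exact Nat.eq_of_mul_eq_mul_right hp.pos h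

end Cfsg.Agent.Lead.S4706
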