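import Mathlib
import Cfsg.Prelude.Def_Characters
import Cfsg.Agent.Lead.PairSignDefs
import Cfsg.Agent.Lead.S4706Aux
import Cfsg.Agent.Helper1.W2pDefs
import Cfsg.Agent.Helper24.Induced
import Cfsg.Agent.Helper24.Expansion
import Cfsg.Agent.Helper24.TwoTransitive
import Cfsg.Agent.Helper23.S4706REC
import Cfsg.Agent.Helper3.S4706VAL
import Cfsg.Agent.Helper8.S4706BD

set_option autoImplicit false
set_option linter.style.haveILetI false

namespace Cfsg.Agent.Lead.S4706

open Cfsg Cfsg.Agent.Helper24 Cfsg.Agent.Helper1.W2p Cfsg.Agent.Lead.PairSign MulAction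
open Cfsg.Agent.Helper23.S4706 (classInner_indSign)
open Cfsg.Agent.Helper3.S4706 (indSign_apply)
open Cfsg.Agent.Helper8.S4706 (brauer_two)

universe u v


/-- piece CHR -/
theorem isCharacter_indSign {H : Type u} [Group H] [Fintype H] {Ω : Type v} [MulAction H Ω]
    (a b : Ω) : IsCharacter H (indSign (H := H) a b) := by
  unfold indSign
  exact isCharacter_indFun _ (isCharacter_of_monoidHom (pairSign a b))

theorem card_fixedBy_one {H : Type u} [Group H] {Ω : Type v} [Fintype Ω] [MulAction H Ω] :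
    Nat.card (fixedBy Ω (1 : H)) = Fintype.card Ω := by
  rw [← Nat.card_eq_fintype_card]
  apply Nat.card_congr
  exact ⟨fun x => x.1, fun x => ⟨x, by simp⟩, fun _ => rfl, fun _ => rfl⟩

/-- piece KEY -/
theorem fix_three_eq_one {H : Type u} [Group H] [Fintype H] {Ω : Type v} [Fintype Ω]
    [MulAction H Ω] [FaithfulSMul H Ω] (p : ℕ) [Fact p.Prime] (hp5 : 5 ≤ p)
    (hΩ : Fintype.card Ω = p) (h3 : IsMultiplyPretransitive H Ω 3)
    (P : Sylow p H) (hP : Nat.card P = p) (he : eN (P : Subgroup H) = 2)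
    (D : BrauerData p (P : Subgroup H)) :
    ∀ g : H, 3 ≤ Nat.card (fixedBy Ω g) → g = 1 := by
  classical
  have hp : p.Prime := Fact.out
  have hp2 : p ≠ 2 := by omega
  haveI : Fintype (IrrCharacter H) := Fintype.ofFinite _
  haveI h2 : IsMultiplyPretransitive H Ω 2 :=
    isMultiplyPretransitive_of_le (n := 3) (by norm_num)
      (by rw [Nat.card_eq_fintype_card, hΩ]; omega)
  obtain ⟨χ₀, hχ₀, hχ₀Y, hcardY, hψ⟩ := brauer_two p hp5 hΩ h2 P hP he D
  -- two distinct points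
  have hcard2 : 1 < Fintype.card Ω := by rw [hΩ]; omega
  obtain ⟨a, b, hab⟩ := Fintype.exists_pair_of_one_lt_card hcard2
  have h3' : ∀ x : Ω, x ≠ a → x ≠ b → ∃ t : H, t • a = b ∧ t • b = a ∧ t • x = x := by
    intro x hxa hxb
    exact exists_of_three h3 hab (Ne.symm hxa) (Ne.symm hxb) (Ne.symm hab) (Ne.symm hxb)
      (Ne.symm hxa)
  have h2' : ∀ c d : Ω, c ≠ d → ∃ x : H, x • a = c ∧ x • b = d := by
    intro c d hcd
    exact exists_of_two h2 hab hcd
  obtain ⟨B, hB1, hB⟩ := indSign_apply (H := H) a b hab h2'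
  have hΘ : IsCharacter H (indSign (H := H) a b) := isCharacter_indSign a b
  -- elements of the pair stabilizer are p-regular
  have hreg : ∀ s ∈ pairStab (H := H) a b, ¬ p ∣ orderOf s := by
    intro s hs
    apply not_dvd_orderOf_of_sq_fixed hp2 hΩ s a
    rcases hs with ⟨h1, _⟩ | ⟨h1, h2⟩
    · rw [h1, h1]
    · rw [h1, h2]
  have hΩ3 : 3 ≤ Fintype.card Ω := by rw [hΩ]; omega
  -- multiplicities
  have hm0 : classInner (indSign (H := H) a b) (χ₀ : H → ℂ) = 1 :=
    classInner_indSign a b hab hΩ3 h3' _ (isClassFunction_irr χ₀) 1 (fun s _ => hχ₀ s)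
  have hmY : ∀ ψ ∈ D.Y, classInner (indSign (H := H) a b) (ψ : H → ℂ) = 1 := by
    intro ψ hψY
    exact classInner_indSign a b hab hΩ3 h3' _ (isClassFunction_irr ψ) 2
      (fun s hs => hψ ψ hψY s (hreg s hs))
  -- decomposition with natural coefficients
  obtain ⟨n, hn⟩ := IsCharacter.exists_nat_coeff hΘ
  have hcoef : ∀ ξ : IrrCharacter H, classInner (indSign (H := H) a b) (ξ : H → ℂ) = n ξ := by
    intro ξ
    conv_lhs => rw [hn]
    exact classInner_sum_irr _ ξ
  have hn0 : n χ₀ = 1 := by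
    have := hcoef χ₀; rw [hm0] at this; exact_mod_cast this.symm
  have hnY : ∀ ψ ∈ D.Y, n ψ = 1 := by
    intro ψ hψY
    have := hcoef ψ; rw [hmY ψ hψY] at this; exact_mod_cast this.symm
  -- degrees
  have hone_reg : ¬ p ∣ orderOf (1 : H) := by
    rw [orderOf_one]; exact fun h => hp.one_lt.ne' (Nat.dvd_one.mp h)
  have hdeg0 : irrDeg χ₀ = p - 1 := by
    have h1 := irrDeg_spec χ₀
    rw [hχ₀ 1, card_fixedBy_one, hΩ] at h1
    have h5 : (1 : ℕ) ≤ p := hp.one_lt.le
    have : ((p - 1 : ℕ) : ℂ) = (irrDeg χ₀ : ℂ) := by rw [← h1]; push_cast [h5]; ring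
    exact_mod_cast this.symm
  have hdegY : ∀ ψ ∈ D.Y, irrDeg ψ = p - 2 := by
    intro ψ hψY
    have h1 := irrDeg_spec ψ
    rw [hψ ψ hψY 1 hone_reg, card_fixedBy_one, hΩ] at h1
    have h5 : (2 : ℕ) ≤ p := by omega
    have : ((p - 2 : ℕ) : ℂ) = (irrDeg ψ : ℂ) := by rw [← h1]; push_cast [h5]; ring
    exact_mod_cast this.symm
  -- the finite set F = {χ₀} ∪ Y
  set Yf : Finset (IrrCharacter H) := Finset.univ.filter (fun ψ => ψ ∈ D.Y) with hYf
  have hYfcard : Yf.card * 2 = p - 1 := by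
    rw [← hcardY]
    congr 1
    rw [hYf, ← Fintype.card_subtype, ← Nat.card_eq_fintype_card]
  have hχ₀Yf : χ₀ ∉ Yf := by
    rw [hYf, Finset.mem_filter]; exact fun h => hχ₀Y h.2
  -- value at 1
  have hdegΘ : (indSign (H := H) a b 1) = ((p : ℂ) * ((p : ℂ) - 1)) / 2 := by
    rw [hB 1, hB1, card_fixedBy_one, hΩ]; simp
  have hsum1 : ((p : ℂ) * ((p : ℂ) - 1)) / 2 = ∑ ξ : IrrCharacter H, (n ξ : ℂ) * (irrDeg ξ : ℂ) := by
    rw [← hdegΘ]
    conv_lhs => rw [hn]
    simp only [Finset.sum_apply, Pi.smul_apply, smul_eq_mul, irrDeg_spec]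
  have hsumN : p * (p - 1) = 2 * ∑ ξ : IrrCharacter H, n ξ * irrDeg ξ := by
    have h1 : (1 : ℕ) ≤ p := hp.one_lt.le
    have : ((p * (p - 1) : ℕ) : ℂ) = ((2 * ∑ ξ : IrrCharacter H, n ξ * irrDeg ξ : ℕ) : ℂ) := by
      push_cast [h1]
      rw [← hsum1]; ring
    exact_mod_cast this
  -- split the sum
  have hsplit : ∑ ξ : IrrCharacter H, n ξ * irrDeg ξ =
      (p - 1) + Yf.card * (p - 2) +
        ∑ ξ ∈ (Finset.univ \ insert χ₀ Yf), n ξ * irrDeg ξ := by
    rw [← Finset.sum_sdiff (Finset.subset_univ (insert χ₀ Yf)), add_comm]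
    congr 1
    rw [Finset.sum_insert hχ₀Yf, hn0, hdeg0, one_mul]
    congr 1
    rw [Finset.sum_congr rfl (fun ψ hψm => by
      have hψY : ψ ∈ D.Y := (Finset.mem_filter.mp hψm).2
      rw [hnY ψ hψY, hdegY ψ hψY, one_mul])]
    rw [Finset.sum_const, smul_eq_mul]
  have hrest : ∑ ξ ∈ (Finset.univ \ insert χ₀ Yf), n ξ * irrDeg ξ = 0 := by
    have h1 : (1 : ℕ) ≤ p := hp.one_lt.le
    have key : 2 * ((p - 1) + Yf.card * (p - 2)) = p * (p - 1) := by
      have : 2 * (Yf.card * (p - 2)) = (p - 1) * (p - 2) := by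
        rw [← hYfcard]; ring
      obtain ⟨q, rfl⟩ : ∃ q, p = q + 2 := ⟨p - 2, by omega⟩
      simp only [Nat.add_sub_cancel] at this ⊢
      have h3 : q + 2 - 1 = q + 1 := by omega
      rw [h3] at this ⊢
      nlinarith
    rw [hsplit] at hsumN
    omega
  have hnrest : ∀ ξ : IrrCharacter H, ξ ≠ χ₀ → ξ ∉ D.Y → n ξ = 0 := by
    intro ξ h1 h2
    have hmem : ξ ∈ (Finset.univ \ insert χ₀ Yf) := by
      rw [Finset.mem_sdiff, Finset.mem_insert, hYf, Finset.mem_filter]
      exact ⟨Finset.mem_univ _, fun h => h.elim h1 (fun h => h2 h.2)⟩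
    have := (Finset.sum_eq_zero_iff.mp hrest) ξ hmem
    rcases Nat.mul_eq_zero.mp this with h | h
    · exact h
    · exact absurd h (irrDeg_pos ξ).ne'
  -- the decomposition as functions
  have hdecomp : ∀ g : H, indSign (H := H) a b g =
      (χ₀ : H → ℂ) g + ∑ ψ ∈ Yf, (ψ : H → ℂ) g := by
    intro g
    conv_lhs => rw [hn]
    simp only [Finset.sum_apply, Pi.smul_apply, smul_eq_mul]
    rw [← Finset.sum_sdiff (Finset.subset_univ (insert χ₀ Yf))]
    rw [Finset.sum_eq_zero (fun ξ hξ => by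
      rw [Finset.mem_sdiff, Finset.mem_insert, hYf, Finset.mem_filter] at hξ
      have h1 : ξ ≠ χ₀ := fun h => hξ.2 (Or.inl h)
      have h2 : ξ ∉ D.Y := fun h => hξ.2 (Or.inr ⟨Finset.mem_univ _, h⟩)
      rw [hnrest ξ h1 h2]; simp), zero_add]
    rw [Finset.sum_insert hχ₀Yf, hn0, Nat.cast_one, one_mul]
    congr 1
    refine Finset.sum_congr rfl (fun ψ hψm => ?_)
    have hψY : ψ ∈ D.Y := (Finset.mem_filter.mp hψm).2
    rw [hnY ψ hψY, Nat.cast_one, one_mul]
  -- the final contradiction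
  intro g hg
  by_contra hg1
  set f := Nat.card (fixedBy Ω g) with hf
  -- g is p-regular since it has a fixed point
  have hgreg : ¬ p ∣ orderOf g := by
    intro hdvd
    have hpos : 0 < f := by omega
    rw [hf, Nat.card_pos_iff] at hpos
    obtain ⟨⟨x, hx⟩⟩ := hpos.1
    exact no_fixed_of_dvd_orderOf hΩ g hdvd x hx
  -- f < p
  have hfp : f < p := by
    obtain ⟨z, hz⟩ : ∃ z : Ω, g • z ≠ z := by
      by_contra hcon
      push Not at hcon
      apply hg1
      apply FaithfulSMul.eq_of_smul_eq_smul (α := Ω)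
      intro w
      rw [hcon w, one_smul]
    rw [hf, ← hΩ, Nat.card_eq_fintype_card]
    have : Fintype.card (fixedBy Ω g) < Fintype.card Ω := by
      apply Fintype.card_lt_of_injective_of_notMem (fun x : fixedBy Ω g => (x : Ω))
        Subtype.val_injective (b := z)
      rintro ⟨⟨x, hx⟩, rfl⟩
      exact hz hx
    exact this
  have hval := hdecomp g
  rw [hB g, hχ₀ g] at hval
  rw [Finset.sum_congr rfl (fun ψ hψm => hψ ψ (Finset.mem_filter.mp hψm).2 g hgreg)] at hval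
  rw [Finset.sum_const, nsmul_eq_mul] at hval
  -- now an identity in ℂ between natural numbers
  have hfC : (Nat.card (fixedBy Ω g) : ℂ) = (f : ℂ) := by rw [hf]
  rw [hfC] at hval
  have hint : ((f : ℤ) * ((f : ℤ) - 1)) - (B g : ℤ) =
      2 * ((f : ℤ) - 1) + (2 * (Yf.card : ℤ)) * ((f : ℤ) - 2) := by
    have : (((f : ℤ) * ((f : ℤ) - 1)) - (B g : ℤ) : ℂ) =
        ((2 * ((f : ℤ) - 1) + (2 * (Yf.card : ℤ)) * ((f : ℤ) - 2) : ℤ) : ℂ) := by
      push_cast
      have h2 : (2 : ℂ) ≠ 0 := two_ne_zero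
      field_simp at hval
      linear_combination hval
    exact_mod_cast this
  have hY2 : (2 * (Yf.card : ℤ)) = (p : ℤ) - 1 := by
    have h1 : (1 : ℕ) ≤ p := hp.one_lt.le
    have : ((Yf.card * 2 : ℕ) : ℤ) = ((p - 1 : ℕ) : ℤ) := by rw [hYfcard]
    push_cast [h1] at this
    linarith
  rw [hY2] at hint
  have hf3 : (3 : ℤ) ≤ f := by exact_mod_cast hg
  have hfp' : (f : ℤ) < p := by exact_mod_cast hfp
  have hBpos : (0 : ℤ) ≤ B g := by positivity
  nlinarith

end Cfsg.Agent.Lead.S4706
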