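import Mathlib
import Cfsg.Prelude.Def_GeometricClasses
import Cfsg.Prelude.Def_Classical
import Cfsg.Prelude.Def_LieClassical
import Cfsg.Agent.Helper28.UPair6

set_option autoImplicit false

/-! S5984 (PSU_n(q), stabilizers of pairs of complementary totally singular n/2-spaces): shared
definitions for the piece project (driver: lead). -/

namespace Cfsg.Agent.S5984P

open Matrix Module

variable {F : Type*} [Field F] {n : ℕ}

/-- the `l`-eigenspace of the matrix `x` -/
def ev (x : GL (Fin n) F) (l : F) : Submodule F (Fin n → F) :=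
  LinearMap.ker (Matrix.toLin' (x : Matrix (Fin n) (Fin n) F) - l • (1 : Module.End F (Fin n → F)))

theorem mem_ev {x : GL (Fin n) F} {l : F} {v : Fin n → F} :
    v ∈ ev x l ↔ (x : Matrix (Fin n) (Fin n) F) *ᵥ v = l • v := by
  unfold ev
  rw [LinearMap.mem_ker, LinearMap.sub_apply, LinearMap.smul_apply, Matrix.toLin'_apply,
    Module.End.one_apply, sub_eq_zero]

theorem gl_mulVec_inv' (g : GL (Fin n) F) (v : Fin n → F) :
    (g : Matrix (Fin n) (Fin n) F) *ᵥ (((g⁻¹ : GL (Fin n) F) : Matrix (Fin n) (Fin n) F) *ᵥ v) = v := by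
  rw [Matrix.mulVec_mulVec, ← Units.val_mul, mul_inv_cancel, Units.val_one, Matrix.one_mulVec]

theorem gl_inv_mulVec' (g : GL (Fin n) F) (v : Fin n → F) :
    ((g⁻¹ : GL (Fin n) F) : Matrix (Fin n) (Fin n) F) *ᵥ ((g : Matrix (Fin n) (Fin n) F) *ᵥ v) = v := by
  rw [Matrix.mulVec_mulVec, ← Units.val_mul, inv_mul_cancel, Units.val_one, Matrix.one_mulVec]

/-- eigenvectors of a conjugate -/
theorem mem_ev_conj {x g : GL (Fin n) F} {l : F} {v : Fin n → F} :
    v ∈ ev (g⁻¹ * x * g) l ↔ (g : Matrix (Fin n) (Fin n) F) *ᵥ v ∈ ev x l := by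
  rw [mem_ev, mem_ev, Units.val_mul, Units.val_mul, ← Matrix.mulVec_mulVec, ← Matrix.mulVec_mulVec]
  constructor
  · intro hv
    have := congrArg (fun w => (g : Matrix (Fin n) (Fin n) F) *ᵥ w) hv
    simp only [gl_mulVec_inv', Matrix.mulVec_smul] at this
    exact this
  · intro hv
    rw [hv, Matrix.mulVec_smul, gl_inv_mulVec']

/-- conjugation preserves the dimensions of the eigenspaces -/
theorem finrank_ev_conj (x g : GL (Fin n) F) (l : F) :
    finrank F ↥(ev (g⁻¹ * x * g) l) = finrank F ↥(ev x l) := by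
  have e : ev x l = (ev (g⁻¹ * x * g) l).map
      (Matrix.toLin' (g : Matrix (Fin n) (Fin n) F)) := by
    ext w
    rw [Submodule.mem_map]
    constructor
    · intro hw
      refine ⟨((g⁻¹ : GL (Fin n) F) : Matrix (Fin n) (Fin n) F) *ᵥ w, ?_, ?_⟩
      · rw [mem_ev_conj, gl_mulVec_inv']
        exact hw
      · rw [Matrix.toLin'_apply, gl_mulVec_inv']
    · rintro ⟨v, hv, rfl⟩
      rw [Matrix.toLin'_apply]
      exact mem_ev_conj.mp hv
  rw [e, Cfsg.Agent.S0749.finrank_map_of_injOn]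
  intro v _ hv
  rw [Matrix.toLin'_apply] at hv
  have := congrArg (fun w => ((g⁻¹ : GL (Fin n) F) : Matrix (Fin n) (Fin n) F) *ᵥ w) hv
  simp only [gl_inv_mulVec', Matrix.mulVec_zero] at this
  exact this

end Cfsg.Agent.S5984P
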