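import Mathlib
import Cfsg.Agent.Helper18.QuadGen2
import Cfsg.Agent.Helper18.MinSimple1
import Cfsg.Agent.Helper7.Fitting
import Cfsg.Agent.Helper19.Cores
import Cfsg.Agent.Helper10.PConstrained
import Cfsg.Agent.Helper15.SL2Free3
import Cfsg.Agent.S0044

/-! # Quadratic elements of solvable groups, `p ≥ 5`, lie in the Fitting subgroup

Core lemma for S1893: in a finite solvable group `T`, a `p`-element `k` (`p ≥ 5`) centralizing a
subgroup `A'` which is self-centralizing and normal in some `F' ≥ F(T)` lies in `F(T)`. -/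

set_option autoImplicit false

namespace Cfsg.Agent.Lead.SCNHall

open Subgroup
open scoped commutatorElement

/-- A solvable group does not involve `SL₂(p)` for `p ≥ 5`. -/
theorem not_involves_sl2_of_isSolvable {T : Type*} [Group T] [Group.IsSolvable T] {p : ℕ}
    [Fact p.Prime] (hp : 5 ≤ p) :
    ¬ Cfsg.Involves (Matrix.SpecialLinearGroup (Fin 2) (ZMod p)) T := by
  rintro ⟨K, R, hn, ⟨e⟩⟩
  have h1 : Group.IsSolvable (↥K ⧸ R.subgroupOf K) := inferInstance
  have h2 : Group.IsSolvable (Matrix.SpecialLinearGroup (Fin 2) (ZMod p)) :=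
    Group.isSolvable_of_isSolvable_injective (f := e.symm.toMonoidHom) e.symm.injective
  have h3 : Group.IsSolvable (Matrix.ProjectiveSpecialLinearGroup (Fin 2) (ZMod p)) :=
    inferInstance
  exact Cfsg.Agent.Helper18.MinSimple.not_isSolvable_psl2 (F := ZMod p)
    (by rw [Nat.card_zmod]; omega) h3

/-- If `x ∈ P ⊔ N` with `N` normal then `x ^ |P| ∈ N`. -/
theorem pow_card_mem_of_mem_sup {T : Type*} [Group T] [Finite T] (P N : Subgroup T) [N.Normal]
    {x : T} (hx : x ∈ P ⊔ N) : x ^ Nat.card P ∈ N := by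
  rw [← SetLike.mem_coe, mul_normal] at hx
  obtain ⟨a, ha, b, hb, rfl⟩ := hx
  rw [← QuotientGroup.eq_one_iff, QuotientGroup.mk_pow, QuotientGroup.mk_mul,
    (QuotientGroup.eq_one_iff b).mpr hb, mul_one, ← QuotientGroup.mk_pow]
  have h1 : a ^ Nat.card P = 1 := by
    have := pow_card_eq_one' (G := ↥P) (x := ⟨a, ha⟩)
    exact congrArg Subtype.val this
  rw [h1]; rfl

/-- Core lemma. -/
theorem mem_fitting_of_mem_centralizer {T : Type*} [Group T] [Finite T] [Group.IsSolvable T]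
    {p : ℕ} [hp : Fact p.Prime] (hp5 : 5 ≤ p)
    (F' A' : Subgroup T) (hFT : Cfsg.fittingSubgroup T ≤ F')
    (hnorm : F' ≤ normalizer (A' : Set T))
    (hcent : F' ⊓ centralizer (A' : Set T) ≤ A')
    (k : T) (hk : k ∈ centralizer (A' : Set T)) (hkp : ∃ n : ℕ, k ^ p ^ n = 1) :
    k ∈ Cfsg.fittingSubgroup T := by
  classical
  have hF₀n : (Cfsg.fittingSubgroup T).Normal := inferInstance
  obtain ⟨n, hn⟩ := hkp
  have hp2 : p ≠ 2 := by omega
  -- Step 1: commutators with `k` land in `A'`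
  have hcF : ∀ x ∈ Cfsg.fittingSubgroup T, ⁅x, k⁆ ∈ Cfsg.fittingSubgroup T := by
    intro x hx
    have : ⁅x, k⁆ = x * (k * x⁻¹ * k⁻¹) := by rw [commutatorElement_def]; group
    rw [this]
    exact mul_mem hx (hF₀n.conj_mem _ (inv_mem hx) k)
  have hc1 : ∀ x ∈ Cfsg.fittingSubgroup T, ⁅x, k⁆ ∈ A' := by
    intro x hx
    apply hcent
    refine ⟨hFT (hcF x hx), ?_⟩
    show ⁅x, k⁆ ∈ centralizer (A' : Set T)
    rw [mem_centralizer_iff]
    intro a ha
    have hxN : x⁻¹ ∈ normalizer (A' : Set T) := inv_mem (hnorm (hFT hx))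
    have hxa : x⁻¹ * a * x ∈ A' := by
      have := (mem_normalizer_iff.mp hxN a).mp ha
      simpa using this
    have h1 : a * k = k * a := mem_centralizer_iff.mp hk a ha
    have h2 : (x⁻¹ * a * x) * k = k * (x⁻¹ * a * x) := mem_centralizer_iff.mp hk _ hxa
    have h3 : a * k⁻¹ = k⁻¹ * a := (Commute.inv_right (show Commute a k from h1)).eq
    rw [commutatorElement_def]
    calc a * (x * k * x⁻¹ * k⁻¹) = x * ((x⁻¹ * a * x) * k) * x⁻¹ * k⁻¹ := by group
      _ = x * (k * (x⁻¹ * a * x)) * x⁻¹ * k⁻¹ := by rw [h2]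
      _ = x * k * x⁻¹ * (a * k⁻¹) := by group
      _ = x * k * x⁻¹ * (k⁻¹ * a) := by rw [h3]
      _ = x * k * x⁻¹ * k⁻¹ * a := by group
  have hck : ∀ x ∈ Cfsg.fittingSubgroup T, ⁅x, k⁆ * k = k * ⁅x, k⁆ := fun x hx =>
    mem_centralizer_iff.mp hk _ (hc1 x hx)
  -- Step 2: quadratic action
  have hquad : ∀ x ∈ Cfsg.fittingSubgroup T, ⁅⁅x, k⁆, k⁆ = 1 := fun x hx =>
    commutatorElement_eq_one_iff_commute.mpr (hck x hx)
  -- Step 3: p-stability
  have hPF : Cfsg.pCore p T ≤ Cfsg.fittingSubgroup T :=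
    Cfsg.Agent.Helper7.pCore_le_fittingSubgroup p
  obtain ⟨D, hDn, hCD, hDpow, hkD⟩ | hinv :=
    Cfsg.Agent.Helper18.QuadGen.exists_normal_or_involves hp2 (Cfsg.pCore p T)
      (Cfsg.Agent.Helper19.pCore_isPGroup p) k
      (fun x hx => by rw [hquad x (hPF hx)]; exact one_mem _)
  swap
  · exact absurd hinv (not_involves_sl2_of_isSolvable hp5)
  -- Step 4: `k` centralizes `W`
  set W : Subgroup T := Cfsg.pPrimeCore p T ⊓ Cfsg.fittingSubgroup T with hW
  have hWn : W.Normal := normal_inf_normal _ _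
  have hWcop : ∀ c ∈ Cfsg.pPrimeCore p T, ∀ m : ℕ, c ^ p ^ m = 1 → c = 1 := by
    intro c hc m hcm
    have h1 : orderOf c ∣ p ^ m := orderOf_dvd_of_pow_eq_one hcm
    have h2 : orderOf c ∣ Nat.card (Cfsg.pPrimeCore p T) := by
      have := orderOf_dvd_natCard (⟨c, hc⟩ : ↥(Cfsg.pPrimeCore p T))
      rwa [Subgroup.orderOf_mk] at this
    have h3 : (Nat.card (Cfsg.pPrimeCore p T)).Coprime (p ^ m) :=
      Nat.Coprime.pow_right m (Cfsg.Agent.Helper19.pPrimeCore_coprime p)
    have h4 : orderOf c = 1 := Nat.eq_one_of_dvd_coprimes h3 h2 h1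
    exact orderOf_eq_one_iff.mp h4
  have hkW : k ∈ centralizer (W : Set T) := by
    rw [mem_centralizer_iff]
    intro x hx
    have hxF : x ∈ Cfsg.fittingSubgroup T := hx.2
    have hcP : ⁅x, k⁆ ∈ Cfsg.pPrimeCore p T := by
      have : ⁅x, k⁆ = x * (k * x⁻¹ * k⁻¹) := by rw [commutatorElement_def]; group
      rw [this]
      exact mul_mem hx.1 ((Cfsg.pPrimeCore_normal p T).conj_mem _ (inv_mem hx.1) k)
    have h1 : k * x⁻¹ * k⁻¹ = x⁻¹ * ⁅x, k⁆ := by rw [commutatorElement_def]; group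
    have h2 := Cfsg.Agent.Helper15.SL2Free.conj_pow_of_commute k x⁻¹ ⁅x, k⁆ h1
      (hck x hxF).symm (p ^ n)
    rw [hn] at h2
    have h3 : ⁅x, k⁆ ^ p ^ n = 1 := by
      have : x⁻¹ = x⁻¹ * ⁅x, k⁆ ^ p ^ n := by simpa using h2
      exact (mul_eq_left (a := x⁻¹)).mp this.symm
    have h4 : ⁅x, k⁆ = 1 := hWcop _ hcP _ h3
    exact (commutatorElement_eq_one_iff_commute.mp h4).eq
  -- Step 5: the normal nilpotent subgroup `E`
  set E : Subgroup T := D ⊓ centralizer (W : Set T) with hE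
  have hEn : E.Normal := by
    have := hDn
    exact normal_inf_normal _ _
  have hkE : k ∈ E := ⟨hkD, hkW⟩
  have hYn : (E ⊓ W).Normal := by
    have := hEn
    exact normal_inf_normal _ _
  have hqW : ∀ q : ℕ, q.Prime → q ≠ p → Cfsg.pCore q T ≤ W := by
    intro q hq hqp
    haveI : Fact q.Prime := ⟨hq⟩
    refine le_inf ?_ (Cfsg.Agent.Helper7.pCore_le_fittingSubgroup q)
    apply Cfsg.Agent.Helper10.le_pPrimeCore (Cfsg.pCore_normal q T)
    obtain ⟨j, hj⟩ := (Cfsg.Agent.Helper19.pCore_isPGroup (G := T) q).exists_card_eq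
    rw [hj]
    exact Nat.Coprime.pow_left j ((Nat.coprime_primes hq hp.out).mpr hqp)
  -- every element of `E` has a `p`-power in `E ⊓ W`
  have hpow : ∀ e ∈ E, ∃ j : ℕ, e ^ p ^ j ∈ E ⊓ W := by
    intro e he
    obtain ⟨j₁, hj₁⟩ := hDpow e he.1
    have hg₁E : e ^ p ^ j₁ ∈ E := pow_mem he _
    -- g₁ centralizes the Fitting subgroup
    have hg₁C : e ^ p ^ j₁ ∈ centralizer (Cfsg.fittingSubgroup T : Set T) := by
      have hle : Cfsg.fittingSubgroup T ≤ centralizer ({e ^ p ^ j₁} : Set T) := by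
        rw [Cfsg.Agent.Helper7.fittingSubgroup_eq_pCoreSup, Cfsg.Agent.Helper7.pCoreSup_le_iff]
        intro q hq
        by_cases hqp : q = p
        · subst hqp
          intro x hx
          rw [mem_centralizer_singleton_iff]
          exact mem_centralizer_iff.mp hj₁ x hx
        · intro x hx
          rw [mem_centralizer_singleton_iff]
          exact mem_centralizer_iff.mp hg₁E.2 x (hqW q hq hqp hx)
      rw [mem_centralizer_iff]
      intro x hx
      have := hle hx
      rw [mem_centralizer_singleton_iff] at this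
      exact this
    have hg₁F : e ^ p ^ j₁ ∈ Cfsg.fittingSubgroup T := Cfsg.Agent.S0044.result hg₁C
    have hFle : Cfsg.fittingSubgroup T ≤ Cfsg.pCore p T ⊔ Cfsg.pPrimeCore p T := by
      rw [Cfsg.Agent.Helper7.fittingSubgroup_eq_pCoreSup, Cfsg.Agent.Helper7.pCoreSup_le_iff]
      intro q hq
      by_cases hqp : q = p
      · subst hqp; exact le_sup_left
      · exact ((hqW q hq hqp).trans inf_le_left).trans le_sup_right
    have h5 := pow_card_mem_of_mem_sup (Cfsg.pCore p T) (Cfsg.pPrimeCore p T) (hFle hg₁F)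
    obtain ⟨j₂, hj₂⟩ := (Cfsg.Agent.Helper19.pCore_isPGroup (G := T) p).exists_card_eq
    rw [hj₂, ← pow_mul, ← pow_add] at h5
    refine ⟨j₁ + j₂, ?_, h5, ?_⟩
    · exact pow_mem he _
    · rw [pow_add, pow_mul]
      exact pow_mem hg₁F _
  -- nilpotency of `E`
  have hEnil : Group.IsNilpotent ↥E := by
    haveI : ((E ⊓ W).subgroupOf E).Normal := hYn.subgroupOf E
    have hker : (QuotientGroup.mk' ((E ⊓ W).subgroupOf E)).ker ≤ center ↥E := by
      rw [QuotientGroup.ker_mk']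
      intro y hy
      rw [mem_subgroupOf] at hy
      rw [mem_center_iff]
      intro g
      apply Subtype.ext
      simp only [Subgroup.coe_mul]
      exact mem_centralizer_iff.mp g.2.2 _ hy.2 |>.symm
    have hPG : IsPGroup p (↥E ⧸ (E ⊓ W).subgroupOf E) := by
      intro g
      induction g using QuotientGroup.induction_on with
      | H e =>
        obtain ⟨j, hj⟩ := hpow e e.2
        refine ⟨j, ?_⟩
        rw [← QuotientGroup.mk_pow, QuotientGroup.eq_one_iff, mem_subgroupOf]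
        simpa using hj
    haveI : Group.IsNilpotent (↥E ⧸ (E ⊓ W).subgroupOf E) := hPG.isNilpotent
    exact Subgroup.isNilpotent_of_ker_le_center (QuotientGroup.mk' ((E ⊓ W).subgroupOf E)) hker
  exact Cfsg.Agent.Helper7.le_fittingSubgroup hEn hEnil hkE

end Cfsg.Agent.Lead.SCNHall
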