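import Mathlib
import Cfsg.Agent.Lead.SCNHall1
import Cfsg.Agent.Lead.PiHallNormal
import Cfsg.Agent.Lead.HallPrep

/-! # S1893: centralizer of an SCN-subgroup of the Fitting subgroup of a Hall subgroup -/

set_option autoImplicit false

namespace Cfsg.Agent.Lead.SCNHall

open Subgroup

section

variable {S : Type*} [Group S] [Finite S]

/-- A Hall `π`-subgroup meets `O_{π'}` trivially. -/
theorem hall_inf_piCore_compl {π : Set ℕ} {H : Subgroup S} (hH : Cfsg.IsPiHall π H) :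
    H ⊓ Cfsg.piCore πᶜ S = ⊥ := by
  refine (disjoint_of_coprime_natCard ?_).eq_bot
  apply Nat.coprime_of_dvd
  intro q hq hqH hqR
  exact (Cfsg.Agent.Helper19.piCore_isPiNum (G := S) πᶜ q hq hqR) (hH.1 q hq hqH)

/-- `O_q(S / O_{π'}(S)) = 1` for `q ∉ π`. -/
theorem pCore_quotient_eq_bot {π : Set ℕ} {q : ℕ} (hq : q.Prime) (hqπ : q ∉ π) :
    Cfsg.pCore q (S ⧸ Cfsg.piCore πᶜ S) = ⊥ := by
  haveI : Fact q.Prime := ⟨hq⟩
  set R := Cfsg.piCore πᶜ S with hR
  set P := Cfsg.pCore q (S ⧸ R) with hP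
  have hNn : (P.comap (QuotientGroup.mk' R)).Normal := (Cfsg.pCore_normal q (S ⧸ R)).comap _
  have hcard := Cfsg.Agent.Lead.card_comap_mk' R P
  obtain ⟨j, hj⟩ := (Cfsg.Agent.Helper19.pCore_isPGroup (G := S ⧸ R) q).exists_card_eq
  have hle : P.comap (QuotientGroup.mk' R) ≤ R := by
    apply Cfsg.Agent.Helper19.le_piCore hNn
    intro r hr hrd
    rw [hcard, hj] at hrd
    rcases (Nat.Prime.dvd_mul hr).mp hrd with h | h
    · have : r = q := (Nat.prime_dvd_prime_iff_eq hr hq).mp (hr.dvd_of_dvd_pow h)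
      rw [this]; exact hqπ
    · exact Cfsg.Agent.Helper19.piCore_isPiNum (G := S) πᶜ r hr h
  have h1 : P = (P.comap (QuotientGroup.mk' R)).map (QuotientGroup.mk' R) :=
    (map_comap_eq_self_of_surjective (QuotientGroup.mk'_surjective R) P).symm
  rw [h1, eq_bot_iff, ← QuotientGroup.map_mk'_self R]
  exact map_mono hle

/-- For `q ∈ π`, `O_q(S/O_{π'}(S))` lies in the image of `F(H)`, `H` a Hall `π`-subgroup. -/
theorem pCore_quotient_le_map {π : Set ℕ} {H : Subgroup S} (hH : Cfsg.IsPiHall π H)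
    {q : ℕ} (hq : q.Prime) (hqπ : q ∈ π) :
    Cfsg.pCore q (S ⧸ Cfsg.piCore πᶜ S) ≤
      ((Cfsg.fittingSubgroup H).map H.subtype).map (QuotientGroup.mk' (Cfsg.piCore πᶜ S)) := by
  haveI : Fact q.Prime := ⟨hq⟩
  set R := Cfsg.piCore πᶜ S with hR
  set P := Cfsg.pCore q (S ⧸ R) with hP
  have hHR : H ⊓ R = ⊥ := hall_inf_piCore_compl hH
  have hHb := Cfsg.Agent.Lead.isPiHall_map_mk' π H R hH
  set Hb := H.map (QuotientGroup.mk' R) with hHbdef
  have hPp : IsPGroup q P := Cfsg.Agent.Helper19.pCore_isPGroup q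
  obtain ⟨j, hj⟩ := hPp.exists_card_eq
  -- Step 1: P ≤ Hb
  have hPH : P ≤ Hb := by
    rw [← relIndex_eq_one]
    have h1 : Hb.relIndex P ∣ q ^ j := hj ▸ relIndex_dvd_card Hb P
    obtain ⟨i, -, hi⟩ := (Nat.dvd_prime_pow hq).mp h1
    have h2 : Hb.relIndex P ∣ Hb.index := by
      rw [← Cfsg.Agent.Lead.relIndex_sup_of_normal_right]
      exact relIndex_dvd_index_of_le le_sup_left
    rcases Nat.eq_zero_or_pos i with h0 | hpos
    · rw [hi, h0, pow_zero]
    · exfalso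
      apply hHb.2 q hq hqπ
      refine dvd_trans ?_ h2
      rw [hi]
      exact dvd_pow_self q hpos.ne'
  -- Step 2: the preimage in H
  set Fq : Subgroup S := H ⊓ P.comap (QuotientGroup.mk' R) with hFq
  have hFqn : (Fq.subgroupOf H).Normal := by
    have : (P.comap (QuotientGroup.mk' R)).Normal := (Cfsg.pCore_normal q (S ⧸ R)).comap _
    rw [hFq, inf_subgroupOf_left]
    exact Subgroup.Normal.subgroupOf this H
  have hFqp : IsPGroup q (Fq.subgroupOf H) := by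
    intro x
    have hx : (x : S) ∈ Fq := x.2
    obtain ⟨m, hm⟩ := hPp ⟨QuotientGroup.mk' R (x : S), hx.2⟩
    refine ⟨m, ?_⟩
    have h1 : (QuotientGroup.mk' R (x : S)) ^ q ^ m = 1 := congrArg Subtype.val hm
    rw [← map_pow] at h1
    have h2 : ((x : S)) ^ q ^ m ∈ R := (QuotientGroup.eq_one_iff _).mp h1
    have h3 : ((x : S)) ^ q ^ m ∈ H ⊓ R := ⟨pow_mem x.1.2 _, h2⟩
    rw [hHR, mem_bot] at h3
    apply Subtype.ext; apply Subtype.ext
    simpa using h3
  have hFqF : Fq ≤ (Cfsg.fittingSubgroup H).map H.subtype := by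
    have h1 : Fq.subgroupOf H ≤ Cfsg.fittingSubgroup H :=
      Cfsg.Agent.Helper7.le_fittingSubgroup hFqn hFqp.isNilpotent
    have h2 : Fq = (Fq.subgroupOf H).map H.subtype :=
      (map_subgroupOf_eq_of_le (inf_le_left : Fq ≤ H)).symm
    rw [h2]
    exact map_mono h1
  -- Step 3
  intro y hy
  obtain ⟨h, hh, rfl⟩ := hPH hy
  exact mem_map_of_mem _ (hFqF ⟨hh, hy⟩)

/-- `F(S/O_{π'}(S))` lies in the image of `F(H)`. -/
theorem fitting_quotient_le_map {π : Set ℕ} {H : Subgroup S} (hH : Cfsg.IsPiHall π H) :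
    Cfsg.fittingSubgroup (S ⧸ Cfsg.piCore πᶜ S) ≤
      ((Cfsg.fittingSubgroup H).map H.subtype).map (QuotientGroup.mk' (Cfsg.piCore πᶜ S)) := by
  rw [Cfsg.Agent.Helper7.fittingSubgroup_eq_pCoreSup, Cfsg.Agent.Helper7.pCoreSup_le_iff]
  intro q hq
  by_cases hqπ : q ∈ π
  · exact pCore_quotient_le_map hH hq hqπ
  · rw [pCore_quotient_eq_bot hq hqπ]; exact bot_le

/-- Main step: `π`-elements of prime power order centralizing `A` lie in `A`. -/
theorem mem_of_mem_centralizer_scn [Group.IsSolvable S] {π : Set ℕ} (h2 : 2 ∉ π) (h3 : 3 ∉ π)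
    {H : Subgroup S} (hH : Cfsg.IsPiHall π H) {A : Subgroup S}
    (hA : Cfsg.IsSCN ((Cfsg.fittingSubgroup H).map H.subtype) A)
    {p : ℕ} (hp : p.Prime) (hpπ : p ∈ π) {k : S} (hk : k ∈ centralizer (A : Set S))
    (hkp : ∃ n : ℕ, k ^ p ^ n = 1) : k ∈ A := by
  haveI : Fact p.Prime := ⟨hp⟩
  have hp5 : 5 ≤ p := hp.five_le_of_ne_two_of_ne_three
    (fun h => h2 (h ▸ hpπ)) (fun h => h3 (h ▸ hpπ))
  set R := Cfsg.piCore πᶜ S with hR
  set F := (Cfsg.fittingSubgroup H).map H.subtype with hF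
  have hFH : F ≤ H := map_subtype_le _
  have hHR : H ⊓ R = ⊥ := hall_inf_piCore_compl hH
  obtain ⟨hAF, hFN, hFC⟩ := hA
  obtain ⟨n, hn⟩ := hkp
  -- hypotheses of the core lemma in the quotient
  have hFT := fitting_quotient_le_map hH
  have hnorm : F.map (QuotientGroup.mk' R) ≤ normalizer ((A.map (QuotientGroup.mk' R) : Subgroup _) : Set (S ⧸ R)) :=
    (map_mono hFN).trans (le_normalizer_map _)
  have hcent : F.map (QuotientGroup.mk' R) ⊓
      centralizer ((A.map (QuotientGroup.mk' R) : Subgroup _) : Set (S ⧸ R)) ≤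
      A.map (QuotientGroup.mk' R) := by
    rintro y ⟨hy1, hy2⟩
    obtain ⟨f, hf0, rfl⟩ := hy1
    have hf : f ∈ F := hf0
    have hfH : f ∈ H := hFH hf
    refine mem_map_of_mem _ ?_
    rw [← hFC]
    refine ⟨hf, ?_⟩
    show f ∈ centralizer (A : Set S)
    have hy2' : QuotientGroup.mk' R f ∈
        centralizer ((A.map (QuotientGroup.mk' R) : Subgroup _) : Set (S ⧸ R)) := hy2
    rw [mem_centralizer_iff]
    intro a ha
    have h1 : QuotientGroup.mk' R a * QuotientGroup.mk' R f =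
        QuotientGroup.mk' R f * QuotientGroup.mk' R a :=
      mem_centralizer_iff.mp hy2' _ (mem_map_of_mem _ ha)
    rw [← map_mul, ← map_mul] at h1
    have h4 : (f * a)⁻¹ * (a * f) ∈ R := QuotientGroup.eq.mp h1.symm
    have h5 : (f * a)⁻¹ * (a * f) ∈ H ⊓ R :=
      ⟨H.mul_mem (H.inv_mem (H.mul_mem hfH (hFH (hAF ha)))) (H.mul_mem (hFH (hAF ha)) hfH), h4⟩
    rw [hHR, mem_bot] at h5
    exact (inv_mul_eq_one.mp h5).symm
  have hkb : QuotientGroup.mk' R k ∈
      centralizer ((A.map (QuotientGroup.mk' R) : Subgroup _) : Set (S ⧸ R)) := by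
    rw [mem_centralizer_iff]
    rintro y ⟨a, ha, rfl⟩
    rw [← map_mul, ← map_mul, mem_centralizer_iff.mp hk a ha]
  have hkbp : ∃ n : ℕ, (QuotientGroup.mk' R k) ^ p ^ n = 1 := ⟨n, by rw [← map_pow, hn, map_one]⟩
  have hmem := mem_fitting_of_mem_centralizer hp5 _ _ hFT hnorm hcent _ hkb hkbp
  obtain ⟨a, ha, hak⟩ := hcent ⟨hFT hmem, hkb⟩
  -- r = a⁻¹ k ∈ R
  have hr : a⁻¹ * k ∈ R := QuotientGroup.eq.mp hak
  have hcomm : Commute a⁻¹ k := (show Commute a k from mem_centralizer_iff.mp hk a ha).inv_left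
  have hrpow : (a⁻¹ * k) ^ p ^ n = (a⁻¹) ^ p ^ n := by rw [hcomm.mul_pow, hn, mul_one]
  have hr1 : (a⁻¹ * k) ^ p ^ n = 1 := by
    have h5 : (a⁻¹ * k) ^ p ^ n ∈ H ⊓ R := by
      refine ⟨?_, pow_mem hr _⟩
      rw [hrpow]
      exact pow_mem (inv_mem (hFH (hAF ha))) _
    rwa [hHR, mem_bot] at h5
  have hr2 : a⁻¹ * k = 1 := by
    have h1 : orderOf (a⁻¹ * k) ∣ p ^ n := orderOf_dvd_of_pow_eq_one hr1
    have h2 : orderOf (a⁻¹ * k) ∣ Nat.card R := by
      have := orderOf_dvd_natCard (⟨a⁻¹ * k, hr⟩ : ↥R)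
      rwa [Subgroup.orderOf_mk] at this
    have h3 : (Nat.card R).Coprime (p ^ n) := by
      apply Nat.Coprime.pow_right
      rw [Nat.coprime_comm, Nat.Prime.coprime_iff_not_dvd hp]
      intro hd
      exact (Cfsg.Agent.Helper19.piCore_isPiNum (G := S) πᶜ p hp hd) hpπ
    exact orderOf_eq_one_iff.mp (Nat.eq_one_of_dvd_coprimes h3 h2 h1)
  have : k = a := by
    have := inv_mul_eq_one.mp hr2
    exact this.symm
  rw [this]; exact ha

end

end Cfsg.Agent.Lead.SCNHall
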