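import Mathlib
import Cfsg.Prelude.Def_LocalEven
import Cfsg.Agent.Lead.TNC10

set_option autoImplicit false
set_option linter.style.haveILetI false
set_option linter.unusedSectionVars false

/-!
# A section-closed class of `p`-stable groups

`StabClass p X`: `X` has normal subgroups `K ≤ L` with `K` a `p`-group, `L / K` an abelian
`p'`-group and `X / L` a `p`-group.  The class is closed under subgroups and quotients, and for odd
`p` its finite members are `p`-stable in the normalizer form.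
-/

namespace Cfsg.Agent.Lead.TNC

open Subgroup
open scoped commutatorElement

universe u

variable {p : ℕ} [Fact p.Prime]

/-- `X` has normal subgroups `K ≤ L` with `K` a `p`-group, `L / K` an abelian `p'`-group and
`X / L` a `p`-group (elementwise form) -/
def StabClass (p : ℕ) (X : Type*) [Group X] : Prop :=
  ∃ L K : Subgroup X, L.Normal ∧ K.Normal ∧ K ≤ L ∧ IsPGroup p K ∧ ⁅L, L⁆ ≤ K ∧
    (∀ x ∈ L, ∃ m : ℕ, m.Coprime p ∧ x ^ m ∈ K) ∧ ∀ x : X, ∃ k : ℕ, x ^ (p ^ k) ∈ L

theorem StabClass.of_surjective {X Y : Type*} [Group X] [Group Y] (h : StabClass p X)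
    (f : X →* Y) (hf : Function.Surjective f) : StabClass p Y := by
  obtain ⟨L, K, hLn, hKn, hKL, hKp, hLL, hcop, hpow⟩ := h
  refine ⟨L.map f, K.map f, hLn.map f hf, hKn.map f hf, Subgroup.map_mono hKL, hKp.map f, ?_, ?_, ?_⟩
  · rw [← Subgroup.map_commutator]
    exact Subgroup.map_mono hLL
  · rintro _ ⟨x, hx, rfl⟩
    obtain ⟨m, hm, hxm⟩ := hcop x hx
    exact ⟨m, hm, by rw [← map_pow]; exact Subgroup.mem_map_of_mem f hxm⟩
  · intro y
    obtain ⟨x, rfl⟩ := hf y
    obtain ⟨k, hk⟩ := hpow x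
    exact ⟨k, by rw [← map_pow]; exact Subgroup.mem_map_of_mem f hk⟩

theorem StabClass.of_injective {X Y : Type*} [Group X] [Group Y] (h : StabClass p X)
    (f : Y →* X) (hf : Function.Injective f) : StabClass p Y := by
  obtain ⟨L, K, hLn, hKn, hKL, hKp, hLL, hcop, hpow⟩ := h
  refine ⟨L.comap f, K.comap f, hLn.comap f, hKn.comap f, Subgroup.comap_mono hKL,
    hKp.comap_of_injective f hf, ?_, ?_, ?_⟩
  · rw [Subgroup.commutator_le]
    intro a ha b hb
    rw [Subgroup.mem_comap, map_commutatorElement]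
    exact hLL (Subgroup.commutator_mem_commutator ha hb)
  · intro x hx
    obtain ⟨m, hm, hxm⟩ := hcop (f x) hx
    exact ⟨m, hm, by rw [Subgroup.mem_comap, map_pow]; exact hxm⟩
  · intro y
    obtain ⟨k, hk⟩ := hpow (f y)
    exact ⟨k, by rw [Subgroup.mem_comap, map_pow]; exact hk⟩

/-- coprime relative index from the elementwise condition -/
theorem relIndex_coprime_of_forall {X : Type*} [Group X] [Finite X] {K L : Subgroup X}
    [hKn : K.Normal] (h : ∀ x ∈ L, ∃ m : ℕ, m.Coprime p ∧ x ^ m ∈ K) :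
    (K.relIndex L).Coprime p := by
  have hp : p.Prime := Fact.out
  by_contra hnot
  have hdvd : p ∣ K.relIndex L := by
    by_contra h1
    exact hnot ((Nat.Prime.coprime_iff_not_dvd hp).mpr h1).symm
  haveI : (K.subgroupOf L).Normal := inferInstance
  have hcard : K.relIndex L = Nat.card (↥L ⧸ K.subgroupOf L) := by
    rw [Subgroup.relIndex, Subgroup.index_eq_card]
  rw [hcard] at hdvd
  obtain ⟨y, hy⟩ := exists_prime_orderOf_dvd_card' p hdvd
  obtain ⟨x, rfl⟩ := QuotientGroup.mk_surjective y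
  obtain ⟨m, hm, hxm⟩ := h x x.2
  have h1 : (QuotientGroup.mk x : ↥L ⧸ K.subgroupOf L) ^ m = 1 := by
    rw [← QuotientGroup.mk_pow, QuotientGroup.eq_one_iff, Subgroup.mem_subgroupOf]
    exact hxm
  have h2 : p ∣ m := by
    rw [← hy]; exact orderOf_dvd_of_pow_eq_one h1
  have h3 : p = 1 := Nat.Coprime.eq_one_of_dvd hm.symm h2
  exact hp.one_lt.ne' h3

/-- `p`-power index from the elementwise condition -/
theorem index_eq_pow_of_forall {X : Type*} [Group X] [Finite X] {L : Subgroup X}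
    [hLn : L.Normal] (h : ∀ x : X, ∃ k : ℕ, x ^ (p ^ k) ∈ L) : ∃ k : ℕ, L.index = p ^ k := by
  have h1 : IsPGroup p (X ⧸ L) := by
    intro y
    obtain ⟨x, rfl⟩ := QuotientGroup.mk_surjective y
    obtain ⟨k, hk⟩ := h x
    exact ⟨k, by rw [← QuotientGroup.mk_pow, QuotientGroup.eq_one_iff]; exact hk⟩
  obtain ⟨k, hk⟩ := IsPGroup.iff_card.mp h1
  exact ⟨k, by rw [Subgroup.index_eq_card, hk]⟩

/-- a quadratically acting element acts as a `p`-element on a finite normal `p`-subgroup -/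
theorem QuadOn.pow_mem_centralizer {X : Type*} [Group X] {B : Subgroup X} [Finite B]
    (hBn : B.Normal) {a : X} (ha : QuadOn a B) :
    a ^ (Nat.card B) ∈ centralizer (B : Set X) := by
  rw [mem_centralizer_iff]
  intro b hb
  have h1 := conj_pow_of_commute_comm (ha b hb) (Nat.card B)
  have hc : a * b * a⁻¹ * b⁻¹ ∈ B := B.mul_mem (hBn.conj_mem b hb a) (B.inv_mem hb)
  have h2 : (a * b * a⁻¹ * b⁻¹) ^ (Nat.card B) = 1 := by
    have := pow_card_eq_one' (G := B) (x := ⟨_, hc⟩)
    exact congrArg Subtype.val this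
  rw [h2, one_mul] at h1
  calc b * a ^ Nat.card B = (a ^ Nat.card B * b * (a ^ Nat.card B)⁻¹) * a ^ Nat.card B := by
        rw [h1]
    _ = a ^ Nat.card B * b := by group

/-- the `p`-stability property of the finite groups of the class `StabClass` -/
theorem StabClass.exists_stab (hp2 : p ≠ 2) {X : Type u} [Group X] [Finite X]
    (h : StabClass p X) (B : Subgroup X) (hBn : B.Normal) (hBp : IsPGroup p B) :
    ∃ M : Subgroup X, M.Normal ∧ centralizer (B : Set X) ≤ M ∧
      (∀ x ∈ M, ∃ k : ℕ, x ^ (p ^ k) ∈ centralizer (B : Set X)) ∧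
      ∀ a : X, QuadOn a B → a ∈ M := by
  have hp : p.Prime := Fact.out
  obtain ⟨L, K, hLn, hKn, hKL, hKp, hLL, hcop, hpow⟩ := h
  haveI := hLn
  haveI := hKn
  set U := Cfsg.pCore p X with hU
  have hUn : U.Normal := inferInstance
  have hUp : IsPGroup p U := Cfsg.Agent.Helper14.pCore_isPGroup p
  have hKU : K ≤ U := Cfsg.Agent.Helper14.le_pCore p hKn hKp
  have hBU : B ≤ U := Cfsg.Agent.Helper14.le_pCore p hBn hBp
  set L' := L ⊔ U with hL'
  have hL'n : L'.Normal := inferInstance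
  have hUL' : U ≤ L' := le_sup_right
  set π := QuotientGroup.mk' U with hπ
  have hmapL' : L'.map π = L.map π := by
    rw [hL', Subgroup.map_sup, hπ, QuotientGroup.map_mk'_self, sup_bot_eq]
  have hKπ : K.map π = ⊥ := by
    rw [eq_bot_iff, ← QuotientGroup.map_mk'_self U]
    exact Subgroup.map_mono hKU
  -- `L' / U` is a `p'`-group
  have hcop' : (U.relIndex L').Coprime p := by
    apply relIndex_coprime_of_forall
    intro x hx
    have hx' : π x ∈ L.map π := by rw [← hmapL']; exact Subgroup.mem_map_of_mem π hx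
    obtain ⟨l, hl, hlx⟩ := hx'
    obtain ⟨m, hm, hlm⟩ := hcop l hl
    refine ⟨m, hm, ?_⟩
    have h1 : π (x ^ m) = 1 := by
      rw [map_pow, ← hlx, ← map_pow]
      exact (QuotientGroup.eq_one_iff _).mpr (hKU hlm)
    exact (QuotientGroup.eq_one_iff _).mp h1
  -- `L' / U` is abelian
  have hLL' : ⁅L', L'⁆ ≤ U := by
    have h1 : (⁅L', L'⁆).map π = ⊥ := by
      rw [Subgroup.map_commutator, hmapL', ← Subgroup.map_commutator, eq_bot_iff, ← hKπ]
      exact Subgroup.map_mono hLL
    rw [Subgroup.map_eq_bot_iff, hπ, QuotientGroup.ker_mk'] at h1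
    exact h1
  -- the index of `L'` is a power of `p`
  have hL'idx : ∃ k : ℕ, L'.index = p ^ k := by
    apply index_eq_pow_of_forall
    intro x
    obtain ⟨k, hk⟩ := hpow x
    exact ⟨k, (le_sup_left : L ≤ L') hk⟩
  obtain ⟨Ks, hKsn, hCK, hKpow, hKq⟩ := exists_stab_kernel hp2 _ X L' U B hL'n hUn hUp hUL'
    hcop' hLL' hBn hBU rfl
  haveI := hKsn
  set ρ := QuotientGroup.mk' Ks with hρ
  have hsurj : Function.Surjective ρ := QuotientGroup.mk'_surjective Ks
  refine ⟨(Cfsg.pCore p (X ⧸ Ks)).comap ρ, Subgroup.Normal.comap inferInstance ρ, ?_, ?_, ?_⟩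
  · intro c hc
    rw [Subgroup.mem_comap]
    have h1 : ρ c = 1 := (QuotientGroup.eq_one_iff c).mpr (hCK hc)
    rw [h1]
    exact one_mem _
  · intro x hx
    rw [Subgroup.mem_comap] at hx
    obtain ⟨j, hj⟩ := (Cfsg.Agent.Helper14.pCore_isPGroup (G := X ⧸ Ks) p) ⟨ρ x, hx⟩
    have hj' : (ρ x) ^ (p ^ j) = 1 := by
      have := congrArg Subtype.val hj
      simpa using this
    have h1 : x ^ (p ^ j) ∈ Ks := by
      rw [← QuotientGroup.eq_one_iff, ← QuotientGroup.mk'_apply, ← hρ, map_pow]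
      exact hj'
    obtain ⟨k, hk⟩ := hKpow _ h1
    refine ⟨j + k, ?_⟩
    rw [pow_add, pow_mul]
    exact hk
  · intro a hqa
    rw [Subgroup.mem_comap]
    haveI : Finite B := inferInstance
    have hapow : ρ a ^ (Nat.card B) = 1 := by
      rw [← map_pow]
      exact (QuotientGroup.eq_one_iff _).mpr (hCK (hqa.pow_mem_centralizer hBn))
    have hap : IsPGroup p (zpowers (ρ a)) := by
      obtain ⟨n, hn⟩ := IsPGroup.iff_card.mp hBp
      have h1 : orderOf (ρ a) ∣ p ^ n := by
        rw [← hn]; exact orderOf_dvd_of_pow_eq_one hapow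
      obtain ⟨j, -, hj⟩ := (Nat.dvd_prime_pow hp).mp h1
      apply IsPGroup.of_card (n := j)
      rw [Nat.card_zpowers, hj]
    obtain ⟨P', hP'⟩ := hap.exists_le_sylow
    have haP' : ρ a ∈ (P' : Subgroup (X ⧸ Ks)) := hP' (mem_zpowers _)
    haveI : (L'.map ρ).Normal := hL'n.map ρ hsurj
    have hsup : L'.map ρ ⊔ (P' : Subgroup (X ⧸ Ks)) = ⊤ := by
      rw [← Subgroup.index_eq_one]
      have h1 : (L'.map ρ ⊔ (P' : Subgroup (X ⧸ Ks))).index ∣ (L'.map ρ).index :=
        Subgroup.index_dvd_of_le le_sup_left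
      have h2 : (L'.map ρ ⊔ (P' : Subgroup (X ⧸ Ks))).index ∣ (P' : Subgroup (X ⧸ Ks)).index :=
        Subgroup.index_dvd_of_le le_sup_right
      obtain ⟨k, hk⟩ := hL'idx
      have h3 : (L'.map ρ).index ∣ p ^ k := by
        rw [← hk]; exact Subgroup.index_map_dvd L' hsurj
      have h4 : ((L'.map ρ ⊔ (P' : Subgroup (X ⧸ Ks))).index).Coprime p := by
        apply Nat.Coprime.coprime_dvd_left h2
        exact ((Nat.Prime.coprime_iff_not_dvd hp).mpr P'.not_dvd_index).symm
      exact Nat.Coprime.eq_one_of_dvd (Nat.Coprime.pow_right k h4) (h1.trans h3)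
    apply mem_pCore_of_commutator P' (L'.map ρ) hsup (ρ a) haP'
    rintro _ ⟨x, hx, rfl⟩
    have h1 : ρ a * ρ x * (ρ a)⁻¹ * (ρ x)⁻¹ = 1 := by
      rw [← map_inv, ← map_inv, ← map_mul, ← map_mul, ← map_mul]
      exact (QuotientGroup.eq_one_iff _).mpr (hKq a hqa x hx)
    rw [h1]
    exact one_mem _

end Cfsg.Agent.Lead.TNC
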