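import Mathlib
import Cfsg.Prelude.Def_LocalEven
import Cfsg.Agent.Lead.TNC12

set_option autoImplicit false
set_option linter.style.haveILetI false
set_option linter.unusedSectionVars false

/-!
# Groups of the class `StabClass` are `p`-stable in the normalizer form
-/

namespace Cfsg.Agent.Lead.TNC

open Subgroup
open scoped commutatorElement

universe u

variable {p : ℕ} [Fact p.Prime]

theorem StabClass.isNormalizerPStable (hp2 : p ≠ 2) {X : Type u} [Group X] [Finite X]
    (h : StabClass p X) : Cfsg.IsNormalizerPStable p X := by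
  intro Q hQ g hg hquad
  set N := normalizer (Q : Set X) with hN
  have hY : StabClass p N := h.of_injective N.subtype N.subtype_injective
  set B : Subgroup N := Q.subgroupOf N with hB
  have hBn : B.Normal := Subgroup.normal_in_normalizer
  have hBp : IsPGroup p B := hQ.comap_subtype
  obtain ⟨M, hMn, hCM, hMpow, hMq⟩ := hY.exists_stab hp2 B hBn hBp
  have ha : QuadOn (⟨g, hg⟩ : N) B := by
    intro b hb
    have hb' : (b : X) ∈ Q := Subgroup.mem_subgroupOf.mp hb
    have h1 := quadOn_of_commutator_eq_bot hquad (mem_zpowers g) (b : X) hb'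
    exact Subtype.ext h1
  have haM := hMq _ ha
  set C' := (centralizer (Q : Set X)).subgroupOf N with hC'
  have hCeq : C' = centralizer (B : Set N) := by
    ext y
    rw [hC', Subgroup.mem_subgroupOf, mem_centralizer_iff, mem_centralizer_iff]
    constructor
    · intro hy b hb
      exact Subtype.ext (hy (b : X) (Subgroup.mem_subgroupOf.mp hb))
    · intro hy q hq
      have hqN : q ∈ N := le_normalizer hq
      have := hy ⟨q, hqN⟩ (Subgroup.mem_subgroupOf.mpr hq)
      exact congrArg Subtype.val this
  have hsurj := QuotientGroup.mk'_surjective C'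
  have hMCn : (M.map (QuotientGroup.mk' C')).Normal := hMn.map _ hsurj
  have hMCp : IsPGroup p (M.map (QuotientGroup.mk' C')) := by
    intro y
    obtain ⟨y, hy⟩ := y
    obtain ⟨x, hx, hxy⟩ := hy
    obtain ⟨k, hk⟩ := hMpow x hx
    refine ⟨k, Subtype.ext ?_⟩
    rw [Subgroup.coe_pow, Subgroup.coe_one]
    show y ^ p ^ k = 1
    rw [← hxy, ← map_pow]
    rw [← hCeq] at hk
    exact (QuotientGroup.eq_one_iff _).mpr hk
  have hle := Cfsg.Agent.Helper14.le_pCore p hMCn hMCp
  exact hle (Subgroup.mem_map_of_mem _ haM)

end Cfsg.Agent.Lead.TNC
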