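import Mathlib
import Cfsg.Prelude.Def_LocalEven
import Cfsg.Agent.Lead.TNC13
import Cfsg.Agent.Helper10.IndFunctor

set_option autoImplicit false
set_option linter.style.haveILetI false
set_option linter.unusedSectionVars false

/-!
# The Thompson-type criterion with control of strong fusion in `p`-stable sections
-/

namespace Cfsg.Agent.Lead.TNC

open Subgroup
open scoped commutatorElement

universe u

variable {p : ℕ} [Fact p.Prime]

/-- a group whose quotient by `O_p` has a normal `p`-complement and whose Sylow `p`-subgroups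
are maximal subgroups lies in the class `StabClass` -/
theorem stabClass_of_coatom {X : Type u} [Group X] [Finite X]
    (hQ : Cfsg.HasNormalPComplement p (X ⧸ Cfsg.pCore p X)) (T : Sylow p X)
    (hT : IsCoatom (T : Subgroup X)) : StabClass p X := by
  have hp : p.Prime := Fact.out
  set U := Cfsg.pCore p X with hU
  have hUn : U.Normal := inferInstance
  have hUp : IsPGroup p U := Cfsg.Agent.Helper14.pCore_isPGroup p
  have hsurj := QuotientGroup.mk'_surjective U
  set Pb : Sylow p (X ⧸ U) := T.mapSurjective hsurj with hPb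
  have hPbc : (Pb : Subgroup (X ⧸ U)) = (T : Subgroup X).map (QuotientGroup.mk' U) :=
    Sylow.coe_mapSurjective hsurj T
  obtain ⟨Lb, hLbn, hLbc⟩ := (Cfsg.Agent.Helper9.hasNormalPComplement_iff Pb).mp hQ
  set L : Subgroup X := Lb.comap (QuotientGroup.mk' U) with hL
  have hLn : L.Normal := hLbn.comap _
  have hUL : U ≤ L := Cfsg.Agent.Helper23.le_comap_mk' U Lb
  have hLbcop : (Nat.card Lb).Coprime p := by
    have h1 : (Pb : Subgroup (X ⧸ U)).index = Nat.card Lb := hLbc.index_eq_card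
    rw [← h1]
    exact ((Nat.Prime.coprime_iff_not_dvd hp).mpr Pb.not_dvd_index).symm
  have hLidx : ∃ k : ℕ, L.index = p ^ k := by
    obtain ⟨k, hk⟩ := IsPGroup.iff_card.mp Pb.2
    refine ⟨k, ?_⟩
    rw [hL, Subgroup.index_comap_of_surjective _ hsurj, ← hk]
    exact hLbc.symm.index_eq_card
  have hmax : ∀ M : Subgroup X, (T : Subgroup X) ≤ M → M = T ∨ M = ⊤ := by
    intro M hM
    rcases eq_or_lt_of_le hM with h1 | h1
    · exact Or.inl h1.symm
    · exact Or.inr (hT.2 M h1)
  have hmaxb : ∀ Y : Subgroup (X ⧸ U), (Pb : Subgroup (X ⧸ U)) ≤ Y → Y = Pb ∨ Y = ⊤ := by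
    intro Y hY
    have h1 : (T : Subgroup X) ≤ Y.comap (QuotientGroup.mk' U) := by
      intro x hx
      rw [Subgroup.mem_comap]
      apply hY
      rw [hPbc]
      exact Subgroup.mem_map_of_mem _ hx
    have h2 : (Y.comap (QuotientGroup.mk' U)).map (QuotientGroup.mk' U) = Y :=
      Subgroup.map_comap_eq_self_of_surjective hsurj Y
    rcases hmax _ h1 with h3 | h3
    · left; rw [← h2, h3, hPbc]
    · right; rw [← h2, h3, ← MonoidHom.range_eq_map, MonoidHom.range_eq_top.mpr hsurj]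
  have hab : ⁅Lb, Lb⁆ = ⊥ := commutator_eq_bot_of_max Pb Lb hLbc hmaxb
  have hLL : ⁅L, L⁆ ≤ U := by
    have h1 : (⁅L, L⁆).map (QuotientGroup.mk' U) = ⊥ := by
      rw [Subgroup.map_commutator, hL, Subgroup.map_comap_eq_self_of_surjective hsurj, hab]
    rw [Subgroup.map_eq_bot_iff, QuotientGroup.ker_mk'] at h1
    exact h1
  refine ⟨L, U, hLn, hUn, hUL, hUp, hLL, ?_, ?_⟩
  · intro x hx
    refine ⟨Nat.card Lb, hLbcop, ?_⟩
    have h1 : (QuotientGroup.mk' U x) ^ (Nat.card Lb) = 1 := by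
      have h2 : (⟨QuotientGroup.mk' U x, hx⟩ : Lb) ^ (Nat.card Lb) = 1 := pow_card_eq_one'
      exact congrArg Subtype.val h2
    rw [← map_pow] at h1
    exact (QuotientGroup.eq_one_iff _).mp h1
  · intro x
    obtain ⟨k, hk⟩ := hLidx
    exact ⟨k, by rw [← hk]; exact Subgroup.pow_index_mem L x⟩

/-- if `N(W(T))` controls strong fusion in a group with `C(O_p) ≤ O_p`, then `W(T)` is normal -/
theorem normal_of_controlsStrongFusion {W : ∀ (Q : Type u) [Group Q], Subgroup Q}
    (hW : Cfsg.IsCharPFunctor.{u} p W) {X : Type u} [Group X] [Finite X]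
    (hC : centralizer (Cfsg.pCore p X : Set X) ≤ Cfsg.pCore p X) (T : Sylow p X)
    (hctl : Cfsg.ControlsStrongFusion p (Cfsg.inducedFunctor W (T : Subgroup X))) :
    (Cfsg.inducedFunctor W (T : Subgroup X)).Normal := by
  obtain ⟨T₂, -, hfus⟩ := hctl
  have hUn : (Cfsg.pCore p X).Normal := inferInstance
  have hA : ((Cfsg.pCore p X : Subgroup X) : Set X) ⊆ ((T₂ : Subgroup X) : Set X) :=
    Cfsg.Agent.Helper14.pCore_le_sylow p T₂
  rw [← Subgroup.normalizer_eq_top_iff, eq_top_iff]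
  intro g _
  have himg : (fun a => g * a * g⁻¹) '' ((Cfsg.pCore p X : Subgroup X) : Set X) ⊆
      ((T₂ : Subgroup X) : Set X) := by
    rintro _ ⟨a, ha, rfl⟩
    exact hA (hUn.conj_mem a ha g)
  obtain ⟨x, hx, hxa⟩ := (hfus _ hA).2 g himg
  have h1 : x⁻¹ * g ∈ centralizer (Cfsg.pCore p X : Set X) := by
    rw [mem_centralizer_iff]
    intro a ha
    have h2 := hxa a ha
    calc a * (x⁻¹ * g) = x⁻¹ * (x * a * x⁻¹) * g := by group
      _ = x⁻¹ * (g * a * g⁻¹) * g := by rw [h2]
      _ = x⁻¹ * g * a := by group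
  have h3 : x⁻¹ * g ∈ (T : Subgroup X) := Cfsg.Agent.Helper14.pCore_le_sylow p T (hC h1)
  have h4 : x⁻¹ * g ∈ normalizer ((Cfsg.inducedFunctor W (T : Subgroup X) : Subgroup X) : Set X) :=
    Cfsg.Agent.Helper10.normalizer_le_normalizer_iF hW T.2 (le_normalizer h3)
  have h5 : g = x * (x⁻¹ * g) := by group
  rw [h5]
  exact mul_mem hx h4

end Cfsg.Agent.Lead.TNC
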