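import Mathlib
import Cfsg.Agent.Lead.ActionBridge
import Cfsg.Agent.Lead.ZGroupCoprime

set_option autoImplicit false
open Pointwise

/-! Coprime action (abstract form) on a group all of whose Sylow subgroups are cyclic. -/

namespace Cfsg.Agent.Lead

open Subgroup SemidirectProduct

theorem zgroup_coprime_action {G A : Type*} [Group G] [Finite G] [Group A] [Finite A]
    [MulDistribMulAction A G] (hcop : (Nat.card A).Coprime (Nat.card G))
    (hcyc : ∀ (p : ℕ) [Fact p.Prime] (P : Sylow p G), IsCyclic (P : Subgroup G)) :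
    (Nat.card (MulAction.fixedPoints A G : Set G)).Coprime
      (Nat.card G / Nat.card (MulAction.fixedPoints A G : Set G)) ∧
    IsCyclic (Subgroup.closure {y : G | ∃ (a : A) (g : G), y = g⁻¹ * a • g}) ∧
    (Subgroup.closure {y : G | ∃ (a : A) (g : G), y = g⁻¹ * a • g}).Normal ∧
    (Subgroup.closure {y : G | ∃ (a : A) (g : G), y = g⁻¹ * a • g} : Set G) ∩
      MulAction.fixedPoints A G = {1} ∧
    Subgroup.closure {y : G | ∃ (a : A) (g : G), y = g⁻¹ * a • g} ⊔
      Subgroup.closure (MulAction.fixedPoints A G) = ⊤ := by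
  have hZG : IsZGroup G := ⟨fun p hp P => by have : Fact p.Prime := ⟨hp⟩; exact hcyc p P⟩
  set K : Subgroup (SD G A) := Gs G A with hK
  set A₁ : Subgroup (SD G A) := As G A with hA₁
  have hZK : IsZGroup K :=
    IsZGroup.of_injective
      (f := (MonoidHom.ofInjective (f := (inl : G →* SD G A)) inl_injective).symm.toMonoidHom)
      (MulEquiv.injective _)
  have hcop' : (Nat.card A₁).Coprime (Nat.card K) := by
    rw [hA₁, hK, card_As, card_Gs]; exact hcop
  obtain ⟨hLcyc, hLZ, hsup, hcard, hcopLC⟩ :=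
    zgroup_coprime_structure A₁ K (As_le_normalizer_Gs G A) hcop'
  set S : Subgroup G := Subgroup.closure {y : G | ∃ (a : A) (g : G), y = g⁻¹ * a • g} with hS
  have hSL : S.map (inl : G →* SD G A) = ⁅K, A₁⁆ := map_inl_closure_commutators
  -- the subgroup of fixed points
  set Fs : Subgroup G := (K ⊓ centralizer (A₁ : Set (SD G A))).comap (inl : G →* SD G A) with hFs
  have hFscoe : (Fs : Set G) = MulAction.fixedPoints A G := by
    ext g
    rw [SetLike.mem_coe, hFs, mem_comap, mem_inf, inl_mem_centralizer_As_iff]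
    constructor
    · exact fun h => h.2
    · exact fun h => ⟨⟨g, rfl⟩, h⟩
  have hFsmap : Fs.map (inl : G →* SD G A) = K ⊓ centralizer (A₁ : Set (SD G A)) := by
    rw [hFs, map_comap_eq, inf_eq_right]
    exact inf_le_left
  have hcardFs : Nat.card Fs = Nat.card (K ⊓ centralizer (A₁ : Set (SD G A)) : Subgroup _) := by
    rw [← hFsmap, card_map_of_injective inl_injective]
  have hcardS : Nat.card S = Nat.card (⁅K, A₁⁆ : Subgroup _) := by
    rw [← hSL, card_map_of_injective inl_injective]
  have hcardF : Nat.card (MulAction.fixedPoints A G : Set G) = Nat.card Fs := by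
    rw [← hFscoe]; rfl
  have hclF : Subgroup.closure (MulAction.fixedPoints A G) = Fs := by
    rw [← hFscoe, closure_eq]
  refine ⟨?_, ?_, ?_, ?_, ?_⟩
  · rw [hcardF, hcardFs]
    have h1 : Nat.card G = Nat.card (⁅K, A₁⁆ : Subgroup _) *
        Nat.card (K ⊓ centralizer (A₁ : Set (SD G A)) : Subgroup _) := by
      rw [hcard, hK, card_Gs]
    rw [h1, Nat.mul_div_cancel _ Nat.card_pos]
    exact hcopLC.symm
  · have e := S.equivMapOfInjective (inl : G →* SD G A) inl_injective
    rw [hSL] at e
    exact isCyclic_of_surjective _ e.symm.surjective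
  · refine ⟨fun s hs g => ?_⟩
    have h1 : (inl s : SD G A) ∈ ⁅K, A₁⁆ := by rw [← hSL]; exact mem_map_of_mem _ hs
    have h2 : (inl g : SD G A) ∈ K := ⟨g, rfl⟩
    have h3 := (mem_normalizer_iff.mp (le_normalizer_commutator_left K A₁ h2) _).mp h1
    rw [← hSL] at h3
    obtain ⟨y, hy, hye⟩ := h3
    have : y = g * s * g⁻¹ := by
      apply inl_injective (φ := MulDistribMulAction.toMulAut A G)
      rw [hye, map_mul, map_mul, map_inv]
    rw [← this]; exact hy
  · ext x
    rw [Set.mem_inter_iff, Set.mem_singleton_iff]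
    constructor
    · rintro ⟨hxS, hxF⟩
      have h1 : (inl x : SD G A) ∈ ⁅K, A₁⁆ ⊓ centralizer (A₁ : Set (SD G A)) := by
        refine ⟨?_, (inl_mem_centralizer_As_iff x).mpr hxF⟩
        rw [← hSL]; exact mem_map_of_mem _ hxS
      rw [hLZ, mem_bot] at h1
      apply inl_injective (φ := MulDistribMulAction.toMulAut A G)
      rw [h1, map_one]
    · rintro rfl
      refine ⟨S.one_mem, ?_⟩
      rw [← hFscoe]; exact Fs.one_mem
  · rw [hclF]
    apply map_injective (inl_injective (φ := MulDistribMulAction.toMulAut A G))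
    rw [Subgroup.map_sup, hSL, hFsmap, hsup, ← MonoidHom.range_eq_map]
    rfl

end Cfsg.Agent.Lead
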